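import Mathlib

set_option autoImplicit false
set_option linter.unusedSectionVars false
set_option linter.unusedVariables false

namespace Cfsg.Agent.Lib.Helper91.BG157

open Subgroup

universe u

section xleaf

/-! ### type-level facts on nonabelian groups of order `p³` -/

theorem x_center_card {Q : Type*} [Group Q] [Finite Q] (p : ℕ) [hp : Fact p.Prime]
    (h : Nat.card Q = p ^ 3) (hna : ¬ IsMulCommutative Q) : Nat.card (center Q) = p := by
  have hpg : IsPGroup p Q := IsPGroup.of_card h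
  have : Nontrivial Q := by
    rw [← Finite.one_lt_card_iff_nontrivial, h]
    exact Nat.one_lt_pow (by norm_num) hp.out.one_lt
  have := hpg.center_nontrivial
  have hdvd : Nat.card (center Q) ∣ p ^ 3 := h ▸ (center Q).card_subgroup_dvd_card
  obtain ⟨e, he, hce⟩ := (Nat.dvd_prime_pow hp.out).mp hdvd
  have h1 : 1 < Nat.card (center Q) := Finite.one_lt_card
  have hmul := (center Q).card_eq_card_quotient_mul_card_subgroup
  interval_cases e
  · rw [pow_zero] at hce; omega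
  · simpa using hce
  · exfalso
    have hq : Nat.card (Q ⧸ center Q) = p := by
      rw [h, hce] at hmul
      have hp0 : 0 < p ^ 2 := pow_pos hp.out.pos 2
      have h2 : p * p ^ 2 = Nat.card (Q ⧸ center Q) * p ^ 2 := by rw [← hmul]; ring
      exact (Nat.eq_of_mul_eq_mul_right hp0 h2).symm
    have : IsCyclic (Q ⧸ center Q) := isCyclic_of_prime_card hq
    apply hna
    exact (QuotientGroup.mk' (center Q)).isMulCommutative_of_isCyclic_of_ker_le_center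
      (by rw [QuotientGroup.ker_mk'])
  · exfalso
    have htop : center Q = ⊤ := Subgroup.eq_top_of_card_eq _ (by rw [hce, h])
    apply hna
    refine ⟨⟨fun a b => ?_⟩⟩
    have hb : b ∈ center Q := htop ▸ mem_top b
    exact (Subgroup.mem_center_iff.mp hb a)

theorem x_comm_mem_center {Q : Type*} [Group Q] [Finite Q] (p : ℕ) [hp : Fact p.Prime]
    (h : Nat.card Q = p ^ 3) (hna : ¬ IsMulCommutative Q) (a b : Q) :
    a * b * a⁻¹ * b⁻¹ ∈ center Q := by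
  have hc := x_center_card p h hna
  have hmul := (center Q).card_eq_card_quotient_mul_card_subgroup
  have hq : Nat.card (Q ⧸ center Q) = p ^ 2 := by
    rw [h, hc] at hmul
    have hp0 : 0 < p := hp.out.pos
    have h2 : p ^ 2 * p = Nat.card (Q ⧸ center Q) * p := by rw [← hmul]; ring
    exact (Nat.eq_of_mul_eq_mul_right hp0 h2).symm
  have hcomm := fun a b : Q ⧸ center Q => (IsPGroup.isMulCommutative_of_card_eq_prime_sq hq).is_comm.comm a b
  rw [← QuotientGroup.eq_one_iff]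
  simp only [QuotientGroup.mk_mul, QuotientGroup.mk_inv]
  rw [hcomm (a : Q ⧸ center Q) b]
  group


/-! ### the setting inside `G` -/

variable {G : Type u} [Group G] [Finite G]

/-- the standing hypotheses of leaf X -/
structure x_Hyp (p : ℕ) (P K : Subgroup G) : Prop where
  hP : Nat.card P = p ^ 3
  hPna : ¬ IsMulCommutative P
  hKP : K ≤ normalizer (P : Set G)
  hcop : (Nat.card K).Coprime p
  hfaith : K ⊓ centralizer (P : Set G) = ⊥
  hZ : P ⊓ centralizer (P : Set G) ≤ centralizer (K : Set G)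

theorem x_center_map (P : Subgroup G) :
    (center ↥P).map P.subtype = P ⊓ centralizer (P : Set G) := by
  ext x
  simp only [mem_map, mem_inf, mem_centralizer_iff, mem_center_iff, Subgroup.coe_subtype,
    SetLike.mem_coe]
  constructor
  · rintro ⟨y, hy, rfl⟩
    exact ⟨y.2, fun g hg => congrArg Subtype.val (hy ⟨g, hg⟩)⟩
  · rintro ⟨hxP, hxc⟩
    exact ⟨⟨x, hxP⟩, fun g => Subtype.ext (hxc g g.2), rfl⟩

variable {p : ℕ} [hp : Fact p.Prime] {P K : Subgroup G}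

theorem x_mem_Z_iff {z : G} :
    z ∈ P ⊓ centralizer (P : Set G) ↔ z ∈ P ∧ ∀ y ∈ P, y * z = z * y := by
  rw [mem_inf, mem_centralizer_iff]
  rfl

theorem x_mem_C_iff {x y : G} :
    y ∈ P ⊓ centralizer ({x} : Set G) ↔ y ∈ P ∧ x * y = y * x := by
  rw [mem_inf, mem_centralizer_iff]
  simp

theorem x_Z_card (h : x_Hyp p P K) : Nat.card ↥(P ⊓ centralizer (P : Set G)) = p := by
  rw [← x_center_map, card_map_of_injective P.subtype_injective]
  exact x_center_card p h.hP h.hPna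

theorem x_Z_comm {z y : G} (hz : z ∈ P ⊓ centralizer (P : Set G)) (hy : y ∈ P) :
    y * z = z * y :=
  (x_mem_Z_iff.mp hz).2 y hy

theorem x_Z_pow (h : x_Hyp p P K) {z : G} (hz : z ∈ P ⊓ centralizer (P : Set G)) :
    z ^ p = 1 := by
  have h1 := pow_card_eq_one' (G := ↥(P ⊓ centralizer (P : Set G))) (x := ⟨z, hz⟩)
  rw [x_Z_card h] at h1
  have := congrArg Subtype.val h1
  simpa using this

theorem x_Z_K (h : x_Hyp p P K) {z k : G} (hz : z ∈ P ⊓ centralizer (P : Set G)) (hk : k ∈ K) :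
    k * z = z * k :=
  mem_centralizer_iff.mp (h.hZ hz) k hk

theorem x_comm_mem (h : x_Hyp p P K) {x y : G} (hx : x ∈ P) (hy : y ∈ P) :
    x * y * x⁻¹ * y⁻¹ ∈ P ⊓ centralizer (P : Set G) := by
  have := x_comm_mem_center p h.hP h.hPna ⟨x, hx⟩ ⟨y, hy⟩
  rw [← x_center_map]
  exact ⟨_, this, rfl⟩

theorem x_conj_mem (h : x_Hyp p P K) {k x : G} (hk : k ∈ K) (hx : x ∈ P) : k * x * k⁻¹ ∈ P :=
  (mem_normalizer_iff.mp (h.hKP hk) x).mp hx

theorem x_rel_pow {x y c : G} (h : x * y = c * (y * x)) (hcx : Commute c x) (hcy : Commute c y)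
    (a b : ℕ) : x ^ a * y ^ b = c ^ (a * b) * (y ^ b * x ^ a) := by
  have h1 : x * y * x⁻¹ = c * y := by rw [h]; group
  have h2 : x * y ^ b * x⁻¹ = c ^ b * y ^ b := by
    rw [← hcy.mul_pow, ← h1, conj_pow]
  have hc' : Commute (c ^ b) (y ^ b) := hcy.pow_pow b b
  have h3 : (y ^ b)⁻¹ * x * (y ^ b) = c ^ b * x := by
    have h5 : x * y ^ b = c ^ b * y ^ b * x := by rw [← h2]; group
    rw [mul_assoc, h5, hc'.eq]; group
  have h4 : (y ^ b)⁻¹ * x ^ a * (y ^ b) = (c ^ b) ^ a * x ^ a := by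
    have hcx' : Commute (c ^ b) x := hcx.pow_left b
    rw [← hcx'.mul_pow, ← h3]
    have := @conj_pow G _ a (y ^ b)⁻¹ x
    rw [inv_inv] at this
    exact this.symm
  have h6 : x ^ a * y ^ b = y ^ b * ((c ^ b) ^ a * x ^ a) := by rw [← h4]; group
  rw [h6, ← pow_mul, mul_comm b a]
  have hc'' : Commute (c ^ (a * b)) (y ^ b) := hcy.pow_pow _ _
  rw [← mul_assoc, ← hc''.eq, mul_assoc]

theorem x_rel (x y : G) : x * y = (x * y * x⁻¹ * y⁻¹) * (y * x) := by group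

theorem x_pow_p_mem (h : x_Hyp p P K) {x : G} (hx : x ∈ P) :
    x ^ p ∈ P ⊓ centralizer (P : Set G) := by
  refine x_mem_Z_iff.mpr ⟨pow_mem hx p, ?_⟩
  intro y hy
  have hc := x_comm_mem h hx hy
  have := x_rel_pow (x_rel x y) (x_Z_comm hc hx).symm (x_Z_comm hc hy).symm p 1
  rw [mul_one, x_Z_pow h hc, one_mul, pow_one] at this
  exact this.symm

theorem x_cent_card (h : x_Hyp p P K) {x : G} (hx : x ∈ P)
    (hxZ : x ∉ P ⊓ centralizer (P : Set G)) :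
    Nat.card ↥(P ⊓ centralizer ({x} : Set G)) = p ^ 2 := by
  have hZC : P ⊓ centralizer (P : Set G) ≤ P ⊓ centralizer ({x} : Set G) := by
    intro z hz
    exact x_mem_C_iff.mpr ⟨(x_mem_Z_iff.mp hz).1, x_Z_comm hz hx⟩
  have hxC : x ∈ P ⊓ centralizer ({x} : Set G) := x_mem_C_iff.mpr ⟨hx, rfl⟩
  have hCP : P ⊓ centralizer ({x} : Set G) ≤ P := inf_le_left
  have hdvd : Nat.card ↥(P ⊓ centralizer ({x} : Set G)) ∣ p ^ 3 := h.hP ▸ card_dvd_of_le hCP
  obtain ⟨e, he, hce⟩ := (Nat.dvd_prime_pow hp.out).mp hdvd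
  have hpd : p ∣ Nat.card ↥(P ⊓ centralizer ({x} : Set G)) := x_Z_card h ▸ card_dvd_of_le hZC
  interval_cases e
  · exfalso
    rw [hce, pow_zero] at hpd
    exact hp.out.one_lt.ne' (Nat.dvd_one.mp hpd)
  · exfalso
    apply hxZ
    have : P ⊓ centralizer (P : Set G) = P ⊓ centralizer ({x} : Set G) :=
      eq_of_le_of_card_ge hZC (by rw [hce, x_Z_card h, pow_one])
    rw [this]; exact hxC
  · exact hce
  · exfalso
    apply hxZ
    have : P ⊓ centralizer ({x} : Set G) = P :=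
      eq_of_le_of_card_ge hCP (by rw [hce, h.hP])
    refine x_mem_Z_iff.mpr ⟨hx, ?_⟩
    intro g hg
    have hg' : g ∈ P ⊓ centralizer ({x} : Set G) := by rw [this]; exact hg
    exact ((x_mem_C_iff.mp hg').2).symm

theorem x_pow_not_mem (h : x_Hyp p P K) {x : G} (hx : x ∈ P)
    (hxZ : x ∉ P ⊓ centralizer (P : Set G)) {d : ℕ} (hd0 : 0 < d) (hdp : d < p) :
    x ^ d ∉ P ⊓ centralizer (P : Set G) := by
  intro hd
  apply hxZ
  have hcop : Nat.Coprime d p :=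
    (Nat.coprime_comm).mp ((Nat.Prime.coprime_iff_not_dvd hp.out).2 (Nat.not_dvd_of_pos_of_lt hd0 hdp))
  have hb := Nat.gcd_eq_gcd_ab d p
  rw [hcop.gcd_eq_one] at hb
  have hxe : x = (x ^ d) ^ (d.gcdA p) * (x ^ p) ^ (d.gcdB p) := by
    rw [← zpow_natCast x d, ← zpow_natCast x p, ← zpow_mul, ← zpow_mul, ← zpow_add, ← hb]
    simp
  rw [hxe]
  exact mul_mem (zpow_mem hd _) (zpow_mem (x_pow_p_mem h hx) _)

theorem x_cent_form (h : x_Hyp p P K) {x y : G} (hx : x ∈ P)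
    (hxZ : x ∉ P ⊓ centralizer (P : Set G)) (hy : y ∈ P) (hxy : x * y = y * x) :
    ∃ (i : ℕ) (z : G), z ∈ P ⊓ centralizer (P : Set G) ∧ y = x ^ i * z := by
  classical
  have hmemC : ∀ (i : ℕ) (z : G), z ∈ P ⊓ centralizer (P : Set G) →
      x ^ i * z ∈ P ⊓ centralizer ({x} : Set G) := by
    intro i z hz
    refine x_mem_C_iff.mpr ⟨mul_mem (pow_mem hx i) (x_mem_Z_iff.mp hz).1, ?_⟩
    rw [← mul_assoc, ← pow_succ', mul_assoc, ← x_Z_comm hz hx, ← mul_assoc, ← pow_succ]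
  let f : Fin p × ↥(P ⊓ centralizer (P : Set G)) → ↥(P ⊓ centralizer ({x} : Set G)) :=
    fun q => ⟨x ^ (q.1 : ℕ) * (q.2 : G), hmemC _ _ q.2.2⟩
  have haux : ∀ (i j : ℕ) (z z' : G), i < j → j < p → z ∈ P ⊓ centralizer (P : Set G) →
      z' ∈ P ⊓ centralizer (P : Set G) → x ^ i * z = x ^ j * z' → False := by
    intro i j z z' hij hjp hz hz' he
    have hj : j = i + (j - i) := by omega
    rw [hj, pow_add, mul_assoc] at he
    have he' := mul_left_cancel he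
    have : x ^ (j - i) = z * z'⁻¹ := by rw [he']; group
    exact x_pow_not_mem h hx hxZ (by omega) (by omega) (this ▸ mul_mem hz (inv_mem hz'))
  have hinj : Function.Injective f := by
    rintro ⟨i, z⟩ ⟨j, z'⟩ he
    have he' : x ^ (i : ℕ) * (z : G) = x ^ (j : ℕ) * (z' : G) := congrArg Subtype.val he
    have hij : (i : ℕ) = j := by
      rcases lt_trichotomy (i : ℕ) j with hlt | heq | hgt
      · exact (haux _ _ _ _ hlt j.2 z.2 z'.2 he').elim
      · exact heq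
      · exact (haux _ _ _ _ hgt i.2 z'.2 z.2 he'.symm).elim
    rw [hij] at he'
    have hz : (z : G) = z' := mul_left_cancel he'
    exact Prod.ext (Fin.ext hij) (Subtype.ext hz)
  have hcard : Nat.card ↥(P ⊓ centralizer ({x} : Set G)) ≤
      Nat.card (Fin p × ↥(P ⊓ centralizer (P : Set G))) := by
    rw [Nat.card_prod, Nat.card_fin, x_Z_card h, x_cent_card h hx hxZ, pow_two]
  have hbij := hinj.bijective_of_nat_card_le hcard
  have hyC : y ∈ P ⊓ centralizer ({x} : Set G) := x_mem_C_iff.mpr ⟨hy, hxy⟩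
  obtain ⟨q, hq⟩ := hbij.2 ⟨y, hyC⟩
  exact ⟨q.1, q.2, q.2.2, (congrArg Subtype.val hq).symm⟩

/-! ### coprime action -/

theorem x_coprime_kill {k b a : G} {m n : ℕ} (hka : k * a = a * k) (h : k * b * k⁻¹ = b * a)
    (hk : k ^ n = 1) (ha : a ^ m = 1) (hmn : Nat.Coprime m n) : a = 1 := by
  have hj : ∀ j : ℕ, k ^ j * b * (k ^ j)⁻¹ = b * a ^ j := by
    intro j
    induction j with
    | zero => simp
    | succ j ih =>
      have hkaj : k * a ^ j * k⁻¹ = a ^ j := by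
        have : Commute k (a ^ j) := (show Commute k a from hka).pow_right j
        rw [this.eq]; group
      calc k ^ (j + 1) * b * (k ^ (j + 1))⁻¹ = k * (k ^ j * b * (k ^ j)⁻¹) * k⁻¹ := by
            rw [pow_succ']; group
        _ = k * (b * a ^ j) * k⁻¹ := by rw [ih]
        _ = (k * b * k⁻¹) * (k * a ^ j * k⁻¹) := by group
        _ = b * a ^ (j + 1) := by rw [hkaj, h, pow_succ', mul_assoc]
  have hn := hj n
  rw [hk] at hn
  have hn' : a ^ n = 1 := by simpa using hn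
  have h1 : orderOf a ∣ n := orderOf_dvd_of_pow_eq_one hn'
  have h2 : orderOf a ∣ m := orderOf_dvd_of_pow_eq_one ha
  have h3 : orderOf a ∣ 1 := by
    have := Nat.dvd_gcd h2 h1
    rwa [hmn.gcd_eq_one] at this
  exact orderOf_eq_one_iff.mp (Nat.dvd_one.mp h3)

theorem x_pow_card_K {k : G} (hk : k ∈ K) : k ^ Nat.card K = 1 := by
  have h1 := pow_card_eq_one' (G := ↥K) (x := ⟨k, hk⟩)
  have h2 := congrArg Subtype.val h1
  rw [SubgroupClass.coe_pow] at h2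
  exact h2

theorem x_pow_card_P (h : x_Hyp p P K) {w : G} (hw : w ∈ P) : w ^ (p ^ 3) = 1 := by
  have h1 := pow_card_eq_one' (G := ↥P) (x := ⟨w, hw⟩)
  rw [h.hP] at h1
  have h2 := congrArg Subtype.val h1
  rw [SubgroupClass.coe_pow] at h2
  exact h2

theorem x_triv_of_comm (h : x_Hyp p P K) {k x : G} (hk : k ∈ K) (hx : x ∈ P)
    (hxZ : x ∉ P ⊓ centralizer (P : Set G)) (hkx : k * x = x * k) : k = 1 := by
  have hkP : k ∈ centralizer (P : Set G) := by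
    rw [mem_centralizer_iff]
    intro y hy
    have hy' : k * y * k⁻¹ ∈ P := x_conj_mem h hk hy
    have hw : y⁻¹ * (k * y * k⁻¹) ∈ P := mul_mem (inv_mem hy) hy'
    have hc := x_comm_mem h hx hy
    have e1 : x * (k * y * k⁻¹) * x⁻¹ * (k * y * k⁻¹)⁻¹ = x * y * x⁻¹ * y⁻¹ := by
      have hx' : k * x * k⁻¹ = x := by rw [hkx]; group
      calc x * (k * y * k⁻¹) * x⁻¹ * (k * y * k⁻¹)⁻¹
          = (k * x * k⁻¹) * (k * y * k⁻¹) * (k * x * k⁻¹)⁻¹ * (k * y * k⁻¹)⁻¹ := by rw [hx']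
        _ = k * (x * y * x⁻¹ * y⁻¹) * k⁻¹ := by group
        _ = x * y * x⁻¹ * y⁻¹ := by rw [x_Z_K h hc hk]; group
    have e2 : (k * y * k⁻¹) * x⁻¹ * (k * y * k⁻¹)⁻¹ = y * x⁻¹ * y⁻¹ := by
      have := congrArg (fun t => x⁻¹ * t) e1
      simpa [mul_assoc] using this
    have hcw : x * (y⁻¹ * (k * y * k⁻¹)) = (y⁻¹ * (k * y * k⁻¹)) * x := by
      calc x * (y⁻¹ * (k * y * k⁻¹))
          = x * (y⁻¹ * ((k * y * k⁻¹) * x⁻¹ * (k * y * k⁻¹)⁻¹) * (k * y * k⁻¹) * x) := by group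
        _ = x * (y⁻¹ * (y * x⁻¹ * y⁻¹) * (k * y * k⁻¹) * x) := by rw [e2]
        _ = (y⁻¹ * (k * y * k⁻¹)) * x := by group
    obtain ⟨i, z, hz, hwz⟩ := x_cent_form h hx hxZ hw hcw
    have hkw : k * (y⁻¹ * (k * y * k⁻¹)) = (y⁻¹ * (k * y * k⁻¹)) * k := by
      rw [hwz]
      have h1 : Commute k (x ^ i) := (show Commute k x from hkx).pow_right i
      rw [← mul_assoc, h1.eq, mul_assoc, x_Z_K h hz hk, mul_assoc]
    have hyw : k * y * k⁻¹ = y * (y⁻¹ * (k * y * k⁻¹)) := by group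
    have hw1 := x_coprime_kill hkw hyw (x_pow_card_K hk) (x_pow_card_P h hw)
      (Nat.Coprime.pow_left 3 h.hcop.symm)
    rw [hw1, mul_one] at hyw
    calc y * k = (k * y * k⁻¹) * k := by rw [hyw]
      _ = k * y := by group
  have hmem : k ∈ K ⊓ centralizer (P : Set G) := mem_inf.mpr ⟨hk, hkP⟩
  rw [h.hfaith] at hmem
  exact mem_bot.mp hmem

theorem x_triv_of_eig_one (h : x_Hyp p P K) {k x z : G} {a : ℕ} (hk : k ∈ K) (hx : x ∈ P)
    (hxZ : x ∉ P ⊓ centralizer (P : Set G)) (hz : z ∈ P ⊓ centralizer (P : Set G))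
    (he : k * x * k⁻¹ = x ^ a * z) (ha : a ≡ 1 [MOD p]) : k = 1 := by
  have hp1 : 1 < p := hp.out.one_lt
  have ha' : a % p = 1 := by
    have : a % p = 1 % p := ha
    rwa [Nat.mod_eq_of_lt hp1] at this
  have hadec : a = p * (a / p) + 1 := by have := Nat.div_add_mod a p; omega
  have hz'' : (x ^ p) ^ (a / p) * z ∈ P ⊓ centralizer (P : Set G) :=
    mul_mem (pow_mem (x_pow_p_mem h hx) _) hz
  have he' : k * x * k⁻¹ = x * ((x ^ p) ^ (a / p) * z) := by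
    rw [he]
    conv_lhs => rw [hadec]
    rw [pow_succ, pow_mul]
    have : Commute ((x ^ p) ^ (a / p)) x := ((Commute.refl x).pow_left p).pow_left _
    rw [this.eq, mul_assoc]
  have h1 := x_coprime_kill (x_Z_K h hz'' hk) he' (x_pow_card_K hk) (x_Z_pow h hz'') h.hcop.symm
  apply x_triv_of_comm h hk hx hxZ
  rw [h1, mul_one] at he'
  calc k * x = k * x * k⁻¹ * k := by group
    _ = x * k := by rw [he']

theorem x_eig_form (h : x_Hyp p P K) {k x : G} (hk : k ∈ K) (hx : x ∈ P)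
    (hxZ : x ∉ P ⊓ centralizer (P : Set G)) (hc : x * (k * x * k⁻¹) = (k * x * k⁻¹) * x) :
    ∃ (a : ℕ) (z : G), z ∈ P ⊓ centralizer (P : Set G) ∧ k * x * k⁻¹ = x ^ a * z :=
  x_cent_form h hx hxZ (x_conj_mem h hk hx) hc

theorem x_eig_mul (h : x_Hyp p P K) {k x₁ x₂ z₁ z₂ : G} {a b : ℕ} (hk : k ∈ K) (hx₁ : x₁ ∈ P)
    (hx₂ : x₂ ∈ P) (hnc : x₁ * x₂ ≠ x₂ * x₁) (hz₁ : z₁ ∈ P ⊓ centralizer (P : Set G))
    (hz₂ : z₂ ∈ P ⊓ centralizer (P : Set G))
    (h₁ : k * x₁ * k⁻¹ = x₁ ^ a * z₁) (h₂ : k * x₂ * k⁻¹ = x₂ ^ b * z₂) : a * b ≡ 1 [MOD p] := by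
  have hc := x_comm_mem h hx₁ hx₂
  obtain ⟨c, hcdef⟩ : ∃ c, c = x₁ * x₂ * x₁⁻¹ * x₂⁻¹ := ⟨_, rfl⟩
  rw [← hcdef] at hc
  have hrel : x₁ * x₂ = c * (x₂ * x₁) := by rw [hcdef]; group
  have hc1 : c ≠ 1 := by
    intro h1; apply hnc; rw [hrel, h1, one_mul]
  have hE1 : (k * x₁ * k⁻¹) * (k * x₂ * k⁻¹) = c * ((k * x₂ * k⁻¹) * (k * x₁ * k⁻¹)) := by
    have hkc : k * c * k⁻¹ = c := by rw [x_Z_K h hc hk]; group
    calc (k * x₁ * k⁻¹) * (k * x₂ * k⁻¹) = k * (x₁ * x₂) * k⁻¹ := by group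
      _ = k * (c * (x₂ * x₁)) * k⁻¹ := by rw [hrel]
      _ = (k * c * k⁻¹) * ((k * x₂ * k⁻¹) * (k * x₁ * k⁻¹)) := by group
      _ = _ := by rw [hkc]
  have hE2 : (x₁ ^ a * z₁) * (x₂ ^ b * z₂) = c ^ (a * b) * ((x₂ ^ b * z₂) * (x₁ ^ a * z₁)) := by
    have hpow := x_rel_pow hrel (x_Z_comm hc hx₁).symm (x_Z_comm hc hx₂).symm a b
    have hx₁a : x₁ ^ a ∈ P := pow_mem hx₁ a
    have hx₂b : x₂ ^ b ∈ P := pow_mem hx₂ b
    have e1 : z₁ * x₂ ^ b = x₂ ^ b * z₁ := (x_Z_comm hz₁ hx₂b).symm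
    have e2 : z₂ * x₁ ^ a = x₁ ^ a * z₂ := (x_Z_comm hz₂ hx₁a).symm
    have e3 : z₁ * z₂ = z₂ * z₁ := x_Z_comm hz₂ (x_mem_Z_iff.mp hz₁).1
    calc (x₁ ^ a * z₁) * (x₂ ^ b * z₂) = x₁ ^ a * (z₁ * x₂ ^ b) * z₂ := by simp only [mul_assoc]
      _ = x₁ ^ a * (x₂ ^ b * z₁) * z₂ := by rw [e1]
      _ = (x₁ ^ a * x₂ ^ b) * (z₁ * z₂) := by simp only [mul_assoc]
      _ = c ^ (a * b) * (x₂ ^ b * x₁ ^ a) * (z₂ * z₁) := by rw [hpow, e3]
      _ = c ^ (a * b) * (x₂ ^ b * (x₁ ^ a * z₂) * z₁) := by simp only [mul_assoc]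
      _ = c ^ (a * b) * (x₂ ^ b * (z₂ * x₁ ^ a) * z₁) := by rw [← e2]
      _ = c ^ (a * b) * ((x₂ ^ b * z₂) * (x₁ ^ a * z₁)) := by simp only [mul_assoc]
  rw [h₁, h₂] at hE1
  have hcc : c ^ (a * b) = c ^ 1 := by
    rw [pow_one]
    exact mul_right_cancel (hE2.symm.trans hE1)
  have hord : orderOf c = p := orderOf_eq_prime (x_Z_pow h hc) hc1
  have := pow_eq_pow_iff_modEq.mp hcc
  rwa [hord] at this

/-! ### case A: some nontrivial element of `K` fixes a line -/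

theorem x_conj_not_mem (h : x_Hyp p P K) {k x : G} (hk : k ∈ K)
    (hxZ : x ∉ P ⊓ centralizer (P : Set G)) : k * x * k⁻¹ ∉ P ⊓ centralizer (P : Set G) := by
  intro hmem
  apply hxZ
  have hc := x_Z_K h hmem hk
  have : x = k * x * k⁻¹ := by
    calc x = k⁻¹ * ((k * x * k⁻¹) * k) := by group
      _ = k⁻¹ * (k * (k * x * k⁻¹)) := by rw [hc]
      _ = k * x * k⁻¹ := by group
  rw [this]; exact hmem

theorem x_caseA (h : x_Hyp p P K) (hKc : IsCyclic K) (hKodd : Odd (Nat.card K))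
    {k₀ x : G} (hk₀ : k₀ ∈ K) (hk₀1 : k₀ ≠ 1) (hx : x ∈ P)
    (hxZ : x ∉ P ⊓ centralizer (P : Set G))
    (hst : x * (k₀ * x * k₀⁻¹) = (k₀ * x * k₀⁻¹) * x) : Nat.card K ∣ p - 1 := by
  obtain ⟨g, hg⟩ := IsCyclic.exists_generator (α := ↥K)
  have hKcomm : ∀ a ∈ K, ∀ b ∈ K, a * b = b * a := by
    intro a ha b hb
    have := (IsCyclic.commGroup (α := ↥K)).mul_comm ⟨a, ha⟩ ⟨b, hb⟩
    exact congrArg Subtype.val this
  obtain ⟨a, z₀, hz₀, he₀⟩ := x_eig_form h hk₀ hx hxZ hst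
  have hgK : (g : G) ∈ K := g.2
  have hA2 : x * ((g : G) * x * (g : G)⁻¹) = ((g : G) * x * (g : G)⁻¹) * x := by
    by_contra hnc
    have hx' : (g : G) * x * (g : G)⁻¹ ∈ P := x_conj_mem h hgK hx
    have he' : k₀ * ((g : G) * x * (g : G)⁻¹) * k₀⁻¹ = ((g : G) * x * (g : G)⁻¹) ^ a * z₀ := by
      have hcomm := hKcomm k₀ hk₀ g hgK
      have hgz : (g : G) * z₀ * (g : G)⁻¹ = z₀ := by rw [x_Z_K h hz₀ hgK]; group
      calc k₀ * ((g : G) * x * (g : G)⁻¹) * k₀⁻¹ = (k₀ * g) * x * (k₀ * g)⁻¹ := by group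
        _ = (g * k₀) * x * (g * k₀)⁻¹ := by rw [hcomm]
        _ = g * (k₀ * x * k₀⁻¹) * (g : G)⁻¹ := by group
        _ = g * (x ^ a * z₀) * (g : G)⁻¹ := by rw [he₀]
        _ = (g * x ^ a * (g : G)⁻¹) * (g * z₀ * (g : G)⁻¹) := by group
        _ = ((g : G) * x * (g : G)⁻¹) ^ a * z₀ := by rw [hgz, conj_pow]
    have hmod := x_eig_mul h hk₀ hx hx' hnc hz₀ hz₀ he₀ he'
    have hk2 : (k₀ * k₀) * x * (k₀ * k₀)⁻¹ = x ^ (a * a) * (z₀ ^ a * z₀) := by
      have hkz : k₀ * z₀ * k₀⁻¹ = z₀ := by rw [x_Z_K h hz₀ hk₀]; group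
      have hcz : Commute (x ^ a) z₀ := x_Z_comm hz₀ (pow_mem hx a)
      calc (k₀ * k₀) * x * (k₀ * k₀)⁻¹ = k₀ * (k₀ * x * k₀⁻¹) * k₀⁻¹ := by group
        _ = k₀ * (x ^ a * z₀) * k₀⁻¹ := by rw [he₀]
        _ = (k₀ * x ^ a * k₀⁻¹) * (k₀ * z₀ * k₀⁻¹) := by group
        _ = (x ^ a * z₀) ^ a * z₀ := by rw [← conj_pow, he₀, hkz]
        _ = x ^ (a * a) * (z₀ ^ a * z₀) := by rw [hcz.mul_pow, ← pow_mul, mul_assoc]
    have hk2one := x_triv_of_eig_one h (mul_mem hk₀ hk₀) hx hxZ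
      (mul_mem (pow_mem hz₀ a) hz₀) hk2 hmod
    apply hk₀1
    have h2 : k₀ ^ 2 = 1 := by rw [pow_two]; exact hk2one
    have hN := x_pow_card_K hk₀
    have hcop2 : Nat.Coprime 2 (Nat.card K) := Nat.coprime_two_left.mpr hKodd
    have h3 : orderOf k₀ ∣ Nat.gcd 2 (Nat.card K) :=
      Nat.dvd_gcd (orderOf_dvd_of_pow_eq_one h2) (orderOf_dvd_of_pow_eq_one hN)
    rw [hcop2.gcd_eq_one] at h3
    exact orderOf_eq_one_iff.mp (Nat.dvd_one.mp h3)
  obtain ⟨b, z₁, hz₁, he₁⟩ := x_eig_form h hgK hx hxZ hA2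
  have hpb : ¬ p ∣ b := by
    rintro ⟨t, rfl⟩
    apply x_conj_not_mem h hgK hxZ
    rw [he₁, pow_mul]
    exact mul_mem (pow_mem (x_pow_p_mem h hx) t) hz₁
  have hpow : ∀ j : ℕ, ∃ z ∈ P ⊓ centralizer (P : Set G),
      (g : G) ^ j * x * ((g : G) ^ j)⁻¹ = x ^ (b ^ j) * z := by
    intro j
    induction j with
    | zero => exact ⟨1, one_mem _, by simp⟩
    | succ j ih =>
      obtain ⟨z, hz, hzj⟩ := ih
      refine ⟨z₁ ^ (b ^ j) * z, mul_mem (pow_mem hz₁ _) hz, ?_⟩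
      have hgz : (g : G) * z * (g : G)⁻¹ = z := by rw [x_Z_K h hz hgK]; group
      have hcz : Commute (x ^ b) z₁ := x_Z_comm hz₁ (pow_mem hx b)
      calc (g : G) ^ (j + 1) * x * ((g : G) ^ (j + 1))⁻¹
          = g * ((g : G) ^ j * x * ((g : G) ^ j)⁻¹) * (g : G)⁻¹ := by rw [pow_succ']; group
        _ = g * (x ^ (b ^ j) * z) * (g : G)⁻¹ := by rw [hzj]
        _ = (g * x ^ (b ^ j) * (g : G)⁻¹) * (g * z * (g : G)⁻¹) := by group
        _ = (x ^ b * z₁) ^ (b ^ j) * z := by rw [← conj_pow, he₁, hgz]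
        _ = x ^ (b ^ (j + 1)) * (z₁ ^ (b ^ j) * z) := by
            rw [hcz.mul_pow, ← pow_mul, ← pow_succ', mul_assoc]
  obtain ⟨z, hz, hzp⟩ := hpow (p - 1)
  have hmod : b ^ (p - 1) ≡ 1 [MOD p] := by
    have hcop : Nat.Coprime b p :=
      (Nat.coprime_comm).mp ((Nat.Prime.coprime_iff_not_dvd hp.out).2 hpb)
    have := Nat.ModEq.pow_totient hcop
    rwa [Nat.totient_prime hp.out] at this
  have hgp : (g : G) ^ (p - 1) = 1 :=
    x_triv_of_eig_one h (pow_mem hgK _) hx hxZ hz hzp hmod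
  have hord : orderOf g = Nat.card K := orderOf_eq_card_of_forall_mem_zpowers hg
  rw [← hord, ← Subgroup.orderOf_coe]
  exact orderOf_dvd_of_pow_eq_one hgp

/-! ### case B: `K` acts freely on the lines -/

theorem x_card_dvd_of_classes {α : Type*} [Finite α] (r : Setoid α) (s : ℕ)
    (hs : ∀ a : α, Nat.card {b : α // r a b} = s) : s ∣ Nat.card α := by
  classical
  letI := Fintype.ofFinite α
  letI : Fintype (Quotient r) := Fintype.ofFinite _
  have e := Equiv.sigmaFiberEquiv (Quotient.mk r)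
  rw [← Nat.card_congr e, Nat.card_sigma]
  apply Finset.dvd_sum
  intro q _
  obtain ⟨a, rfl⟩ := Quotient.exists_rep q
  have h1 : Nat.card {x : α // Quotient.mk r x = Quotient.mk r a} = s := by
    rw [← hs a]
    apply Nat.card_congr
    apply Equiv.subtypeEquivRight
    intro x
    rw [Quotient.eq]
    exact ⟨fun h => r.symm h, fun h => r.symm h⟩
  rw [h1]

theorem x_card_diff {A B : Subgroup G} (hAB : A ≤ B) :
    Nat.card {w : G // w ∈ B ∧ w ∉ A} = Nat.card B - Nat.card A := by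
  have h1 : Nat.card {w : G // w ∈ B ∧ w ∉ A} = ((B : Set G) \ (A : Set G)).ncard :=
    Nat.card_coe_set_eq ((B : Set G) \ (A : Set G))
  have hsub : (A : Set G) ⊆ (B : Set G) := fun x hx => hAB hx
  rw [h1, Set.ncard_sdiff hsub (Set.toFinite _)]
  rw [← Nat.card_coe_set_eq, ← Nat.card_coe_set_eq]
  rfl

theorem x_comm_trans (h : x_Hyp p P K) {u v w : G} (hu : u ∈ P) (hv : v ∈ P)
    (hvZ : v ∉ P ⊓ centralizer (P : Set G)) (hw : w ∈ P) (huv : u * v = v * u)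
    (hvw : v * w = w * v) : u * w = w * u := by
  obtain ⟨i, z, hz, rfl⟩ := x_cent_form h hv hvZ hu huv.symm
  obtain ⟨j, z', hz', rfl⟩ := x_cent_form h hv hvZ hw hvw
  have c1 : Commute (v ^ i) (v ^ j) := (Commute.refl v).pow_pow i j
  have c2 : Commute (v ^ i) z' := x_Z_comm hz' (pow_mem hv i)
  have c3 : Commute z (v ^ j) := (x_Z_comm hz (pow_mem hv j)).symm
  have c4 : Commute z z' := x_Z_comm hz' (x_mem_Z_iff.mp hz).1
  exact (Commute.mul_left (Commute.mul_right c1 c2) (Commute.mul_right c3 c4)).eq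

theorem x_caseB (h : x_Hyp p P K)
    (hB : ∀ k ∈ K, ∀ x ∈ P, x ∉ P ⊓ centralizer (P : Set G) →
      x * (k * x * k⁻¹) = (k * x * k⁻¹) * x → k = 1) :
    Nat.card K ∣ p + 1 := by
  classical
  have hZP : P ⊓ centralizer (P : Set G) ≤ P := inf_le_left
  -- the setoid
  let r : Setoid {x : G // x ∈ P ∧ x ∉ P ⊓ centralizer (P : Set G)} :=
    { r := fun a b => ∃ k ∈ K, (k * a.1 * k⁻¹) * b.1 = b.1 * (k * a.1 * k⁻¹)
      iseqv := by
        refine ⟨fun a => ⟨1, one_mem _, by simp⟩, ?_, ?_⟩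
        · rintro a b ⟨k, hk, hc⟩
          refine ⟨k⁻¹, inv_mem hk, ?_⟩
          calc (k⁻¹ * b.1 * k⁻¹⁻¹) * a.1 = k⁻¹ * (b.1 * (k * a.1 * k⁻¹)) * k := by group
            _ = k⁻¹ * ((k * a.1 * k⁻¹) * b.1) * k := by rw [hc]
            _ = a.1 * (k⁻¹ * b.1 * k⁻¹⁻¹) := by group
        · rintro a b c ⟨k, hk, h1⟩ ⟨k', hk', h2⟩
          refine ⟨k' * k, mul_mem hk' hk, ?_⟩
          have hu : (k' * k) * a.1 * (k' * k)⁻¹ ∈ P := x_conj_mem h (mul_mem hk' hk) a.2.1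
          have hv : k' * b.1 * k'⁻¹ ∈ P := x_conj_mem h hk' b.2.1
          have hvZ := x_conj_not_mem h hk' b.2.2
          have huv : ((k' * k) * a.1 * (k' * k)⁻¹) * (k' * b.1 * k'⁻¹) =
              (k' * b.1 * k'⁻¹) * ((k' * k) * a.1 * (k' * k)⁻¹) := by
            calc ((k' * k) * a.1 * (k' * k)⁻¹) * (k' * b.1 * k'⁻¹)
                = k' * ((k * a.1 * k⁻¹) * b.1) * k'⁻¹ := by group
              _ = k' * (b.1 * (k * a.1 * k⁻¹)) * k'⁻¹ := by rw [h1]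
              _ = (k' * b.1 * k'⁻¹) * ((k' * k) * a.1 * (k' * k)⁻¹) := by group
          exact x_comm_trans h hu hv hvZ c.2.1 huv h2 }
  -- class sizes
  have hclass : ∀ a : {x : G // x ∈ P ∧ x ∉ P ⊓ centralizer (P : Set G)},
      Nat.card {b : {x : G // x ∈ P ∧ x ∉ P ⊓ centralizer (P : Set G)} // r a b} =
        Nat.card K * (p ^ 2 - p) := by
    intro a
    have hZC : P ⊓ centralizer (P : Set G) ≤ P ⊓ centralizer ({a.1} : Set G) := by
      intro z hz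
      exact x_mem_C_iff.mpr ⟨(x_mem_Z_iff.mp hz).1, x_Z_comm hz a.2.1⟩
    have hW : Nat.card {w : G // w ∈ P ⊓ centralizer ({a.1} : Set G) ∧
        w ∉ P ⊓ centralizer (P : Set G)} = p ^ 2 - p := by
      rw [x_card_diff hZC, x_cent_card h a.2.1 a.2.2, x_Z_card h]
    rw [← hW, ← Nat.card_prod]
    symm
    let φ : ↥K × {w : G // w ∈ P ⊓ centralizer ({a.1} : Set G) ∧
        w ∉ P ⊓ centralizer (P : Set G)} →
        {b : {x : G // x ∈ P ∧ x ∉ P ⊓ centralizer (P : Set G)} // r a b} :=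
      fun q => ⟨⟨(q.1 : G) * q.2.1 * (q.1 : G)⁻¹,
        x_conj_mem h q.1.2 (x_mem_C_iff.mp q.2.2.1).1, x_conj_not_mem h q.1.2 q.2.2.2⟩,
        ⟨q.1, q.1.2, by
          have hc := (x_mem_C_iff.mp q.2.2.1).2
          show ((q.1 : G) * a.1 * (q.1 : G)⁻¹) * ((q.1 : G) * q.2.1 * (q.1 : G)⁻¹) =
            ((q.1 : G) * q.2.1 * (q.1 : G)⁻¹) * ((q.1 : G) * a.1 * (q.1 : G)⁻¹)
          calc ((q.1 : G) * a.1 * (q.1 : G)⁻¹) * ((q.1 : G) * q.2.1 * (q.1 : G)⁻¹)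
              = (q.1 : G) * (a.1 * q.2.1) * (q.1 : G)⁻¹ := by group
            _ = (q.1 : G) * (q.2.1 * a.1) * (q.1 : G)⁻¹ := by rw [hc]
            _ = _ := by group⟩⟩
    apply Nat.card_congr
    refine Equiv.ofBijective φ ⟨?_, ?_⟩
    · rintro ⟨k, w⟩ ⟨k', w'⟩ he
      have he' : (k : G) * w.1 * (k : G)⁻¹ = (k' : G) * w'.1 * (k' : G)⁻¹ :=
        congrArg (fun t => (t.1.1 : G)) he
      have hwP := (x_mem_C_iff.mp w.2.1).1
      have hw'P := (x_mem_C_iff.mp w'.2.1).1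
      have hww' : w.1 * w'.1 = w'.1 * w.1 :=
        x_comm_trans h hwP a.2.1 a.2.2 hw'P ((x_mem_C_iff.mp w.2.1).2).symm (x_mem_C_iff.mp w'.2.1).2
      have hk'' : ((k' : G)⁻¹ * k) * w.1 * ((k' : G)⁻¹ * k)⁻¹ = w'.1 := by
        calc ((k' : G)⁻¹ * k) * w.1 * ((k' : G)⁻¹ * k)⁻¹
            = (k' : G)⁻¹ * ((k : G) * w.1 * (k : G)⁻¹) * k' := by group
          _ = (k' : G)⁻¹ * ((k' : G) * w'.1 * (k' : G)⁻¹) * k' := by rw [he']
          _ = w'.1 := by group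
      have h1 := hB ((k' : G)⁻¹ * k) (mul_mem (inv_mem k'.2) k.2) w.1 hwP w.2.2
        (by rw [hk'']; exact hww')
      have hkk : (k : G) = k' := by
        calc (k : G) = k' * ((k' : G)⁻¹ * k) := by group
          _ = k' := by rw [h1, mul_one]
      have hkk' : k = k' := Subtype.ext hkk
      subst hkk'
      have : w.1 = w'.1 := by
        have := he'
        calc w.1 = (k : G)⁻¹ * ((k : G) * w.1 * (k : G)⁻¹) * k := by group
          _ = (k : G)⁻¹ * ((k : G) * w'.1 * (k : G)⁻¹) * k := by rw [this]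
          _ = w'.1 := by group
      exact Prod.ext rfl (Subtype.ext this)
    · rintro ⟨b, k, hk, hc⟩
      have hwP : k⁻¹ * b.1 * k ∈ P := by
        have := x_conj_mem h (inv_mem hk) b.2.1
        rwa [inv_inv] at this
      have hwZ : k⁻¹ * b.1 * k ∉ P ⊓ centralizer (P : Set G) := by
        have := x_conj_not_mem h (inv_mem hk) b.2.2
        rwa [inv_inv] at this
      have hwc : a.1 * (k⁻¹ * b.1 * k) = (k⁻¹ * b.1 * k) * a.1 := by
        calc a.1 * (k⁻¹ * b.1 * k) = k⁻¹ * ((k * a.1 * k⁻¹) * b.1) * k := by group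
          _ = k⁻¹ * (b.1 * (k * a.1 * k⁻¹)) * k := by rw [hc]
          _ = (k⁻¹ * b.1 * k) * a.1 := by group
      refine ⟨(⟨k, hk⟩, ⟨k⁻¹ * b.1 * k, x_mem_C_iff.mpr ⟨hwP, hwc⟩, hwZ⟩), ?_⟩
      apply Subtype.ext
      apply Subtype.ext
      show k * (k⁻¹ * b.1 * k) * k⁻¹ = b.1
      group
  have hdvd := x_card_dvd_of_classes r _ hclass
  have hX : Nat.card {x : G // x ∈ P ∧ x ∉ P ⊓ centralizer (P : Set G)} = p ^ 3 - p := by
    rw [x_card_diff hZP, h.hP, x_Z_card h]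
  rw [hX] at hdvd
  have hp1 : 1 < p := hp.out.one_lt
  have hle : p ≤ p ^ 2 := by nlinarith
  have hm : p ^ 2 - p + p = p ^ 2 := Nat.sub_add_cancel hle
  have hfac : p ^ 3 - p = (p + 1) * (p ^ 2 - p) := by
    have e : p ^ 3 = (p + 1) * (p ^ 2 - p) + p := by
      obtain ⟨m, hm'⟩ : ∃ m, m = p ^ 2 - p := ⟨_, rfl⟩
      rw [← hm'] at hm ⊢
      have e1 : p ^ 3 = p * (m + p) := by rw [hm]; ring
      have e2 : (p + 1) * m + p = p * m + (m + p) := by ring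
      rw [e2, hm, e1]; ring
    rw [e, Nat.add_sub_cancel]
  rw [hfac] at hdvd
  have hpos : 0 < p ^ 2 - p := by
    have : p < p ^ 2 := by nlinarith
    omega
  exact Nat.dvd_of_mul_dvd_mul_right hpos hdvd

end xleaf

section generic

variable {G : Type u} [Group G] [Finite G]

/-- X (abstract, the `SL₂(p)` step). -/
theorem card_dvd_of_extraspecial (p : ℕ) [Fact p.Prime] (hp2 : p ≠ 2) (P K : Subgroup G)
    (hP : Nat.card P = p ^ 3) (hPna : ¬ IsMulCommutative P) (hKP : K ≤ normalizer (P : Set G))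
    (hKc : IsCyclic K) (hKodd : Odd (Nat.card K)) (hcop : (Nat.card K).Coprime p)
    (hfaith : K ⊓ centralizer (P : Set G) = ⊥)
    (hZ : P ⊓ centralizer (P : Set G) ≤ centralizer (K : Set G)) :
    Nat.card K ∣ p - 1 ∨ Nat.card K ∣ p + 1 := by
  have h : x_Hyp p P K := ⟨hP, hPna, hKP, hcop, hfaith, hZ⟩
  by_cases hA : ∃ k ∈ K, k ≠ 1 ∧ ∃ x ∈ P, x ∉ P ⊓ centralizer (P : Set G) ∧
      x * (k * x * k⁻¹) = (k * x * k⁻¹) * x
  · obtain ⟨k, hk, hk1, x, hx, hxZ, hst⟩ := hA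
    exact Or.inl (x_caseA h hKc hKodd hk hk1 hx hxZ hst)
  · right
    apply x_caseB h
    intro k hk x hx hxZ hst
    by_contra hk1
    exact hA ⟨k, hk, hk1, x, hx, hxZ, hst⟩

end generic

end Cfsg.Agent.Lib.Helper91.BG157
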