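import Mathlib.GroupTheory.SpecificGroups.Quaternion
import Mathlib.GroupTheory.SpecificGroups.Cyclic
import Mathlib.GroupTheory.PGroup

set_option autoImplicit false

namespace Cfsg.Agent.Lib.Helper46

/-- A nontrivial cyclic `p`-group has a unique subgroup of order `p`. -/
theorem cyclic_unique_order_p {T : Type*} [Group T] [Finite T] [IsCyclic T] {p : ℕ} [hp : Fact p.Prime]
    (hT : IsPGroup p T) [Nontrivial T] :
    ∃ z : T, orderOf z = p ∧ ∀ x : T, x ^ p = 1 → x ∈ Subgroup.zpowers z := by
  obtain ⟨t, ht⟩ := IsCyclic.exists_monoid_generator (α := T)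
  have hot : orderOf t = Nat.card T := orderOf_eq_card_of_forall_mem_powers ht
  obtain ⟨m, hm⟩ := IsPGroup.iff_card.mp hT
  have hm0 : m ≠ 0 := by
    rintro rfl
    have := Finite.one_lt_card (α := T)
    rw [hm] at this
    simp at this
  obtain ⟨m', rfl⟩ := Nat.exists_eq_succ_of_ne_zero hm0
  have hpp : 0 < p := hp.out.pos
  refine ⟨t ^ (p ^ m'), ?_, ?_⟩
  · rw [orderOf_pow_of_dvd (pow_pos hpp m').ne' (by rw [hot, hm]; exact pow_dvd_pow p (Nat.le_succ m')),
      hot, hm, pow_succ]
    exact Nat.mul_div_cancel_left p (pow_pos hpp m')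
  · intro x hx
    obtain ⟨a, rfl⟩ := Submonoid.mem_powers_iff _ _ |>.mp (ht x)
    rw [← pow_mul] at hx
    have h1 := orderOf_dvd_of_pow_eq_one hx
    rw [hot, hm, pow_succ] at h1
    have h2 : p ^ m' ∣ a := Nat.dvd_of_mul_dvd_mul_right hpp h1
    obtain ⟨b, rfl⟩ := h2
    rw [pow_mul]
    exact Subgroup.pow_mem _ (Subgroup.mem_zpowers _) b

open QuaternionGroup in
/-- A generalized quaternion group has a unique involution. -/
theorem quaternion_unique_involution {n : ℕ} [NeZero n] :
    ∃ z : QuaternionGroup n, orderOf z = 2 ∧ ∀ x : QuaternionGroup n, x ^ 2 = 1 →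
      x ∈ Subgroup.zpowers z := by
  have hn0 : n ≠ 0 := NeZero.ne n
  have hnn : ((n : ZMod (2 * n)) + n = 0) := by
    rw [← two_mul]
    have := ZMod.natCast_self (2 * n)
    push_cast at this
    exact this
  have hne : (a (n : ZMod (2 * n)) : QuaternionGroup n) ≠ 1 := by
    intro h
    rw [one_def] at h
    have h1 : (n : ZMod (2 * n)) = 0 := a.inj h
    rw [ZMod.natCast_eq_zero_iff] at h1
    have := Nat.le_of_dvd (Nat.pos_of_ne_zero hn0) h1
    omega
  refine ⟨a n, ?_, ?_⟩
  · haveI : Fact (Nat.Prime 2) := ⟨Nat.prime_two⟩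
    apply orderOf_eq_prime
    · rw [sq, a_mul_a, hnn, a_zero]
    · exact hne
  · intro x hx
    cases x with
    | a i =>
      rw [sq, a_mul_a, one_def] at hx
      have h1 : i + i = 0 := a.inj hx
      have h2 : ((i.val + i.val : ℕ) : ZMod (2 * n)) = 0 := by
        push_cast
        rw [ZMod.natCast_zmod_val]
        exact h1
      rw [ZMod.natCast_eq_zero_iff] at h2
      have h3 : i.val < 2 * n := ZMod.val_lt i
      have h4 : n ∣ i.val := by
        have : 2 * n ∣ 2 * i.val := by rw [two_mul i.val]; exact h2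
        exact Nat.dvd_of_mul_dvd_mul_left (by norm_num) this
      obtain ⟨c, hc⟩ := h4
      have hc2 : c = 0 ∨ c = 1 := by
        have : n * c < 2 * n := hc ▸ h3
        have : c < 2 := by
          by_contra hge
          push_neg at hge
          have : n * 2 ≤ n * c := Nat.mul_le_mul_left n hge
          omega
        omega
      have hi : i = ((i.val : ℕ) : ZMod (2 * n)) := (ZMod.natCast_zmod_val i).symm
      rcases hc2 with rfl | rfl
      · rw [hi, hc]
        simp only [mul_zero, Nat.cast_zero, a_zero]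
        exact Subgroup.one_mem _
      · rw [hi, hc, mul_one]
        exact Subgroup.mem_zpowers _
    | xa i =>
      rw [xa_sq] at hx
      exact absurd hx hne

end Cfsg.Agent.Lib.Helper46
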