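import Cfsg.Agent.Lib.Helper46.CharP

set_option autoImplicit false

namespace Cfsg.Agent.Lib.Helper46

open Cfsg

variable {G : Type*} [Group G]

theorem le_normalizer_of_conj_mem {A X : Subgroup G} (h : ∀ a ∈ A, ∀ x ∈ X, a * x * a⁻¹ ∈ X) :
    A ≤ Subgroup.normalizer (X : Set G) := by
  intro a ha
  rw [Subgroup.mem_normalizer_iff]
  intro x
  constructor
  · exact h a ha x
  · intro hx
    have := h a⁻¹ (A.inv_mem ha) _ hx
    have e : a⁻¹ * (a * x * a⁻¹) * a⁻¹⁻¹ = x := by group
    rwa [e] at this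

theorem conj_mem_of_le_normalizer {A X : Subgroup G} (h : A ≤ Subgroup.normalizer (X : Set G))
    {a x : G} (ha : a ∈ A) (hx : x ∈ X) : a * x * a⁻¹ ∈ X :=
  (Subgroup.mem_normalizer_iff.mp (h ha) x).mp hx

theorem subnormal_pGroup_aux [Finite G] {p : ℕ} [Fact p.Prime] (K : Subgroup G) (hK : K.IsSubnormal) :
    ∀ H : Subgroup G, H ≤ K → (H.subgroupOf K).Normal → IsPGroup p H → H ≤ Cfsg.pCore p G := by
  induction hK with
  | top =>
    intro H _ hn hp
    have h1 : (⊤ : Subgroup G) ≤ Subgroup.normalizer (H : Set G) :=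
      (Subgroup.normal_subgroupOf_iff_le_normalizer le_top).mp hn
    have h2 : H.Normal := Subgroup.normalizer_eq_top_iff.mp (top_le_iff.mp h1)
    exact le_pCore p H h2 hp
  | step K K' hle hsub hN ih =>
    intro H hHK hn hp
    have hK'K : K' ≤ Subgroup.normalizer (K : Set G) :=
      (Subgroup.normal_subgroupOf_iff_le_normalizer hle).mp hN
    have hKH : K ≤ Subgroup.normalizer (H : Set G) :=
      (Subgroup.normal_subgroupOf_iff_le_normalizer hHK).mp hn
    let Hg : K' → Subgroup G := fun g => H.map (MulAut.conj (g : G)).toMonoidHom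
    let Hs : Subgroup G := ⨆ g : K', Hg g
    have h1 : H ≤ Hs := by
      refine le_trans ?_ (le_iSup Hg 1)
      intro x hx
      exact Subgroup.mem_map.mpr ⟨x, hx, by simp⟩
    have hHgK : ∀ g : K', Hg g ≤ K := by
      intro g x hx
      obtain ⟨h, hh, rfl⟩ := Subgroup.mem_map.mp hx
      have := conj_mem_of_le_normalizer hK'K g.2 (hHK hh)
      simpa using this
    have h2 : Hs ≤ K := iSup_le hHgK
    have h3 : Hs ≤ K' := h2.trans hle
    have h4 : (Hs.subgroupOf K').Normal := by
      rw [Subgroup.normal_subgroupOf_iff_le_normalizer h3]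
      apply le_normalizer_of_conj_mem
      intro a ha x hx
      have hmap : Hs.map (MulAut.conj a).toMonoidHom ≤ Hs := by
        rw [Subgroup.map_iSup]
        apply iSup_le
        intro g
        refine le_trans ?_ (le_iSup Hg (⟨a, ha⟩ * g))
        intro y hy
        obtain ⟨z, hz, rfl⟩ := Subgroup.mem_map.mp hy
        obtain ⟨h, hh, rfl⟩ := Subgroup.mem_map.mp hz
        refine Subgroup.mem_map.mpr ⟨h, hh, ?_⟩
        simp [mul_assoc]
      have : (MulAut.conj a).toMonoidHom x ∈ Hs := hmap (Subgroup.mem_map_of_mem _ hx)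
      simpa using this
    have hHgn : ∀ g : K', ((Hg g).subgroupOf K).Normal := by
      intro g
      rw [Subgroup.normal_subgroupOf_iff_le_normalizer (hHgK g)]
      apply le_normalizer_of_conj_mem
      intro k hk x hx
      obtain ⟨h, hh, rfl⟩ := Subgroup.mem_map.mp hx
      have hk' : (g : G)⁻¹ * k * (g : G)⁻¹⁻¹ ∈ K :=
        conj_mem_of_le_normalizer hK'K (K'.inv_mem g.2) hk
      have hh' := conj_mem_of_le_normalizer hKH hk' hh
      refine Subgroup.mem_map.mpr ⟨_, hh', ?_⟩
      simp only [MulEquiv.coe_toMonoidHom, MulAut.conj_apply]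
      group
    have h5 : IsPGroup p Hs := by
      have hp1 : IsPGroup p (⨆ g : K', (Hg g).subgroupOf K : Subgroup ↥K) := by
        have : ∀ g : K', ((Hg g).subgroupOf K).Normal := hHgn
        exact Sylow.iSup_of_normal _ (fun g => (hp.map _).comap_subtype)
      have := hp1.map K.subtype
      rw [Subgroup.map_iSup] at this
      have e : (⨆ g : K', ((Hg g).subgroupOf K).map K.subtype) = Hs := by
        apply iSup_congr
        intro g
        exact Subgroup.map_subgroupOf_eq_of_le (hHgK g)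
      rwa [e] at this
    exact h1.trans (ih Hs h3 h4 h5)

/-- A subnormal `p`-subgroup of a finite group lies in `O_p`. -/
theorem subnormal_pGroup_le_pCore [Finite G] {p : ℕ} [Fact p.Prime] (D : Subgroup G)
    (hD : D.IsSubnormal) (hp : IsPGroup p D) : D ≤ Cfsg.pCore p G := by
  apply subnormal_pGroup_aux D hD D le_rfl _ hp
  rw [Subgroup.subgroupOf_self]
  infer_instance

/-- Subnormal version of `le_of_pCore_quot_eq_bot`. -/
theorem subnormal_le_of_pCore_quot_eq_bot [Finite G] {p : ℕ} [Fact p.Prime] (C : Subgroup G)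
    [hC : C.Normal] (h : Cfsg.pCore p (G ⧸ C) = ⊥) (D : Subgroup G) (hD : D.IsSubnormal)
    (hDp : ∀ d ∈ D, ∃ k : ℕ, d ^ (p ^ k) ∈ C) : D ≤ C := by
  have hπ : Function.Surjective (QuotientGroup.mk' C) := QuotientGroup.mk'_surjective C
  have hsub : (D.map (QuotientGroup.mk' C)).IsSubnormal := Subgroup.IsSubnormal.map hπ hD
  have hmapP : IsPGroup p (D.map (QuotientGroup.mk' C)) := by
    rintro ⟨x, hx⟩
    obtain ⟨d, hd, rfl⟩ := Subgroup.mem_map.mp hx
    obtain ⟨k, hk⟩ := hDp d hd
    refine ⟨k, ?_⟩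
    ext
    simp only [Subgroup.coe_pow, Subgroup.coe_one]
    rw [← map_pow]
    exact (QuotientGroup.eq_one_iff _).mpr hk
  have hle := subnormal_pGroup_le_pCore _ hsub hmapP
  rw [h] at hle
  intro d hd
  have : (QuotientGroup.mk' C) d ∈ D.map (QuotientGroup.mk' C) := Subgroup.mem_map_of_mem _ hd
  have := hle this
  rw [Subgroup.mem_bot] at this
  exact (QuotientGroup.eq_one_iff _).mp this

end Cfsg.Agent.Lib.Helper46
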