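import Mathlib
import Cfsg.Prelude.Def_ClassicalGeometry
import Cfsg.Prelude.Def_GeometricClasses
import Cfsg.Agent.Lib.Helper5.HyDefs
import Cfsg.Agent.Lib.Helper81.OnDefs
import Cfsg.Agent.Lib.Helper37.MinusAut

/-! # Definitions for the S5991 hive ("Om", helper46): `Ω⁻_{2d}(q)`, `q` odd, on nondegenerate
`m`-spaces (`m` odd) isometric to a given `W₀` - the minus twin of S5989 ("On", helper81), whose
ABSTRACT layer (`Cfsg.Agent.Lib.Helper81.On`: `SameType`, `Fixes`, ...) is reused verbatim.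

Vocabulary reused: `Cfsg.Agent.Lib.Helper99.Nd`, `Cfsg.Agent.Lib.Helper48.Ti.Isom`,
`Cfsg.Agent.Lib.Helper2.BG.Inv`, `Cfsg.Agent.Lib.Helper5.Hy.{Plus, Orth, Fix}`,
`Cfsg.Agent.Lib.Helper81.On.{SameType, Fixes}`, `Cfsg.Agent.Lib.Helper37.gramM`. -/

set_option autoImplicit false

namespace Cfsg.Agent.Lib.Helper46.Om

open Module
open Cfsg.Agent.Lib.Helper2.BG Cfsg.Agent.Lib.Helper99 Cfsg.Agent.Lib.Helper48.Ti

section defs

variable {F V : Type*} [Field F] [AddCommGroup V] [Module F V]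

/-- `δ` is the Gram determinant of `B` on `W` in some basis (a discriminant of `W`) -/
def Disc (B : V →ₗ[F] V →ₗ[F] F) (W : Submodule F V) (δ : F) : Prop :=
  ∃ b : Basis (Fin (finrank F W)) F W,
    (LinearMap.BilinForm.toMatrix b (B.domRestrict₁₂ W W)).det = δ

end defs

section concrete

/-- the ambient space of `quadFormMinus k` (dimension `2 k + 2`) -/
abbrev VM (k : ℕ) (F : Type*) : Type _ := (Fin k ⊕ Fin k) ⊕ Fin 2 → F

/-- the polar form of `quadFormMinus k F a b` as a bilinear map (Gram matrix `Helper37.gramM`) -/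
noncomputable def minusB {F : Type*} [Field F] (k : ℕ) (a b : F) : VM k F →ₗ[F] VM k F →ₗ[F] F :=
  Matrix.toBilin' (Cfsg.Agent.Lib.Helper37.gramM k F a b)

end concrete

end Cfsg.Agent.Lib.Helper46.Om
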