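import Cfsg.Agent.Lib.Helper46.PReduced2

set_option autoImplicit false

namespace Cfsg.Agent.Lib.Helper46

open Cfsg

theorem pCore_characteristic (p : ℕ) (X : Type*) [Group X] : (Cfsg.pCore p X).Characteristic := by
  rw [Subgroup.characteristic_iff_map_le]
  intro φ
  rw [Subgroup.map_le_iff_le_comap]
  unfold Cfsg.pCore
  apply sSup_le
  intro N hN
  rw [← Subgroup.map_le_iff_le_comap]
  apply le_sSup
  refine ⟨?_, ?_⟩
  · exact Subgroup.Normal.map hN.1 _ φ.surjective
  · exact hN.2.map _

theorem eq_one_of_pow_eq_one_of_coprime {G : Type*} [Group G] {r : G} {m n : ℕ} (h : Nat.Coprime m n)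
    (hm : r ^ m = 1) (hn : r ^ n = 1) : r = 1 := by
  have h1 := orderOf_dvd_of_pow_eq_one hm
  have h2 := orderOf_dvd_of_pow_eq_one hn
  have := Nat.dvd_gcd h1 h2
  rw [h] at this
  exact orderOf_eq_one_iff.mp (Nat.dvd_one.mp this)

theorem mem_of_pow_mem_of_coprime {G : Type*} [Group G] (S : Subgroup G) {r : G} {m n : ℕ}
    (h : Nat.Coprime m n) (hm : r ^ m ∈ S) (hn : r ^ n ∈ S) : r ∈ S := by
  have hb := Nat.gcd_eq_gcd_ab m n
  rw [h] at hb
  have : r = (r ^ m) ^ (Nat.gcdA m n) * (r ^ n) ^ (Nat.gcdB m n) := by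
    rw [← zpow_natCast r m, ← zpow_natCast r n, ← zpow_mul, ← zpow_mul, ← zpow_add, ← hb]
    simp
  rw [this]
  exact S.mul_mem (S.zpow_mem hm _) (S.zpow_mem hn _)

theorem isPGroup_of_forall_coprime_eq_one {G : Type*} [Group G] [Finite G] {p : ℕ} [hp : Fact p.Prime]
    (S : Subgroup G) (h : ∀ x ∈ S, ∀ m : ℕ, m.Coprime p → x ^ m = 1 → x = 1) : IsPGroup p S := by
  intro c
  have ho : orderOf (c : G) ≠ 0 := (orderOf_pos (c : G)).ne'
  obtain ⟨e, m, hm, hem⟩ := Nat.exists_eq_pow_mul_and_not_dvd ho p hp.out.ne_one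
  refine ⟨e, ?_⟩
  have hx : ((c : G) ^ (p ^ e)) ^ m = 1 := by
    rw [← pow_mul, ← hem, pow_orderOf_eq_one]
  have hcop : m.Coprime p := (Nat.Prime.coprime_iff_not_dvd hp.out).mpr hm |>.symm
  have := h _ (S.pow_mem c.2 _) m hcop hx
  ext
  simpa using this

/-- A normal subgroup of a finite group of characteristic `p` has characteristic `p`. -/
theorem charP_of_normal {G : Type*} [Group G] [Finite G] {p : ℕ} [hp : Fact p.Prime]
    (hchar : Subgroup.centralizer (Cfsg.pCore p G : Set G) ≤ Cfsg.pCore p G) (H : Subgroup G)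
    [hH : H.Normal] :
    Subgroup.centralizer (Cfsg.pCore p ↥H : Set ↥H) ≤ Cfsg.pCore p ↥H := by
  have hn : (Subgroup.centralizer (Cfsg.pCore p ↥H : Set ↥H)).Normal := Subgroup.normal_centralizer
  refine le_pCore p _ hn (isPGroup_of_forall_coprime_eq_one _ ?_)
  intro x hx m hm hxm
  set Q : Subgroup G := Cfsg.pCore p G with hQ
  have hQn : Q.Normal := Cfsg.pCore_normal p G
  have hQp : IsPGroup p Q := pCore_isPGroup p
  have hQH : Q.subgroupOf H ≤ Cfsg.pCore p ↥H := by
    apply le_pCore
    · unfold Subgroup.subgroupOf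
      exact Subgroup.Normal.comap hQn _
    · exact hQp.comap_subtype
  have hxm' : (x : G) ^ m = 1 := by
    have := congrArg Subtype.val hxm
    simpa using this
  have key : (x : G) ∈ Subgroup.centralizer (Q : Set G) := by
    rw [Subgroup.mem_centralizer_iff]
    intro q hq
    set r : G := (x : G) * q * (x : G)⁻¹ * q⁻¹ with hr
    have hrH : r ∈ H := by
      have : r = (x : G) * (q * (x : G)⁻¹ * q⁻¹) := by rw [hr]; group
      rw [this]
      exact H.mul_mem x.2 (hH.conj_mem _ (H.inv_mem x.2) q)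
    have hrQ : r ∈ Q := by
      exact Q.mul_mem (hQn.conj_mem q hq _) (Q.inv_mem hq)
    have hrcore : (⟨r, hrH⟩ : ↥H) ∈ Cfsg.pCore p ↥H := by
      apply hQH
      rw [Subgroup.mem_subgroupOf]
      exact hrQ
    have hcomm : r * (x : G) = (x : G) * r := by
      have := (Subgroup.mem_centralizer_iff.mp hx) _ hrcore
      have := congrArg Subtype.val this
      simpa using this
    have hpow : ∀ i : ℕ, (x : G) ^ i * q * ((x : G) ^ i)⁻¹ = r ^ i * q := by
      intro i
      induction i with
      | zero => simp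
      | succ i ih =>
        have hc : Commute (x : G) r := hcomm.symm
        have e1 : (x : G) ^ (i + 1) * q * ((x : G) ^ (i + 1))⁻¹ =
            (x : G) * ((x : G) ^ i * q * ((x : G) ^ i)⁻¹) * (x : G)⁻¹ := by
          rw [pow_succ']; group
        rw [e1, ih]
        have e2 : (x : G) * (r ^ i * q) * (x : G)⁻¹ = r ^ i * ((x : G) * q * (x : G)⁻¹) := by
          have := (hc.pow_right i).eq
          calc (x : G) * (r ^ i * q) * (x : G)⁻¹ = ((x : G) * r ^ i) * q * (x : G)⁻¹ := by group
            _ = (r ^ i * (x : G)) * q * (x : G)⁻¹ := by rw [this]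
            _ = r ^ i * ((x : G) * q * (x : G)⁻¹) := by group
        rw [e2]
        have e3 : (x : G) * q * (x : G)⁻¹ = r * q := by rw [hr]; group
        rw [e3, pow_succ]; group
    have hrm : r ^ m = 1 := by
      have h2 : r ^ m * q = q := by rw [← hpow m, hxm']; simp
      exact mul_eq_right.mp h2
    obtain ⟨k, hk⟩ := hQp ⟨r, hrQ⟩
    have hrk : r ^ (p ^ k) = 1 := by
      have := congrArg Subtype.val hk
      simpa using this
    have hr1 : r = 1 :=
      eq_one_of_pow_eq_one_of_coprime (Nat.Coprime.pow_right k hm) hrm hrk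
    have : (x : G) * q * (x : G)⁻¹ * q⁻¹ = 1 := hr1
    have h3 : (x : G) * q = q * (x : G) := by
      have := mul_inv_eq_one.mp this
      exact mul_inv_eq_iff_eq_mul.mp this
    exact h3.symm
  have hxQ : (x : G) ∈ Q := hchar key
  obtain ⟨k, hk⟩ := hQp ⟨(x : G), hxQ⟩
  have hxk : (x : G) ^ (p ^ k) = 1 := by
    have := congrArg Subtype.val hk
    simpa using this
  have := eq_one_of_pow_eq_one_of_coprime (Nat.Coprime.pow_right k hm) hxm' hxk
  exact Subtype.ext this

/-- If `O^p(H)` is normal in a finite group of characteristic `p`, then `H` has characteristic `p`. -/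
theorem charP_of_residual_normal {G : Type*} [Group G] [Finite G] {p : ℕ} [hp : Fact p.Prime]
    (hchar : Subgroup.centralizer (Cfsg.pCore p G : Set G) ≤ Cfsg.pCore p G) (H : Subgroup G)
    (hK : ((Cfsg.pResidual p ↥H).map H.subtype).Normal) :
    Subgroup.centralizer (Cfsg.pCore p ↥H : Set ↥H) ≤ Cfsg.pCore p ↥H := by
  set K : Subgroup G := (Cfsg.pResidual p ↥H).map H.subtype with hKdef
  have hKH : K ≤ H := Subgroup.map_subtype_le _
  have hKchar := charP_of_normal hchar K
  have hn : (Subgroup.centralizer (Cfsg.pCore p ↥H : Set ↥H)).Normal := Subgroup.normal_centralizer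
  refine le_pCore p _ hn (isPGroup_of_forall_coprime_eq_one _ ?_)
  intro x hx m hm hxm
  have hxR : x ∈ Cfsg.pResidual p ↥H := by
    unfold Cfsg.pResidual
    apply Subgroup.subset_closure
    exact Nat.Coprime.coprime_dvd_left (orderOf_dvd_of_pow_eq_one hxm) hm
  have hxK : (x : G) ∈ K := Subgroup.mem_map_of_mem _ hxR
  have hchr : (Cfsg.pCore p ↥K).Characteristic := pCore_characteristic p _
  set P' : Subgroup G := (Cfsg.pCore p ↥K).map K.subtype with hP'
  have hP'n : P'.Normal := ConjAct.normal_of_characteristic_of_normal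
  have hP'p : IsPGroup p P' := (pCore_isPGroup p).map _
  have hP'H : P'.subgroupOf H ≤ Cfsg.pCore p ↥H := by
    apply le_pCore
    · unfold Subgroup.subgroupOf
      exact Subgroup.Normal.comap hP'n _
    · exact hP'p.comap_subtype
  have hx' : (⟨(x : G), hxK⟩ : ↥K) ∈ Subgroup.centralizer (Cfsg.pCore p ↥K : Set ↥K) := by
    rw [Subgroup.mem_centralizer_iff]
    intro q hq
    have hqP' : ((q : G)) ∈ P' := Subgroup.mem_map_of_mem _ hq
    have hqH : (⟨(q : G), hKH q.2⟩ : ↥H) ∈ Cfsg.pCore p ↥H := by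
      apply hP'H
      rw [Subgroup.mem_subgroupOf]
      exact hqP'
    have := (Subgroup.mem_centralizer_iff.mp hx) _ hqH
    have := congrArg Subtype.val this
    apply Subtype.ext
    simpa using this
  have hx'core := hKchar hx'
  obtain ⟨k, hk⟩ := (pCore_isPGroup (L := ↥K) p) ⟨_, hx'core⟩
  have hxk : (x : G) ^ (p ^ k) = 1 := by
    have := congrArg Subtype.val (congrArg Subtype.val hk)
    simpa using this
  have hxm' : (x : G) ^ m = 1 := by
    have := congrArg Subtype.val hxm
    simpa using this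
  have := eq_one_of_pow_eq_one_of_coprime (Nat.Coprime.pow_right k hm) hxm' hxk
  exact Subtype.ext this

end Cfsg.Agent.Lib.Helper46
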