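import Cfsg.Agent.Lib.Helper46.QdOver

set_option autoImplicit false

namespace Cfsg.Agent.Lib.Helper46.QdSylow

open Cfsg.Agent.Lib.Helper46.SL2 Cfsg.Agent.Lib.Helper46.NatSL2 Cfsg.Agent.Lib.Helper46.QdOver

variable {F : Type*} [Field F]

abbrev QG (F : Type*) [Field F] := ↥(Cfsg.qdOver F)

abbrev VV (F : Type*) [Field F] : Subgroup (QG F) := (blk : QG F →* SL F).ker

theorem conj_mem_of_char {G : Type*} [Group G] (K : Subgroup G) (C : Subgroup ↥K)
    (hC : C.Characteristic) (g : G) (hg : g ∈ Subgroup.normalizer (K : Set G)) (h : G)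
    (hh : h ∈ C.map K.subtype) : g * h * g⁻¹ ∈ C.map K.subtype := by
  obtain ⟨x, hx, rfl⟩ := hh
  have h1 : C.map (Subgroup.normalizerMonoidHom K ⟨g, hg⟩).toMonoidHom = C :=
    Subgroup.characteristic_iff_map_eq.mp hC _
  have h2 : (Subgroup.normalizerMonoidHom K ⟨g, hg⟩) x ∈ C := by
    rw [← h1]
    exact Subgroup.mem_map_of_mem _ hx
  exact ⟨_, h2, rfl⟩

theorem normalizer_le_of_char {G : Type*} [Group G] (K : Subgroup G) (C : Subgroup ↥K)
    (hC : C.Characteristic) :
    Subgroup.normalizer (K : Set G) ≤ Subgroup.normalizer ((C.map K.subtype : Subgroup G) : Set G) := by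
  intro g hg
  rw [Subgroup.mem_normalizer_iff]
  intro h
  constructor
  · exact conj_mem_of_char K C hC g hg h
  · intro hh
    have := conj_mem_of_char K C hC g⁻¹ (inv_mem hg) _ hh
    simpa [mul_assoc] using this

theorem col_mul (M N : QG F) : col (M * N) = col M + mv (blk M) (col N) := by
  obtain ⟨h0, h1, h2⟩ := ent_lr N
  apply vec2_ext
  · rw [Pi.add_apply, mv_apply_zero]
    simp [col, ent_mul, blk_apply, blkFun, h2]
    ring
  · rw [Pi.add_apply, mv_apply_one]
    simp [col, ent_mul, blk_apply, blkFun, h2]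
    ring

theorem col_eq_zero_of_ker {v : QG F} (hv : v ∈ VV F) (h : col v = 0) : v = 1 :=
  eq_of_ker_col hv (Subgroup.one_mem _) (by rw [h, col_one])

theorem eq_of_blk_col {M N : QG F} (hb : blk M = blk N) (hc : col M = col N) : M = N := by
  have hk : N⁻¹ * M ∈ VV F := by
    rw [MonoidHom.mem_ker, map_mul, map_inv, hb, inv_mul_cancel]
  have h1 : col (N * (N⁻¹ * M)) = col N + mv (blk N) (col (N⁻¹ * M)) := col_mul _ _
  rw [mul_inv_cancel_left, hc] at h1
  have h2 : mv (blk N) (col (N⁻¹ * M)) = 0 := by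
    have h3 : col N + mv (blk N) (col (N⁻¹ * M)) = col N + 0 := by rw [add_zero]; exact h1.symm
    exact add_left_cancel h3
  have h3 : col (N⁻¹ * M) = 0 := by
    have := congrArg (mv (blk N)⁻¹) h2
    rwa [mv_inv_mv, mv_zero] at this
  have h4 := col_eq_zero_of_ker hk h3
  have h5 : M = N * (N⁻¹ * M) := by group
  rw [h5, h4, mul_one]

theorem col_inv_of_ker {v : QG F} (hv : v ∈ VV F) : col v⁻¹ = -col v := by
  have h := col_mul_of_ker v v⁻¹ hv
  rw [mul_inv_cancel, col_one] at h
  exact eq_neg_of_add_eq_zero_left h.symm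

theorem col_conj' (g v : QG F) (hv : v ∈ VV F) : col (g * v * g⁻¹) = mv (blk g) (col v) := by
  have hw : g * v * g⁻¹ ∈ VV F := (MonoidHom.normal_ker _).conj_mem v hv g
  have h1 : col (g * v * g⁻¹ * g) = col g + col (g * v * g⁻¹) := col_mul_of_ker _ _ hw
  rw [inv_mul_cancel_right, col_mul] at h1
  exact (add_left_cancel h1).symm

theorem blk_tr (x : Fin 2 → F) : blk (tr x) = 1 := tr_mem_ker x

theorem col_emb (A : SL F) : col (emb A) = 0 := by
  obtain ⟨h0, h1⟩ := ent_emb_02 A
  apply vec2_ext <;> simp [col, h0, h1]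

theorem tr_eq_of_col {v : QG F} (hv : v ∈ VV F) (x : Fin 2 → F) (h : col v = x) : v = tr x :=
  eq_of_ker_col hv (tr_mem_ker x) (by rw [h, col_tr])

/-- The preimage of a vector stabilizer: the candidate Sylow subgroups. -/
def Se (e : Fin 2 → F) : Subgroup (QG F) := (stabVec e).comap blk

theorem mem_Se {e : Fin 2 → F} {M : QG F} : M ∈ Se e ↔ mv (blk M) e = e := Iff.rfl

theorem VV_le_Se (e : Fin 2 → F) : VV F ≤ Se e := by
  intro M hM
  rw [mem_Se, MonoidHom.mem_ker.mp hM, mv_one]

theorem blk_surjective : Function.Surjective (blk : QG F →* SL F) := fun A => ⟨emb A, blk_emb A⟩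

theorem sylow_eq_Se [Fintype F] {p n : ℕ} [Fact p.Prime] [CharP F p] (hF : Fintype.card F = p ^ n)
    (S : Sylow p (QG F)) : ∃ e : Fin 2 → F, e ≠ 0 ∧ (S : Subgroup (QG F)) = Se e := by
  obtain ⟨e, he, hSe⟩ := sylow_eq_stabVec hF (S.mapSurjective blk_surjective)
  rw [Sylow.coe_mapSurjective] at hSe
  refine ⟨e, he, ?_⟩
  have hV : VV F ≤ (S : Subgroup (QG F)) := by
    have h1 := Cfsg.Agent.Lib.Helper46.pCore_le_sylow S
    rw [core_eq hF] at h1
    exact h1
  unfold Se
  rw [← hSe, Subgroup.comap_map_eq, sup_eq_left.mpr hV]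

theorem conj_Se (g : QG F) (e : Fin 2 → F) :
    (Se e).map (MulAut.conj g).toMonoidHom = Se (mv (blk g) e) := by
  ext M
  constructor
  · rintro ⟨N, hN, rfl⟩
    show g * N * g⁻¹ ∈ Se (mv (blk g) e)
    have hN' : blk N ∈ stabVec e := hN
    show blk (g * N * g⁻¹) ∈ stabVec (mv (blk g) e)
    rw [map_mul, map_mul, map_inv]
    exact conj_mem_stabVec.mpr hN'
  · intro hM
    have hM' : blk M ∈ stabVec (mv (blk g) e) := hM
    refine ⟨g⁻¹ * M * g, ?_, ?_⟩
    · show blk (g⁻¹ * M * g) ∈ stabVec e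
      apply conj_mem_stabVec.mp
      have : blk g * blk (g⁻¹ * M * g) * (blk g)⁻¹ = blk M := by
        rw [map_mul, map_mul, map_inv]
        group
      rw [this]
      exact hM'
    · show g * (g⁻¹ * M * g) * g⁻¹ = M
      group

theorem mem_normalizer_Se_iff {e : Fin 2 → F} (he : e ≠ 0) (g : QG F) :
    g ∈ Subgroup.normalizer ((Se e : Subgroup (QG F)) : Set (QG F)) ↔ dd e (mv (blk g) e) = 0 := by
  rw [Subgroup.mem_normalizer_iff_map_conj_eq]
  have h0 : (Se e).map (MulAut.conj g).toMonoidHom = Se (mv (blk g) e) := conj_Se g e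
  constructor
  · intro h
    have h1 : Se (mv (blk g) e) = Se e := by rw [← h0]; exact h
    have h2 : emb (transv e 1) ∈ Se e := by
      rw [mem_Se, blk_emb]
      exact transv_mem_stabVec e 1
    rw [← h1, mem_Se, blk_emb, mv_transv, one_mul] at h2
    have h3 : (dd e (mv (blk g) e)) • e = 0 := by simpa using h2
    rcases smul_eq_zero.mp h3 with h4 | h4
    · exact h4
    · exact absurd h4 he
  · intro h
    obtain ⟨c, hc⟩ := exists_smul_of_dd_eq_zero he h
    have hc0 : c ≠ 0 := by
      rintro rfl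
      rw [zero_smul] at hc
      exact mv_ne_zero (blk g) he hc
    show (Se e).map (MulAut.conj g).toMonoidHom = Se e
    rw [h0, hc]
    unfold Se
    rw [stabVec_smul hc0]

/-! ### Heisenberg coordinates on `Se e` -/

theorem transv_mul (e : Fin 2 → F) (s t : F) : transv e s * transv e t = transv e (s + t) := by
  apply ext_mv
  intro w
  rw [mv_mul, mv_transv, mv_transv, mv_transv, dd_add, dd_smul, dd_self, mul_zero, add_zero,
    add_mul, add_smul]
  abel

theorem transv_zero (e : Fin 2 → F) : transv e 0 = 1 := by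
  apply ext_mv
  intro w
  rw [mv_transv, mv_one, zero_mul, zero_smul, add_zero]

theorem ne_zero_of_dd {e f : Fin 2 → F} (hef : dd e f = 1) : e ≠ 0 := by
  rintro rfl
  unfold dd at hef
  simp at hef

/-- `M` has Heisenberg coordinates `(t, x, y)` with respect to the frame `e, f`. -/
def Co (e f : Fin 2 → F) (M : QG F) (t x y : F) : Prop :=
  blk M = transv e t ∧ col M = x • e + y • f

theorem Co_unique {e f : Fin 2 → F} {M N : QG F} {t x y : F} (h1 : Co e f M t x y)
    (h2 : Co e f N t x y) : M = N :=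
  eq_of_blk_col (by rw [h1.1, h2.1]) (by rw [h1.2, h2.2])

theorem Co_mem_Se {e f : Fin 2 → F} {M : QG F} {t x y : F} (h : Co e f M t x y) : M ∈ Se e := by
  rw [mem_Se, h.1]
  exact transv_mem_stabVec e t

theorem Co_mul {e f : Fin 2 → F} (hef : dd e f = 1) {M N : QG F} {t x y t' x' y' : F}
    (h1 : Co e f M t x y) (h2 : Co e f N t' x' y') :
    Co e f (M * N) (t + t') (x + x' + t * y') (y + y') := by
  constructor
  · rw [map_mul, h1.1, h2.1, transv_mul]
  · rw [col_mul, h1.1, h1.2, h2.2, mv_transv, dd_add, dd_smul, dd_smul, dd_self, hef, mul_zero,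
      zero_add, mul_one]
    simp only [add_smul]
    abel

/-- The element with coordinates `(t, x, y)`. -/
def mk (e f : Fin 2 → F) (t x y : F) : QG F := tr (x • e + y • f) * emb (transv e t)

theorem Co_mk (e f : Fin 2 → F) (t x y : F) : Co e f (mk e f t x y) t x y := by
  constructor
  · unfold mk
    rw [map_mul, blk_tr, blk_emb, one_mul]
  · unfold mk
    rw [col_mul_of_ker _ _ (tr_mem_ker _), col_emb, col_tr, zero_add]

/-- Coordinate functions. -/
def tt (f : Fin 2 → F) (M : QG F) : F := dd (mv (blk M) f) f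
def xx (f : Fin 2 → F) (M : QG F) : F := dd (col M) f
def yy (e : Fin 2 → F) (M : QG F) : F := dd e (col M)

theorem coords_of_Co {e f : Fin 2 → F} (hef : dd e f = 1) {M : QG F} {t x y : F}
    (h : Co e f M t x y) : tt f M = t ∧ xx f M = x ∧ yy e M = y := by
  refine ⟨?_, ?_, ?_⟩
  · unfold tt
    rw [h.1, mv_transv, hef, mul_one, dd_swap, dd_add, dd_self, dd_smul, dd_swap, hef]
    ring
  · unfold xx
    rw [h.2, dd_swap, dd_add, dd_smul, dd_smul, dd_self, dd_swap, hef]
    ring
  · unfold yy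
    rw [h.2, dd_add, dd_smul, dd_smul, dd_self, hef]
    ring

theorem eq_of_stab_agree {e f : Fin 2 → F} (hef : dd e f ≠ 0) {A B : SL F} (hA : A ∈ stabVec e)
    (hB : B ∈ stabVec e) (h : mv A f = mv B f) : A = B := by
  have h1 : B⁻¹ * A ∈ stabVec e := (stabVec e).mul_mem ((stabVec e).inv_mem hB) hA
  have h2 : mv (B⁻¹ * A) f = f := by rw [mv_mul, h, mv_inv_mv]
  have h3 := eq_one_of_fix (mem_stabVec.mp h1) h2 hef
  have h4 : A = B * (B⁻¹ * A) := by group
  rw [h4, h3, mul_one]

theorem Co_coords {e f : Fin 2 → F} (hef : dd e f = 1) {M : QG F} (hM : M ∈ Se e) :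
    Co e f M (tt f M) (xx f M) (yy e M) := by
  have he := ne_zero_of_dd hef
  have hM' : blk M ∈ stabVec e := hM
  obtain ⟨c, hc⟩ := sub_mem_span_of_mem_stabVec he hM' f
  have hf : mv (blk M) f = f + c • e := by rw [← hc]; abel
  have hblk : blk M = transv e c := by
    apply eq_of_stab_agree (e := e) (f := f) (by rw [hef]; exact one_ne_zero) hM'
      (transv_mem_stabVec e c)
    rw [hf, mv_transv, hef, mul_one]
  have hcol : col M = (dd (col M) f) • e + (dd e (col M)) • f := by
    have := dd_decomp e f (col M)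
    rw [hef, one_smul] at this
    exact this
  have h : Co e f M c (dd (col M) f) (dd e (col M)) := ⟨hblk, hcol⟩
  obtain ⟨h1, h2, h3⟩ := coords_of_Co hef h
  rw [h1, h2, h3]
  exact h

/-- The graph automorphism of the Heisenberg group in coordinates. -/
def sig (e f : Fin 2 → F) (M : QG F) : QG F :=
  mk e f (-(yy e M)) (tt f M * yy e M - xx f M) (-(tt f M))

theorem Co_sig {e f : Fin 2 → F} (hef : dd e f = 1) {M : QG F} {t x y : F} (h : Co e f M t x y) :
    Co e f (sig e f M) (-y) (t * y - x) (-t) := by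
  obtain ⟨h1, h2, h3⟩ := coords_of_Co hef h
  unfold sig
  rw [h1, h2, h3]
  exact Co_mk e f _ _ _

theorem sig_mem (e f : Fin 2 → F) (M : QG F) : sig e f M ∈ Se e := Co_mem_Se (Co_mk e f _ _ _)

theorem sig_mul {e f : Fin 2 → F} (hef : dd e f = 1) {M N : QG F} (hM : M ∈ Se e) (hN : N ∈ Se e) :
    sig e f (M * N) = sig e f M * sig e f N := by
  have h1 := Co_coords hef hM
  have h2 := Co_coords hef hN
  have h3 := Co_sig hef (Co_mul hef h1 h2)
  have h4 := Co_mul hef (Co_sig hef h1) (Co_sig hef h2)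
  refine Co_unique h3 ?_
  convert h4 using 1 <;> ring

theorem sig_sig {e f : Fin 2 → F} (hef : dd e f = 1) {M : QG F} (hM : M ∈ Se e) :
    sig e f (sig e f M) = M := by
  have h1 := Co_coords hef hM
  have h2 := Co_sig hef (Co_sig hef h1)
  refine Co_unique h2 ?_
  convert h1 using 1 <;> ring

/-- The automorphism of `Se e`. -/
noncomputable def sigEquiv {e f : Fin 2 → F} (hef : dd e f = 1) : ↥(Se e) ≃* ↥(Se e) where
  toFun M := ⟨sig e f M, sig_mem e f M⟩
  invFun M := ⟨sig e f M, sig_mem e f M⟩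
  left_inv M := Subtype.ext (sig_sig hef M.2)
  right_inv M := Subtype.ext (sig_sig hef M.2)
  map_mul' M N := Subtype.ext (sig_mul hef M.2 N.2)

theorem sig_tr_not_mem {e f : Fin 2 → F} (hef : dd e f = 1) : sig e f (tr f) ∉ VV F := by
  have he := ne_zero_of_dd hef
  have h1 : Co e f (tr f) 0 0 1 := by
    constructor
    · rw [blk_tr, transv_zero]
    · rw [col_tr, zero_smul, one_smul, zero_add]
  have h2 := Co_sig hef h1
  intro h
  have h3 : blk (sig e f (tr f)) = 1 := h
  rw [h2.1] at h3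
  have h4 := congrArg (fun A => mv A f) h3
  simp only [mv_transv, mv_one, hef, mul_one] at h4
  have h5 : (-1 : F) • e = 0 := by simpa using h4
  rcases smul_eq_zero.mp h5 with h6 | h6
  · exact absurd h6 (neg_ne_zero.mpr one_ne_zero)
  · exact he h6

end Cfsg.Agent.Lib.Helper46.QdSylow
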