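import Mathlib
import Cfsg.Agent.Lib.Helper46.OmDefs
import Cfsg.Agent.Lib.Helper9.TsOMEGAODD

/-! # Om hive (S5991): OM-BR (bridges for `minusB`), OM-SCAL, OM-ODDMEM (helper46) -/

set_option autoImplicit false
set_option linter.unusedVariables false
set_option linter.unusedSectionVars false

namespace Cfsg.Agent.Lib.Helper46.Om

open Module Matrix
open Cfsg.Agent.Lib.Helper2.BG Cfsg.Agent.Lib.Helper99 Cfsg.Agent.Lib.Helper48.Ti
open Cfsg.Agent.Lib.Helper81.On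

variable {F : Type*} [Field F]

theorem br_isGram (h2 : (2 : F) ≠ 0) (k : ℕ) (a b : F) :
    Cfsg.Agent.Lib.Helper37.IsGram (Cfsg.quadFormMinus k F a b)
      (Cfsg.Agent.Lib.Helper37.gramM k F a b) :=
  Cfsg.Agent.Lib.Helper37.minus_isGram h2 k a b

/-- OM-BR (1) -/
theorem minusB_polar (h2 : (2 : F) ≠ 0) (k : ℕ) (a b : F) (u v : VM k F) :
    minusB k a b u v = QuadraticMap.polar (Cfsg.quadFormMinus k F a b) u v := by
  unfold QuadraticMap.polar minusB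
  rw [(br_isGram h2 k a b).Q_add u v]
  ring

/-- OM-BR (2) -/
theorem minusB_symm (h2 : (2 : F) ≠ 0) (k : ℕ) (a b : F) (u v : VM k F) :
    minusB k a b u v = minusB k a b v u :=
  (br_isGram h2 k a b).symmB u v

/-- OM-BR (3) -/
theorem minusB_self (k : ℕ) (a b : F) (u : VM k F) :
    minusB k a b u u = 2 * Cfsg.quadFormMinus k F a b u :=
  Cfsg.Agent.Lib.Helper37.gramM_self k F a b u

/-- OM-BR (4) -/
theorem minusB_nd (h2 : (2 : F) ≠ 0) (k : ℕ) (a b : F)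
    (hab : ∀ x y : F, x ^ 2 + a * x * y + b * y ^ 2 = 0 → x = 0 ∧ y = 0) :
    Nd (minusB k a b) ⊤ := by
  intro u _ hu
  by_contra hne
  obtain ⟨y, hy⟩ := (br_isGram h2 k a b).exists_bilin_ne_zero
    (Cfsg.Agent.Lib.Helper37.gramM_det_ne_zero h2 k a b hab) u hne
  exact hy (hu y Submodule.mem_top)

/-- OM-BR (5) -/
theorem nd_iff (h2 : (2 : F) ≠ 0) (k : ℕ) (a b : F) (W : Submodule F (VM k F)) :
    Cfsg.Geo.IsNondegenerateOn (QuadraticMap.polar (Cfsg.quadFormMinus k F a b)) W ↔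
      Nd (minusB k a b) W := by
  constructor
  · intro h u hu hzero
    by_contra hne
    obtain ⟨-, ⟨x, hx, hxn⟩⟩ := h u hu hne
    apply hxn
    rw [← minusB_polar h2]
    exact hzero x hx
  · intro h w hw hne
    have : ∃ x ∈ W, minusB k a b w x ≠ 0 := by
      by_contra hno
      push Not at hno
      exact hne (h w hw hno)
    obtain ⟨x, hx, hxn⟩ := this
    refine ⟨⟨x, hx, ?_⟩, ⟨x, hx, ?_⟩⟩
    · rw [← minusB_polar h2, minusB_symm h2]; exact hxn
    · rw [← minusB_polar h2]; exact hxn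

/-- OM-BR (6) -/
theorem iso_iff (h2 : (2 : F) ≠ 0) (k : ℕ) (a b : F) (W W₀ : Submodule F (VM k F)) :
    Cfsg.Geo.AreIsometricFor (Cfsg.quadFormMinus k F a b) W W₀ ↔
      SameType (minusB k a b) W W₀ := by
  constructor
  · rintro ⟨e, he⟩
    refine ⟨e, fun u v => ?_⟩
    rw [minusB_polar h2, minusB_polar h2]
    unfold QuadraticMap.polar
    have h1 := he (u + v)
    rw [map_add] at h1
    rw [← Submodule.coe_add, h1, he u, he v, Submodule.coe_add]
  · rintro ⟨e, he⟩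
    refine ⟨e, fun w => ?_⟩
    have h1 := he w w
    rw [minusB_self, minusB_self] at h1
    exact mul_left_cancel₀ h2 h1

/-- OM-BR (7) -/
theorem isom_of_mem (h2 : (2 : F) ≠ 0) (k : ℕ) (a b : F) (x : GL ((Fin k ⊕ Fin k) ⊕ Fin 2) F)
    (hx : x ∈ Cfsg.isometryGroup F (Cfsg.quadFormMinus k F a b)) :
    Isom (minusB k a b) (Matrix.toLin'
      (x : Matrix ((Fin k ⊕ Fin k) ⊕ Fin 2) ((Fin k ⊕ Fin k) ⊕ Fin 2) F)) := by
  have hQ : ∀ u : VM k F, Cfsg.quadFormMinus k F a b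
      ((x : Matrix ((Fin k ⊕ Fin k) ⊕ Fin 2) ((Fin k ⊕ Fin k) ⊕ Fin 2) F) *ᵥ u) =
      Cfsg.quadFormMinus k F a b u := fun u => hx u 0
  intro u v
  rw [minusB_polar h2, minusB_polar h2, Matrix.toLin'_apply, Matrix.toLin'_apply]
  unfold QuadraticMap.polar
  rw [← Matrix.mulVec_add, hQ, hQ, hQ]

/-- OM-BR (8) -/
theorem finrank_VM (k : ℕ) : finrank F (VM k F) = 2 * k + 2 := by
  rw [Module.finrank_fintype_fun_eq_card, Fintype.card_sum, Fintype.card_sum, Fintype.card_fin,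
    Fintype.card_fin]
  ring

/-- OM-BR (9) -/
theorem mem_isom_of_mem_omega (k : ℕ) (a b : F) (x : GL ((Fin k ⊕ Fin k) ⊕ Fin 2) F)
    (hx : x ∈ Cfsg.Geo.omegaGL (Cfsg.quadFormMinus k F a b)) :
    x ∈ Cfsg.isometryGroup F (Cfsg.quadFormMinus k F a b) := by
  obtain ⟨g, -, rfl⟩ := hx
  exact g.2

/-- OM-SCAL: a scalar isometry is `±1` (evaluate at the vector `z₁ = 1`, where `Q = 1`) -/
theorem scalar_pm_one (k : ℕ) (a b : F) (y : GL ((Fin k ⊕ Fin k) ⊕ Fin 2) F)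
    (hy : y ∈ Cfsg.isometryGroup F (Cfsg.quadFormMinus k F a b)) (z : F)
    (hz : (y : Matrix ((Fin k ⊕ Fin k) ⊕ Fin 2) ((Fin k ⊕ Fin k) ⊕ Fin 2) F) =
      z • (1 : Matrix ((Fin k ⊕ Fin k) ⊕ Fin 2) ((Fin k ⊕ Fin k) ⊕ Fin 2) F)) :
    z = 1 ∨ z = -1 := by
  classical
  set v : VM k F := Pi.single (Sum.inr 0) 1 with hv
  have hQv : Cfsg.quadFormMinus k F a b v = 1 := by
    unfold Cfsg.quadFormMinus
    simp [hv]
  have h1 : Cfsg.quadFormMinus k F a b
      ((y : Matrix ((Fin k ⊕ Fin k) ⊕ Fin 2) ((Fin k ⊕ Fin k) ⊕ Fin 2) F) *ᵥ v) =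
      Cfsg.quadFormMinus k F a b v := hy v 0
  rw [hz, Matrix.smul_mulVec, Matrix.one_mulVec] at h1
  have h3 : Cfsg.quadFormMinus k F a b (z • v) = z * z * Cfsg.quadFormMinus k F a b v := by
    unfold Cfsg.quadFormMinus
    rw [mul_add, Finset.mul_sum]
    congr 1
    · apply Finset.sum_congr rfl
      intro i _
      simp only [Pi.smul_apply, smul_eq_mul]
      ring
    · simp only [Pi.smul_apply, smul_eq_mul]
      ring
  rw [h3, hQv, mul_one] at h1
  have : (z - 1) * (z + 1) = 0 := by linear_combination h1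
  rcases mul_eq_zero.1 this with h | h
  · left; exact sub_eq_zero.1 h
  · right; exact eq_neg_of_add_eq_zero_left h

/-- OM-ODDMEM: an isometry of odd order of `quadFormMinus` (char ≠ 2, anisotropic binary part) lies in `Ω` -/
theorem mem_omegaGL_of_odd_order [Fintype F] (h2 : (2 : F) ≠ 0) (k : ℕ) (a b : F)
    (hab : ∀ x y : F, x ^ 2 + a * x * y + b * y ^ 2 = 0 → x = 0 ∧ y = 0)
    (x : GL ((Fin k ⊕ Fin k) ⊕ Fin 2) F)
    (hx : x ∈ Cfsg.isometryGroup F (Cfsg.quadFormMinus k F a b))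
    (hodd : Odd (orderOf x)) : x ∈ Cfsg.Geo.omegaGL (Cfsg.quadFormMinus k F a b) := by
  classical
  have hmem : (⟨x, hx⟩ : ↥(Cfsg.isometryGroup F (Cfsg.quadFormMinus k F a b))) ∈
      Cfsg.Omega F (Cfsg.quadFormMinus k F a b) := by
    refine Cfsg.Agent.Lib.Helper79.TsSwap.omegaodd_mem_omega
      (br_isGram h2 k a b) (Cfsg.Agent.Lib.Helper37.gramM_det_ne_zero h2 k a b hab)
      ⟨x, hx⟩ (orderOf x) hodd ?_
    apply Subtype.ext
    rw [Subgroup.coe_pow, Subgroup.coe_one]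
    exact pow_orderOf_eq_one x
  exact ⟨⟨x, hx⟩, hmem, rfl⟩

end Cfsg.Agent.Lib.Helper46.Om
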