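import Cfsg.Agent.Lib.Helper48.StronglyEmbedded
import Cfsg.Agent.Lib.Helper33.Conj

set_option autoImplicit false

namespace Cfsg.Agent.Lib.Helper46

open Cfsg.Agent.Lib.Helper48 Cfsg.Agent.Lib.Helper33

variable {G : Type*} [Group G] [Finite G] {p : ℕ} [Fact p.Prime]

/-- Normalizer criterion for strong `p`-embedding. -/
theorem se_of_normalizers (M : Subgroup G) (hM : M ≠ ⊤) (hpM : p ∣ Nat.card M)
    (h : ∀ A : Subgroup G, A ≤ M → IsPGroup p A → A ≠ ⊥ → Subgroup.normalizer (A : Set G) ≤ M) :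
    Cfsg.IsStronglyPEmbedded p M := by
  obtain ⟨S⟩ : Nonempty (Sylow p M) := inferInstance
  have hSne : (S : Subgroup M) ≠ ⊥ := S.ne_bot_of_dvd_card hpM
  have hS'M : (S : Subgroup M).map M.subtype ≤ M := by
    rintro _ ⟨x, _, rfl⟩; exact x.2
  have hS'ne : (S : Subgroup M).map M.subtype ≠ ⊥ := by
    intro h0
    apply hSne
    rw [Subgroup.map_eq_bot_iff_of_injective _ M.subtype_injective] at h0
    exact h0
  have hS'p : IsPGroup p ((S : Subgroup M).map M.subtype) := S.2.map _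
  obtain ⟨P, hP⟩ := exists_sylow_eq_map_of_normalizer_le S (h _ hS'M hS'p hS'ne)
  refine ⟨hpM.trans (Subgroup.card_subgroup_dvd_card M), hM, P, ?_⟩
  apply kGeneratedCore_one_le
  intro Q hQP hQ
  exact h Q (hQP.trans (hP ▸ hS'M)) (P.2.to_le hQP) hQ

theorem se_normalizer_le {M : Subgroup G} (hM : Cfsg.IsStronglyPEmbedded p M) {A : Subgroup G}
    (hAM : A ≤ M) (hA : IsPGroup p A) (hne : A ≠ ⊥) : Subgroup.normalizer (A : Set G) ≤ M := by
  obtain ⟨P, hd, _⟩ := SEData.of_stronglyPEmbedded hM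
  exact hd.normalizer_le hAM hA hne

theorem se_iff_normalizers (M : Subgroup G) (hM : M ≠ ⊤) (hpM : p ∣ Nat.card M) :
    Cfsg.IsStronglyPEmbedded p M ↔
      ∀ A : Subgroup G, A ≤ M → IsPGroup p A → A ≠ ⊥ → Subgroup.normalizer (A : Set G) ≤ M :=
  ⟨fun h _ hAM hA hne => se_normalizer_le h hAM hA hne, se_of_normalizers M hM hpM⟩

/-- A nontrivial `p`-group has order divisible by `p`. -/
theorem dvd_card_of_isPGroup_ne_bot {A : Subgroup G} (hA : IsPGroup p A) (hne : A ≠ ⊥) :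
    p ∣ Nat.card A := by
  rcases hA.card_eq_or_dvd with h | h
  · exact absurd (Subgroup.card_eq_one.mp h) hne
  · exact h

/-- Strongly `p`-embedded subgroups meet their other conjugates in `p'`-groups. -/
theorem se_mem_of_dvd_card_inf {M : Subgroup G} (hM : Cfsg.IsStronglyPEmbedded p M) {g : G}
    (hg : p ∣ Nat.card ↥(M ⊓ cj g M)) : g ∈ M := by
  obtain ⟨P, hd, _⟩ := SEData.of_stronglyPEmbedded hM
  obtain ⟨y, hy⟩ := exists_prime_orderOf_dvd_card' (G := ↥(M ⊓ cj g M)) p hg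
  have hyM : (y : G) ∈ M := (Subgroup.mem_inf.mp y.2).1
  have hyc : g⁻¹ * (y : G) * g ∈ M := mem_cj.mp (Subgroup.mem_inf.mp y.2).2
  have hyo : orderOf (y : G) = p := by rw [Subgroup.orderOf_coe]; exact hy
  have ho : orderOf (g⁻¹ * (y : G) * g) = p := by
    have := orderOf_conj' g⁻¹ (y : G)
    rw [inv_inv] at this
    rw [this, hyo]
  apply hd.mem_of_conj_mem ho hyc
  have : g * (g⁻¹ * (y : G) * g) * g⁻¹ = y := by group
  rw [this]
  exact hyM

theorem se_of_inf_conj (M : Subgroup G) (hM : M ≠ ⊤) (hpM : p ∣ Nat.card M)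
    (h : ∀ g : G, g ∉ M → ¬ p ∣ Nat.card ↥(M ⊓ cj g M)) : Cfsg.IsStronglyPEmbedded p M := by
  apply se_of_normalizers M hM hpM
  intro A hAM hA hne g hg
  by_contra hgM
  apply h g hgM
  have hle : A ≤ M ⊓ cj g M := by
    intro a ha
    refine Subgroup.mem_inf.mpr ⟨hAM ha, ?_⟩
    rw [mem_cj]
    apply hAM
    have hg' : g⁻¹ ∈ Subgroup.normalizer (A : Set G) := inv_mem hg
    have := (Subgroup.mem_normalizer_iff.mp hg' a).mp ha
    simpa using this
  exact (dvd_card_of_isPGroup_ne_bot hA hne).trans (Subgroup.card_dvd_of_le hle)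

end Cfsg.Agent.Lib.Helper46
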