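import Mathlib.LinearAlgebra.Matrix.SpecialLinearGroup
import Mathlib.GroupTheory.Sylow
import Mathlib.GroupTheory.PGroup
import Mathlib.FieldTheory.Finite.Basic

set_option autoImplicit false

namespace Cfsg.Agent.Lib.Helper46.SL2

variable {F : Type*} [Field F]

abbrev SL (F : Type*) [Field F] := Matrix.SpecialLinearGroup (Fin 2) F

/-- The action of a matrix of `SL₂(F)` on a column vector. -/
def mv (M : SL F) (w : Fin 2 → F) : Fin 2 → F := (M : Matrix (Fin 2) (Fin 2) F).mulVec w

omit [Field F] in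
theorem vec2_ext {v w : Fin 2 → F} (h0 : v 0 = w 0) (h1 : v 1 = w 1) : v = w := by
  funext i
  fin_cases i
  · exact h0
  · exact h1

theorem mv_apply_zero (M : SL F) (w : Fin 2 → F) :
    mv M w 0 = (M : Matrix (Fin 2) (Fin 2) F) 0 0 * w 0 + (M : Matrix (Fin 2) (Fin 2) F) 0 1 * w 1 := by
  simp [mv, Matrix.mulVec, dotProduct, Fin.sum_univ_two]

theorem mv_apply_one (M : SL F) (w : Fin 2 → F) :
    mv M w 1 = (M : Matrix (Fin 2) (Fin 2) F) 1 0 * w 0 + (M : Matrix (Fin 2) (Fin 2) F) 1 1 * w 1 := by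
  simp [mv, Matrix.mulVec, dotProduct, Fin.sum_univ_two]

theorem mv_one (w : Fin 2 → F) : mv (1 : SL F) w = w := by
  simp [mv]

theorem mv_mul (M N : SL F) (w : Fin 2 → F) : mv (M * N) w = mv M (mv N w) := by
  simp [mv, Matrix.mulVec_mulVec]

theorem mv_add (M : SL F) (v w : Fin 2 → F) : mv M (v + w) = mv M v + mv M w := by
  simp [mv, Matrix.mulVec_add]

theorem mv_sub (M : SL F) (v w : Fin 2 → F) : mv M (v - w) = mv M v - mv M w := by
  simp [mv, Matrix.mulVec_sub]

theorem mv_neg (M : SL F) (v : Fin 2 → F) : mv M (-v) = -mv M v := by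
  simp [mv, Matrix.mulVec_neg]

theorem mv_zero (M : SL F) : mv M 0 = 0 := by
  simp [mv]

theorem mv_smul (M : SL F) (c : F) (w : Fin 2 → F) : mv M (c • w) = c • mv M w := by
  simp [mv, Matrix.mulVec_smul]

theorem mv_nsmul (M : SL F) (k : ℕ) (w : Fin 2 → F) : mv M (k • w) = k • mv M w := by
  induction k with
  | zero => simp [mv_zero]
  | succ k ih => rw [succ_nsmul, succ_nsmul, mv_add, ih]

theorem det_eq (M : SL F) :
    (M : Matrix (Fin 2) (Fin 2) F) 0 0 * (M : Matrix (Fin 2) (Fin 2) F) 1 1 -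
      (M : Matrix (Fin 2) (Fin 2) F) 0 1 * (M : Matrix (Fin 2) (Fin 2) F) 1 0 = 1 := by
  have := M.2
  rwa [Matrix.det_fin_two] at this

theorem mv_inv_mv (M : SL F) (w : Fin 2 → F) : mv M⁻¹ (mv M w) = w := by
  rw [← mv_mul, inv_mul_cancel, mv_one]

theorem mv_mv_inv (M : SL F) (w : Fin 2 → F) : mv M (mv M⁻¹ w) = w := by
  rw [← mv_mul, mul_inv_cancel, mv_one]

theorem ext_mv {M N : SL F} (h : ∀ w, mv M w = mv N w) : M = N := by
  apply Subtype.ext
  ext i j
  have h0 := h ![1, 0]
  have h1 := h ![0, 1]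
  have a0 := congrFun h0 0
  have a1 := congrFun h0 1
  have b0 := congrFun h1 0
  have b1 := congrFun h1 1
  simp [mv_apply_zero, mv_apply_one] at a0 a1 b0 b1
  fin_cases i <;> fin_cases j <;> simp_all

/-- The determinant pairing `det [e | w]`. -/
def dd (e w : Fin 2 → F) : F := e 0 * w 1 - e 1 * w 0

theorem dd_self (e : Fin 2 → F) : dd e e = 0 := by unfold dd; ring

theorem dd_add (e v w : Fin 2 → F) : dd e (v + w) = dd e v + dd e w := by
  unfold dd; simp only [Pi.add_apply]; ring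

theorem dd_sub (e v w : Fin 2 → F) : dd e (v - w) = dd e v - dd e w := by
  unfold dd; simp only [Pi.sub_apply]; ring

theorem dd_smul (e w : Fin 2 → F) (c : F) : dd e (c • w) = c * dd e w := by
  unfold dd; simp only [Pi.smul_apply, smul_eq_mul]; ring

theorem dd_smul_left (e w : Fin 2 → F) (c : F) : dd (c • e) w = c * dd e w := by
  unfold dd; simp only [Pi.smul_apply, smul_eq_mul]; ring

theorem dd_mv (M : SL F) (e w : Fin 2 → F) : dd (mv M e) (mv M w) = dd e w := by
  unfold dd
  rw [mv_apply_zero, mv_apply_one, mv_apply_zero, mv_apply_one]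
  have := det_eq M
  linear_combination (e 0 * w 1 - e 1 * w 0) * this

theorem exists_smul_of_dd_eq_zero {e w : Fin 2 → F} (he : e ≠ 0) (h : dd e w = 0) :
    ∃ c : F, w = c • e := by
  unfold dd at h
  by_cases h0 : e 0 = 0
  · have h1 : e 1 ≠ 0 := by
      intro h1
      apply he
      funext i
      fin_cases i <;> simp [h0, h1]
    refine ⟨w 1 / e 1, ?_⟩
    funext i
    fin_cases i
    · simp only [Fin.zero_eta, Pi.smul_apply, smul_eq_mul, h0, mul_zero]
      rw [h0] at h
      have : e 1 * w 0 = 0 := by linear_combination -h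
      rcases mul_eq_zero.mp this with h2 | h2
      · exact absurd h2 h1
      · exact h2
    · simp only [Fin.mk_one, Pi.smul_apply, smul_eq_mul]
      field_simp
  · refine ⟨w 0 / e 0, ?_⟩
    funext i
    fin_cases i
    · simp only [Fin.zero_eta, Pi.smul_apply, smul_eq_mul]
      field_simp
    · simp only [Fin.mk_one, Pi.smul_apply, smul_eq_mul]
      field_simp
      linear_combination h

theorem eq_one_of_fix {M : SL F} {e w : Fin 2 → F} (he : mv M e = e) (hw : mv M w = w)
    (hd : dd e w ≠ 0) : M = 1 := by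
  apply ext_mv
  intro v
  rw [mv_one]
  -- (dd e w) v = (dd v w) e + (dd e v) w
  have hv : (dd e w) • v = (dd v w) • e + (dd e v) • w := by
    unfold dd
    funext i
    fin_cases i
    · simp only [Fin.zero_eta, Pi.add_apply, Pi.smul_apply, smul_eq_mul]
      ring
    · simp only [Fin.mk_one, Pi.add_apply, Pi.smul_apply, smul_eq_mul]
      ring
  have h1 : (dd e w) • mv M v = (dd e w) • v := by
    rw [← mv_smul, hv, mv_add, mv_smul, mv_smul, he, hw]
  have h2 := congrArg (fun z => (dd e w)⁻¹ • z) h1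
  simpa [smul_smul, inv_mul_cancel₀ hd] using h2

/-- The transvection `w ↦ w + k · det[e|w] · e`. -/
def transv (e : Fin 2 → F) (k : F) : SL F :=
  ⟨!![1 - k * e 0 * e 1, k * e 0 ^ 2; -(k * e 1 ^ 2), 1 + k * e 0 * e 1], by
    rw [Matrix.det_fin_two]
    simp only [Matrix.of_apply, Matrix.cons_val', Matrix.cons_val_zero, Matrix.cons_val_one,
      Matrix.cons_val_fin_one]
    ring⟩

theorem mv_transv (e : Fin 2 → F) (k : F) (w : Fin 2 → F) :
    mv (transv e k) w = w + (k * dd e w) • e := by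
  funext i
  fin_cases i
  · simp only [Fin.zero_eta, mv_apply_zero, Pi.add_apply, Pi.smul_apply, smul_eq_mul]
    simp only [transv, Matrix.of_apply, Matrix.cons_val', Matrix.cons_val_zero, Matrix.cons_val_one,
      Matrix.cons_val_fin_one, dd]
    ring
  · simp only [Fin.mk_one, mv_apply_one, Pi.add_apply, Pi.smul_apply, smul_eq_mul]
    simp only [transv, Matrix.of_apply, Matrix.cons_val', Matrix.cons_val_zero, Matrix.cons_val_one,
      Matrix.cons_val_fin_one, dd]
    ring

/-- `SL₂(F)` is transitive on nonzero vectors: a matrix sending `(1,0)` to `v`. -/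
theorem exists_mv_e1_eq {v : Fin 2 → F} (hv : v ≠ 0) : ∃ M : SL F, mv M ![1, 0] = v := by
  by_cases h : v 0 = 0
  · have h1 : v 1 ≠ 0 := by
      intro h1
      apply hv
      funext i
      fin_cases i <;> simp [h, h1]
    refine ⟨⟨!![0, -(v 1)⁻¹; v 1, 0], ?_⟩, ?_⟩
    · rw [Matrix.det_fin_two]
      simp only [Matrix.of_apply, Matrix.cons_val', Matrix.cons_val_zero, Matrix.cons_val_one,
        Matrix.cons_val_fin_one]
      field_simp
      ring
    · show (!![0, -(v 1)⁻¹; v 1, 0] : Matrix (Fin 2) (Fin 2) F).mulVec ![1, 0] = v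
      apply vec2_ext <;> simp [Matrix.mulVec, dotProduct, Fin.sum_univ_two, h]
  · refine ⟨⟨!![v 0, 0; v 1, (v 0)⁻¹], ?_⟩, ?_⟩
    · rw [Matrix.det_fin_two]
      simp only [Matrix.of_apply, Matrix.cons_val', Matrix.cons_val_zero, Matrix.cons_val_one,
        Matrix.cons_val_fin_one]
      field_simp
      ring
    · show (!![v 0, 0; v 1, (v 0)⁻¹] : Matrix (Fin 2) (Fin 2) F).mulVec ![1, 0] = v
      apply vec2_ext <;> simp [Matrix.mulVec, dotProduct, Fin.sum_univ_two]

theorem exists_mv_eq {v w : Fin 2 → F} (hv : v ≠ 0) (hw : w ≠ 0) : ∃ M : SL F, mv M v = w := by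
  obtain ⟨A, hA⟩ := exists_mv_e1_eq hv
  obtain ⟨B, hB⟩ := exists_mv_e1_eq hw
  refine ⟨B * A⁻¹, ?_⟩
  rw [mv_mul, ← hA, mv_inv_mv, hB]


/-- The stabilizer of a vector. -/
def stabVec (e : Fin 2 → F) : Subgroup (SL F) where
  carrier := {M | mv M e = e}
  one_mem' := mv_one e
  mul_mem' := by
    intro A B hA hB
    show mv (A * B) e = e
    rw [mv_mul, hB, hA]
  inv_mem' := by
    intro A hA
    show mv A⁻¹ e = e
    have : mv A⁻¹ (mv A e) = e := mv_inv_mv A e
    rwa [hA] at this

theorem mem_stabVec {e : Fin 2 → F} {M : SL F} : M ∈ stabVec e ↔ mv M e = e := Iff.rfl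

theorem transv_mem_stabVec (e : Fin 2 → F) (k : F) : transv e k ∈ stabVec e := by
  rw [mem_stabVec, mv_transv, dd_self, mul_zero, zero_smul, add_zero]

theorem stabVec_smul {e : Fin 2 → F} {c : F} (hc : c ≠ 0) : stabVec (c • e) = stabVec e := by
  ext M
  rw [mem_stabVec, mem_stabVec, mv_smul]
  constructor
  · intro h
    have := congrArg (fun z => c⁻¹ • z) h
    simpa [smul_smul, inv_mul_cancel₀ hc] using this
  · intro h
    rw [h]

/-- `M (stabVec e) M⁻¹ = stabVec (M e)`. -/
theorem conj_mem_stabVec {e : Fin 2 → F} {M A : SL F} :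
    M * A * M⁻¹ ∈ stabVec (mv M e) ↔ A ∈ stabVec e := by
  rw [mem_stabVec, mem_stabVec, mv_mul, mv_mul, mv_inv_mv]
  constructor
  · intro h
    have := congrArg (mv M⁻¹) h
    rwa [mv_inv_mv, mv_inv_mv] at this
  · intro h
    rw [h]

/-- For `M` fixing `e`, `M w - w` is a multiple of `e`. -/
theorem sub_mem_span_of_mem_stabVec {e : Fin 2 → F} (he : e ≠ 0) {M : SL F} (hM : M ∈ stabVec e)
    (w : Fin 2 → F) : ∃ c : F, mv M w - w = c • e := by
  apply exists_smul_of_dd_eq_zero he
  rw [dd_sub]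
  have := dd_mv M e w
  rw [mem_stabVec.mp hM] at this
  rw [this, sub_self]

theorem mv_pow_of_mem_stabVec {e : Fin 2 → F} (he : e ≠ 0) {M : SL F} (hM : M ∈ stabVec e)
    (w : Fin 2 → F) (k : ℕ) : mv (M ^ k) w = w + k • (mv M w - w) := by
  obtain ⟨c, hc⟩ := sub_mem_span_of_mem_stabVec he hM w
  have hfix : ∀ j : ℕ, mv (M ^ j) (mv M w - w) = mv M w - w := by
    intro j
    have : M ^ j ∈ stabVec e := Subgroup.pow_mem _ hM j
    rw [hc, mv_smul, mem_stabVec.mp this]
  induction k with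
  | zero => simp [mv_one]
  | succ k ih =>
    have e1 : mv M w = w + (mv M w - w) := by abel
    rw [pow_succ, mv_mul]
    conv_lhs => rw [e1]
    rw [mv_add, ih, hfix, succ_nsmul]
    abel

theorem pow_card_eq_one_of_mem_stabVec [Fintype F] {e : Fin 2 → F} (he : e ≠ 0) {M : SL F}
    (hM : M ∈ stabVec e) : M ^ (Fintype.card F) = 1 := by
  apply ext_mv
  intro w
  rw [mv_pow_of_mem_stabVec he hM, mv_one]
  have : (Fintype.card F) • (mv M w - w) = 0 := by
    funext i
    simp only [Pi.smul_apply, Pi.zero_apply, nsmul_eq_mul]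
    rw [Nat.cast_card_eq_zero, zero_mul]
  rw [this, add_zero]

theorem stabVec_isPGroup [Fintype F] {p n : ℕ} [Fact p.Prime] (hF : Fintype.card F = p ^ n)
    {e : Fin 2 → F} (he : e ≠ 0) : IsPGroup p (stabVec e) := by
  intro M
  refine ⟨n, ?_⟩
  apply Subtype.ext
  rw [Subgroup.coe_pow, Subgroup.coe_one, ← hF]
  exact pow_card_eq_one_of_mem_stabVec he M.2

/-- The action of `SL₂(F)` on vectors as a `MulAction`. -/
@[reducible] def mvAction : MulAction (SL F) (Fin 2 → F) where
  smul M w := mv M w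
  one_smul := mv_one
  mul_smul := mv_mul

/-- Every `p`-subgroup of `SL₂(F)` fixes a nonzero vector. -/
theorem exists_fixed_vector [Fintype F] {p n : ℕ} [hp : Fact p.Prime] (hF : Fintype.card F = p ^ n)
    (P : Subgroup (SL F)) (hP : IsPGroup p P) : ∃ e : Fin 2 → F, e ≠ 0 ∧ P ≤ stabVec e := by
  classical
  letI : MulAction (SL F) (Fin 2 → F) := mvAction
  have hn : n ≠ 0 := by
    rintro rfl
    have := Fintype.one_lt_card (α := F)
    rw [hF] at this
    simp at this
  have hcard : p ∣ Nat.card (Fin 2 → F) := by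
    rw [Nat.card_eq_fintype_card, Fintype.card_fun, hF, Fintype.card_fin]
    exact dvd_pow (dvd_pow_self p hn) (by norm_num)
  have h0 : (0 : Fin 2 → F) ∈ MulAction.fixedPoints ↥P (Fin 2 → F) := by
    intro M
    show mv (M : SL F) 0 = 0
    exact mv_zero _
  obtain ⟨b, hb, hb0⟩ := hP.exists_fixed_point_of_prime_dvd_card_of_fixed_point (Fin 2 → F) hcard h0
  refine ⟨b, fun h => hb0 h.symm, ?_⟩
  intro M hM
  exact hb ⟨M, hM⟩

/-- Sylow `p`-subgroups of `SL₂(F)` are vector stabilizers. -/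
theorem sylow_eq_stabVec [Fintype F] {p n : ℕ} [hp : Fact p.Prime] (hF : Fintype.card F = p ^ n)
    (S : Sylow p (SL F)) : ∃ e : Fin 2 → F, e ≠ 0 ∧ (S : Subgroup (SL F)) = stabVec e := by
  obtain ⟨e, he, hle⟩ := exists_fixed_vector hF (S : Subgroup (SL F)) S.2
  exact ⟨e, he, (S.3 (stabVec_isPGroup hF he) hle).symm⟩

end Cfsg.Agent.Lib.Helper46.SL2
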