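import Cfsg.Prelude.Def_LocalEven
import Cfsg.Agent.Lib.Helper46.SL2Vec

set_option autoImplicit false

namespace Cfsg.Agent.Lib.Helper46.NatSL2

open Cfsg.Agent.Lib.Helper46.SL2

variable {G : Type*} [Group G] {F : Type*} [Field F]

/-- Unpacked data of a natural `SL₂(F)`-module `V` for `L` (acting faithfully), with `T` a Sylow
`p`-subgroup of `L`, written as the stabilizer of the vector `e`. -/
structure NatData (F : Type*) [Field F] (V L T : Subgroup G) where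
  Φ : G → (Fin 2 → F)
  R : G → SL F
  e : Fin 2 → F
  he : e ≠ 0
  Φ_mul : ∀ v ∈ V, ∀ w ∈ V, Φ (v * w) = Φ v + Φ w
  Φ_inj : ∀ v ∈ V, ∀ w ∈ V, Φ v = Φ w → v = w
  Φ_surj : ∀ x, ∃ v ∈ V, Φ v = x
  R_mul : ∀ a ∈ L, ∀ b ∈ L, R (a * b) = R a * R b
  R_inj : ∀ a ∈ L, R a = 1 → a = 1
  R_surj : ∀ M, ∃ a ∈ L, R a = M
  conj_mem : ∀ a ∈ L, ∀ v ∈ V, a * v * a⁻¹ ∈ V
  Φ_conj : ∀ a ∈ L, ∀ v ∈ V, Φ (a * v * a⁻¹) = mv (R a) (Φ v)
  mem_T : ∀ a, a ∈ T ↔ a ∈ L ∧ R a ∈ stabVec e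

theorem exists_natData [Finite G] {p : ℕ} [Fact p.Prime] [Fintype F] (n : ℕ)
    (hF : Fintype.card F = p ^ n) (V L : Subgroup G) (hnat : Cfsg.IsNaturalSL2Module F V L)
    (hf : L ⊓ Subgroup.centralizer (V : Set G) = ⊥) (S : Sylow p ↥L) (T : Subgroup G)
    (hT : T = ((S : Subgroup ↥L).map L.subtype)) : Nonempty (NatData F V L T) := by
  classical
  obtain ⟨hLN, ρ, ψ, hsurj, hker, hact⟩ := hnat
  have hinj : Function.Injective ρ := by
    rw [injective_iff_map_eq_one]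
    intro l hl
    have h1 : l ∈ ρ.ker := hl
    rw [hker, Subgroup.mem_subgroupOf] at h1
    have h2 : (l : G) ∈ L ⊓ Subgroup.centralizer (V : Set G) := ⟨l.2, h1⟩
    rw [hf, Subgroup.mem_bot] at h2
    exact Subtype.ext h2
  obtain ⟨e, he, hSe⟩ := sylow_eq_stabVec hF (S.mapSurjective hsurj)
  rw [Sylow.coe_mapSurjective] at hSe
  refine ⟨{
    Φ := fun g => if h : g ∈ V then ψ (Additive.ofMul ⟨g, h⟩) else 0
    R := fun g => if h : g ∈ L then ρ ⟨g, h⟩ else 1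
    e := e
    he := he
    Φ_mul := ?_
    Φ_inj := ?_
    Φ_surj := ?_
    R_mul := ?_
    R_inj := ?_
    R_surj := ?_
    conj_mem := ?_
    Φ_conj := ?_
    mem_T := ?_ }⟩
  · intro v hv w hw
    simp only [dif_pos hv, dif_pos hw, dif_pos (V.mul_mem hv hw)]
    rw [← map_add]
    rfl
  · intro v hv w hw h
    simp only [dif_pos hv, dif_pos hw] at h
    have := ψ.injective h
    have h2 : (⟨v, hv⟩ : ↥V) = ⟨w, hw⟩ := Additive.ofMul.injective this
    exact congrArg Subtype.val h2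
  · intro x
    obtain ⟨a, ha⟩ := ψ.surjective x
    refine ⟨(Additive.toMul a : ↥V), (Additive.toMul a : ↥V).2, ?_⟩
    simp only [dif_pos (Additive.toMul a : ↥V).2]
    exact ha
  · intro a ha b hb
    simp only [dif_pos ha, dif_pos hb, dif_pos (L.mul_mem ha hb)]
    rw [← map_mul]
    rfl
  · intro a ha h
    simp only [dif_pos ha] at h
    have h1 : (⟨a, ha⟩ : ↥L) = 1 := hinj (by rw [h, map_one])
    exact congrArg Subtype.val h1
  · intro M
    obtain ⟨l, hl⟩ := hsurj M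
    refine ⟨l, l.2, ?_⟩
    simp only [dif_pos l.2]
    exact hl
  · intro a ha v hv
    obtain ⟨w, hw, _⟩ := hact ⟨a, ha⟩ ⟨v, hv⟩
    rw [← hw]
    exact w.2
  · intro a ha v hv
    obtain ⟨w, hw, hw2⟩ := hact ⟨a, ha⟩ ⟨v, hv⟩
    have hmem : a * v * a⁻¹ ∈ V := by
      have : (w : G) ∈ V := w.2
      rwa [hw] at this
    simp only [dif_pos ha, dif_pos hv, dif_pos hmem]
    have hw' : w = ⟨a * v * a⁻¹, hmem⟩ := Subtype.ext hw
    rw [← hw', hw2]
    rfl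
  · intro a
    rw [hT]
    constructor
    · rintro ⟨l, hl, rfl⟩
      refine ⟨l.2, ?_⟩
      have h3 : (L.subtype l) ∈ L := l.2
      rw [dif_pos h3, ← hSe]
      exact Subgroup.mem_map_of_mem ρ hl
    · rintro ⟨ha, h⟩
      simp only [dif_pos ha] at h
      rw [← hSe] at h
      obtain ⟨l, hl, hl2⟩ := h
      have : l = ⟨a, ha⟩ := hinj hl2
      refine ⟨l, hl, ?_⟩
      rw [this]
      rfl


theorem dd_zero_right (x : Fin 2 → F) : dd x 0 = 0 := by
  unfold dd; simp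

theorem dd_neg_right (x y : Fin 2 → F) : dd x (-y) = -dd x y := by
  unfold dd; simp only [Pi.neg_apply]; ring

theorem dd_swap (x y : Fin 2 → F) : dd x y = -dd y x := by
  unfold dd; ring

theorem exists_dd_ne_zero {x : Fin 2 → F} (hx : x ≠ 0) : ∃ y : Fin 2 → F, dd x y ≠ 0 := by
  by_cases h0 : x 0 = 0
  · have h1 : x 1 ≠ 0 := by
      intro h1
      apply hx
      exact vec2_ext (by simp [h0]) (by simp [h1])
    refine ⟨![1, 0], ?_⟩
    unfold dd
    simp [h1]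
  · refine ⟨![0, 1], ?_⟩
    unfold dd
    simp [h0]

theorem dd_decomp (x y z : Fin 2 → F) : (dd x y) • z = (dd z y) • x + (dd x z) • y := by
  unfold dd
  apply vec2_ext
  · simp only [Pi.add_apply, Pi.smul_apply, smul_eq_mul]
    ring
  · simp only [Pi.add_apply, Pi.smul_apply, smul_eq_mul]
    ring

theorem mv_ne_zero (M : SL F) {x : Fin 2 → F} (hx : x ≠ 0) : mv M x ≠ 0 := by
  intro h
  apply hx
  have := mv_inv_mv M x
  rw [h, mv_zero] at this
  exact this.symm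

namespace NatData

variable {V L T : Subgroup G} (D : NatData F V L T)

theorem R_one : D.R 1 = 1 := by
  have h := D.R_mul 1 L.one_mem 1 L.one_mem
  rw [mul_one] at h
  have h2 : D.R 1 * D.R 1 = D.R 1 * 1 := by rw [mul_one]; exact h.symm
  exact mul_left_cancel h2

theorem R_inv (a : G) (ha : a ∈ L) : D.R a⁻¹ = (D.R a)⁻¹ := by
  have h := D.R_mul a ha a⁻¹ (L.inv_mem ha)
  rw [mul_inv_cancel, D.R_one] at h
  exact eq_inv_of_mul_eq_one_right h.symm

theorem R_pow (a : G) (ha : a ∈ L) (k : ℕ) : D.R (a ^ k) = (D.R a) ^ k := by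
  induction k with
  | zero => simp [D.R_one]
  | succ k ih => rw [pow_succ, pow_succ, D.R_mul _ (L.pow_mem ha k) _ ha, ih]

theorem R_inj' (a : G) (ha : a ∈ L) (b : G) (hb : b ∈ L) (h : D.R a = D.R b) : a = b := by
  have h1 : D.R (a * b⁻¹) = 1 := by
    rw [D.R_mul a ha _ (L.inv_mem hb), D.R_inv b hb, h, mul_inv_cancel]
  exact mul_inv_eq_one.mp (D.R_inj _ (L.mul_mem ha (L.inv_mem hb)) h1)

theorem R_conj (a : G) (ha : a ∈ L) (b : G) (hb : b ∈ L) :
    D.R (a * b * a⁻¹) = D.R a * D.R b * (D.R a)⁻¹ := by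
  rw [D.R_mul _ (L.mul_mem ha hb) _ (L.inv_mem ha), D.R_mul a ha b hb, D.R_inv a ha]

theorem Φ_one : D.Φ 1 = 0 := by
  have h := D.Φ_mul 1 V.one_mem 1 V.one_mem
  rw [mul_one] at h
  have h2 : D.Φ 1 + D.Φ 1 = D.Φ 1 + 0 := by rw [add_zero]; exact h.symm
  exact add_left_cancel h2

theorem Φ_inv (v : G) (hv : v ∈ V) : D.Φ v⁻¹ = -D.Φ v := by
  have h := D.Φ_mul v hv v⁻¹ (V.inv_mem hv)
  rw [mul_inv_cancel, D.Φ_one] at h
  exact eq_neg_of_add_eq_zero_right h.symm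

theorem eq_one_of_Φ_eq_zero (v : G) (hv : v ∈ V) (h : D.Φ v = 0) : v = 1 :=
  D.Φ_inj v hv 1 V.one_mem (h.trans D.Φ_one.symm)

include D in
theorem comm (v : G) (hv : v ∈ V) (w : G) (hw : w ∈ V) : v * w = w * v := by
  apply D.Φ_inj _ (V.mul_mem hv hw) _ (V.mul_mem hw hv)
  rw [D.Φ_mul v hv w hw, D.Φ_mul w hw v hv, add_comm]

theorem commute_iff (a : G) (ha : a ∈ L) (v : G) (hv : v ∈ V) :
    a * v = v * a ↔ mv (D.R a) (D.Φ v) = D.Φ v := by
  rw [← D.Φ_conj a ha v hv, ← mul_inv_eq_iff_eq_mul]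
  constructor
  · intro h
    rw [h]
  · intro h
    exact D.Φ_inj _ (D.conj_mem a ha v hv) _ hv h

/-- The "line" of `V` attached to the vector `x`. -/
def W (x : Fin 2 → F) : Subgroup G where
  carrier := {g | g ∈ V ∧ dd x (D.Φ g) = 0}
  one_mem' := ⟨V.one_mem, by rw [D.Φ_one, dd_zero_right]⟩
  mul_mem' := by
    rintro a b ⟨ha, ha2⟩ ⟨hb, hb2⟩
    exact ⟨V.mul_mem ha hb, by rw [D.Φ_mul _ ha _ hb, dd_add, ha2, hb2, add_zero]⟩
  inv_mem' := by
    rintro a ⟨ha, ha2⟩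
    exact ⟨V.inv_mem ha, by rw [D.Φ_inv _ ha, dd_neg_right, ha2, neg_zero]⟩

theorem mem_W {x : Fin 2 → F} {g : G} : g ∈ D.W x ↔ g ∈ V ∧ dd x (D.Φ g) = 0 := Iff.rfl

theorem W_le (x : Fin 2 → F) : D.W x ≤ V := fun _ h => h.1

theorem mem_W_of_smul {x : Fin 2 → F} {g : G} (hg : g ∈ V) {c : F} (h : D.Φ g = c • x) :
    g ∈ D.W x := ⟨hg, by rw [h, dd_smul, dd_self, mul_zero]⟩

/-- The preimage in `L` of the stabilizer of the vector `x`. -/
def St (x : Fin 2 → F) : Subgroup G where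
  carrier := {a | a ∈ L ∧ D.R a ∈ stabVec x}
  one_mem' := ⟨L.one_mem, by rw [D.R_one]; exact (stabVec x).one_mem⟩
  mul_mem' := by
    rintro a b ⟨ha, ha2⟩ ⟨hb, hb2⟩
    exact ⟨L.mul_mem ha hb, by rw [D.R_mul _ ha _ hb]; exact (stabVec x).mul_mem ha2 hb2⟩
  inv_mem' := by
    rintro a ⟨ha, ha2⟩
    exact ⟨L.inv_mem ha, by rw [D.R_inv _ ha]; exact (stabVec x).inv_mem ha2⟩

theorem mem_St {x : Fin 2 → F} {a : G} : a ∈ D.St x ↔ a ∈ L ∧ D.R a ∈ stabVec x := Iff.rfl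

theorem St_le (x : Fin 2 → F) : D.St x ≤ L := fun _ h => h.1

theorem T_eq : T = D.St D.e := by
  ext a
  rw [D.mem_T, mem_St]

theorem St_smul {x : Fin 2 → F} {c : F} (hc : c ≠ 0) : D.St (c • x) = D.St x := by
  ext a
  rw [mem_St, mem_St, stabVec_smul hc]

theorem inf_centralizer_St (x : Fin 2 → F) (hx : x ≠ 0) :
    V ⊓ Subgroup.centralizer (D.St x : Set G) = D.W x := by
  ext g
  rw [Subgroup.mem_inf, Subgroup.mem_centralizer_iff]
  constructor
  · rintro ⟨hg, hc⟩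
    refine ⟨hg, ?_⟩
    obtain ⟨a, ha, haR⟩ := D.R_surj (transv x 1)
    have haX : a ∈ D.St x := ⟨ha, by rw [haR]; exact transv_mem_stabVec x 1⟩
    have h1 := hc a haX
    rw [D.commute_iff a ha g hg, haR, mv_transv, one_mul] at h1
    have h2 : (dd x (D.Φ g)) • x = 0 := by simpa using h1
    rcases smul_eq_zero.mp h2 with h3 | h3
    · exact h3
    · exact absurd h3 hx
  · rintro ⟨hg, hd⟩
    refine ⟨hg, ?_⟩
    intro a haX
    obtain ⟨ha, haR⟩ := haX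
    obtain ⟨c, hc⟩ := exists_smul_of_dd_eq_zero hx hd
    rw [D.commute_iff a ha g hg, hc, mv_smul, mem_stabVec.mp haR]

theorem inf_centralizer_singleton (s : G) (hs : s ∈ L) (hs1 : s ≠ 1) (x : Fin 2 → F) (hx : x ≠ 0)
    (hsx : D.R s ∈ stabVec x) :
    V ⊓ Subgroup.centralizer ({s} : Set G) = D.W x := by
  ext g
  rw [Subgroup.mem_inf, Subgroup.mem_centralizer_iff]
  constructor
  · rintro ⟨hg, hc⟩
    refine ⟨hg, ?_⟩
    by_contra hd
    have h1 := hc s (Set.mem_singleton s)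
    rw [D.commute_iff s hs g hg] at h1
    have := eq_one_of_fix (mem_stabVec.mp hsx) h1 hd
    exact hs1 (D.R_inj s hs this)
  · rintro ⟨hg, hd⟩
    refine ⟨hg, ?_⟩
    intro a ha
    rw [Set.mem_singleton_iff] at ha
    subst ha
    obtain ⟨c, hc⟩ := exists_smul_of_dd_eq_zero hx hd
    rw [D.commute_iff a hs g hg, hc, mv_smul, mem_stabVec.mp hsx]

theorem Φ_commutator (v : G) (hv : v ∈ V) (a : G) (ha : a ∈ L) :
    v * a * v⁻¹ * a⁻¹ ∈ V ∧ D.Φ (v * a * v⁻¹ * a⁻¹) = D.Φ v - mv (D.R a) (D.Φ v) := by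
  have h1 : v * a * v⁻¹ * a⁻¹ = v * (a * v⁻¹ * a⁻¹) := by group
  have h2 := D.conj_mem a ha v⁻¹ (V.inv_mem hv)
  rw [h1]
  refine ⟨V.mul_mem hv h2, ?_⟩
  rw [D.Φ_mul v hv _ h2, D.Φ_conj a ha _ (V.inv_mem hv), D.Φ_inv v hv, mv_neg, sub_eq_add_neg]

theorem commutator_mem_W (v : G) (hv : v ∈ V) (a : G) (x : Fin 2 → F) (hx : x ≠ 0)
    (ha : a ∈ D.St x) : v * a * v⁻¹ * a⁻¹ ∈ D.W x := by
  obtain ⟨hm, hΦ⟩ := D.Φ_commutator v hv a ha.1
  refine ⟨hm, ?_⟩
  rw [hΦ]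
  obtain ⟨c, hc⟩ := sub_mem_span_of_mem_stabVec hx ha.2 (D.Φ v)
  have : D.Φ v - mv (D.R a) (D.Φ v) = (-c) • x := by
    rw [neg_smul, ← hc]; abel
  rw [this, dd_smul, dd_self, mul_zero]

/-- Every element of `W x` is a single commutator `[v, a]`, `a` a transvection, for any `v` off the
line. -/
theorem exists_commutator_eq (v : G) (hv : v ∈ V) (x : Fin 2 → F) (hx : x ≠ 0)
    (hvx : dd x (D.Φ v) ≠ 0) (w : G) (hw : w ∈ D.W x) :
    ∃ a ∈ D.St x, w = v * a * v⁻¹ * a⁻¹ := by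
  obtain ⟨c, hc⟩ := exists_smul_of_dd_eq_zero hx hw.2
  obtain ⟨a, ha, haR⟩ := D.R_surj (transv x (-c / dd x (D.Φ v)))
  have haX : a ∈ D.St x := ⟨ha, by rw [haR]; exact transv_mem_stabVec x _⟩
  refine ⟨a, haX, ?_⟩
  obtain ⟨hm, hΦ⟩ := D.Φ_commutator v hv a ha
  apply D.Φ_inj _ hw.1 _ hm
  rw [hΦ, hc, haR, mv_transv]
  have : -c / dd x (D.Φ v) * dd x (D.Φ v) = -c := by field_simp
  rw [this, neg_smul]
  abel

theorem commutator_St (x : Fin 2 → F) (hx : x ≠ 0) : ⁅V, D.St x⁆ = D.W x := by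
  apply le_antisymm
  · rw [Subgroup.commutator_le]
    intro v hv a ha
    rw [commutatorElement_def]
    exact D.commutator_mem_W v hv a x hx ha
  · intro w hw
    obtain ⟨y, hy⟩ := exists_dd_ne_zero hx
    obtain ⟨v, hv, hvy⟩ := D.Φ_surj y
    obtain ⟨a, ha, hwa⟩ := D.exists_commutator_eq v hv x hx (by rw [hvy]; exact hy) w hw
    rw [hwa, ← commutatorElement_def]
    exact Subgroup.commutator_mem_commutator hv ha

theorem commutator_zpowers (s : G) (hs : s ∈ L) (hs1 : s ≠ 1) (x : Fin 2 → F) (hx : x ≠ 0)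
    (hsx : D.R s ∈ stabVec x) : ⁅V, Subgroup.zpowers s⁆ = D.W x := by
  have hsX : s ∈ D.St x := ⟨hs, hsx⟩
  apply le_antisymm
  · rw [← D.commutator_St x hx]
    exact Subgroup.commutator_mono le_rfl (Subgroup.zpowers_le.mpr hsX)
  · intro w hw
    obtain ⟨c, hc⟩ := exists_smul_of_dd_eq_zero hx hw.2
    obtain ⟨y, hy⟩ := exists_dd_ne_zero hx
    obtain ⟨c₀, hc₀⟩ := sub_mem_span_of_mem_stabVec hx hsx y
    have hc₀0 : c₀ ≠ 0 := by
      intro h0
      rw [h0, zero_smul, sub_eq_zero] at hc₀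
      exact hs1 (D.R_inj s hs (eq_one_of_fix (mem_stabVec.mp hsx) hc₀ hy))
    obtain ⟨v, hv, hvy⟩ := D.Φ_surj ((-c / c₀) • y)
    obtain ⟨hm, hΦ⟩ := D.Φ_commutator v hv s hs
    have hws : w = v * s * v⁻¹ * s⁻¹ := by
      apply D.Φ_inj _ hw.1 _ hm
      rw [hΦ, hc, hvy, mv_smul, ← smul_sub]
      have h3 : y - mv (D.R s) y = (-c₀) • x := by
        rw [neg_smul, ← hc₀]; abel
      rw [h3, smul_smul]
      congr 1
      field_simp
    rw [hws, ← commutatorElement_def]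
    exact Subgroup.commutator_mem_commutator hv (Subgroup.mem_zpowers s)

theorem closure_commutators (v : G) (hv : v ∈ V) (x : Fin 2 → F) (hx : x ≠ 0)
    (hvx : v ∉ D.W x) :
    Subgroup.closure {y : G | ∃ t ∈ D.St x, y = v * t * v⁻¹ * t⁻¹} = D.W x := by
  have hd : dd x (D.Φ v) ≠ 0 := fun h => hvx ⟨hv, h⟩
  apply le_antisymm
  · rw [Subgroup.closure_le]
    rintro y ⟨t, ht, rfl⟩
    exact D.commutator_mem_W v hv t x hx ht
  · intro w hw
    obtain ⟨a, ha, hwa⟩ := D.exists_commutator_eq v hv x hx hd w hw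
    exact Subgroup.subset_closure ⟨a, ha, hwa⟩

include D in
theorem card_V [Fintype F] : Nat.card V = Fintype.card F ^ 2 := by
  have hb : Function.Bijective (fun v : ↥V => D.Φ (v : G)) := by
    constructor
    · intro v w h
      exact Subtype.ext (D.Φ_inj _ v.2 _ w.2 h)
    · intro y
      obtain ⟨v, hv, hvy⟩ := D.Φ_surj y
      exact ⟨⟨v, hv⟩, hvy⟩
  rw [Nat.card_eq_of_bijective _ hb, Nat.card_eq_fintype_card, Fintype.card_fun, Fintype.card_fin]

theorem card_W [Fintype F] (x : Fin 2 → F) (hx : x ≠ 0) : Nat.card (D.W x) = Fintype.card F := by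
  obtain ⟨y, hy⟩ := exists_dd_ne_zero hx
  have hyx : dd y x ≠ 0 := by
    rw [dd_swap]; exact neg_ne_zero.mpr hy
  have hb : Function.Bijective (fun g : ↥(D.W x) => dd y (D.Φ (g : G))) := by
    constructor
    · intro g g' h
      obtain ⟨c, hc⟩ := exists_smul_of_dd_eq_zero hx g.2.2
      obtain ⟨c', hc'⟩ := exists_smul_of_dd_eq_zero hx g'.2.2
      simp only at h
      rw [hc, hc', dd_smul, dd_smul] at h
      have hcc : c = c' := mul_right_cancel₀ hyx h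
      apply Subtype.ext
      apply D.Φ_inj _ g.2.1 _ g'.2.1
      rw [hc, hc', hcc]
    · intro a
      obtain ⟨v, hv, hvy⟩ := D.Φ_surj ((a / dd y x) • x)
      refine ⟨⟨v, D.mem_W_of_smul hv hvy⟩, ?_⟩
      simp only
      rw [hvy, dd_smul]
      field_simp
  rw [Nat.card_eq_of_bijective _ hb, Nat.card_eq_fintype_card]

theorem map_conj_St (g : G) (hg : g ∈ L) (x : Fin 2 → F) :
    (D.St x).map (MulAut.conj g).toMonoidHom = D.St (mv (D.R g) x) := by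
  ext a
  constructor
  · rintro ⟨t, ht, rfl⟩
    show g * t * g⁻¹ ∈ D.St (mv (D.R g) x)
    refine ⟨L.mul_mem (L.mul_mem hg ht.1) (L.inv_mem hg), ?_⟩
    rw [D.R_conj g hg t ht.1]
    exact conj_mem_stabVec.mpr ht.2
  · rintro ⟨ha, haR⟩
    have hgi : g⁻¹ ∈ L := L.inv_mem hg
    refine ⟨g⁻¹ * a * g, ⟨L.mul_mem (L.mul_mem hgi ha) hg, ?_⟩, ?_⟩
    · apply conj_mem_stabVec.mp
      have : D.R g * D.R (g⁻¹ * a * g) * (D.R g)⁻¹ = D.R a := by
        rw [← D.R_conj g hg _ (L.mul_mem (L.mul_mem hgi ha) hg)]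
        congr 1
        group
      rw [this]
      exact haR
    · show g * (g⁻¹ * a * g) * g⁻¹ = a
      group

theorem mem_normalizer_of_smul (a : G) (ha : a ∈ L) (c : F) (hc : c ≠ 0)
    (h : mv (D.R a) D.e = c • D.e) : a ∈ Subgroup.normalizer (T : Set G) := by
  rw [Subgroup.mem_normalizer_iff_map_conj_eq]
  have h1 := D.map_conj_St a ha D.e
  rw [h, D.St_smul hc, ← D.T_eq] at h1
  exact h1

theorem dd_ne_zero_of_not_mem_normalizer (g : G) (hg : g ∈ L)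
    (hgN : g ∉ Subgroup.normalizer (T : Set G)) : dd D.e (mv (D.R g) D.e) ≠ 0 := by
  intro h
  obtain ⟨c, hc⟩ := exists_smul_of_dd_eq_zero D.he h
  have hc0 : c ≠ 0 := by
    rintro rfl
    rw [zero_smul] at hc
    exact mv_ne_zero (D.R g) D.he hc
  exact hgN (D.mem_normalizer_of_smul g hg c hc0 hc)

theorem isInternalDirectProduct_W (x y : Fin 2 → F) (hx : x ≠ 0) (hxy : dd x y ≠ 0) :
    Cfsg.IsInternalDirectProduct (D.W x) (D.W y) V := by
  have hyx : dd y x ≠ 0 := by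
    rw [dd_swap]; exact neg_ne_zero.mpr hxy
  refine ⟨D.W_le x, D.W_le y, ?_, ?_, ?_⟩
  · intro a ha b hb
    exact D.comm a ha.1 b hb.1
  · rw [eq_bot_iff]
    rintro g ⟨hg1, hg2⟩
    rw [Subgroup.mem_bot]
    obtain ⟨c, hc⟩ := exists_smul_of_dd_eq_zero hx hg1.2
    have h2 := hg2.2
    rw [hc, dd_smul] at h2
    rcases mul_eq_zero.mp h2 with h3 | h3
    · apply D.eq_one_of_Φ_eq_zero g hg1.1
      rw [hc, h3, zero_smul]
    · exact absurd h3 hyx
  · apply le_antisymm (sup_le (D.W_le x) (D.W_le y))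
    intro v hv
    obtain ⟨vx, hvx, hvx2⟩ := D.Φ_surj ((dd (D.Φ v) y / dd x y) • x)
    obtain ⟨vy, hvy, hvy2⟩ := D.Φ_surj ((dd x (D.Φ v) / dd x y) • y)
    have : v = vx * vy := by
      apply D.Φ_inj _ hv _ (V.mul_mem hvx hvy)
      rw [D.Φ_mul _ hvx _ hvy, hvx2, hvy2]
      have h1 := dd_decomp x y (D.Φ v)
      have h2 := congrArg (fun z => (dd x y)⁻¹ • z) h1
      simp only [smul_smul, inv_mul_cancel₀ hxy, one_smul, smul_add] at h2
      rw [div_eq_inv_mul, div_eq_inv_mul]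
      exact h2
    rw [this]
    exact Subgroup.mul_mem_sup (D.mem_W_of_smul hvx hvx2) (D.mem_W_of_smul hvy hvy2)

include D in
theorem fixed_point_free [Fintype F] {p n : ℕ} (hF : Fintype.card F = p ^ n) (a : G) (ha : a ∈ L)
    (ha1 : a ≠ 1) (hcop : (orderOf a).Coprime p) :
    V ⊓ Subgroup.centralizer ({a} : Set G) = ⊥ := by
  rw [eq_bot_iff]
  rintro g ⟨hg, hc⟩
  rw [Subgroup.mem_bot]
  by_contra hg1
  have hΦ : D.Φ g ≠ 0 := fun h => hg1 (D.eq_one_of_Φ_eq_zero g hg h)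
  have h1 := (Subgroup.mem_centralizer_iff.mp hc) a (Set.mem_singleton a)
  rw [D.commute_iff a ha g hg] at h1
  have h2 : (D.R a) ^ (Fintype.card F) = 1 := pow_card_eq_one_of_mem_stabVec hΦ h1
  rw [← D.R_pow a ha] at h2
  have h3 : a ^ (Fintype.card F) = 1 := D.R_inj _ (L.pow_mem ha _) h2
  have h4 : orderOf a ∣ p ^ n := by
    rw [← hF]; exact orderOf_dvd_of_pow_eq_one h3
  have h5 : orderOf a = 1 := Nat.Coprime.eq_one_of_dvd (Nat.Coprime.pow_right n hcop) h4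
  exact ha1 (orderOf_eq_one_iff.mp h5)

theorem irreducible_W (U : Subgroup G) (hU : U ≤ D.W D.e)
    (hN : L ⊓ Subgroup.normalizer (T : Set G) ≤ Subgroup.normalizer (U : Set G)) :
    U = ⊥ ∨ U = D.W D.e := by
  by_cases hbot : U = ⊥
  · exact Or.inl hbot
  right
  apply le_antisymm hU
  obtain ⟨u, hu1⟩ := (Subgroup.ne_bot_iff_exists_ne_one.mp hbot)
  have hu' : (u : G) ∈ U := u.2
  have huW := hU hu'
  obtain ⟨c, hc⟩ := exists_smul_of_dd_eq_zero D.he huW.2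
  have hc0 : c ≠ 0 := by
    rintro rfl
    rw [zero_smul] at hc
    apply hu1
    exact Subtype.ext (D.eq_one_of_Φ_eq_zero _ huW.1 hc)
  intro w hw
  obtain ⟨d, hd⟩ := exists_smul_of_dd_eq_zero D.he hw.2
  by_cases hd0 : d = 0
  · rw [hd0, zero_smul] at hd
    rw [D.eq_one_of_Φ_eq_zero w hw.1 hd]
    exact U.one_mem
  have hce : c • D.e ≠ 0 := smul_ne_zero hc0 D.he
  have hde : d • D.e ≠ 0 := smul_ne_zero hd0 D.he
  obtain ⟨M, hM⟩ := exists_mv_eq hce hde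
  obtain ⟨l, hl, hlM⟩ := D.R_surj M
  have hMe : mv M D.e = (c⁻¹ * d) • D.e := by
    have := congrArg (fun z => c⁻¹ • z) hM
    simp only [mv_smul, smul_smul, inv_mul_cancel₀ hc0, one_smul] at this
    exact this
  have hlN : l ∈ Subgroup.normalizer (T : Set G) :=
    D.mem_normalizer_of_smul l hl (c⁻¹ * d) (mul_ne_zero (inv_ne_zero hc0) hd0) (by rw [hlM]; exact hMe)
  have hlU := hN ⟨hl, hlN⟩
  have h5 : l * (u : G) * l⁻¹ ∈ U := (Subgroup.mem_normalizer_iff.mp hlU (u : G)).mp hu'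
  have h6 : w = l * (u : G) * l⁻¹ := by
    apply D.Φ_inj _ hw.1 _ (D.conj_mem l hl _ huW.1)
    rw [D.Φ_conj l hl _ huW.1, hd, hc, hlM, hM]
  rw [h6]
  exact h5

theorem irreducible_quotient (U : Subgroup G) (hWU : D.W D.e ≤ U) (hUV : U ≤ V)
    (hN : L ⊓ Subgroup.normalizer (T : Set G) ≤ Subgroup.normalizer (U : Set G)) :
    U = D.W D.e ∨ U = V := by
  by_cases hUW : U ≤ D.W D.e
  · exact Or.inl (le_antisymm hUW hWU)
  right
  apply le_antisymm hUV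
  obtain ⟨u, hu, huW⟩ := SetLike.not_le_iff_exists.mp hUW
  have huV := hUV hu
  have hdu : dd D.e (D.Φ u) ≠ 0 := fun h => huW ⟨huV, h⟩
  intro v hv
  by_cases hdv : dd D.e (D.Φ v) = 0
  · exact hWU ⟨hv, hdv⟩
  set a : F := dd D.e (D.Φ v) / dd D.e (D.Φ u) with ha
  have ha0 : a ≠ 0 := div_ne_zero hdv hdu
  have hae : a⁻¹ • D.e ≠ 0 := smul_ne_zero (inv_ne_zero ha0) D.he
  obtain ⟨M, hM⟩ := exists_mv_eq D.he hae
  obtain ⟨l, hl, hlM⟩ := D.R_surj M
  have hlN : l ∈ Subgroup.normalizer (T : Set G) :=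
    D.mem_normalizer_of_smul l hl a⁻¹ (inv_ne_zero ha0) (by rw [hlM]; exact hM)
  have hlU := hN ⟨hl, hlN⟩
  have h5 : l * u * l⁻¹ ∈ U := (Subgroup.mem_normalizer_iff.mp hlU u).mp hu
  have h5V := D.conj_mem l hl u huV
  have hdM : dd D.e (mv M (D.Φ u)) = dd D.e (D.Φ v) := by
    have h7 := dd_mv M D.e (D.Φ u)
    rw [hM, dd_smul_left] at h7
    have h8 : dd D.e (mv M (D.Φ u)) = a * dd D.e (D.Φ u) := by
      have := congrArg (fun z => a * z) h7
      simp only [← mul_assoc, mul_inv_cancel₀ ha0, one_mul] at this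
      exact this
    rw [h8, ha]
    field_simp
  have h9 : v * (l * u * l⁻¹)⁻¹ ∈ D.W D.e := by
    refine ⟨V.mul_mem hv (V.inv_mem h5V), ?_⟩
    rw [D.Φ_mul _ hv _ (V.inv_mem h5V), D.Φ_inv _ h5V, D.Φ_conj l hl u huV, hlM, dd_add,
      dd_neg_right, hdM, add_neg_cancel]
  have h10 : v = v * (l * u * l⁻¹)⁻¹ * (l * u * l⁻¹) := by group
  rw [h10]
  exact U.mul_mem (hWU h9) h5

end NatData

end Cfsg.Agent.Lib.Helper46.NatSL2
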