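import Cfsg.Agent.Lib.Helper46.PReduced

set_option autoImplicit false

namespace Cfsg.Agent.Lib.Helper46

open Cfsg

variable {L : Type*} [Group L]

theorem pCore_isPGroup (p : ℕ) [Fact p.Prime] : IsPGroup p (Cfsg.pCore p L) := by
  unfold Cfsg.pCore
  exact Sylow.sSup_of_normal _ (fun H h => h.2) (fun H h => h.1)

theorem pCore_le_sylow {p : ℕ} [Fact p.Prime] (T : Sylow p L) : Cfsg.pCore p L ≤ (T : Subgroup L) :=
  IsPGroup.le_sylow_of_normal (pCore_isPGroup p) T

/-- If `X` is `p`-reduced normal in `R`, then normal subgroups `D` of `L` that are `p`-groups modulo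
a subgroup centralizing `X` have `D ⊓ R` centralizing `X`. -/
theorem inf_le_centralizer_of_pReduced {p : ℕ} (R : Subgroup L) (X : Subgroup ↥R)
    (hX : Cfsg.IsPReducedNormal p X) (D : Subgroup L) (hD : D.Normal)
    (hDp : ∀ d ∈ D, ∃ k : ℕ, d ^ (p ^ k) ∈ Subgroup.centralizer ((X.map R.subtype : Subgroup L) : Set L)) :
    D ⊓ R ≤ Subgroup.centralizer ((X.map R.subtype : Subgroup L) : Set L) := by
  obtain ⟨_, _, hCn, hcore⟩ := hX
  have := hCn
  have hDR : (D.subgroupOf R).Normal := by
    unfold Subgroup.subgroupOf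
    exact Subgroup.Normal.comap hD _
  have h1 : D.subgroupOf R ≤ Subgroup.centralizer (X : Set ↥R) := by
    refine le_of_pCore_quot_eq_bot _ hcore _ hDR ?_
    intro d hd
    rw [Subgroup.mem_subgroupOf] at hd
    obtain ⟨k, hk⟩ := hDp _ hd
    refine ⟨k, ?_⟩
    rw [Subgroup.mem_centralizer_iff]
    intro x hx
    have hx' : (x : L) ∈ ((X.map R.subtype : Subgroup L) : Set L) :=
      Subgroup.mem_map.mpr ⟨x, hx, rfl⟩
    have := (Subgroup.mem_centralizer_iff.mp hk) _ hx'
    apply Subtype.ext
    simpa using this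
  intro t ht
  rw [Subgroup.mem_centralizer_iff]
  intro x hx
  obtain ⟨x', hx', rfl⟩ := Subgroup.mem_map.mp hx
  have htD : (⟨t, ht.2⟩ : ↥R) ∈ D.subgroupOf R := by
    rw [Subgroup.mem_subgroupOf]; exact ht.1
  have := (Subgroup.mem_centralizer_iff.mp (h1 htD)) x' hx'
  have := congrArg Subtype.val this
  simpa using this

/-- S2802: the normal closure of a `p`-reduced normal subgroup of an overgroup of a Sylow `p`-subgroup. -/
theorem pReduced_normalClosure [Finite L] {p : ℕ} [Fact p.Prime]
    (hchar : Subgroup.centralizer (Cfsg.pCore p L : Set L) ≤ Cfsg.pCore p L) (T : Sylow p L)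
    (R : Subgroup L) (hTR : (T : Subgroup L) ≤ R) (X : Subgroup ↥R) (hX : Cfsg.IsPReducedNormal p X) :
    Cfsg.IsPReducedNormal p (Subgroup.normalClosure ((X.map R.subtype : Subgroup L) : Set L)) := by
  set X' : Subgroup L := X.map R.subtype with hX'
  set Q : Subgroup L := Cfsg.pCore p L with hQ
  have hQp : IsPGroup p Q := pCore_isPGroup p
  have hQn : Q.Normal := Cfsg.pCore_normal p L
  have hQT : Q ≤ (T : Subgroup L) := pCore_le_sylow T
  have hQR : Q ≤ R := hQT.trans hTR
  -- Q centralizes X'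
  have hQX : Q ≤ Subgroup.centralizer (X' : Set L) := by
    have h := inf_le_centralizer_of_pReduced R X hX Q hQn (by
      intro d hd
      obtain ⟨k, hk⟩ := hQp ⟨d, hd⟩
      refine ⟨k, ?_⟩
      have : d ^ (p ^ k) = 1 := by
        have := congrArg Subtype.val hk
        simpa using this
      rw [this]; exact Subgroup.one_mem _)
    intro q hq
    exact h ⟨hq, hQR hq⟩
  have hXQ : X' ≤ Q ⊓ Subgroup.centralizer (Q : Set L) := by
    have h1 : X' ≤ Subgroup.centralizer (Q : Set L) := Subgroup.le_centralizer_iff.mp hQX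
    exact le_inf (h1.trans hchar) h1
  have hXp : ∀ a ∈ X', a ^ p = 1 := by
    intro a ha
    obtain ⟨x, hx, rfl⟩ := Subgroup.mem_map.mp ha
    have := hX.2.1.2 x hx
    have := congrArg Subtype.val this
    simpa using this
  -- the normal subgroup K
  have hCQn : (Subgroup.centralizer (Q : Set L)).Normal := Subgroup.normal_centralizer
  let K : Subgroup L :=
    { carrier := {a | a ∈ Q ⊓ Subgroup.centralizer (Q : Set L) ∧ a ^ p = 1}
      one_mem' := ⟨Subgroup.one_mem _, one_pow _⟩
      mul_mem' := by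
        rintro a b ⟨ha, hap⟩ ⟨hb, hbp⟩
        refine ⟨Subgroup.mul_mem _ ha hb, ?_⟩
        have hc : Commute a b := by
          have := (Subgroup.mem_centralizer_iff.mp ha.2) b hb.1
          exact this.symm
        rw [hc.mul_pow, hap, hbp, one_mul]
      inv_mem' := by
        rintro a ⟨ha, hap⟩
        refine ⟨Subgroup.inv_mem _ ha, ?_⟩
        rw [inv_pow, hap, inv_one] }
  have hKn : K.Normal := by
    constructor
    intro a ha g
    refine ⟨⟨hQn.conj_mem a ha.1.1 g, hCQn.conj_mem a ha.1.2 g⟩, ?_⟩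
    rw [conj_pow, ha.2]; simp
  have hXK : (X' : Set L) ⊆ K := fun a ha => ⟨hXQ ha, hXp a ha⟩
  set Y : Subgroup L := Subgroup.normalClosure (X' : Set L) with hY
  have hYK : Y ≤ K := Subgroup.normalClosure_le_normal hXK
  have hKcomm : K ≤ Subgroup.centralizer (K : Set L) := by
    intro a ha
    rw [Subgroup.mem_centralizer_iff]
    intro b hb
    exact (Subgroup.mem_centralizer_iff.mp ha.1.2) b hb.1.1
  have hYcomm : Y ≤ Subgroup.centralizer (Y : Set L) :=
    hYK.trans (hKcomm.trans (Subgroup.centralizer_le hYK))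
  have hYn : Y.Normal := Subgroup.normalClosure_normal
  refine ⟨hYn, ⟨Subgroup.le_centralizer_iff_isMulCommutative.mp hYcomm, fun a ha => (hYK ha).2⟩, ?_⟩
  refine ⟨inferInstance, ?_⟩
  apply pCore_quot_eq_bot_of
  intro D hD hCD hDp
  have hXY : X' ≤ Y := Subgroup.le_normalClosure
  have hCYX : Subgroup.centralizer (Y : Set L) ≤ Subgroup.centralizer (X' : Set L) :=
    Subgroup.centralizer_le hXY
  -- D ⊓ R centralizes X'
  have hDR := inf_le_centralizer_of_pReduced R X hX D hD (by
    intro d hd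
    obtain ⟨k, hk⟩ := hDp d hd
    exact ⟨k, hCYX hk⟩)
  -- D ≤ C(X')
  have hDX : D ≤ Subgroup.centralizer (X' : Set L) := by
    intro d hd
    -- work in the quotient by C(Y)
    let π := QuotientGroup.mk' (Subgroup.centralizer (Y : Set L))
    have hπ : Function.Surjective π := QuotientGroup.mk'_surjective _
    have hDn : (D.map π).Normal := Subgroup.Normal.map hD _ hπ
    have hDpg : IsPGroup p (D.map π) := by
      rintro ⟨x, hx⟩
      obtain ⟨e, he, rfl⟩ := Subgroup.mem_map.mp hx
      obtain ⟨k, hk⟩ := hDp e he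
      refine ⟨k, ?_⟩
      ext
      simp only [Subgroup.coe_pow, Subgroup.coe_one]
      rw [← map_pow]
      exact (QuotientGroup.eq_one_iff _).mpr hk
    have hle : D.map π ≤ ((T.mapSurjective hπ : Sylow p _) : Subgroup _) :=
      IsPGroup.le_sylow_of_normal hDpg _
    have hd' : π d ∈ ((T.mapSurjective hπ : Sylow p _) : Subgroup _) :=
      hle (Subgroup.mem_map_of_mem _ hd)
    rw [Sylow.coe_mapSurjective] at hd'
    obtain ⟨t, ht, hte⟩ := Subgroup.mem_map.mp hd'
    have hc : t⁻¹ * d ∈ Subgroup.centralizer (Y : Set L) := by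
      have : π (t⁻¹ * d) = 1 := by
        rw [map_mul, map_inv, hte]; simp
      exact (QuotientGroup.eq_one_iff _).mp this
    have htD : t ∈ D := by
      have : t = d * (t⁻¹ * d)⁻¹ := by group
      rw [this]
      exact D.mul_mem hd (D.inv_mem (hCD hc))
    have htX : t ∈ Subgroup.centralizer (X' : Set L) := hDR ⟨htD, hTR ht⟩
    have : d = t * (t⁻¹ * d) := by group
    rw [this]
    exact Subgroup.mul_mem _ htX (hCYX hc)
  -- D ≤ C(Y)
  rw [Subgroup.le_centralizer_iff]
  have hCDn : (Subgroup.centralizer (D : Set L)).Normal := Subgroup.normal_centralizer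
  apply Subgroup.normalClosure_le_normal
  exact Subgroup.le_centralizer_iff.mp hDX

end Cfsg.Agent.Lib.Helper46
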