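import Cfsg.Prelude.Def_LocalEven
import Cfsg.Agent.Lib.Helper46.SL2Vec
import Cfsg.Agent.Lib.Helper46.NatSL2
import Cfsg.Agent.Lib.Helper46.PReduced2

set_option autoImplicit false

namespace Cfsg.Agent.Lib.Helper46.QdOver

open Cfsg.Agent.Lib.Helper46.SL2 Cfsg.Agent.Lib.Helper46.NatSL2

variable {F : Type*} [Field F]

abbrev SL3 (F : Type*) [Field F] := Matrix.SpecialLinearGroup (Fin 3) F

/-- The stabilizer of the row vector `(0,0,1)`. -/
def rowStab (F : Type*) [Field F] : Subgroup (SL3 F) where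
  carrier := {M | Matrix.vecMul ![0, 0, 1] (M : Matrix (Fin 3) (Fin 3) F) = ![0, 0, 1]}
  one_mem' := by simp
  mul_mem' := by
    intro A B hA hB
    simp only [Set.mem_ofPred_eq] at hA hB ⊢
    rw [Matrix.SpecialLinearGroup.coe_mul, ← Matrix.vecMul_vecMul, hA, hB]
  inv_mem' := by
    intro A hA
    simp only [Set.mem_ofPred_eq] at hA ⊢
    have h : Matrix.vecMul (Matrix.vecMul ![0, 0, 1] (A : Matrix (Fin 3) (Fin 3) F))
        ((A⁻¹ : SL3 F) : Matrix (Fin 3) (Fin 3) F) = ![0, 0, 1] := by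
      rw [Matrix.vecMul_vecMul, ← Matrix.SpecialLinearGroup.coe_mul, mul_inv_cancel,
        Matrix.SpecialLinearGroup.coe_one, Matrix.vecMul_one]
    rwa [hA] at h

theorem mem_rowStab_iff (M : SL3 F) : M ∈ rowStab F ↔
    (M : Matrix (Fin 3) (Fin 3) F) 2 0 = 0 ∧ (M : Matrix (Fin 3) (Fin 3) F) 2 1 = 0 ∧
      (M : Matrix (Fin 3) (Fin 3) F) 2 2 = 1 := by
  show Matrix.vecMul ![0, 0, 1] (M : Matrix (Fin 3) (Fin 3) F) = ![0, 0, 1] ↔ _
  constructor
  · intro h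
    have h0 := congrFun h 0
    have h1 := congrFun h 1
    have h2 := congrFun h 2
    simp [Matrix.vecMul, dotProduct, Fin.sum_univ_three] at h0 h1 h2
    exact ⟨h0, h1, h2⟩
  · rintro ⟨h0, h1, h2⟩
    funext j
    fin_cases j <;> simp [Matrix.vecMul, dotProduct, Fin.sum_univ_three, h0, h1, h2]

theorem qdOver_eq : Cfsg.qdOver F = rowStab F := by
  unfold Cfsg.qdOver
  have : {M : SL3 F | (M : Matrix (Fin 3) (Fin 3) F) 2 0 = 0 ∧
      (M : Matrix (Fin 3) (Fin 3) F) 2 1 = 0 ∧ (M : Matrix (Fin 3) (Fin 3) F) 2 2 = 1} =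
      ((rowStab F : Subgroup (SL3 F)) : Set (SL3 F)) := by
    ext M
    exact (mem_rowStab_iff M).symm
  rw [this, Subgroup.closure_eq]

/-- Matrix entries of an element of `qdOver F`. -/
def ent (M : ↥(Cfsg.qdOver F)) (i j : Fin 3) : F :=
  ((M : SL3 F) : Matrix (Fin 3) (Fin 3) F) i j

theorem ent_lr (M : ↥(Cfsg.qdOver F)) : ent M 2 0 = 0 ∧ ent M 2 1 = 0 ∧ ent M 2 2 = 1 := by
  have h : (M : SL3 F) ∈ rowStab F := by
    have h0 : (M : SL3 F) ∈ Cfsg.qdOver F := M.2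
    rw [← qdOver_eq]
    exact h0
  exact (mem_rowStab_iff _).mp h

theorem ent_mul (M N : ↥(Cfsg.qdOver F)) (i j : Fin 3) :
    ent (M * N) i j = ent M i 0 * ent N 0 j + ent M i 1 * ent N 1 j + ent M i 2 * ent N 2 j := by
  unfold ent
  rw [Subgroup.coe_mul, Matrix.SpecialLinearGroup.coe_mul, Matrix.mul_apply, Fin.sum_univ_three]

theorem ent_one (i j : Fin 3) : ent (1 : ↥(Cfsg.qdOver F)) i j = if i = j then 1 else 0 := by
  unfold ent
  rw [Subgroup.coe_one, Matrix.SpecialLinearGroup.coe_one, Matrix.one_apply]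

theorem ext_ent {M N : ↥(Cfsg.qdOver F)} (h : ∀ i j, ent M i j = ent N i j) : M = N :=
  Subtype.ext (Subtype.ext (Matrix.ext h))

theorem det_blk (M : ↥(Cfsg.qdOver F)) : ent M 0 0 * ent M 1 1 - ent M 0 1 * ent M 1 0 = 1 := by
  obtain ⟨h0, h1, h2⟩ := ent_lr M
  have hd := (M : SL3 F).2
  rw [Matrix.det_fin_three] at hd
  unfold ent at *
  rw [h0, h1, h2] at hd
  linear_combination hd

/-- The upper left block. -/
def blkFun (M : ↥(Cfsg.qdOver F)) : SL F :=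
  ⟨!![ent M 0 0, ent M 0 1; ent M 1 0, ent M 1 1], by
    rw [Matrix.det_fin_two]
    simp only [Matrix.of_apply, Matrix.cons_val', Matrix.cons_val_zero, Matrix.cons_val_one,
      Matrix.cons_val_fin_one]
    exact det_blk M⟩

theorem blkFun_eq_iff (M : ↥(Cfsg.qdOver F)) (A : SL F) : blkFun M = A ↔
    ent M 0 0 = (A : Matrix (Fin 2) (Fin 2) F) 0 0 ∧ ent M 0 1 = (A : Matrix (Fin 2) (Fin 2) F) 0 1 ∧
    ent M 1 0 = (A : Matrix (Fin 2) (Fin 2) F) 1 0 ∧ ent M 1 1 = (A : Matrix (Fin 2) (Fin 2) F) 1 1 := by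
  constructor
  · rintro rfl
    simp [blkFun]
  · rintro ⟨h00, h01, h10, h11⟩
    apply Subtype.ext
    ext i j
    fin_cases i <;> fin_cases j <;> simp [blkFun, h00, h01, h10, h11]

def blk : ↥(Cfsg.qdOver F) →* SL F where
  toFun := blkFun
  map_one' := by
    rw [blkFun_eq_iff]
    simp [ent_one]
  map_mul' := by
    intro M N
    obtain ⟨h0, h1, h2⟩ := ent_lr N
    rw [blkFun_eq_iff]
    simp only [Matrix.SpecialLinearGroup.coe_mul, Matrix.mul_apply, Fin.sum_univ_two, ent_mul, h0, h1]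
    simp [blkFun]

theorem blk_apply (M : ↥(Cfsg.qdOver F)) : blk M = blkFun M := rfl

theorem mem_ker_blk (M : ↥(Cfsg.qdOver F)) : M ∈ (blk : ↥(Cfsg.qdOver F) →* SL F).ker ↔
    ent M 0 0 = 1 ∧ ent M 0 1 = 0 ∧ ent M 1 0 = 0 ∧ ent M 1 1 = 1 := by
  rw [MonoidHom.mem_ker, blk_apply, blkFun_eq_iff]
  simp

/-- The block-diagonal embedding of `SL₂(F)`. -/
def embMat (A : SL F) : SL3 F :=
  ⟨!![(A : Matrix (Fin 2) (Fin 2) F) 0 0, (A : Matrix (Fin 2) (Fin 2) F) 0 1, 0;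
      (A : Matrix (Fin 2) (Fin 2) F) 1 0, (A : Matrix (Fin 2) (Fin 2) F) 1 1, 0; 0, 0, 1], by
    rw [Matrix.det_fin_three]
    simp only [Matrix.of_apply, Matrix.cons_val', Matrix.cons_val_zero, Matrix.cons_val_one,
      Matrix.cons_val_two, Matrix.cons_val_fin_one, Matrix.vecHead, Matrix.vecTail,
      Function.comp_apply]
    have := det_eq A
    simp
    linear_combination this⟩

theorem embMat_mem (A : SL F) : embMat A ∈ Cfsg.qdOver F := by
  rw [qdOver_eq, mem_rowStab_iff]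
  simp [embMat]

def emb (A : SL F) : ↥(Cfsg.qdOver F) := ⟨embMat A, embMat_mem A⟩

theorem blk_emb (A : SL F) : blk (emb A) = A := by
  rw [blk_apply, blkFun_eq_iff]
  simp [ent, emb, embMat]

theorem ent_emb_02 (A : SL F) : ent (emb A) 0 2 = 0 ∧ ent (emb A) 1 2 = 0 := by
  simp [ent, emb, embMat]

/-- Translations. -/
def trMat (x : Fin 2 → F) : SL3 F :=
  ⟨!![1, 0, x 0; 0, 1, x 1; 0, 0, 1], by
    rw [Matrix.det_fin_three]
    simp⟩

def tr (x : Fin 2 → F) : ↥(Cfsg.qdOver F) :=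
  ⟨trMat x, by rw [qdOver_eq, mem_rowStab_iff]; simp [trMat]⟩

theorem tr_mem_ker (x : Fin 2 → F) : tr x ∈ (blk : ↥(Cfsg.qdOver F) →* SL F).ker := by
  rw [mem_ker_blk]
  simp [ent, tr, trMat]

/-- The last column (top two entries). -/
def col (M : ↥(Cfsg.qdOver F)) : Fin 2 → F := ![ent M 0 2, ent M 1 2]

theorem col_tr (x : Fin 2 → F) : col (tr x) = x := by
  apply vec2_ext <;> simp [col, ent, tr, trMat]

theorem col_mul_of_ker (M N : ↥(Cfsg.qdOver F)) (hM : M ∈ (blk : ↥(Cfsg.qdOver F) →* SL F).ker) :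
    col (M * N) = col N + col M := by
  obtain ⟨m00, m01, m10, m11⟩ := (mem_ker_blk M).mp hM
  obtain ⟨h0, h1, h2⟩ := ent_lr N
  apply vec2_ext
  · simp [col, ent_mul, m00, m01, h2]
  · simp [col, ent_mul, m10, m11, h2]

theorem col_one : col (1 : ↥(Cfsg.qdOver F)) = 0 := by
  apply vec2_ext <;> simp [col, ent_one]

theorem eq_of_ker_col {M N : ↥(Cfsg.qdOver F)} (hM : M ∈ (blk : ↥(Cfsg.qdOver F) →* SL F).ker)
    (hN : N ∈ (blk : ↥(Cfsg.qdOver F) →* SL F).ker) (h : col M = col N) : M = N := by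
  obtain ⟨m00, m01, m10, m11⟩ := (mem_ker_blk M).mp hM
  obtain ⟨n00, n01, n10, n11⟩ := (mem_ker_blk N).mp hN
  obtain ⟨m20, m21, m22⟩ := ent_lr M
  obtain ⟨n20, n21, n22⟩ := ent_lr N
  have c0 : ent M 0 2 = ent N 0 2 := by
    have := congrFun h 0
    simpa [col] using this
  have c1 : ent M 1 2 = ent N 1 2 := by
    have := congrFun h 1
    simpa [col] using this
  apply ext_ent
  intro i j
  fin_cases i <;> fin_cases j <;> simp [*]

theorem col_pow_of_ker (M : ↥(Cfsg.qdOver F)) (hM : M ∈ (blk : ↥(Cfsg.qdOver F) →* SL F).ker)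
    (k : ℕ) : col (M ^ k) = k • col M := by
  induction k with
  | zero => simp [col_one]
  | succ k ih =>
    rw [pow_succ, col_mul_of_ker _ _ (Subgroup.pow_mem _ hM k), ih, succ_nsmul, add_comm]

theorem ker_isPGroup (p : ℕ) [CharP F p] : IsPGroup p (blk : ↥(Cfsg.qdOver F) →* SL F).ker := by
  intro g
  refine ⟨1, ?_⟩
  apply Subtype.ext
  rw [pow_one, Subgroup.coe_pow, Subgroup.coe_one]
  apply eq_of_ker_col (Subgroup.pow_mem _ g.2 p) (Subgroup.one_mem _)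
  rw [col_pow_of_ker _ g.2, col_one]
  funext i
  simp [nsmul_eq_mul, CharP.cast_eq_zero]

theorem col_conj (l : ↥(Cfsg.qdOver F)) (hl : ent l 0 2 = 0 ∧ ent l 1 2 = 0) (v : ↥(Cfsg.qdOver F))
    (hv : v ∈ (blk : ↥(Cfsg.qdOver F) →* SL F).ker) :
    col (l * v * l⁻¹) = mv (blk l) (col v) := by
  have hw : l * v * l⁻¹ ∈ (blk : ↥(Cfsg.qdOver F) →* SL F).ker :=
    (MonoidHom.normal_ker _).conj_mem v hv l
  have h1 : col (l * v * l⁻¹ * l) = col l + col (l * v * l⁻¹) := col_mul_of_ker _ _ hw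
  have hcl : col l = 0 := by
    apply vec2_ext <;> simp [col, hl.1, hl.2]
  rw [hcl, zero_add, inv_mul_cancel_right] at h1
  rw [← h1]
  obtain ⟨h0, h1', h2⟩ := ent_lr v
  apply vec2_ext
  · rw [mv_apply_zero]
    simp [col, ent_mul, blk_apply, blkFun, hl.1, h2]
  · rw [mv_apply_one]
    simp [col, ent_mul, blk_apply, blkFun, hl.2, h2]

/-- The block-diagonal subgroup. -/
def K (F : Type*) [Field F] : Subgroup ↥(Cfsg.qdOver F) where
  carrier := {M | ent M 0 2 = 0 ∧ ent M 1 2 = 0}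
  one_mem' := by simp [ent_one]
  mul_mem' := by
    rintro A B ⟨a0, a1⟩ ⟨b0, b1⟩
    constructor
    · rw [ent_mul, a0, b0, b1]; ring
    · rw [ent_mul, a1, b0, b1]; ring
  inv_mem' := by
    rintro A ⟨a0, a1⟩
    have h := mul_inv_cancel A
    have e02 : ent (A * A⁻¹) 0 2 = 0 := by rw [h, ent_one]; simp
    have e12 : ent (A * A⁻¹) 1 2 = 0 := by rw [h, ent_one]; simp
    rw [ent_mul, a0] at e02
    rw [ent_mul, a1] at e12
    have hd := det_blk A
    constructor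
    · show ent A⁻¹ 0 2 = 0
      linear_combination (-(ent A⁻¹ 0 2)) * hd + ent A 1 1 * e02 - ent A 0 1 * e12
    · show ent A⁻¹ 1 2 = 0
      linear_combination (-(ent A⁻¹ 1 2)) * hd + ent A 0 0 * e12 - ent A 1 0 * e02

theorem mem_K (M : ↥(Cfsg.qdOver F)) : M ∈ K F ↔ ent M 0 2 = 0 ∧ ent M 1 2 = 0 := Iff.rfl

theorem K_inf_ker : K F ⊓ (blk : ↥(Cfsg.qdOver F) →* SL F).ker = ⊥ := by
  rw [eq_bot_iff]
  rintro M ⟨hK, hker⟩
  rw [Subgroup.mem_bot]
  apply eq_of_ker_col hker (Subgroup.one_mem _)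
  rw [col_one]
  have hK' : ent M 0 2 = 0 ∧ ent M 1 2 = 0 := hK
  apply vec2_ext <;> simp [col, hK'.1, hK'.2]

theorem K_sup_ker : K F ⊔ (blk : ↥(Cfsg.qdOver F) →* SL F).ker = ⊤ := by
  rw [eq_top_iff]
  intro M _
  have h1 : M = emb (blk M) * ((emb (blk M))⁻¹ * M) := by group
  rw [h1]
  apply Subgroup.mul_mem_sup
  · exact ent_emb_02 (blk M)
  · rw [MonoidHom.mem_ker, map_mul, map_inv, blk_emb, inv_mul_cancel]

theorem blk_K_injective : Function.Injective ((blk : ↥(Cfsg.qdOver F) →* SL F).comp (K F).subtype) := by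
  rw [injective_iff_map_eq_one]
  intro k hk
  have : (k : ↥(Cfsg.qdOver F)) ∈ K F ⊓ (blk : ↥(Cfsg.qdOver F) →* SL F).ker := ⟨k.2, hk⟩
  rw [K_inf_ker, Subgroup.mem_bot] at this
  exact Subtype.ext this

theorem blk_K_surjective : Function.Surjective ((blk : ↥(Cfsg.qdOver F) →* SL F).comp (K F).subtype) := by
  intro A
  exact ⟨⟨emb A, ent_emb_02 A⟩, blk_emb A⟩

noncomputable def kEquiv : ↥(K F) ≃* SL F :=
  MulEquiv.ofBijective ((blk : ↥(Cfsg.qdOver F) →* SL F).comp (K F).subtype)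
    ⟨blk_K_injective, blk_K_surjective⟩

/-- A normal `p`-subgroup of `SL₂(F)` is trivial. -/
theorem normal_pSubgroup_eq_bot [Fintype F] {p n : ℕ} [Fact p.Prime] (hF : Fintype.card F = p ^ n)
    (N : Subgroup (SL F)) (hN : N.Normal) (hp : IsPGroup p N) : N = ⊥ := by
  obtain ⟨e, he, hle⟩ := exists_fixed_vector hF N hp
  obtain ⟨y, hy⟩ := exists_dd_ne_zero he
  have hy0 : y ≠ 0 := by
    rintro rfl
    exact hy (dd_zero_right e)
  obtain ⟨M, hM⟩ := exists_mv_eq he hy0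
  rw [eq_bot_iff]
  intro A hA
  rw [Subgroup.mem_bot]
  have h1 : A ∈ stabVec e := hle hA
  have h2 : M⁻¹ * A * M⁻¹⁻¹ ∈ N := hN.conj_mem A hA M⁻¹
  have h3 : M⁻¹ * A * M⁻¹⁻¹ ∈ stabVec e := hle h2
  have h4 : M * (M⁻¹ * A * M⁻¹⁻¹) * M⁻¹ ∈ stabVec (mv M e) := conj_mem_stabVec.mpr h3
  have h5 : M * (M⁻¹ * A * M⁻¹⁻¹) * M⁻¹ = A := by group
  rw [h5, hM] at h4
  exact eq_one_of_fix (mem_stabVec.mp h1) (mem_stabVec.mp h4) hy

theorem core_eq [Fintype F] {p n : ℕ} [Fact p.Prime] [CharP F p] (hF : Fintype.card F = p ^ n) :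
    Cfsg.pCore p ↥(Cfsg.qdOver F) = (blk : ↥(Cfsg.qdOver F) →* SL F).ker := by
  apply le_antisymm
  · intro M hM
    have hnorm : (Cfsg.pCore p ↥(Cfsg.qdOver F)).Normal := by
      unfold Cfsg.pCore
      exact Subgroup.sSup_normal _ (fun H hH => hH.1)
    have hsurj : Function.Surjective (blk : ↥(Cfsg.qdOver F) →* SL F) := fun A => ⟨emb A, blk_emb A⟩
    have h1 : ((Cfsg.pCore p ↥(Cfsg.qdOver F)).map blk).Normal := hnorm.map blk hsurj
    have h2 : IsPGroup p ((Cfsg.pCore p ↥(Cfsg.qdOver F)).map blk) :=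
      (Cfsg.Agent.Lib.Helper46.pCore_isPGroup p).map blk
    have h3 := normal_pSubgroup_eq_bot hF _ h1 h2
    have h4 : blk M ∈ (Cfsg.pCore p ↥(Cfsg.qdOver F)).map blk := Subgroup.mem_map_of_mem blk hM
    rw [h3, Subgroup.mem_bot] at h4
    exact h4
  · exact Cfsg.Agent.Lib.Helper46.le_pCore p _ (MonoidHom.normal_ker _) (ker_isPGroup p)

noncomputable def psi : Additive ↥((blk : ↥(Cfsg.qdOver F) →* SL F).ker) ≃+ (Fin 2 → F) :=
  AddEquiv.ofBijective
    (AddMonoidHom.mk' (fun x => col ((Additive.toMul x : ↥((blk : ↥(Cfsg.qdOver F) →* SL F).ker)) :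
        ↥(Cfsg.qdOver F))) (by
      intro a b
      show col (((Additive.toMul a * Additive.toMul b : ↥((blk : ↥(Cfsg.qdOver F) →* SL F).ker))) :
        ↥(Cfsg.qdOver F)) = _
      rw [Subgroup.coe_mul, col_mul_of_ker _ _ (Additive.toMul a).2, add_comm]))
    ⟨by
      intro a b h
      have : (Additive.toMul a : ↥((blk : ↥(Cfsg.qdOver F) →* SL F).ker)) = Additive.toMul b :=
        Subtype.ext (eq_of_ker_col (Additive.toMul a).2 (Additive.toMul b).2 h)
      exact Additive.toMul.injective this,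
    by
      intro x
      exact ⟨Additive.ofMul ⟨tr x, tr_mem_ker x⟩, col_tr x⟩⟩

theorem psi_apply (v : ↥((blk : ↥(Cfsg.qdOver F) →* SL F).ker)) :
    psi (Additive.ofMul v) = col (v : ↥(Cfsg.qdOver F)) := rfl

theorem natural : Cfsg.IsNaturalSL2Module F (blk : ↥(Cfsg.qdOver F) →* SL F).ker (K F) := by
  have hnorm : ((blk : ↥(Cfsg.qdOver F) →* SL F).ker).Normal := MonoidHom.normal_ker _
  refine ⟨?_, (blk : ↥(Cfsg.qdOver F) →* SL F).comp (K F).subtype, psi, blk_K_surjective, ?_, ?_⟩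
  · rw [Subgroup.normalizer_eq_top]
    exact le_top
  · ext k
    rw [MonoidHom.mem_ker, Subgroup.mem_subgroupOf, Subgroup.mem_centralizer_iff]
    constructor
    · intro h
      have hk1 : (k : ↥(Cfsg.qdOver F)) = 1 := by
        have : (k : ↥(Cfsg.qdOver F)) ∈ K F ⊓ (blk : ↥(Cfsg.qdOver F) →* SL F).ker := ⟨k.2, h⟩
        rw [K_inf_ker, Subgroup.mem_bot] at this
        exact this
      intro t _
      rw [hk1, mul_one, one_mul]
    · intro h
      show blk (k : ↥(Cfsg.qdOver F)) = 1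
      apply ext_mv
      intro x
      rw [mv_one]
      have h1 := h (tr x) (tr_mem_ker x)
      have h2 : (k : ↥(Cfsg.qdOver F)) * tr x * (k : ↥(Cfsg.qdOver F))⁻¹ = tr x := by
        rw [← h1, mul_inv_cancel_right]
      have h3 := col_conj (k : ↥(Cfsg.qdOver F)) k.2 (tr x) (tr_mem_ker x)
      rw [h2, col_tr] at h3
      exact h3.symm
  · intro l v
    refine ⟨⟨(l : ↥(Cfsg.qdOver F)) * v * (l : ↥(Cfsg.qdOver F))⁻¹, hnorm.conj_mem v v.2 l⟩, rfl, ?_⟩
    rw [psi_apply, psi_apply]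
    exact col_conj (l : ↥(Cfsg.qdOver F)) l.2 v v.2

end Cfsg.Agent.Lib.Helper46.QdOver
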