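import Cfsg.Agent.Lib.Helper46.Kieler4

set_option autoImplicit false

namespace Cfsg.Agent.Lib.Helper46

open Cfsg

variable {H : Type*} [Group H]

/-- Kieler's lemma for a normal subgroup. -/
theorem kieler_normal [Finite H] {p : ℕ} [hp : Fact p.Prime]
    (hH : Subgroup.centralizer (Cfsg.pCore p H : Set H) ≤ Cfsg.pCore p H) (T : Sylow p H)
    (L : Subgroup H) [hLn : L.Normal] :
    L ⊓ Subgroup.centralizer ((Cfsg.omegaOne p ((T : Subgroup H) ⊓
      Subgroup.centralizer ((T : Subgroup H) : Set H)) : Subgroup H) : Set H) =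
    L ⊓ Subgroup.centralizer ((Cfsg.omegaOne p (((T : Subgroup H) ⊓ L) ⊓
      Subgroup.centralizer ((((T : Subgroup H) ⊓ L : Subgroup H)) : Set H)) : Subgroup H) : Set H) := by
  obtain ⟨U, hS⟩ := kielerSetup_exists hH T L
  apply le_antisymm
  · exact le_inf inf_le_left (kieler_dir1 T L U hS)
  · exact le_inf inf_le_left (kieler_dir2 T L U hS)

theorem charP_congr {G₁ G₂ : Type*} [Group G₁] [Group G₂] {p : ℕ} (e : G₁ ≃* G₂)
    (h : Subgroup.centralizer (Cfsg.pCore p G₁ : Set G₁) ≤ Cfsg.pCore p G₁) :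
    Subgroup.centralizer (Cfsg.pCore p G₂ : Set G₂) ≤ Cfsg.pCore p G₂ := by
  have hmap : (Cfsg.pCore p G₁).map e.toMonoidHom ≤ Cfsg.pCore p G₂ := by
    unfold Cfsg.pCore
    rw [Subgroup.map_le_iff_le_comap]
    apply sSup_le
    intro N hN
    rw [← Subgroup.map_le_iff_le_comap]
    apply le_sSup
    exact ⟨Subgroup.Normal.map hN.1 _ e.surjective, hN.2.map _⟩
  intro x hx
  have h1 : e.symm x ∈ Subgroup.centralizer (Cfsg.pCore p G₁ : Set G₁) := by
    rw [Subgroup.mem_centralizer_iff]
    intro q hq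
    have hq' : e q ∈ Cfsg.pCore p G₂ := hmap (Subgroup.mem_map.mpr ⟨q, hq, rfl⟩)
    have := (Subgroup.mem_centralizer_iff.mp hx) _ hq'
    apply e.injective
    simpa using this
  have h2 := h h1
  have : x = e (e.symm x) := by simp
  rw [this]
  exact hmap (Subgroup.mem_map.mpr ⟨_, h2, rfl⟩)

/-- Transport of `Ω₁ Z(R)` from a subgroup to the ambient group. -/
theorem map_omegaOne_center {p : ℕ} (K : Subgroup H) (R : Subgroup ↥K) :
    (Cfsg.omegaOne p (R ⊓ Subgroup.centralizer (R : Set ↥K))).map K.subtype =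
      Cfsg.omegaOne p (R.map K.subtype ⊓ Subgroup.centralizer ((R.map K.subtype : Subgroup H) : Set H)) := by
  unfold Cfsg.omegaOne
  rw [MonoidHom.map_closure]
  congr 1
  ext x
  constructor
  · rintro ⟨y, ⟨⟨hyR, hyC⟩, hyp⟩, rfl⟩
    refine ⟨⟨Subgroup.mem_map.mpr ⟨y, hyR, rfl⟩, Subgroup.mem_centralizer_iff.mpr ?_⟩, ?_⟩
    · intro z hz
      obtain ⟨z', hz', rfl⟩ := Subgroup.mem_map.mp hz
      have := (Subgroup.mem_centralizer_iff.mp hyC) z' hz'
      have := congrArg Subtype.val this
      simpa using this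
    · have := congrArg Subtype.val hyp
      simpa using this
  · rintro ⟨⟨hxR, hxC⟩, hxp⟩
    obtain ⟨y, hyR, rfl⟩ := Subgroup.mem_map.mp hxR
    refine ⟨y, ⟨⟨hyR, Subgroup.mem_centralizer_iff.mpr ?_⟩, ?_⟩, rfl⟩
    · intro z hz
      have := (Subgroup.mem_centralizer_iff.mp hxC) _ (Subgroup.mem_map.mpr ⟨z, hz, rfl⟩)
      apply Subtype.ext
      simpa using this
    · apply Subtype.ext
      simpa using hxp

theorem mem_centralizer_subtype_iff (K : Subgroup H) (S : Subgroup ↥K) (x : ↥K) :
    x ∈ Subgroup.centralizer (S : Set ↥K) ↔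
      (x : H) ∈ Subgroup.centralizer ((S.map K.subtype : Subgroup H) : Set H) := by
  constructor
  · intro hx
    rw [Subgroup.mem_centralizer_iff]
    intro z hz
    obtain ⟨z', hz', rfl⟩ := Subgroup.mem_map.mp hz
    have := (Subgroup.mem_centralizer_iff.mp hx) z' hz'
    have := congrArg Subtype.val this
    simpa using this
  · intro hx
    rw [Subgroup.mem_centralizer_iff]
    intro z hz
    have := (Subgroup.mem_centralizer_iff.mp hx) _ (Subgroup.mem_map.mpr ⟨z, hz, rfl⟩)
    apply Subtype.ext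
    simpa using this

/-- Kieler's lemma together with the auxiliary facts carried through the subnormal induction. -/
theorem kieler_aux [Finite H] {p : ℕ} [hp : Fact p.Prime]
    (hH : Subgroup.centralizer (Cfsg.pCore p H : Set H) ≤ Cfsg.pCore p H) (T : Sylow p H)
    (L : Subgroup H) (hL : L.IsSubnormal) :
    Subgroup.centralizer (Cfsg.pCore p ↥L : Set ↥L) ≤ Cfsg.pCore p ↥L ∧
    ¬ p ∣ (T : Subgroup H).relIndex L ∧
    L ⊓ Subgroup.centralizer ((Cfsg.omegaOne p ((T : Subgroup H) ⊓
      Subgroup.centralizer ((T : Subgroup H) : Set H)) : Subgroup H) : Set H) =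
    L ⊓ Subgroup.centralizer ((Cfsg.omegaOne p (((T : Subgroup H) ⊓ L) ⊓
      Subgroup.centralizer ((((T : Subgroup H) ⊓ L : Subgroup H)) : Set H)) : Subgroup H) : Set H) := by
  induction hL with
  | top =>
    refine ⟨charP_congr Subgroup.topEquiv.symm hH, ?_, ?_⟩
    · rw [Subgroup.relIndex_top_right]; exact T.not_dvd_index
    · rw [inf_top_eq]
  | step L L' hle hsub hN ih =>
    obtain ⟨hcharL', hrelL', heqL'⟩ := ih
    -- Sylow of L'
    have hTp : IsPGroup p ((T : Subgroup H).subgroupOf L') := T.isPGroup'.comap_subtype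
    let T' : Sylow p ↥L' := hTp.toSylow hrelL'
    have hT'coe : (T' : Subgroup ↥L') = (T : Subgroup H).subgroupOf L' := rfl
    have hT'map : (T' : Subgroup ↥L').map L'.subtype = (T : Subgroup H) ⊓ L' := by
      rw [hT'coe, Subgroup.subgroupOf_map_subtype]
    set Lt : Subgroup ↥L' := L.subgroupOf L' with hLt
    have hLtn : Lt.Normal := hN
    have hLtmap : Lt.map L'.subtype = L := by
      rw [hLt, Subgroup.subgroupOf_map_subtype, inf_of_le_left hle]
    refine ⟨?_, ?_, ?_⟩
    · have := charP_of_normal hcharL' Lt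
      exact charP_congr (Subgroup.subgroupOfEquivOfLe hle) this
    · have h1 := sylow_relIndex_normal T' Lt
      rw [Subgroup.inf_relIndex_right, hT'coe, hLt, Subgroup.relIndex_subgroupOf hle] at h1
      exact h1
    · have hk := kieler_normal hcharL' T' Lt
      have hmapinf : ((T' : Subgroup ↥L') ⊓ Lt).map L'.subtype = (T : Subgroup H) ⊓ L := by
        rw [Subgroup.map_inf _ _ _ L'.subtype_injective, hT'map, hLtmap, inf_assoc,
          inf_of_le_right hle]
      ext x
      rw [Subgroup.mem_inf, Subgroup.mem_inf]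
      constructor
      · rintro ⟨hxL, hxC⟩
        refine ⟨hxL, ?_⟩
        have hxL' : x ∈ L' := hle hxL
        have h1 : x ∈ L' ⊓ Subgroup.centralizer ((Cfsg.omegaOne p ((T : Subgroup H) ⊓
            Subgroup.centralizer ((T : Subgroup H) : Set H)) : Subgroup H) : Set H) :=
          Subgroup.mem_inf.mpr ⟨hxL', hxC⟩
        rw [heqL'] at h1
        have h1' := (Subgroup.mem_inf.mp h1).2
        have h2 : (⟨x, hxL'⟩ : ↥L') ∈ Lt ⊓ Subgroup.centralizer
            ((Cfsg.omegaOne p ((T' : Subgroup ↥L') ⊓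
              Subgroup.centralizer ((T' : Subgroup ↥L') : Set ↥L')) : Subgroup ↥L') : Set ↥L') := by
          rw [Subgroup.mem_inf]
          refine ⟨Subgroup.mem_subgroupOf.mpr hxL, ?_⟩
          rw [mem_centralizer_subtype_iff, map_omegaOne_center, hT'map]
          exact h1'
        rw [hk] at h2
        have h3 := (Subgroup.mem_inf.mp h2).2
        rw [mem_centralizer_subtype_iff, map_omegaOne_center, hmapinf] at h3
        exact h3
      · rintro ⟨hxL, hxC⟩
        refine ⟨hxL, ?_⟩
        have hxL' : x ∈ L' := hle hxL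
        have h2 : (⟨x, hxL'⟩ : ↥L') ∈ Lt ⊓ Subgroup.centralizer
            ((Cfsg.omegaOne p (((T' : Subgroup ↥L') ⊓ Lt) ⊓
              Subgroup.centralizer ((((T' : Subgroup ↥L') ⊓ Lt : Subgroup ↥L')) : Set ↥L')) :
                Subgroup ↥L') : Set ↥L') := by
          rw [Subgroup.mem_inf]
          refine ⟨Subgroup.mem_subgroupOf.mpr hxL, ?_⟩
          rw [mem_centralizer_subtype_iff, map_omegaOne_center, hmapinf]
          exact hxC
        rw [← hk] at h2
        have h3 := (Subgroup.mem_inf.mp h2).2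
        rw [mem_centralizer_subtype_iff, map_omegaOne_center, hT'map] at h3
        have h4 : x ∈ L' ⊓ Subgroup.centralizer ((Cfsg.omegaOne p (((T : Subgroup H) ⊓ L') ⊓
            Subgroup.centralizer ((((T : Subgroup H) ⊓ L' : Subgroup H)) : Set H)) : Subgroup H) : Set H) :=
          Subgroup.mem_inf.mpr ⟨hxL', h3⟩
        rw [← heqL'] at h4
        exact (Subgroup.mem_inf.mp h4).2

end Cfsg.Agent.Lib.Helper46
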