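import Mathlib

/-! # RH-K1N core (helper46, Rh hive of helper38): abstract orbit–stabiliser on the three involutions of a subgroup -/

set_option autoImplicit false

namespace Cfsg.Agent.Lib.Helper38.Rh

open Subgroup

/-- conjugation transports `N(C') ∩ C(a)` to `N(C) ∩ C(t)` when `C' = c⁻¹ C c` and `t = c a c⁻¹`. -/
theorem k1n_card_transport {G : Type*} [Group G] (C : Subgroup G) (a c : G) :
    Nat.card ↥(normalizer (C : Set G) ⊓ centralizer ({c * a * c⁻¹} : Set G)) =
      Nat.card ↥(normalizer ((C.map (MulAut.conj c⁻¹).toMonoidHom : Subgroup G) : Set G) ⊓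
        centralizer ({a} : Set G)) := by
  have hmemC : ∀ x : G, x ∈ C.map (MulAut.conj c⁻¹).toMonoidHom ↔ c * x * c⁻¹ ∈ C := by
    intro x
    constructor
    · rintro ⟨y, hy, rfl⟩
      have : c * ((MulAut.conj c⁻¹).toMonoidHom y) * c⁻¹ = y := by
        simp [mul_assoc]
      rw [this]; exact hy
    · intro hx
      refine ⟨c * x * c⁻¹, hx, ?_⟩
      simp [mul_assoc]
  refine Nat.card_congr
    { toFun := fun g => ⟨c⁻¹ * g.1 * c, ?_⟩
      invFun := fun g => ⟨c * g.1 * c⁻¹, ?_⟩
      left_inv := fun g => by ext; simp [mul_assoc]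
      right_inv := fun g => by ext; simp [mul_assoc] }
  · have hg := Subgroup.mem_inf.mp g.2
    obtain ⟨hgN, hgC⟩ := hg
    refine Subgroup.mem_inf.mpr ⟨?_, ?_⟩
    · rw [mem_set_normalizer_iff] at hgN ⊢
      intro h
      rw [SetLike.mem_coe, SetLike.mem_coe, hmemC, hmemC]
      have h1 := hgN (c * h * c⁻¹)
      rw [SetLike.mem_coe, SetLike.mem_coe] at h1
      rw [h1]
      have : c * (c⁻¹ * (g : G) * c * h * (c⁻¹ * (g : G) * c)⁻¹) * c⁻¹ = (g : G) * (c * h * c⁻¹) * (g : G)⁻¹ := by
        group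
      rw [this]
    · rw [mem_centralizer_singleton_iff] at hgC ⊢
      have h2 : c⁻¹ * ((g : G) * (c * a * c⁻¹)) * c = c⁻¹ * ((c * a * c⁻¹) * (g : G)) * c := by rw [hgC]
      calc c⁻¹ * (g : G) * c * a = c⁻¹ * ((g : G) * (c * a * c⁻¹)) * c := by group
        _ = c⁻¹ * ((c * a * c⁻¹) * (g : G)) * c := h2
        _ = a * (c⁻¹ * (g : G) * c) := by group
  · have hg := Subgroup.mem_inf.mp g.2
    obtain ⟨hgN, hgC⟩ := hg
    refine Subgroup.mem_inf.mpr ⟨?_, ?_⟩
    · rw [mem_set_normalizer_iff] at hgN ⊢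
      intro h
      have h1 := hgN (c⁻¹ * h * c)
      rw [SetLike.mem_coe, SetLike.mem_coe, hmemC, hmemC] at h1
      have e1 : c * (c⁻¹ * h * c) * c⁻¹ = h := by group
      have e2 : c * ((g : G) * (c⁻¹ * h * c) * (g : G)⁻¹) * c⁻¹ = c * (g : G) * c⁻¹ * h * (c * (g : G) * c⁻¹)⁻¹ := by
        group
      rw [e1, e2] at h1
      exact h1
    · rw [mem_centralizer_singleton_iff] at hgC ⊢
      calc c * (g : G) * c⁻¹ * (c * a * c⁻¹) = c * ((g : G) * a) * c⁻¹ := by group
        _ = c * (a * (g : G)) * c⁻¹ := by rw [hgC]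
        _ = c * a * c⁻¹ * (c * (g : G) * c⁻¹) := by group

/-- abstract orbit–stabiliser: if `C` has exactly four elements with `g * g = 1`, `t ∈ C` is an involution and the stabiliser
`N(C) ∩ C(t)` has order `k`, then `|N(C)| = w k` with `w ∈ {1, 2, 3}`. -/
theorem k1n_core {G : Type*} [Group G] [Finite G] (C : Subgroup G) (t : G) (htC : t ∈ C) (ht1 : t ≠ 1)
    (ht2 : t * t = 1) (h4 : Nat.card {g : G // g ∈ C ∧ g * g = 1} = 4) (k : ℕ)
    (hS : Nat.card ↥(normalizer (C : Set G) ⊓ centralizer ({t} : Set G)) = k) :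
    ∃ w : ℕ, (w = 1 ∨ w = 2 ∨ w = 3) ∧ Nat.card ↥(normalizer (C : Set G)) = w * k := by
  classical
  -- the action of `N(C)` on `G` by conjugation
  letI act : MulAction ↥(normalizer (C : Set G)) G :=
    MulAction.compHom G ((MulAut.conj : G →* MulAut G).comp (normalizer (C : Set G)).subtype)
  have hsmul : ∀ (n : ↥(normalizer (C : Set G))) (x : G), n • x = (n : G) * x * (n : G)⁻¹ := fun n x => rfl
  -- orbit–stabiliser
  have hos : Nat.card ↥(normalizer (C : Set G)) =
      Nat.card (MulAction.orbit ↥(normalizer (C : Set G)) t) *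
        Nat.card (MulAction.stabilizer ↥(normalizer (C : Set G)) t) := by
    rw [Subgroup.card_eq_card_quotient_mul_card_subgroup (MulAction.stabilizer ↥(normalizer (C : Set G)) t)]
    congr 1
    exact (Nat.card_congr (MulAction.orbitEquivQuotientStabilizer ↥(normalizer (C : Set G)) t)).symm
  -- the stabiliser has `k` elements
  have hstab : Nat.card (MulAction.stabilizer ↥(normalizer (C : Set G)) t) = k := by
    rw [← hS]
    refine Nat.card_congr
      { toFun := fun n => ⟨(n.1 : G), Subgroup.mem_inf.mpr ⟨n.1.2, ?_⟩⟩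
        invFun := fun g => ⟨⟨g.1, (Subgroup.mem_inf.mp g.2).1⟩, ?_⟩
        left_inv := fun n => by ext; rfl
        right_inv := fun g => by ext; rfl }
    · have h := n.2
      rw [MulAction.mem_stabilizer_iff, hsmul] at h
      rw [mem_centralizer_singleton_iff]
      calc (n.1 : G) * t = (n.1 : G) * t * (n.1 : G)⁻¹ * (n.1 : G) := by group
        _ = t * (n.1 : G) := by rw [h]
    · have h := (Subgroup.mem_inf.mp g.2).2
      rw [mem_centralizer_singleton_iff] at h
      rw [MulAction.mem_stabilizer_iff, hsmul]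
      show g.1 * t * g.1⁻¹ = t
      rw [h]; group
  -- the orbit lies in the set of the three involutions of `C`
  have hsub : MulAction.orbit ↥(normalizer (C : Set G)) t ⊆ {g : G | g ∈ C ∧ g * g = 1} \ {1} := by
    rintro x ⟨n, rfl⟩
    show n • t ∈ _
    rw [hsmul]
    refine ⟨⟨?_, ?_⟩, ?_⟩
    · have := n.2
      rw [mem_set_normalizer_iff] at this
      exact (this t).1 htC
    · calc (n : G) * t * (n : G)⁻¹ * ((n : G) * t * (n : G)⁻¹) = (n : G) * (t * t) * (n : G)⁻¹ := by group
        _ = 1 := by rw [ht2]; group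
    · intro h
      rw [Set.mem_singleton_iff] at h
      apply ht1
      calc t = (n : G)⁻¹ * ((n : G) * t * (n : G)⁻¹) * (n : G) := by group
        _ = 1 := by rw [h]; group
  have hfin : ({g : G | g ∈ C ∧ g * g = 1} \ {1}).Finite := Set.toFinite _
  have hcard3 : ({g : G | g ∈ C ∧ g * g = 1} \ {1}).ncard = 3 := by
    have h1mem : (1 : G) ∈ {g : G | g ∈ C ∧ g * g = 1} := ⟨C.one_mem, by simp⟩
    rw [Set.ncard_sdiff_singleton_of_mem h1mem]
    have : ({g : G | g ∈ C ∧ g * g = 1}).ncard = 4 := by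
      rw [← Nat.card_coe_set_eq]; exact h4
    rw [this]
  have hle : (MulAction.orbit ↥(normalizer (C : Set G)) t).ncard ≤ 3 := by
    rw [← hcard3]; exact Set.ncard_le_ncard hsub hfin
  have hpos : 0 < (MulAction.orbit ↥(normalizer (C : Set G)) t).ncard := by
    rw [Set.ncard_pos (Set.toFinite _)]
    exact MulAction.nonempty_orbit t
  refine ⟨(MulAction.orbit ↥(normalizer (C : Set G)) t).ncard, ?_, ?_⟩
  · omega
  · rw [hos, hstab, Nat.card_coe_set_eq]

end Cfsg.Agent.Lib.Helper38.Rh
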