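import Cfsg.Agent.Lib.Helper38.RhDefsB
import Cfsg.Agent.Lib.Helper38.RhC1V
import Cfsg.Agent.Lib.Helper45.RhK1T
import Cfsg.Agent.Lib.Helper24.RhC1C
import Cfsg.Agent.Lib.Helper46.RhK1Ncore

/-! # RH-K1N (helper46, Rh hive of helper38): `|N(C)| = w₁ (q + 1)`, `w₁ ∈ {2, 4, 6}` for a `(q+1)`-torus `C` -/

set_option autoImplicit false

namespace Cfsg.Agent.Lib.Helper38.Rh

open Cfsg.Agent.Lib.Helper12.Rt

section partB
variable {K : Type*} [Field K] [Fintype K] {G : Type*} [Group G] {m : ℕ} (D : RtData K G m)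

include D

/-- RH-K1N.  `|N(C)| = w₁ (q + 1)` with `w₁ ∈ {2, 4, 6}`. -/
theorem c1_card_normalizer (hm : 1 ≤ m) {C : Subgroup G} (hC : IsC1 m C) :
    ∃ w₁ : ℕ, (w₁ = 2 ∨ w₁ = 4 ∨ w₁ = 6) ∧ Nat.card ↥(Subgroup.normalizer (C : Set G)) = w₁ * (qq m + 1) := by
  haveI := D.finite
  have h4 : Nat.card {g : G // g ∈ C ∧ g * g = 1} = 4 := (c1_sq D hm hC).1
  -- an involution of `C`
  obtain ⟨t, htC, ht2, ht1⟩ : ∃ t : G, t ∈ C ∧ t * t = 1 ∧ t ≠ 1 := by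
    by_contra hcon
    push Not at hcon
    have hsub : {g : G | g ∈ C ∧ g * g = 1} ⊆ {1} := by
      rintro g ⟨hgC, hg2⟩
      exact hcon g hgC hg2
    have hle : ({g : G | g ∈ C ∧ g * g = 1}).ncard ≤ 1 := by
      have := Set.ncard_le_ncard hsub (Set.finite_singleton (1 : G))
      rwa [Set.ncard_singleton] at this
    have h4' : ({g : G | g ∈ C ∧ g * g = 1}).ncard = 4 := by
      rw [← Nat.card_coe_set_eq]; exact h4
    omega
  -- conjugate `t` to `a`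
  obtain ⟨c, hc⟩ := D.inv_conj t ht1 ht2
  have hC' : IsC1 m (C.map (MulAut.conj c⁻¹).toMonoidHom) := c1_map_conj D hC c⁻¹
  have haC' : D.I.a ∈ C.map (MulAut.conj c⁻¹).toMonoidHom := by
    refine ⟨t, htC, ?_⟩
    rw [← hc]
    simp [mul_assoc]
  have hK := c1_card_normalizer_inf D hC' haC'
  have hS : Nat.card ↥(Subgroup.normalizer (C : Set G) ⊓ Subgroup.centralizer ({t} : Set G)) = 2 * (qq m + 1) := by
    rw [← hc, k1n_card_transport C D.I.a c, hK]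
  obtain ⟨w, hw, hN⟩ := k1n_core C t htC ht1 ht2 h4 (2 * (qq m + 1)) hS
  refine ⟨2 * w, ?_, ?_⟩
  · omega
  · rw [hN]; ring

end partB

end Cfsg.Agent.Lib.Helper38.Rh
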