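import Cfsg.Prelude.Def_LocalEven

set_option autoImplicit false

namespace Cfsg.Agent.Lib.Helper46

open Cfsg

variable {L : Type*} [Group L]

theorem pCore_eq_bot_iff {Q : Type*} [Group Q] (p : ℕ) :
    Cfsg.pCore p Q = ⊥ ↔ ∀ N : Subgroup Q, N.Normal → IsPGroup p N → N = ⊥ := by
  unfold Cfsg.pCore
  rw [sSup_eq_bot]
  constructor
  · intro h N hN hp
    exact h N ⟨hN, hp⟩
  · intro h N hN
    exact h N hN.1 hN.2

theorem le_pCore {Q : Type*} [Group Q] (p : ℕ) (N : Subgroup Q) (hN : N.Normal) (hp : IsPGroup p N) :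
    N ≤ Cfsg.pCore p Q := by
  unfold Cfsg.pCore
  exact le_sSup ⟨hN, hp⟩

theorem isPGroup_of_elemAb {p : ℕ} {V : Subgroup L} (hV : Cfsg.IsElementaryAbelian p V) :
    IsPGroup p V := by
  intro g
  refine ⟨1, ?_⟩
  have := hV.2 g.1 g.2
  ext
  simpa using this

/-- A normal subgroup `D` whose elements have `p`-power order modulo `C`, where `L/C` has trivial `p`-core,
lies in `C`. -/
theorem le_of_pCore_quot_eq_bot {p : ℕ} (C : Subgroup L) [hC : C.Normal]
    (h : Cfsg.pCore p (L ⧸ C) = ⊥) (D : Subgroup L) (hD : D.Normal)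
    (hDp : ∀ d ∈ D, ∃ k : ℕ, d ^ (p ^ k) ∈ C) : D ≤ C := by
  have hmapN : (D.map (QuotientGroup.mk' C)).Normal :=
    Subgroup.Normal.map hD _ (QuotientGroup.mk'_surjective C)
  have hmapP : IsPGroup p (D.map (QuotientGroup.mk' C)) := by
    rintro ⟨x, hx⟩
    obtain ⟨d, hd, rfl⟩ := Subgroup.mem_map.mp hx
    obtain ⟨k, hk⟩ := hDp d hd
    refine ⟨k, ?_⟩
    ext
    simp only [Subgroup.coe_pow, Subgroup.coe_one]
    rw [← map_pow]
    exact (QuotientGroup.eq_one_iff _).mpr hk
  have hbot := (pCore_eq_bot_iff p).mp h _ hmapN hmapP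
  intro d hd
  have : (QuotientGroup.mk' C) d ∈ D.map (QuotientGroup.mk' C) := Subgroup.mem_map_of_mem _ hd
  rw [hbot, Subgroup.mem_bot] at this
  exact (QuotientGroup.eq_one_iff _).mp this

/-- A normal `p`-subgroup centralizes every `p`-reduced normal subgroup. -/
theorem normal_pGroup_le_centralizer {p : ℕ} {V : Subgroup L} (hV : Cfsg.IsPReducedNormal p V)
    (Q : Subgroup L) (hQ : Q.Normal) (hQp : IsPGroup p Q) :
    Q ≤ Subgroup.centralizer (V : Set L) := by
  obtain ⟨_, _, hCn, hcore⟩ := hV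
  have := hCn
  refine le_of_pCore_quot_eq_bot _ hcore Q hQ ?_
  intro d hd
  obtain ⟨k, hk⟩ := hQp ⟨d, hd⟩
  refine ⟨k, ?_⟩
  have : d ^ (p ^ k) = 1 := by
    have := congrArg Subtype.val hk
    simpa using this
  rw [this]
  exact Subgroup.one_mem _

/-- Criterion for `pCore p (L ⧸ C) = ⊥` in terms of subgroups of `L`. -/
theorem pCore_quot_eq_bot_of {p : ℕ} (C : Subgroup L) [hC : C.Normal]
    (h : ∀ D : Subgroup L, D.Normal → C ≤ D → (∀ d ∈ D, ∃ k : ℕ, d ^ (p ^ k) ∈ C) → D ≤ C) :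
    Cfsg.pCore p (L ⧸ C) = ⊥ := by
  rw [pCore_eq_bot_iff]
  intro N hN hNp
  have hD : (N.comap (QuotientGroup.mk' C)).Normal := Subgroup.Normal.comap hN _
  have hle : N.comap (QuotientGroup.mk' C) ≤ C := by
    apply h _ hD
    · intro c hc
      rw [Subgroup.mem_comap]
      have : (QuotientGroup.mk' C) c = 1 := (QuotientGroup.eq_one_iff _).mpr hc
      rw [this]
      exact Subgroup.one_mem _
    · intro d hd
      rw [Subgroup.mem_comap] at hd
      obtain ⟨k, hk⟩ := hNp ⟨_, hd⟩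
      refine ⟨k, ?_⟩
      have : ((QuotientGroup.mk' C) d) ^ (p ^ k) = 1 := by
        have := congrArg Subtype.val hk
        simpa using this
      rw [← map_pow] at this
      exact (QuotientGroup.eq_one_iff _).mp this
  rw [eq_bot_iff]
  intro x hx
  obtain ⟨d, rfl⟩ := QuotientGroup.mk'_surjective C x
  have hd : d ∈ N.comap (QuotientGroup.mk' C) := hx
  have := hle hd
  rw [Subgroup.mem_bot]
  exact (QuotientGroup.eq_one_iff _).mpr this

theorem pReduced_bot (p : ℕ) : Cfsg.IsPReducedNormal p (⊥ : Subgroup L) := by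
  refine ⟨inferInstance, ⟨?_, ?_⟩, ?_⟩
  · infer_instance
  · intro a ha
    rw [Subgroup.mem_bot] at ha
    rw [ha, one_pow]
  · have hC : Subgroup.centralizer ((⊥ : Subgroup L) : Set L) = ⊤ := by
      rw [eq_top_iff]
      intro x _
      rw [Subgroup.mem_centralizer_iff]
      intro y hy
      have : y = 1 := hy
      rw [this]; simp
    have hn : (Subgroup.centralizer ((⊥ : Subgroup L) : Set L)).Normal := by
      rw [hC]; infer_instance
    refine ⟨hn, ?_⟩
    apply pCore_quot_eq_bot_of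
    intro D _ _ _
    rw [hC]; exact le_top

/-- The join of a family of `p`-reduced normal subgroups is `p`-reduced normal. -/
theorem pReduced_sSup {p : ℕ} (S : Set (Subgroup L)) (hS : ∀ V ∈ S, Cfsg.IsPReducedNormal p V) :
    Cfsg.IsPReducedNormal p (sSup S) := by
  have hcomm : ∀ V ∈ S, ∀ V' ∈ S, V' ≤ Subgroup.centralizer (V : Set L) := by
    intro V hV V' hV'
    exact normal_pGroup_le_centralizer (hS V hV) V' (hS V' hV').1 (isPGroup_of_elemAb (hS V' hV').2.1)
  have hYn : (sSup S).Normal := Subgroup.sSup_normal _ (fun V hV => (hS V hV).1)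
  have hYC : ∀ V ∈ S, V ≤ Subgroup.centralizer ((sSup S : Subgroup L) : Set L) := by
    intro V hV
    rw [Subgroup.le_centralizer_iff]
    apply sSup_le
    intro V' hV'
    exact hcomm V hV V' hV'
  -- the subgroup K of elements of Y ⊓ C(Y) of order dividing p
  let K : Subgroup L :=
    { carrier := {a | a ∈ sSup S ⊓ Subgroup.centralizer ((sSup S : Subgroup L) : Set L) ∧ a ^ p = 1}
      one_mem' := ⟨Subgroup.one_mem _, one_pow _⟩
      mul_mem' := by
        rintro a b ⟨ha, hap⟩ ⟨hb, hbp⟩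
        refine ⟨Subgroup.mul_mem _ ha hb, ?_⟩
        have hc : Commute a b := by
          have := (Subgroup.mem_centralizer_iff.mp ha.2) b hb.1
          exact this.symm
        rw [hc.mul_pow, hap, hbp, one_mul]
      inv_mem' := by
        rintro a ⟨ha, hap⟩
        refine ⟨Subgroup.inv_mem _ ha, ?_⟩
        rw [inv_pow, hap, inv_one] }
  have hYK : sSup S ≤ K := by
    apply sSup_le
    intro V hV a ha
    exact ⟨⟨le_sSup hV ha, hYC V hV ha⟩, (hS V hV).2.1.2 a ha⟩
  have hYcomm : sSup S ≤ Subgroup.centralizer ((sSup S : Subgroup L) : Set L) :=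
    fun a ha => (hYK ha).1.2
  refine ⟨hYn, ⟨Subgroup.le_centralizer_iff_isMulCommutative.mp hYcomm, fun a ha => (hYK ha).2⟩, ?_⟩
  have := hYn
  refine ⟨inferInstance, ?_⟩
  apply pCore_quot_eq_bot_of
  intro D hD hCD hDp
  rw [Subgroup.le_centralizer_iff]
  apply sSup_le
  intro V hV
  rw [Subgroup.le_centralizer_iff]
  obtain ⟨_, _, hCn, hcore⟩ := hS V hV
  have := hCn
  refine le_of_pCore_quot_eq_bot _ hcore D hD ?_
  intro d hd
  obtain ⟨k, hk⟩ := hDp d hd
  refine ⟨k, ?_⟩
  have hle : Subgroup.centralizer ((sSup S : Subgroup L) : Set L) ≤ Subgroup.centralizer (V : Set L) :=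
    Subgroup.centralizer_le (le_sSup hV)
  exact hle hk

end Cfsg.Agent.Lib.Helper46
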