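import Cfsg.Agent.Lib.Helper46.AhDefs
import Cfsg.Agent.Lib.Helper88.HsCYC

/-!
# Ah hive (S2538), leaf AH-CYC: a Hall `π`-subgroup of `A(α)` contains a `p`-cycle for every odd prime
`p ∈ π` with `p ≤ |α|`.
-/

set_option autoImplicit false

namespace Cfsg.Agent.Lib.Helper46.Ah

open Cfsg Equiv
open Cfsg.Agent.Lib.Helper15.Hs (resSub mem_resSub)
open scoped Pointwise

section leaves

variable {α : Type*} [Fintype α] [DecidableEq α] {π : Set ℕ} (M : Subgroup (Perm α)) (B : Set α)

theorem cyc_card_subgroupOf_alt (hMA : M ≤ alternatingGroup α) :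
    Nat.card (M.subgroupOf (alternatingGroup α)) = Nat.card M :=
  Nat.card_congr (Subgroup.subgroupOfEquivOfLe hMA).toEquiv

/-- AH-CYC -/
theorem exists_cycle_mem_alt (hM : AltHall π M) (p : ℕ) (hp : p.Prime) (hp2 : p ≠ 2) (hpπ : p ∈ π)
    (hle : p ≤ Fintype.card α) : ∃ g ∈ M, g.IsCycle ∧ g.support.card = p := by
  classical
  have : Fact p.Prime := ⟨hp⟩
  have hle' : p ≤ Nat.card α := by rw [Nat.card_eq_fintype_card]; exact hle
  obtain ⟨c, hc, hcard⟩ := Cfsg.Agent.Lib.Helper15.Hs.cyc_exists_cycle (α := α) p hp.two_le hle'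
  have hord : orderOf c = p := by rw [hc.orderOf, hcard]
  have hzp : IsPGroup p (Subgroup.zpowers c) := by
    apply IsPGroup.of_card (n := 1)
    rw [Nat.card_zpowers, hord, pow_one]
  obtain ⟨Q, hQ⟩ := hzp.exists_le_sylow
  -- the `p`-part of `|M|` is the `p`-part of `|Perm α|`
  have hnt : Nontrivial α := Fintype.one_lt_card_iff_nontrivial.mp (by have := hp.two_le; omega)
  have hfac : (Nat.card M).factorization p = (Nat.card (Perm α)).factorization p := by
    have h1 := Cfsg.Agent.Lib.Helper15.Hs.hall_factorization_eq hM.2 hp hpπ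
    rw [cyc_card_subgroupOf_alt M hM.1] at h1
    rw [h1]
    have h2 : 2 * Nat.card (alternatingGroup α) = Nat.card (Perm α) := by
      rw [Nat.card_eq_fintype_card, Nat.card_eq_fintype_card, two_mul_card_alternatingGroup]
    rw [← h2, Nat.factorization_mul (by norm_num) Nat.card_pos.ne']
    have h3 : (Nat.factorization 2) p = 0 := by
      rw [Nat.Prime.factorization Nat.prime_two]
      simp [Ne.symm hp2]
    simp [h3]
  obtain ⟨P₀⟩ : Nonempty (Sylow p M) := inferInstance
  have hcardP : Nat.card ((P₀ : Subgroup M).map M.subtype) =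
      p ^ (Nat.card (Perm α)).factorization p := by
    rw [Subgroup.card_map_of_injective M.subtype_injective, P₀.card_eq_multiplicity, hfac]
  set P : Sylow p (Perm α) := Sylow.ofCard _ hcardP with hP
  have hPH : (P : Subgroup (Perm α)) ≤ M := by
    rw [hP, Sylow.coe_ofCard]
    exact Subgroup.map_subtype_le _
  obtain ⟨g, hg⟩ := MulAction.exists_smul_eq (Perm α) Q P
  refine ⟨g * c * g⁻¹, hPH ?_, hc.conj, ?_⟩
  · have h1 : (MulAut.conj g) • c ∈ (MulAut.conj g) • (Q : Subgroup (Perm α)) :=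
      Subgroup.smul_mem_pointwise_smul _ _ _ (hQ (Subgroup.mem_zpowers c))
    rw [← Sylow.pointwise_smul_def, ← Sylow.smul_def, hg] at h1
    simpa [MulAut.smul_def] using h1
  · rw [Equiv.Perm.card_support_conj, hcard]

end leaves

end Cfsg.Agent.Lib.Helper46.Ah
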