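import Cfsg.Agent.Lib.Helper15.HsBasic

/-!
# Ah hive (S2538): Hall π-subgroups of alternating groups — shared definitions

`M : Subgroup (Equiv.Perm α)` throughout; `AltHall π M` says `M ≤ A(α)` and `M` is a Hall π-subgroup of `A(α)`.
`OddExt π M`: some π-subgroup of `Perm α` contains `M` and an odd permutation.
`Rel M B x y`: no element of `M` separates `x` and `y` with respect to the set `B` (an `M`-invariant
equivalence relation; for a block `B` of a transitive `M` its classes are the translates of `B`, for an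
orbit `B` its classes are `B` and `Bᶜ`).
-/

set_option autoImplicit false

namespace Cfsg.Agent.Lib.Helper46.Ah

open Cfsg Equiv

variable {α : Type*}

section defs

variable [Fintype α] [DecidableEq α]

/-- `M ≤ A(α)` is a Hall π-subgroup of the alternating group. -/
def AltHall (π : Set ℕ) (M : Subgroup (Perm α)) : Prop :=
  M ≤ alternatingGroup α ∧ IsPiHall π (M.subgroupOf (alternatingGroup α))

/-- Some π-subgroup of `Perm α` contains `M` and an odd permutation. -/
def OddExt (π : Set ℕ) (M : Subgroup (Perm α)) : Prop :=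
  ∃ M₀ : Subgroup (Perm α), M ≤ M₀ ∧ IsPiSubgroup π M₀ ∧ ∃ g ∈ M₀, Perm.sign g = -1

end defs

/-- `x` and `y` are not separated by `M` with respect to `B`. -/
def Rel (M : Subgroup (Perm α)) (B : Set α) (x y : α) : Prop :=
  ∀ g ∈ M, g x ∈ B ↔ g y ∈ B

theorem Rel.refl (M : Subgroup (Perm α)) (B : Set α) (x : α) : Rel M B x x := fun _ _ => Iff.rfl

theorem Rel.symm {M : Subgroup (Perm α)} {B : Set α} {x y : α} (h : Rel M B x y) : Rel M B y x :=
  fun g hg => (h g hg).symm

theorem Rel.trans {M : Subgroup (Perm α)} {B : Set α} {x y z : α} (h : Rel M B x y)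
    (h' : Rel M B y z) : Rel M B x z := fun g hg => (h g hg).trans (h' g hg)

/-- `M` preserves the relation. -/
theorem Rel.smul {M : Subgroup (Perm α)} {B : Set α} {x y : α} (h : Rel M B x y) {m : Perm α}
    (hm : m ∈ M) : Rel M B (m x) (m y) := fun g hg => by
  have := h (g * m) (M.mul_mem hg hm)
  simpa using this

/-- The permutations preserving every class of `Rel M B`. -/
def ClsPres (M : Subgroup (Perm α)) (B : Set α) : Subgroup (Perm α) where
  carrier := {g | ∀ x, Rel M B (g x) x}
  one_mem' := fun x => Rel.refl M B x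
  mul_mem' := by
    intro g h hg hh x
    exact (hg (h x)).trans (hh x)
  inv_mem' := by
    intro g hg x
    have := hg (g⁻¹ x)
    have h2 : g (g⁻¹ x) = x := by simp
    rw [h2] at this
    exact this.symm

theorem mem_ClsPres {M : Subgroup (Perm α)} {B : Set α} {g : Perm α} :
    g ∈ ClsPres M B ↔ ∀ x, Rel M B (g x) x := Iff.rfl

/-- `K = M ∩ (class-preserving permutations)`. -/
def KK (M : Subgroup (Perm α)) (B : Set α) : Subgroup (Perm α) := M ⊓ ClsPres M B

/-- The class-preserving permutations which on every class agree with some element of `K`. -/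
def XX (M : Subgroup (Perm α)) (B : Set α) : Subgroup (Perm α) where
  carrier := {g | g ∈ ClsPres M B ∧ ∀ x, ∃ k ∈ KK M B, ∀ y, Rel M B y x → g y = k y}
  one_mem' := ⟨(ClsPres M B).one_mem, fun _ => ⟨1, (KK M B).one_mem, fun _ _ => rfl⟩⟩
  mul_mem' := by
    rintro g h ⟨hg, hg'⟩ ⟨hh, hh'⟩
    refine ⟨(ClsPres M B).mul_mem hg hh, fun x => ?_⟩
    obtain ⟨k, hk, hgk⟩ := hg' x
    obtain ⟨l, hl, hhl⟩ := hh' x
    refine ⟨k * l, (KK M B).mul_mem hk hl, fun y hy => ?_⟩
    simp only [Perm.coe_mul, Function.comp_apply]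
    rw [hhl y hy]
    have h1 : Rel M B (l y) x := (hl.2 y).trans hy
    exact hgk (l y) h1
  inv_mem' := by
    rintro g ⟨hg, hg'⟩
    refine ⟨(ClsPres M B).inv_mem hg, fun x => ?_⟩
    obtain ⟨k, hk, hgk⟩ := hg' x
    refine ⟨k⁻¹, (KK M B).inv_mem hk, fun y hy => ?_⟩
    have h1 : Rel M B (k⁻¹ y) x := (((KK M B).inv_mem hk).2 y).trans hy
    have h2 := hgk (k⁻¹ y) h1
    have h3 : k (k⁻¹ y) = y := by simp
    rw [h3] at h2
    rw [Perm.inv_eq_iff_eq, h2]

theorem mem_XX {M : Subgroup (Perm α)} {B : Set α} {g : Perm α} :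
    g ∈ XX M B ↔ g ∈ ClsPres M B ∧ ∀ x, ∃ k ∈ KK M B, ∀ y, Rel M B y x → g y = k y := Iff.rfl

end Cfsg.Agent.Lib.Helper46.Ah
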