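import Cfsg.Agent.Lib.Helper46.AhDefs
import Cfsg.Agent.Lib.Helper46.AhCYC
import Cfsg.Agent.Lib.Helper24.AhJOR
import Cfsg.Agent.Lib.Helper40.AhE2
import Cfsg.Agent.Lib.Helper40.AhGEN1
import Cfsg.Agent.Lib.Helper40.AhGEN3
import Cfsg.Agent.Lib.Helper42.AhODDP
import Cfsg.Agent.Lib.Helper52.AhGEN2
import Cfsg.Agent.Lib.Helper52.AhKL
import Cfsg.Agent.Lib.Helper53.AhP1
import Cfsg.Agent.Lib.Helper53.AhP2
import Cfsg.Agent.Lib.Helper68.AhTHREE
import Cfsg.Agent.Lib.Helper68.AhTOP
import Cfsg.Agent.Lib.Helper9.AhP3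
import Cfsg.Agent.Lib.Helper94.AhFIXA
import Cfsg.Agent.Lib.Helper94.AhFIXB
import Cfsg.Agent.Lib.Helper94.AhSTAB
import Cfsg.Agent.Lib.Helper96.AhCC
import Cfsg.Agent.Lib.Helper97.AhBLKA
import Cfsg.Agent.Lib.Helper97.AhBLKB

set_option autoImplicit false
set_option linter.unusedSectionVars false

namespace Cfsg.Agent.Lib.Helper46.Ah

open Cfsg Equiv
open Cfsg.Agent.Lib.Helper15.Hs (resSub mem_resSub)

section assembly

variable {α : Type*} [Fintype α] [DecidableEq α] {π : Set ℕ} (M : Subgroup (Perm α))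

theorem card_subgroupOf_alt (hMA : M ≤ alternatingGroup α) :
    Nat.card (M.subgroupOf (alternatingGroup α)) = Nat.card M :=
  Nat.card_congr (Subgroup.subgroupOfEquivOfLe hMA).toEquiv

theorem AltHall.prime_mem {M : Subgroup (Perm α)} (hM : AltHall π M) {p : ℕ} (hp : p.Prime)
    (hd : p ∣ Nat.card M) : p ∈ π := by
  apply hM.2.1 p hp
  rw [card_subgroupOf_alt M hM.1]
  exact hd

theorem AltHall.factorization_le {M : Subgroup (Perm α)} (hM : AltHall π M) {p : ℕ} (hp : p.Prime)
    (hpπ : p ∈ π) :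
    (Nat.card (alternatingGroup α)).factorization p ≤ (Nat.card M).factorization p := by
  have := Cfsg.Agent.Lib.Helper15.Hs.hall_factorization_eq hM.2 hp hpπ
  rw [card_subgroupOf_alt M hM.1] at this
  exact this.ge

theorem card_dvd_factorial : Nat.card M ∣ (Fintype.card α).factorial := by
  have h := Subgroup.card_subgroup_dvd_card M
  rw [Nat.card_perm] at h
  rwa [Nat.card_eq_fintype_card (α := α)] at h

theorem prim_case (hM : AltHall π M) (h2 : 2 ∈ π) (hprim : MulAction.IsPreprimitive M α)
    (h3 : 3 ≤ Fintype.card α) : alternatingGroup α ≤ M := by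
  by_cases h3π : 3 ∈ π
  · exact alt_le_of_three M hM hprim h3π h3
  exfalso
  have key : ∀ r : ℕ, r.Prime → r ≠ 2 → r ∣ Nat.card M →
      5 ≤ r ∧ r ≤ Fintype.card α ∧ Fintype.card α ≤ r + 1 := by
    intro r hr hr2 hrd
    have hrπ := hM.prime_mem hr hrd
    have hr3 : r ≠ 3 := fun h => h3π (h ▸ hrπ)
    have h5 : 5 ≤ r := by
      have h2le := hr.two_le
      by_contra hlt
      have : r = 4 := by omega
      subst this
      norm_num at hr
    have hle : r ≤ Fintype.card α :=
      (hr.dvd_factorial).mp (hrd.trans (card_dvd_factorial M))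
    obtain ⟨g, hg, hc, hs⟩ := exists_cycle_mem_alt M hM r hr hr2 hrπ hle
    refine ⟨h5, hle, ?_⟩
    by_contra hlt
    have h4 : r + 2 ≤ Fintype.card α := by omega
    have h3d := three_dvd_of_cycle M hprim hg hc hr hs h4
    exact h3π (hM.prime_mem Nat.prime_three h3d)
  obtain ⟨r, hr, hr2, hrd⟩ := exists_odd_prime_dvd M hprim h3
  obtain ⟨h5, hle, hge⟩ := key r hr hr2 hrd
  have hpr : ∀ p : ℕ, p.Prime → p ∣ Nat.card M → p = 2 ∨ p = r := by
    intro p hp hpd
    by_cases hp2 : p = 2
    · exact Or.inl hp2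
    right
    obtain ⟨h5', hle', hge'⟩ := key p hp hp2 hpd
    obtain ⟨a, ha⟩ := hp.odd_of_ne_two hp2
    obtain ⟨b, hb⟩ := hr.odd_of_ne_two hr2
    omega
  have h2fac := hM.factorization_le Nat.prime_two h2
  rcases (by omega : Fintype.card α = r ∨ Fintype.card α = r + 1) with hn | hn
  · exact no_two_r_hall M r hr h5 hn hM.1 hrd hpr h2fac
  · have htr : MulAction.IsPretransitive M α := hprim.toIsPretransitive
    have hne : Nonempty α := Fintype.card_pos_iff.mp (by omega)
    obtain ⟨x⟩ := hne
    classical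
    obtain ⟨hle1, hcard1⟩ := stab_data M hM.1 htr x
    have hcβ : Fintype.card ↥({x}ᶜ : Set α) = r := by
      rw [← Nat.card_eq_fintype_card, Nat.card_coe_set_eq, Set.ncard_compl, Set.ncard_singleton,
        Nat.card_eq_fintype_card, hn]
      omega
    have hNpos : 0 < Nat.card (resSub (M ⊓ MulAction.stabilizer (Perm α) x) ({x}ᶜ : Set α)) :=
      Nat.card_pos
    rw [hn] at hcard1
    refine no_two_r_hall (resSub (M ⊓ MulAction.stabilizer (Perm α) x) ({x}ᶜ : Set α)) r hr h5
      hcβ hle1 ?_ ?_ ?_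
    · have h1 : r ∣ Nat.card (resSub (M ⊓ MulAction.stabilizer (Perm α) x) ({x}ᶜ : Set α)) *
          (r + 1) := hcard1 ▸ hrd
      have hcop : Nat.Coprime r (r + 1) := by simp
      exact hcop.dvd_of_dvd_mul_right h1
    · intro p hp hpd
      exact hpr p hp (hcard1 ▸ Dvd.dvd.mul_right hpd _)
    · -- 2-parts
      have hntα : Nontrivial α := Fintype.one_lt_card_iff_nontrivial.mp (by omega)
      have hntβ : Nontrivial ↥({x}ᶜ : Set α) :=
        Fintype.one_lt_card_iff_nontrivial.mp (by omega)
      have hA : 2 * Nat.card (alternatingGroup α) = (r + 1).factorial := by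
        rw [Nat.card_eq_fintype_card, two_mul_card_alternatingGroup, Fintype.card_perm, hn]
      have hB : 2 * Nat.card (alternatingGroup ↥({x}ᶜ : Set α)) = r.factorial := by
        rw [Nat.card_eq_fintype_card, two_mul_card_alternatingGroup, Fintype.card_perm, hcβ]
      have hAB : Nat.card (alternatingGroup α) =
          Nat.card (alternatingGroup ↥({x}ᶜ : Set α)) * (r + 1) := by
        have : 2 * Nat.card (alternatingGroup α) =
            2 * (Nat.card (alternatingGroup ↥({x}ᶜ : Set α)) * (r + 1)) := by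
          rw [hA, Nat.factorial_succ, ← mul_assoc, hB, mul_comm]
        omega
      have hBpos : Nat.card (alternatingGroup ↥({x}ᶜ : Set α)) ≠ 0 := Nat.card_pos.ne'
      rw [hAB, ← hcard1, Nat.factorization_mul hBpos (by omega),
        Nat.factorization_mul hNpos.ne' (by omega)] at h2fac
      simpa using h2fac

end assembly

section assembly2

universe u

variable {π : Set ℕ}

theorem oddExt_of_classes {α : Type*} [Fintype α] [DecidableEq α] (M : Subgroup (Perm α))
    (hM : AltHall π M) (h2 : 2 ∈ π) (B : Set α) {x₁ y₁ x₂ y₂ : α}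
    (h1 : Rel M B x₁ y₁) (hne1 : x₁ ≠ y₁) (h2' : Rel M B x₂ y₂) (hne2 : x₂ ≠ y₂)
    (h12 : ¬ Rel M B x₁ x₂) : OddExt π M := by
  obtain ⟨g, hg, hsg⟩ := exists_odd_mem_XX M B hM h2 h1 hne1 h2' hne2 h12
  have hMπ : IsPiSubgroup π M := fun p hp hd => hM.prime_mem hp hd
  exact ⟨M ⊔ XX M B, le_sup_left,
    isPiSubgroup_sup hMπ (XX_piSubgroup M B hMπ) (fun m hm x hx => XX_normalized M B hm hx),
    g, Subgroup.mem_sup_right hg, hsg⟩

theorem alternatingGroup_eq_bot_of_card_two {α : Type*} [Fintype α] [DecidableEq α]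
    (h : Fintype.card α = 2) : alternatingGroup α = ⊥ := by
  have hnt : Nontrivial α := Fintype.one_lt_card_iff_nontrivial.mp (by omega)
  have h1 : 2 * Fintype.card (alternatingGroup α) = 2 := by
    rw [two_mul_card_alternatingGroup, Fintype.card_perm, h]
    rfl
  apply Subgroup.eq_bot_of_card_eq
  rw [Nat.card_eq_fintype_card]
  omega

theorem main_aux : ∀ n : ℕ, ∀ (α : Type u) [Fintype α] [DecidableEq α] (M : Subgroup (Perm α)),
    Fintype.card α = n → 2 ≤ n → 2 ∈ π → AltHall π M → OddExt π M := by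
  intro n
  induction n using Nat.strong_induction_on with
  | _ n IH =>
    intro α _ _ M hcard hn h2 hM
    by_cases hfix : ∃ a : α, ∀ g ∈ M, g a = a
    · obtain ⟨a, ha⟩ := hfix
      by_cases hn2 : n = 2
      · apply oddExt_of_alt_le M hM h2 (by omega)
        rw [alternatingGroup_eq_bot_of_card_two (by omega)]
        exact bot_le
      · classical
        apply oddExt_of_resSub M a ha
        have hM1 := altHall_resSub M hM a ha
        have hc1 : Fintype.card ↥({a}ᶜ : Set α) = n - 1 := by
          rw [← Nat.card_eq_fintype_card, Nat.card_coe_set_eq, Set.ncard_compl, Set.ncard_singleton,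
            Nat.card_eq_fintype_card, hcard]
        exact IH (n - 1) (by omega) ↥({a}ᶜ : Set α) _ hc1 (by omega) h2 hM1
    · push Not at hfix
      have h3 : 3 ≤ Fintype.card α := by
        by_contra hlt
        have hc2 : Fintype.card α = 2 := by omega
        have hbot := alternatingGroup_eq_bot_of_card_two hc2
        have hne : Nonempty α := Fintype.card_pos_iff.mp (by omega)
        obtain ⟨a⟩ := hne
        obtain ⟨g, hg, hga⟩ := hfix a
        have : g ∈ alternatingGroup α := hM.1 hg
        rw [hbot, Subgroup.mem_bot] at this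
        exact hga (by rw [this]; rfl)
      by_cases htr : MulAction.IsPretransitive M α
      · by_cases hprim : MulAction.IsPreprimitive M α
        · exact oddExt_of_alt_le M hM h2 (by omega) (prim_case M hM h2 hprim h3)
        · obtain ⟨B, x₁, y₁, x₂, y₂, h1, hne1, h2', hne2, h12⟩ :=
            classes_of_imprimitive M htr hprim
          exact oddExt_of_classes M hM h2 B h1 hne1 h2' hne2 h12
      · obtain ⟨B, x₁, y₁, x₂, y₂, h1, hne1, h2', hne2, h12⟩ :=
          classes_of_intransitive M hfix htr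
        exact oddExt_of_classes M hM h2 B h1 hne1 h2' hne2 h12

theorem main_S2538 (n : ℕ) (π : Set ℕ) (M : Subgroup ↥(alternatingGroup (Fin n))) :
    Cfsg.IsPiHall π M ↔ ∃ M₀ : Subgroup (Equiv.Perm (Fin n)), Cfsg.IsPiHall π M₀ ∧
      M = M₀.subgroupOf (alternatingGroup (Fin n)) := by
  constructor
  · intro hM
    have hle : M.map (alternatingGroup (Fin n)).subtype ≤ alternatingGroup (Fin n) :=
      Subgroup.map_subtype_le M
    have hsub : (M.map (alternatingGroup (Fin n)).subtype).subgroupOf (alternatingGroup (Fin n))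
        = M :=
      Subgroup.comap_map_eq_self_of_injective (Subgroup.subtype_injective _) M
    have hAlt : AltHall π (M.map (alternatingGroup (Fin n)).subtype) := ⟨hle, hsub.symm ▸ hM⟩
    by_cases h2 : 2 ∈ π
    · by_cases hn : 2 ≤ n
      · obtain ⟨M₀, hle0, hπ0, hodd⟩ := main_aux n (Fin n) _ (by simp) hn h2 hAlt
        obtain ⟨hH, heq⟩ := hall_of_oddExt _ hAlt hle0 hπ0 hodd
        exact ⟨M₀, hH, by rw [← heq, hsub]⟩
      · have hss : Subsingleton (Equiv.Perm (Fin n)) := by
          have : n = 0 ∨ n = 1 := by omega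
          rcases this with rfl | rfl <;> infer_instance
        refine ⟨⊤, ⟨fun p hp hd => ?_, fun p hp _ hd => ?_⟩, Subsingleton.elim _ _⟩
        · rw [Nat.card_unique] at hd
          exact absurd (Nat.dvd_one.mp hd) hp.ne_one
        · rw [Subgroup.index_top] at hd
          exact absurd (Nat.dvd_one.mp hd) hp.ne_one
    · exact ⟨_, hall_of_two_not_mem _ hAlt h2, hsub.symm⟩
  · rintro ⟨M₀, hH, rfl⟩
    exact isPiHall_subgroupOf_normal (alternatingGroup (Fin n)) hH

end assembly2

end Cfsg.Agent.Lib.Helper46.Ah
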