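import Cfsg.Agent.Lib.Helper46.CharP

set_option autoImplicit false

namespace Cfsg.Agent.Lib.Helper46

open scoped commutatorElement

variable {L : Type*} [Group L]

/-- Single element version of `[V, x] = [V, x, x]` for a coprime automorphism of an abelian group of
exponent `p`. -/
theorem commutatorElement_mem_of_coprime {p m : ℕ} (V : Subgroup L) [hV : V.Normal]
    (hab : ∀ a ∈ V, ∀ b ∈ V, a * b = b * a) (hexp : ∀ a ∈ V, a ^ p = 1)
    (x : L) (hm : m.Coprime p) (hx : x ^ m = 1) (v : L) (hv : v ∈ V) :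
    ⁅v, x⁆ ∈ ⁅⁅V, Subgroup.zpowers x⁆, Subgroup.zpowers x⁆ := by
  set Z : Subgroup L := Subgroup.zpowers x with hZ
  set A : Subgroup L := ⁅V, Z⁆ with hA
  set U : Subgroup L := ⁅A, Z⁆ with hU
  have hAV : A ≤ V := Subgroup.commutator_le_left V Z
  have hUV : U ≤ V := (Subgroup.commutator_mono hAV le_rfl).trans (Subgroup.commutator_le_left V Z)
  have hxZ : x ∈ Z := Subgroup.mem_zpowers x
  set c : L := ⁅x, v⁆ with hc
  have hcA : c ∈ A := by
    rw [hA, Subgroup.commutator_comm]
    exact Subgroup.commutator_mem_commutator hxZ hv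
  have hcV : c ∈ V := hAV hcA
  -- w i
  have hw : ∀ i : ℕ, x ^ i * v * (x ^ i)⁻¹ * v⁻¹ * (c ^ i)⁻¹ ∈ U := by
    intro i
    induction i with
    | zero => simp
    | succ i ih =>
      set w : L := x ^ i * v * (x ^ i)⁻¹ * v⁻¹ * (c ^ i)⁻¹ with hwdef
      have hu' : ⁅x ^ i, c⁆ ∈ U := by
        rw [hU, Subgroup.commutator_comm]
        exact Subgroup.commutator_mem_commutator (Z.pow_mem hxZ i) hcA
      have hcomm : c * w * c⁻¹ = w := by
        have := hab c hcV w (hUV ih)
        rw [this]; group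
      have e : x ^ (i + 1) * v * (x ^ (i + 1))⁻¹ * v⁻¹ * (c ^ (i + 1))⁻¹ = ⁅x ^ i, c⁆ * (c * w * c⁻¹) := by
        have hxv : x * v * x⁻¹ = c * v := by
          rw [hc, commutatorElement_def]; group
        have h1 : x ^ (i + 1) * v * (x ^ (i + 1))⁻¹ = x ^ i * (x * v * x⁻¹) * (x ^ i)⁻¹ := by
          rw [pow_succ]; group
        rw [h1, hxv, hwdef, commutatorElement_def, pow_succ]
        group
      rw [e, hcomm]
      exact U.mul_mem hu' ih
  have hcm : c ^ m ∈ U := by
    have := hw m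
    rw [hx] at this
    simp only [one_mul, inv_one, mul_one, mul_inv_cancel] at this
    have h2 := U.inv_mem this
    simpa using h2
  have hcp : c ^ p ∈ U := by
    rw [hexp c hcV]; exact U.one_mem
  have hcU : c ∈ U := mem_of_pow_mem_of_coprime U hm hcm hcp
  have : ⁅v, x⁆ = c⁻¹ := by rw [hc, commutatorElement_inv]
  rw [this]
  exact U.inv_mem hcU

/-- `[V, x] ≤ [V, x, x]` for `x` of order prime to `p` acting on a normal abelian subgroup of exponent `p`. -/
theorem commutator_zpowers_le_of_coprime {p m : ℕ} (V : Subgroup L) [hV : V.Normal]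
    (hab : ∀ a ∈ V, ∀ b ∈ V, a * b = b * a) (hexp : ∀ a ∈ V, a ^ p = 1)
    (x : L) (hm : m.Coprime p) (hx : x ^ m = 1) :
    ⁅V, Subgroup.zpowers x⁆ ≤ ⁅⁅V, Subgroup.zpowers x⁆, Subgroup.zpowers x⁆ := by
  rw [Subgroup.commutator_le]
  intro v hv y hy
  have hym : y ^ m = 1 := by
    obtain ⟨j, rfl⟩ := Subgroup.mem_zpowers_iff.mp hy
    rw [← zpow_natCast, ← zpow_mul, mul_comm, zpow_mul, zpow_natCast, hx, one_zpow]
  have h1 := commutatorElement_mem_of_coprime V hab hexp y hm hym v hv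
  have hle : Subgroup.zpowers y ≤ Subgroup.zpowers x := by
    rw [Subgroup.zpowers_le]; exact hy
  exact (Subgroup.commutator_mono (Subgroup.commutator_mono le_rfl hle) hle) h1

/-- If `x` (of order prime to `p`) acts quadratically on `V` then it centralizes `V`. -/
theorem centralizes_of_coprime_of_quadratic {p m : ℕ} (V : Subgroup L) [hV : V.Normal]
    (hab : ∀ a ∈ V, ∀ b ∈ V, a * b = b * a) (hexp : ∀ a ∈ V, a ^ p = 1)
    (x : L) (hm : m.Coprime p) (hx : x ^ m = 1)
    (hq : ⁅⁅V, Subgroup.zpowers x⁆, Subgroup.zpowers x⁆ = ⊥) :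
    x ∈ Subgroup.centralizer (V : Set L) := by
  have h := commutator_zpowers_le_of_coprime V hab hexp x hm hx
  rw [hq, le_bot_iff, Subgroup.commutator_eq_bot_iff_le_centralizer, Subgroup.le_centralizer_iff] at h
  exact h (Subgroup.mem_zpowers x)

end Cfsg.Agent.Lib.Helper46
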