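import Mathlib.GroupTheory.Sylow
import Mathlib.GroupTheory.Index

set_option autoImplicit false

namespace Cfsg.Agent.Lib.Helper46

variable {L : Type*} [Group L]

/-- A Sylow `p`-subgroup of `L` meets a normal subgroup `N` in a Sylow `p`-subgroup of `N`. -/
theorem sylow_inf_normal [Finite L] {p : ℕ} [Fact p.Prime] (T : Sylow p L) (N : Subgroup L)
    [hN : N.Normal] :
    ∃ P : Sylow p ↥N, (P : Subgroup ↥N).map N.subtype = (T : Subgroup L) ⊓ N := by
  have hTN : IsPGroup p ((T : Subgroup L).subgroupOf N) := T.isPGroup'.comap_subtype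
  obtain ⟨P, hP⟩ := hTN.exists_le_sylow
  refine ⟨P, ?_⟩
  have hP'p : IsPGroup p ((P : Subgroup ↥N).map N.subtype) := P.isPGroup'.map _
  obtain ⟨Q, hQ⟩ := hP'p.exists_le_sylow
  obtain ⟨g, hg⟩ := MulAction.exists_smul_eq L T Q
  have hle : (T : Subgroup L) ⊓ N ≤ (P : Subgroup ↥N).map N.subtype := by
    intro x hx
    have : (⟨x, hx.2⟩ : ↥N) ∈ (T : Subgroup L).subgroupOf N := by
      rw [Subgroup.mem_subgroupOf]; exact hx.1
    exact Subgroup.mem_map.mpr ⟨⟨x, hx.2⟩, hP this, rfl⟩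
  have hle2 : (P : Subgroup ↥N).map N.subtype ≤
      ((T : Subgroup L) ⊓ N).map (MulAut.conj g).toMonoidHom := by
    intro x hx
    have hxN : x ∈ N := by
      obtain ⟨y, _, rfl⟩ := Subgroup.mem_map.mp hx
      exact y.2
    have hxQ : x ∈ (Q : Subgroup L) := hQ hx
    rw [← hg, Sylow.coe_subgroup_smul, Subgroup.mem_pointwise_smul_iff_inv_smul_mem] at hxQ
    refine Subgroup.mem_map.mpr ⟨(MulAut.conj g)⁻¹ • x, ⟨hxQ, ?_⟩, ?_⟩
    · have : (MulAut.conj g)⁻¹ • x = g⁻¹ * x * g⁻¹⁻¹ := by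
        simp [MulAut.smul_def]
      rw [this]
      exact hN.conj_mem x hxN g⁻¹
    · simp only [MulAut.smul_def, MulEquiv.coe_toMonoidHom, MulAut.conj_apply, MulAut.conj_inv_apply]
      group
  have hcard : Nat.card ((P : Subgroup ↥N).map N.subtype) ≤ Nat.card ((T : Subgroup L) ⊓ N : Subgroup L) := by
    calc Nat.card ((P : Subgroup ↥N).map N.subtype)
        ≤ Nat.card (((T : Subgroup L) ⊓ N).map (MulAut.conj g).toMonoidHom) :=
          Subgroup.card_le_of_le hle2
      _ = Nat.card ((T : Subgroup L) ⊓ N : Subgroup L) :=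
          Subgroup.card_map_of_injective (MulAut.conj g).injective
  exact (Subgroup.eq_of_le_of_card_ge hle hcard).symm

/-- Elementwise Frattini argument: `L = N_L(T ⊓ N) * N`. -/
theorem frattini_inf_normal [Finite L] {p : ℕ} [Fact p.Prime] (T : Sylow p L) (N : Subgroup L)
    [hN : N.Normal] (g : L) :
    ∃ a ∈ Subgroup.normalizer (((T : Subgroup L) ⊓ N : Subgroup L) : Set L), ∃ c ∈ N, g = a * c := by
  obtain ⟨P, hP⟩ := sylow_inf_normal T N
  have h := Sylow.normalizer_sup_eq_top P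
  rw [hP] at h
  have hg : g ∈ Subgroup.normalizer (((T : Subgroup L) ⊓ N : Subgroup L) : Set L) ⊔ N := by
    rw [h]; exact Subgroup.mem_top g
  have := Subgroup.mul_normal (Subgroup.normalizer (((T : Subgroup L) ⊓ N : Subgroup L) : Set L)) N
  have hg' : g ∈ ((Subgroup.normalizer (((T : Subgroup L) ⊓ N : Subgroup L) : Set L) ⊔ N : Subgroup L) : Set L) := hg
  rw [this] at hg'
  obtain ⟨a, ha, c, hc, rfl⟩ := Set.mem_mul.mp hg'
  exact ⟨a, ha, c, hc, rfl⟩

end Cfsg.Agent.Lib.Helper46
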