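import Cfsg.Agent.Lib.Helper61.DihedralLift
import Cfsg.Agent.Lib.Helper88.Involves
import Cfsg.Agent.Lib.Helper46.SylowAux
import Cfsg.Agent.Lib.Helper46.CharP
import Cfsg.Agent.Lib.Helper33.Conj

set_option autoImplicit false

namespace Cfsg.Agent.Lib.Helper46

open Cfsg.Agent.Lib.Helper33

variable {G : Type*} [Group G]

/-- (1) ⇒ (2): a 2-element normalizing but not centralizing a `p`-group inverts (after taking a power)
a nontrivial element of it. -/
theorem exists_inverted_of_not_centralizing {p : ℕ} [Fact p.Prime] {x : G} {P : Subgroup G}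
    (hx : ∃ k : ℕ, orderOf x = 2 ^ k) (hP : IsPGroup p P)
    (hxN : x ∈ Subgroup.normalizer (P : Set G)) (hxC : x ∉ Subgroup.centralizer (P : Set G)) :
    ∃ t y : G, (∃ k : ℕ, orderOf t = 2 ^ k) ∧ (∃ k : ℕ, orderOf y = p ^ k) ∧ y ≠ 1 ∧
      t * y * t⁻¹ = y⁻¹ := by
  classical
  obtain ⟨k, hk⟩ := hx
  have hex : ∃ j : ℕ, x ^ (2 ^ j) ∈ Subgroup.centralizer (P : Set G) :=
    ⟨k, by rw [← hk, pow_orderOf_eq_one]; exact Subgroup.one_mem _⟩
  set j₀ := Nat.find hex with hj₀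
  have hj₀c : x ^ (2 ^ j₀) ∈ Subgroup.centralizer (P : Set G) := Nat.find_spec hex
  have hj₀pos : j₀ ≠ 0 := by
    intro h0
    rw [h0] at hj₀c
    simp at hj₀c
    exact hxC hj₀c
  obtain ⟨j₁, hj₁⟩ := Nat.exists_eq_succ_of_ne_zero hj₀pos
  set t := x ^ (2 ^ j₁) with ht
  have htC : t ∉ Subgroup.centralizer (P : Set G) := by
    have := Nat.find_min hex (m := j₁) (by omega)
    exact this
  have ht2 : t * t ∈ Subgroup.centralizer (P : Set G) := by
    have e : t * t = x ^ (2 ^ j₀) := by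
      rw [ht, ← pow_add, hj₁, pow_succ]; ring_nf
    rw [e]; exact hj₀c
  have htN : t ∈ Subgroup.normalizer (P : Set G) := Subgroup.pow_mem _ hxN _
  have hto : ∃ k' : ℕ, orderOf t = 2 ^ k' := by
    have hdvd : orderOf t ∣ 2 ^ k := by
      rw [← hk]; exact orderOf_pow_dvd _
    obtain ⟨k', _, hk'⟩ := (Nat.dvd_prime_pow Nat.prime_two).mp hdvd
    exact ⟨k', hk'⟩
  -- u with t u t⁻¹ ≠ u
  have hu : ∃ u ∈ P, u * t ≠ t * u := by
    by_contra hcon
    push Not at hcon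
    exact htC (Subgroup.mem_centralizer_iff.mpr hcon)
  obtain ⟨u, huP, hut⟩ := hu
  have htu : t * u * t⁻¹ ∈ P := (Subgroup.mem_normalizer_iff.mp htN u).mp huP
  refine ⟨t, u⁻¹ * (t * u * t⁻¹), hto, ?_, ?_, ?_⟩
  · have hyP : u⁻¹ * (t * u * t⁻¹) ∈ P := P.mul_mem (P.inv_mem huP) htu
    obtain ⟨k', hk'⟩ := (IsPGroup.iff_orderOf.mp hP) ⟨_, hyP⟩
    exact ⟨k', by rw [← hk', Subgroup.orderOf_mk]⟩
  · intro h1
    apply hut
    have : t * u * t⁻¹ = u := by
      have := congrArg (fun z => u * z) h1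
      simpa [mul_assoc] using this
    calc u * t = (t * u * t⁻¹) * t := by rw [this]
      _ = t * u := by group
  · have h2 : u * (t * t) = (t * t) * u := Subgroup.mem_centralizer_iff.mp ht2 u huP
    have h3 : t * t * u * (t * t)⁻¹ = u := by
      rw [← h2]; group
    calc t * (u⁻¹ * (t * u * t⁻¹)) * t⁻¹ = (t * u * t⁻¹)⁻¹ * (t * t * u * (t * t)⁻¹) := by group
      _ = (t * u * t⁻¹)⁻¹ * u := by rw [h3]
      _ = (u⁻¹ * (t * u * t⁻¹))⁻¹ := by group

/-- (2) ⇒ (1). -/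
theorem not_centralizing_of_inverted [Finite G] {p : ℕ} [hp : Fact p.Prime] (hp2 : p ≠ 2) {x y : G}
    (hy : ∃ k : ℕ, orderOf y = p ^ k) (hy1 : y ≠ 1) (hxy : x * y * x⁻¹ = y⁻¹) :
    IsPGroup p (Subgroup.zpowers y) ∧ x ∈ Subgroup.normalizer ((Subgroup.zpowers y : Subgroup G) : Set G) ∧
      x ∉ Subgroup.centralizer ((Subgroup.zpowers y : Subgroup G) : Set G) := by
  obtain ⟨k, hk⟩ := hy
  refine ⟨?_, ?_, ?_⟩
  · apply IsPGroup.of_card (n := k)
    rw [Nat.card_zpowers, hk]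
  · rw [← cj_eq_self_iff]
    apply Subgroup.eq_of_le_of_card_ge
    · intro z hz
      obtain ⟨w, hw, rfl⟩ := mem_cj'.mp hz
      obtain ⟨j, rfl⟩ := Subgroup.mem_zpowers_iff.mp hw
      have e : x * y ^ j * x⁻¹ = (x * y * x⁻¹) ^ j := by rw [conj_zpow]
      rw [e, hxy]
      exact Subgroup.zpow_mem _ (Subgroup.inv_mem _ (Subgroup.mem_zpowers y)) j
    · rw [card_cj]
  · intro hc
    have h1 : y * x = x * y := Subgroup.mem_centralizer_iff.mp hc y (Subgroup.mem_zpowers y)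
    have h2 : x * y * x⁻¹ = y := by rw [← h1]; group
    rw [h2] at hxy
    have h3 : y ^ 2 = 1 := by
      rw [pow_two]
      calc y * y = y * y⁻¹ := by rw [← hxy]
        _ = 1 := by group
    have h4 : y ^ (p ^ k) = 1 := by rw [← hk]; exact pow_orderOf_eq_one y
    have hcop : Nat.Coprime 2 (p ^ k) := by
      apply Nat.Coprime.pow_right
      rw [Nat.coprime_primes Nat.prime_two hp.out]
      exact fun h => hp2 h.symm
    exact hy1 (eq_one_of_pow_eq_one_of_coprime hcop h3 h4)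


open Cfsg.Agent.Lib.Helper61 in
/-- (2) ⇒ the dihedral group of order `2p` is involved. -/
theorem involves_dihedral_of_inverted {p : ℕ} [hp : Fact p.Prime] (hp2 : p ≠ 2) {x y : G}
    (hx : ∃ k : ℕ, orderOf x = 2 ^ k) (hy : ∃ k : ℕ, orderOf y = p ^ k) (hy1 : y ≠ 1)
    (hxy : x * y * x⁻¹ = y⁻¹) : Cfsg.Involves (DihedralGroup p) G := by
  classical
  obtain ⟨k, hk⟩ := hy
  obtain ⟨k2, hk2⟩ := hx
  have hk0 : k ≠ 0 := by
    rintro rfl
    rw [pow_zero, orderOf_eq_one_iff] at hk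
    exact hy1 hk
  obtain ⟨k', rfl⟩ := Nat.exists_eq_succ_of_ne_zero hk0
  have hpp : 0 < p := hp.out.pos
  set y₁ := y ^ (p ^ k') with hy₁
  have hy₁o : orderOf y₁ = p := by
    rw [hy₁, orderOf_pow_of_dvd (pow_pos hpp k').ne' (by rw [hk]; exact pow_dvd_pow p (Nat.le_succ k')),
      hk, pow_succ]
    exact Nat.mul_div_cancel_left p (pow_pos hpp k')
  have hxy₁ : x * y₁ * x⁻¹ = y₁⁻¹ := by
    rw [hy₁, ← conj_pow, hxy, inv_pow]
  have hxxy₁ : (x * x) * y₁ = y₁ * (x * x) := by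
    have h1 : x * y₁ = y₁⁻¹ * x := by
      calc x * y₁ = (x * y₁ * x⁻¹) * x := by group
        _ = y₁⁻¹ * x := by rw [hxy₁]
    have h2 : x * y₁⁻¹ = y₁ * x := by
      have : x * y₁⁻¹ * x⁻¹ = y₁ := by
        calc x * y₁⁻¹ * x⁻¹ = (x * y₁ * x⁻¹)⁻¹ := by group
          _ = y₁ := by rw [hxy₁, inv_inv]
      calc x * y₁⁻¹ = (x * y₁⁻¹ * x⁻¹) * x := by group
        _ = y₁ * x := by rw [this]
    calc (x * x) * y₁ = x * (x * y₁) := by group
      _ = x * (y₁⁻¹ * x) := by rw [h1]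
      _ = (x * y₁⁻¹) * x := by group
      _ = (y₁ * x) * x := by rw [h2]
      _ = y₁ * (x * x) := by group
  set K : Subgroup G := Subgroup.closure {x, y₁} with hK
  set R : Subgroup G := Subgroup.zpowers (x * x) with hR
  have hxK : x ∈ K := Subgroup.subset_closure (by simp)
  have hy₁K : y₁ ∈ K := Subgroup.subset_closure (by simp)
  have hKc : ∀ g ∈ K, Commute g (x * x) := by
    intro g hg
    have hle : K ≤ Subgroup.centralizer {x * x} := by
      rw [hK, Subgroup.closure_le]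
      rintro z (rfl | rfl)
      · rw [SetLike.mem_coe, Subgroup.mem_centralizer_singleton_iff]; group
      · rw [SetLike.mem_coe, Subgroup.mem_centralizer_singleton_iff]; exact hxxy₁.symm
    have := hle hg
    rw [Subgroup.mem_centralizer_singleton_iff] at this
    exact this
  have hRn : (R.subgroupOf K).Normal := by
    constructor
    intro r hr g
    rw [Subgroup.mem_subgroupOf] at hr ⊢
    obtain ⟨j, hj⟩ := Subgroup.mem_zpowers_iff.mp hr
    have hc : Commute (g : G) ((x * x) ^ j) := (hKc g g.2).zpow_right j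
    have e : ((g * r * g⁻¹ : ↥K) : G) = (g : G) * r * (g : G)⁻¹ := by simp
    rw [e, ← hj, hc.eq]
    simp only [mul_inv_cancel_right]
    exact Subgroup.zpow_mem _ (Subgroup.mem_zpowers _) j
  let s : ↥K ⧸ R.subgroupOf K := QuotientGroup.mk' _ ⟨x, hxK⟩
  let a : ↥K ⧸ R.subgroupOf K := QuotientGroup.mk' _ ⟨y₁, hy₁K⟩
  have hs : s * s = 1 := by
    show QuotientGroup.mk' _ (⟨x, hxK⟩ : ↥K) * QuotientGroup.mk' _ (⟨x, hxK⟩ : ↥K) = 1
    rw [← map_mul, QuotientGroup.mk'_apply, QuotientGroup.eq_one_iff, Subgroup.mem_subgroupOf]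
    exact Subgroup.mem_zpowers _
  have hsinv : s⁻¹ = s := inv_eq_of_mul_eq_one_right hs
  have hsa' : s * a * s⁻¹ = a⁻¹ := by
    show QuotientGroup.mk' _ (⟨x, hxK⟩ : ↥K) * QuotientGroup.mk' _ (⟨y₁, hy₁K⟩ : ↥K) *
      (QuotientGroup.mk' _ (⟨x, hxK⟩ : ↥K))⁻¹ = (QuotientGroup.mk' _ (⟨y₁, hy₁K⟩ : ↥K))⁻¹
    rw [← map_inv, ← map_mul, ← map_mul, ← map_inv]
    congr 1
    apply Subtype.ext
    simpa using hxy₁
  have hsa : s * a * s = a⁻¹ := by
    have := hsa'
    rwa [hsinv] at this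
  have hp2' : ¬ p ∣ 2 := by
    intro h
    exact hp2 ((Nat.prime_dvd_prime_iff_eq hp.out Nat.prime_two).mp h)
  have ha1 : a ≠ 1 := by
    intro h
    have h' : QuotientGroup.mk' (R.subgroupOf K) (⟨y₁, hy₁K⟩ : ↥K) = 1 := h
    rw [QuotientGroup.mk'_apply, QuotientGroup.eq_one_iff, Subgroup.mem_subgroupOf] at h'
    have h1 : orderOf y₁ ∣ orderOf (x * x) := orderOf_dvd_of_mem_zpowers h'
    have h2 : orderOf (x * x) ∣ 2 ^ k2 := by
      rw [← hk2, ← pow_two]; exact orderOf_pow_dvd 2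
    rw [hy₁o] at h1
    have := hp.out.dvd_of_dvd_pow (h1.trans h2)
    exact hp2' this
  have hao : orderOf a = p := by
    apply orderOf_eq_prime
    · show (QuotientGroup.mk' (R.subgroupOf K) (⟨y₁, hy₁K⟩ : ↥K)) ^ p = 1
      rw [← map_pow]
      have : (⟨y₁, hy₁K⟩ : ↥K) ^ p = 1 := by
        apply Subtype.ext
        simp only [Subgroup.coe_pow, Subgroup.coe_one]
        rw [← hy₁o]; exact pow_orderOf_eq_one y₁
      rw [this, map_one]
    · exact ha1
  have hns : s ∉ Subgroup.zpowers a := by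
    intro h
    obtain ⟨j, hj⟩ := Subgroup.mem_zpowers_iff.mp h
    have hc : Commute s a := by
      rw [← hj]; exact (Commute.refl a).zpow_left j
    have h1 : s * a * s⁻¹ = a := by rw [hc.eq]; group
    rw [h1] at hsa'
    have h2 : a ^ 2 = 1 := by
      rw [pow_two]
      calc a * a = a * a⁻¹ := by rw [← hsa']
        _ = 1 := by group
    have h3 := orderOf_dvd_of_pow_eq_one h2
    rw [hao] at h3
    exact hp2' h3
  have hgen : Subgroup.closure ({s, a} : Set (↥K ⧸ R.subgroupOf K)) = ⊤ := by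
    have h1 : Subgroup.closure (((↑) : ↥K → G) ⁻¹' {x, y₁}) = ⊤ := Subgroup.closure_closure_coe_preimage
    have h2 := congrArg (Subgroup.map (QuotientGroup.mk' (R.subgroupOf K))) h1
    rw [MonoidHom.map_closure, Subgroup.map_top_of_surjective _ (QuotientGroup.mk'_surjective _)] at h2
    rw [eq_top_iff, ← h2]
    apply Subgroup.closure_mono
    rintro _ ⟨g, hg, rfl⟩
    rcases hg with hg | hg
    · left
      show QuotientGroup.mk' _ g = QuotientGroup.mk' _ (⟨x, hxK⟩ : ↥K)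
      congr 1
      exact Subtype.ext hg
    · right
      show QuotientGroup.mk' _ g = QuotientGroup.mk' _ (⟨y₁, hy₁K⟩ : ↥K)
      congr 1
      exact Subtype.ext hg
  have e := dihedralEquiv s a hs hsa hns hgen
  rw [hao] at e
  exact ⟨K, R, hRn, ⟨e.symm⟩⟩


open DihedralGroup in
/-- The rotation subgroup of a dihedral group. -/
def rotSubgroup (n : ℕ) : Subgroup (DihedralGroup n) where
  carrier := {d | ∃ i, d = r i}
  one_mem' := ⟨0, one_def⟩
  mul_mem' := by
    rintro _ _ ⟨i, rfl⟩ ⟨j, rfl⟩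
    exact ⟨i + j, r_mul_r i j⟩
  inv_mem' := by
    rintro _ ⟨i, rfl⟩
    exact ⟨-i, inv_r i⟩

open DihedralGroup in
theorem rotSubgroup_normal (n : ℕ) : (rotSubgroup n).Normal := by
  constructor
  rintro _ ⟨i, rfl⟩ g
  rcases g with j | j
  · exact ⟨i, by rw [inv_r, r_mul_r, r_mul_r]; congr 1; ring⟩
  · exact ⟨-i, by rw [inv_sr, sr_mul_r, sr_mul_sr]; congr 1; ring⟩

open DihedralGroup Cfsg.Agent.Lib.Helper88 in
/-- If the dihedral group of order `2p` is involved in `G`, some 2-element normalizes but does not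
centralize a `p`-subgroup. -/
theorem exists_not_centralizing_of_involves {G : Type*} [Group G] [Finite G] {p : ℕ} [hp : Fact p.Prime]
    (hp2 : p ≠ 2) (h : Cfsg.Involves (DihedralGroup p) G) :
    ∃ (x : G) (P : Subgroup G), (∃ k : ℕ, orderOf x = 2 ^ k) ∧ IsPGroup p ↥P ∧
      x ∈ Subgroup.normalizer (P : Set G) ∧ x ∉ Subgroup.centralizer (P : Set G) := by
  classical
  obtain ⟨K', _, i, f, hi, hf⟩ := spans_of_involves h
  haveI : Finite K' := Finite.of_injective i hi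
  have hp2' : ¬ p ∣ 2 := by
    intro h
    exact hp2 ((Nat.prime_dvd_prime_iff_eq hp.out Nat.prime_two).mp h)
  -- a p-element u'' with f u'' = r m, m ≠ 0
  obtain ⟨u', hu'⟩ := hf (r 1)
  have ho : orderOf u' ≠ 0 := (orderOf_pos u').ne'
  obtain ⟨e, m, hm, hem⟩ := Nat.exists_eq_pow_mul_and_not_dvd ho p hp.out.ne_one
  set u'' := u' ^ m with hu''
  have hu''p : u'' ^ (p ^ e) = 1 := by
    rw [hu'', ← pow_mul, mul_comm, ← hem, pow_orderOf_eq_one]
  have hfu'' : f u'' = r (m : ZMod p) := by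
    rw [hu'', map_pow, hu', r_one_pow]
  have hm0 : (m : ZMod p) ≠ 0 := by
    rw [Ne, ZMod.natCast_eq_zero_iff]; exact hm
  have hzp : IsPGroup p (Subgroup.zpowers u'') := by
    have hdvd : orderOf u'' ∣ p ^ e := orderOf_dvd_of_pow_eq_one hu''p
    obtain ⟨e', _, he'⟩ := (Nat.dvd_prime_pow hp.out).mp hdvd
    apply IsPGroup.of_card (n := e')
    rw [Nat.card_zpowers, he']
  obtain ⟨P', hP'⟩ := hzp.exists_le_sylow
  have hu''P : u'' ∈ (P' : Subgroup K') := hP' (Subgroup.mem_zpowers u'')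
  -- the preimage of the rotation subgroup
  haveI hrn : (rotSubgroup p).Normal := rotSubgroup_normal p
  set Y₀ : Subgroup K' := (rotSubgroup p).comap f with hY₀
  haveI hY₀n : Y₀.Normal := hrn.comap f
  have hP'Y : (P' : Subgroup K') ≤ Y₀ := by
    intro v hv
    show f v ∈ rotSubgroup p
    obtain ⟨j, hj⟩ := (IsPGroup.iff_orderOf.mp P'.2) ⟨v, hv⟩
    have hj' : orderOf v = p ^ j := by rw [← hj, Subgroup.orderOf_mk]
    have hdvd : orderOf (f v) ∣ p ^ j := by rw [← hj']; exact orderOf_map_dvd f v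
    rcases hfv : f v with i' | i'
    · exact ⟨i', rfl⟩
    · exfalso
      rw [hfv, orderOf_sr] at hdvd
      obtain ⟨j', _, hj'2⟩ := (Nat.dvd_prime_pow hp.out).mp hdvd
      have : p ∣ 2 := by
        rcases j' with _ | j'
        · simp at hj'2
        · rw [hj'2]; exact dvd_pow_self p (Nat.succ_ne_zero j')
      exact hp2' this
  -- Frattini
  obtain ⟨g₀, hg₀⟩ := hf (sr 0)
  obtain ⟨a, ha, c, hc, hac⟩ := frattini_inf_normal P' Y₀ g₀
  rw [inf_eq_left.mpr hP'Y] at ha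
  obtain ⟨jc, hjc⟩ : ∃ jc, f c = r jc := hc
  have hfa : ∃ i', f a = sr i' := by
    have h1 : f a = f g₀ * (f c)⁻¹ := by
      rw [hac, map_mul]; group
    rw [h1, hg₀, hjc, inv_r, sr_mul_r]
    exact ⟨_, rfl⟩
  obtain ⟨i', hi'⟩ := hfa
  -- the 2-part of a
  have hoa : orderOf a ≠ 0 := (orderOf_pos a).ne'
  obtain ⟨b, m2, hm2, hbm⟩ := Nat.exists_eq_pow_mul_and_not_dvd hoa 2 (by norm_num)
  set x' := a ^ m2 with hx'
  have hx'o : ∃ k : ℕ, orderOf x' = 2 ^ k := by
    have h1 : x' ^ (2 ^ b) = 1 := by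
      rw [hx', ← pow_mul, mul_comm, ← hbm, pow_orderOf_eq_one]
    obtain ⟨k, _, hk⟩ := (Nat.dvd_prime_pow Nat.prime_two).mp (orderOf_dvd_of_pow_eq_one h1)
    exact ⟨k, hk⟩
  have hfx' : f x' = sr i' := by
    rw [hx', map_pow, hi']
    have hodd : m2 % 2 = 1 := by
      rcases Nat.mod_two_eq_zero_or_one m2 with h0 | h1
      · exact absurd (Nat.dvd_of_mod_eq_zero h0) hm2
      · exact h1
    have hm2' : m2 = 2 * (m2 / 2) + 1 := by omega
    rw [hm2', pow_succ, pow_mul, pow_two, sr_mul_self, one_pow, one_mul]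
  have hx'N : x' ∈ Subgroup.normalizer ((P' : Subgroup K') : Set K') := Subgroup.pow_mem _ ha _
  have hne : x' * u'' * x'⁻¹ ≠ u'' := by
    intro heq
    have h1 := congrArg f heq
    rw [map_mul, map_mul, map_inv, hfx', hfu'', inv_sr, sr_mul_r, sr_mul_sr] at h1
    have h2 : i' - (i' + (m : ZMod p)) = (m : ZMod p) := r.inj h1
    have h3 : (2 : ZMod p) * (m : ZMod p) = 0 := by
      have : (m : ZMod p) + (m : ZMod p) = 0 := by
        calc (m : ZMod p) + (m : ZMod p) = (i' - (i' + (m : ZMod p))) + (m : ZMod p) := by rw [h2]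
          _ = 0 := by ring
      rw [two_mul]; exact this
    rcases mul_eq_zero.mp h3 with h4 | h4
    · have : ((2 : ℕ) : ZMod p) = 0 := by exact_mod_cast h4
      rw [ZMod.natCast_eq_zero_iff] at this
      exact hp2' this
    · exact hm0 h4
  -- transport to G
  refine ⟨i x', (P' : Subgroup K').map i, ?_, P'.2.map i, ?_, ?_⟩
  · obtain ⟨k, hk⟩ := hx'o
    exact ⟨k, by rw [orderOf_injective i hi, hk]⟩
  · rw [← cj_eq_self_iff]
    apply Subgroup.eq_of_le_of_card_ge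
    · intro z hz
      obtain ⟨w, hw, rfl⟩ := mem_cj'.mp hz
      obtain ⟨v, hv, rfl⟩ := hw
      refine ⟨x' * v * x'⁻¹, (Subgroup.mem_normalizer_iff.mp hx'N v).mp hv, ?_⟩
      simp
    · rw [card_cj]
  · intro hc
    apply hne
    have h1 := Subgroup.mem_centralizer_iff.mp hc (i u'') ⟨u'', hu''P, rfl⟩
    have h2 : i (u'' * x') = i (x' * u'') := by rw [map_mul, map_mul]; exact h1
    have h3 := hi h2
    rw [← h3]; group

end Cfsg.Agent.Lib.Helper46
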