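import Cfsg.Agent.Lib.Helper46.P3Chk

set_option autoImplicit false
set_option linter.all false
set_option maxHeartbeats 1000000

/-! A group generated by three involutions with the relators of the `54`-point table and with
non-commuting products: it has order `54` and is the presented group. -/

namespace Cfsg.Agent.Lib.Helper46.Mod

open Cfsg.Agent.Lib.Helper46 Cfsg.Agent.Lib.Helper46.TCa

variable {K : Type*} [Group K]

/-- the three generators as a sequence -/
def g3 (e u v : K) : Nat → K := fun i => if i = 0 then e else if i = 1 then u else v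

theorem g3_0 (e u v : K) : g3 e u v 0 = e := rfl
theorem g3_1 (e u v : K) : g3 e u v 1 = u := rfl
theorem g3_2 (e u v : K) : g3 e u v 2 = v := rfl

/-- the relators of the table -/
structure Rel54 (e u v : K) : Prop where
  he : e * e = 1
  hu : u * u = 1
  hv : v * v = 1
  r1 : (u * v) ^ 3 = 1
  r2 : (e * u) ^ 3 = 1
  r3 : (e * v) ^ 3 = 1
  r4 : (u * (v * e * v)) ^ 3 = 1

/-- in a group of order dividing `2 * 3 ^ m`, elements of order dividing three generate a 3-group -/
theorem isPGroup3_closure [Finite K] (m : Nat)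
    (hK : Nat.card K ∣ 2 * 3 ^ m) (S : Set K) (hS : ∀ y ∈ S, y ^ 3 = 1) :
    IsPGroup 3 (Subgroup.closure S) := by
  haveI : Fact (Nat.Prime 3) := ⟨by norm_num⟩
  obtain ⟨P⟩ : Nonempty (Sylow 3 K) := inferInstance
  have hidx : (P : Subgroup K).index ∣ 2 := by
    have h1 : (P : Subgroup K).index ∣ 2 * 3 ^ m := (Subgroup.index_dvd_card _).trans hK
    have h2 : ¬ 3 ∣ (P : Subgroup K).index := P.not_dvd_index
    have h3 : Nat.Coprime (P : Subgroup K).index (3 ^ m) :=
      Nat.Coprime.pow_right m ((Nat.Prime.coprime_iff_not_dvd (by norm_num)).mpr h2).symm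
    exact h3.dvd_of_dvd_mul_right h1
  have hnorm : (P : Subgroup K).Normal := by
    have : (P : Subgroup K).index = 1 ∨ (P : Subgroup K).index = 2 := by
      have := Nat.le_of_dvd (by norm_num) hidx
      have hne : (P : Subgroup K).index ≠ 0 := Subgroup.index_ne_zero_of_finite
      omega
    rcases this with h | h
    · rw [Subgroup.index_eq_one] at h
      rw [h]; infer_instance
    · exact Subgroup.normal_of_index_eq_two h
  have hmem : ∀ y : K, y ^ 3 = 1 → y ∈ (P : Subgroup K) := by
    intro y hy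
    rw [← QuotientGroup.eq_one_iff]
    have h1 : orderOf (y : K ⧸ (P : Subgroup K)) ∣ 3 := by
      apply orderOf_dvd_of_pow_eq_one
      rw [← QuotientGroup.mk_pow, hy]; rfl
    have h2 : orderOf (y : K ⧸ (P : Subgroup K)) ∣ 2 := by
      have : orderOf (y : K ⧸ (P : Subgroup K)) ∣ Nat.card (K ⧸ (P : Subgroup K)) :=
        orderOf_dvd_natCard _
      rw [← Subgroup.index_eq_card] at this
      exact this.trans hidx
    have h3 : orderOf (y : K ⧸ (P : Subgroup K)) ∣ Nat.gcd 3 2 := Nat.dvd_gcd h1 h2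
    have h4 : orderOf (y : K ⧸ (P : Subgroup K)) = 1 := by
      have : Nat.gcd 3 2 = 1 := by norm_num
      rw [this] at h3
      exact Nat.dvd_one.mp h3
    exact orderOf_eq_one_iff.mp h4
  apply P.2.to_le
  rw [Subgroup.closure_le]
  intro y hy
  exact hmem y (hS y hy)

variable {e u v : K}

theorem Rel54.card_dvd (h : Rel54 e u v) (hgen : Subgroup.closure {e, u, v} = ⊤) :
    Nat.card K ∣ 54 := by
  have hinv : ∀ g, g < P3Data.cert.k → g3 e u v g * g3 e u v g = 1 := by
    intro g hg
    have hg' : g < 3 := hg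
    interval_cases g
    · exact h.he
    · exact h.hu
    · exact h.hv
  have hrels : ∀ w ∈ P3Data.cert.rels, evw (g3 e u v) w = 1 := by
    intro w hw
    have hl : P3Data.cert.rels = [[1, 2, 1, 2, 1, 2], [0, 1, 0, 1, 0, 1], [0, 2, 0, 2, 0, 2],
      [1, 2, 0, 2, 1, 2, 0, 2, 1, 2, 0, 2]] := rfl
    rw [hl] at hw
    simp only [List.mem_cons, List.not_mem_nil, or_false] at hw
    have p1 := h.r1
    have p2 := h.r2
    have p3 := h.r3
    have p4 := h.r4
    rcases hw with rfl | rfl | rfl | rfl
    · simp only [evw, g3_0, g3_1, g3_2, mul_one]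
      simp only [pow_succ, pow_zero, one_mul, mul_assoc] at p1 ⊢; exact p1
    · simp only [evw, g3_0, g3_1, g3_2, mul_one]
      simp only [pow_succ, pow_zero, one_mul, mul_assoc] at p2 ⊢; exact p2
    · simp only [evw, g3_0, g3_1, g3_2, mul_one]
      simp only [pow_succ, pow_zero, one_mul, mul_assoc] at p3 ⊢; exact p3
    · simp only [evw, g3_0, g3_1, g3_2, mul_one]
      simp only [pow_succ, pow_zero, one_mul, mul_assoc] at p4 ⊢; exact p4
  have hgen' : Subgroup.closure (g3 e u v '' {i | i < P3Data.cert.k}) = ⊤ := by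
    rw [eq_top_iff, ← hgen, Subgroup.closure_le]
    rintro x (rfl | rfl | rfl)
    · exact Subgroup.subset_closure ⟨0, (by show 0 < 3; norm_num), rfl⟩
    · exact Subgroup.subset_closure ⟨1, (by show 1 < 3; norm_num), rfl⟩
    · exact Subgroup.subset_closure ⟨2, (by show 2 < 3; norm_num), rfl⟩
  have := index_dvd P3Data.cert (⊥ : Subgroup K) (g3 e u v) hinv hgen' hrels
    (by intro g hg; exact absurd hg (Nat.not_lt_zero _)) P3Data.edges_ok P3Data.pts_ok
    (by show 0 < 54; norm_num)
  have h2 := this.2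
  rw [Subgroup.index_bot] at h2
  exact h2

theorem Rel54.card_eq (h : Rel54 e u v) (hgen : Subgroup.closure {e, u, v} = ⊤)
    (hnc : (e * u) * (e * v) ≠ (e * v) * (e * u)) : Nat.card K = 54 := by
  have hd := h.card_dvd hgen
  haveI : Finite K := Nat.finite_of_card_ne_zero (by
    intro h0; rw [h0] at hd; norm_num at hd)
  haveI : Fact (Nat.Prime 3) := ⟨by norm_num⟩
  have he1 : e ≠ 1 := by
    intro he
    apply hnc
    have hu1 : u = 1 := by
      have h2 := h.r2
      rw [he, one_mul, pow_succ, pow_two, h.hu, one_mul] at h2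
      exact h2
    have hv1 : v = 1 := by
      have h3 := h.r3
      rw [he, one_mul, pow_succ, pow_two, h.hv, one_mul] at h3
      exact h3
    rw [hu1, hv1]
  have h2 : 2 ∣ Nat.card K := by
    have : orderOf e = 2 := orderOf_eq_prime (by rw [pow_two]; exact h.he) he1
    rw [← this]; exact orderOf_dvd_natCard e
  have hT3 : IsPGroup 3 (Subgroup.closure ({e * u, e * v} : Set K)) := by
    apply isPGroup3_closure 3 (by norm_num; exact hd)
    rintro y (rfl | rfl)
    · exact h.r2
    · exact h.r3
  obtain ⟨T, hT⟩ : ∃ T : Subgroup K, T = Subgroup.closure ({e * u, e * v} : Set K) := ⟨_, rfl⟩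
  rw [← hT] at hT3
  have ha : e * u ∈ T := by rw [hT]; exact Subgroup.subset_closure (by simp)
  have hb : e * v ∈ T := by rw [hT]; exact Subgroup.subset_closure (by simp)
  have hncT : ¬ (∀ a b : T, a * b = b * a) := by
    intro hc
    apply hnc
    have := hc ⟨_, ha⟩ ⟨_, hb⟩
    exact congrArg Subtype.val this
  obtain ⟨n, hn⟩ := IsPGroup.iff_card.mp hT3
  have hTd : Nat.card T ∣ 54 := (Subgroup.card_subgroup_dvd_card T).trans hd
  have hn3 : n ≤ 3 := by
    by_contra hlt
    have h4 : 4 ≤ n := by omega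
    have : 3 ^ 4 ∣ 54 := (pow_dvd_pow 3 h4).trans (hn ▸ hTd)
    norm_num at this
  have hn3' : n = 3 := by
    interval_cases n
    · exfalso
      apply hncT
      have : Nat.card T = 1 := by rw [hn]; norm_num
      haveI : Subsingleton T := (Nat.card_eq_one_iff_unique.mp this).1
      intro a b
      exact Subsingleton.elim _ _
    · exfalso
      apply hncT
      have : Nat.card T = 3 := by rw [hn]; norm_num
      haveI : IsCyclic T := isCyclic_of_prime_card this
      intro a b
      exact (IsCyclic.commGroup (α := T)).mul_comm a b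
    · exfalso
      apply hncT
      exact IsPGroup.commutative_of_card_eq_prime_sq hn
    · rfl
  have h27 : 27 ∣ Nat.card K := by
    have : Nat.card T = 27 := by rw [hn, hn3']; norm_num
    rw [← this]; exact Subgroup.card_subgroup_dvd_card T
  have h54 : 54 ∣ Nat.card K := by
    have : Nat.Coprime 2 27 := by norm_num
    exact this.mul_dvd_of_dvd_of_dvd h2 h27
  exact Nat.dvd_antisymm hd h54

/-- the relators as a set of words -/
def rels54 : Set (FreeGroup (Fin 3)) :=
  {FreeGroup.of 0 * FreeGroup.of 0, FreeGroup.of 1 * FreeGroup.of 1,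
    FreeGroup.of 2 * FreeGroup.of 2, (FreeGroup.of 1 * FreeGroup.of 2) ^ 3,
    (FreeGroup.of 0 * FreeGroup.of 1) ^ 3, (FreeGroup.of 0 * FreeGroup.of 2) ^ 3,
    (FreeGroup.of 1 * (FreeGroup.of 2 * FreeGroup.of 0 * FreeGroup.of 2)) ^ 3}

theorem Rel54.lift_eq (h : Rel54 e u v) :
    ∀ r ∈ rels54, FreeGroup.lift ![e, u, v] r = 1 := by
  intro r hr
  simp only [rels54, Set.mem_insert_iff, Set.mem_singleton_iff] at hr
  rcases hr with rfl | rfl | rfl | rfl | rfl | rfl | rfl
  · simpa using h.he
  · simpa using h.hu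
  · simpa using h.hv
  · simpa using h.r1
  · simpa using h.r2
  · simpa using h.r3
  · simpa using h.r4

theorem rel54_pres : Rel54 (PresentedGroup.of 0 : PresentedGroup rels54)
    (PresentedGroup.of 1) (PresentedGroup.of 2) := by
  have key : ∀ r ∈ rels54, PresentedGroup.mk rels54 r = 1 := fun r hr =>
    PresentedGroup.one_of_mem hr
  refine ⟨?_, ?_, ?_, ?_, ?_, ?_, ?_⟩
  · have := key (FreeGroup.of 0 * FreeGroup.of 0) (by simp [rels54])
    rw [map_mul] at this; exact this
  · have := key (FreeGroup.of 1 * FreeGroup.of 1) (by simp [rels54])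
    rw [map_mul] at this; exact this
  · have := key (FreeGroup.of 2 * FreeGroup.of 2) (by simp [rels54])
    rw [map_mul] at this; exact this
  · have := key ((FreeGroup.of 1 * FreeGroup.of 2) ^ 3) (by simp [rels54])
    rw [map_pow, map_mul] at this; exact this
  · have := key ((FreeGroup.of 0 * FreeGroup.of 1) ^ 3) (by simp [rels54])
    rw [map_pow, map_mul] at this; exact this
  · have := key ((FreeGroup.of 0 * FreeGroup.of 2) ^ 3) (by simp [rels54])
    rw [map_pow, map_mul] at this; exact this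
  · have := key ((FreeGroup.of 1 * (FreeGroup.of 2 * FreeGroup.of 0 * FreeGroup.of 2)) ^ 3)
      (by simp [rels54])
    rw [map_pow, map_mul, map_mul, map_mul] at this; exact this

theorem pres_gen : Subgroup.closure ({PresentedGroup.of 0, PresentedGroup.of 1,
    PresentedGroup.of 2} : Set (PresentedGroup rels54)) = ⊤ := by
  rw [eq_top_iff, ← PresentedGroup.closure_range_of rels54, Subgroup.closure_le]
  rintro x ⟨i, rfl⟩
  apply Subgroup.subset_closure
  fin_cases i
  · left; rfl
  · right; left; rfl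
  · right; right; rfl

theorem Rel54.pres_equiv (h : Rel54 e u v) (hgen : Subgroup.closure {e, u, v} = ⊤)
    (hnc : (e * u) * (e * v) ≠ (e * v) * (e * u)) :
    Nonempty (PresentedGroup rels54 ≃* K) := by
  have hK := h.card_eq hgen hnc
  have hP := rel54_pres.card_dvd pres_gen
  haveI : Finite (PresentedGroup rels54) := Nat.finite_of_card_ne_zero (by
    intro h0; rw [h0] at hP; norm_num at hP)
  obtain ⟨f, hf⟩ : ∃ f : PresentedGroup rels54 →* K, f = PresentedGroup.toGroup h.lift_eq :=
    ⟨_, rfl⟩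
  have hsurj : Function.Surjective f := by
    rw [← MonoidHom.range_eq_top, eq_top_iff, ← hgen, Subgroup.closure_le]
    rintro x (rfl | rfl | rfl)
    · exact ⟨PresentedGroup.of 0, by rw [hf, PresentedGroup.toGroup.of]; rfl⟩
    · exact ⟨PresentedGroup.of 1, by rw [hf, PresentedGroup.toGroup.of]; rfl⟩
    · exact ⟨PresentedGroup.of 2, by rw [hf, PresentedGroup.toGroup.of]; rfl⟩
  have hle : Nat.card (PresentedGroup rels54) ≤ Nat.card K := by
    rw [hK]; exact Nat.le_of_dvd (by norm_num) hP
  exact ⟨MulEquiv.ofBijective f (hsurj.bijective_of_nat_card_le hle)⟩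

theorem Rel54.closure_equiv (h : Rel54 e u v)
    (hnc : (e * u) * (e * v) ≠ (e * v) * (e * u)) :
    Nat.card (Subgroup.closure ({e, u, v} : Set K)) = 54 ∧
      Nonempty (PresentedGroup rels54 ≃* Subgroup.closure ({e, u, v} : Set K)) := by
  obtain ⟨L, hL⟩ : ∃ L : Subgroup K, L = Subgroup.closure ({e, u, v} : Set K) := ⟨_, rfl⟩
  rw [← hL]
  have heL : e ∈ L := by rw [hL]; exact Subgroup.subset_closure (by simp)
  have huL : u ∈ L := by rw [hL]; exact Subgroup.subset_closure (by simp)
  have hvL : v ∈ L := by rw [hL]; exact Subgroup.subset_closure (by simp)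
  have hR : Rel54 (⟨e, heL⟩ : L) ⟨u, huL⟩ ⟨v, hvL⟩ := by
    refine ⟨?_, ?_, ?_, ?_, ?_, ?_, ?_⟩
    · exact Subtype.ext h.he
    · exact Subtype.ext h.hu
    · exact Subtype.ext h.hv
    · exact Subtype.ext (by simpa using h.r1)
    · exact Subtype.ext (by simpa using h.r2)
    · exact Subtype.ext (by simpa using h.r3)
    · exact Subtype.ext (by simpa using h.r4)
  have hg : Subgroup.closure ({⟨e, heL⟩, ⟨u, huL⟩, ⟨v, hvL⟩} : Set L) = ⊤ := by
    apply Subgroup.map_injective L.subtype_injective
    rw [MonoidHom.map_closure, ← MonoidHom.range_eq_map, Subgroup.range_subtype]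
    refine Eq.trans ?_ hL.symm
    congr 1
    ext x
    simp only [Set.mem_image, Set.mem_insert_iff, Set.mem_singleton_iff]
    constructor
    · rintro ⟨y, (rfl | rfl | rfl), rfl⟩
      · left; rfl
      · right; left; rfl
      · right; right; rfl
    · rintro (rfl | rfl | rfl)
      · exact ⟨⟨_, heL⟩, Or.inl rfl, rfl⟩
      · exact ⟨⟨_, huL⟩, Or.inr (Or.inl rfl), rfl⟩
      · exact ⟨⟨_, hvL⟩, Or.inr (Or.inr rfl), rfl⟩
  have hnc' : ((⟨e, heL⟩ : L) * ⟨u, huL⟩) * (⟨e, heL⟩ * ⟨v, hvL⟩) ≠
      (⟨e, heL⟩ * ⟨v, hvL⟩) * (⟨e, heL⟩ * ⟨u, huL⟩) := by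
    intro hc
    apply hnc
    exact congrArg Subtype.val hc
  exact ⟨hR.card_eq hg hnc', hR.pres_equiv hg hnc'⟩

end Cfsg.Agent.Lib.Helper46.Mod
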