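import Cfsg.Agent.Lib.Helper14.SU32
import Cfsg.Agent.Lib.Helper46.End1

set_option autoImplicit false
set_option linter.all false
set_option maxHeartbeats 1000000

/-! The derived group of `SU_3(2)` is the presented group of order `54`. -/

namespace Cfsg.Agent.Lib.Helper46.Mod

open Cfsg.Agent.Lib.Helper14.SU32 Cfsg.Agent.Lib.Helper14.SU32.F4c
open scoped commutatorElement

def zE : M3 := ⟨i, o, o, o, o, i, o, i, o⟩
def zU : M3 := ⟨o, i, o, i, o, o, o, o, i⟩
def zV : M3 := ⟨o, w, o, v, o, o, o, o, i⟩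
def zg1 : M3 := ⟨i, w, i, w, i, i, w, w, v⟩
def zh1 : M3 := ⟨i, w, w, w, i, w, i, i, v⟩
def zg1' : M3 := ⟨i, v, v, v, i, v, i, i, w⟩
def zh1' : M3 := ⟨i, v, i, v, i, i, v, v, w⟩
def zg2 : M3 := ⟨i, i, i, w, i, v, v, i, w⟩
def zh2 : M3 := ⟨i, i, w, w, i, i, w, v, w⟩
def zg2' : M3 := ⟨i, v, w, i, i, i, i, w, v⟩
def zh2' : M3 := ⟨i, v, v, i, i, w, v, i, v⟩

theorem zE_good : zE.Good := by decide
theorem zU_good : zU.Good := by decide
theorem zV_good : zV.Good := by decide
theorem zg1_good : zg1.Good := by decide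
theorem zh1_good : zh1.Good := by decide
theorem zg1'_good : zg1'.Good := by decide
theorem zh1'_good : zh1'.Good := by decide
theorem zg2_good : zg2.Good := by decide
theorem zh2_good : zh2.Good := by decide
theorem zg2'_good : zg2'.Good := by decide
theorem zh2'_good : zh2'.Good := by decide

theorem zE_comm : ((mA.mul mB).mul mA3).mul mB3 = zE := by decide
theorem zU_comm : ((zg1.mul zh1).mul zg1').mul zh1' = zU := by decide
theorem zV_comm : ((zg2.mul zh2).mul zg2').mul zh2' = zV := by decide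
theorem zg1_inv : zg1'.mul zg1 = M3.one := by decide
theorem zh1_inv : zh1'.mul zh1 = M3.one := by decide
theorem zg2_inv : zg2'.mul zg2 = M3.one := by decide
theorem zh2_inv : zh2'.mul zh2 = M3.one := by decide

theorem zE_sq : zE.mul zE = M3.one := by decide
theorem zU_sq : zU.mul zU = M3.one := by decide
theorem zV_sq : zV.mul zV = M3.one := by decide
theorem z_r1 : ((zU.mul zV).mul (zU.mul zV)).mul (zU.mul zV) = M3.one := by decide
theorem z_r2 : ((zE.mul zU).mul (zE.mul zU)).mul (zE.mul zU) = M3.one := by decide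
theorem z_r3 : ((zE.mul zV).mul (zE.mul zV)).mul (zE.mul zV) = M3.one := by decide
theorem z_r4 : ((zU.mul ((zV.mul zE).mul zV)).mul (zU.mul ((zV.mul zE).mul zV))).mul
    (zU.mul ((zV.mul zE).mul zV)) = M3.one := by decide
theorem z_nc : (zE.mul zU).mul (zE.mul zV) ≠ (zE.mul zV).mul (zE.mul zU) := by decide

variable {F : Type*} [Field F] [Fintype F] (hF : Fintype.card F = 4)

theorem mkG_mem_commutator (x g h g' h' : M3) (hx : x.Good) (hg : g.Good) (hh : h.Good)
    (hg' : g'.Good) (hh' : h'.Good) (h1 : g'.mul g = M3.one) (h2 : h'.mul h = M3.one)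
    (h3 : ((g.mul h).mul g').mul h' = x) : mkG hF x hx ∈ commutator (Cfsg.SU 3 F 2) := by
  have : mkG hF x hx = ⁅mkG hF g hg, mkG hF h hh⁆ := by
    rw [commutatorElement_def, mkG_inv hF g g' hg hg' h1, mkG_inv hF h h' hh hh' h2]
    apply mat_inj
    simp only [mat_mul, mat_mkG, ← toMatF_mul]
    rw [h3]
  rw [this, commutator_def]
  exact Subgroup.commutator_mem_commutator (Subgroup.mem_top _) (Subgroup.mem_top _)

theorem q8_comm : ∀ x y : QuaternionGroup 2,
    x * y * x⁻¹ * y⁻¹ = 1 ∨ x * y * x⁻¹ * y⁻¹ = QuaternionGroup.a 2 := by decide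

theorem q8_ord : (QuaternionGroup.a 2 : QuaternionGroup 2) ^ 2 = 1 ∧
    (QuaternionGroup.a 2 : QuaternionGroup 2) ≠ 1 := by decide

include hF in
theorem card_commutator_dvd : Nat.card (commutator (Cfsg.SU 3 F 2)) ∣ 54 := by
  haveI := P_normal hF
  haveI := finite_G hF
  obtain ⟨θ⟩ := quotient_equiv hF
  obtain ⟨f, hf⟩ : ∃ f : Cfsg.SU 3 F 2 →* QuaternionGroup 2,
      f = θ.toMonoidHom.comp (QuotientGroup.mk' (P hF)) := ⟨_, rfl⟩
  have hfs : Function.Surjective f := by
    rw [hf]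
    exact θ.surjective.comp (QuotientGroup.mk'_surjective _)
  obtain ⟨Z, hZ⟩ : ∃ Z : Subgroup (QuaternionGroup 2),
      Z = Subgroup.zpowers (QuaternionGroup.a 2) := ⟨_, rfl⟩
  have hZc : Nat.card Z = 2 := by
    rw [hZ, Nat.card_zpowers]
    haveI : Fact (Nat.Prime 2) := ⟨Nat.prime_two⟩
    exact orderOf_eq_prime q8_ord.1 q8_ord.2
  have hZi : Z.index = 4 := by
    have := Subgroup.card_mul_index Z
    rw [hZc, Nat.card_eq_fintype_card, QuaternionGroup.card] at this
    omega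
  have hNi : (Z.comap f).index = 4 := by
    rw [Subgroup.index_comap_of_surjective Z hfs, hZi]
  have hNc : Nat.card (Z.comap f) = 54 := by
    have := Subgroup.card_mul_index (Z.comap f)
    rw [hNi, card_G hF] at this
    omega
  have hle : commutator (Cfsg.SU 3 F 2) ≤ Z.comap f := by
    rw [commutator_def, Subgroup.commutator_def, Subgroup.closure_le]
    rintro x ⟨g, -, h, -, rfl⟩
    show f ⁅g, h⁆ ∈ Z
    rw [commutatorElement_def, map_mul, map_mul, map_mul, map_inv, map_inv, hZ]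
    rcases q8_comm (f g) (f h) with h1 | h1
    · rw [h1]; exact Subgroup.one_mem _
    · rw [h1]; exact Subgroup.mem_zpowers _
  rw [← hNc]
  exact Subgroup.card_dvd_of_le hle

include hF in
theorem su32_commutator_equiv :
    Nonempty (PresentedGroup rels54 ≃* commutator (Cfsg.SU 3 F 2)) := by
  haveI := finite_G hF
  obtain ⟨e, he⟩ : ∃ e, e = mkG hF zE zE_good := ⟨_, rfl⟩
  obtain ⟨u, hu⟩ : ∃ u, u = mkG hF zU zU_good := ⟨_, rfl⟩
  obtain ⟨v, hv⟩ : ∃ v, v = mkG hF zV zV_good := ⟨_, rfl⟩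
  have heC : e ∈ commutator (Cfsg.SU 3 F 2) := by
    rw [he]
    exact mkG_mem_commutator hF zE mA mB mA3 mB3 zE_good mA_good mB_good mA3_good mB3_good
      mA3_mul_mA mB3_mul_mB zE_comm
  have huC : u ∈ commutator (Cfsg.SU 3 F 2) := by
    rw [hu]
    exact mkG_mem_commutator hF zU zg1 zh1 zg1' zh1' zU_good zg1_good zh1_good zg1'_good
      zh1'_good zg1_inv zh1_inv zU_comm
  have hvC : v ∈ commutator (Cfsg.SU 3 F 2) := by
    rw [hv]
    exact mkG_mem_commutator hF zV zg2 zh2 zg2' zh2' zV_good zg2_good zh2_good zg2'_good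
      zh2'_good zg2_inv zh2_inv zV_comm
  have key : ∀ (X : M3) (g : Cfsg.SU 3 F 2), mat g = toMatF hF X → X = M3.one → g = 1 := by
    intro X g h1 h2
    apply mat_inj
    rw [h1, h2, toMatF_one, mat_one]
  have hR : Rel54 e u v := by
    refine ⟨?_, ?_, ?_, ?_, ?_, ?_, ?_⟩
    · refine key _ _ ?_ zE_sq
      rw [he]; simp only [mat_mul, mat_mkG, ← toMatF_mul]
    · refine key _ _ ?_ zU_sq
      rw [hu]; simp only [mat_mul, mat_mkG, ← toMatF_mul]
    · refine key _ _ ?_ zV_sq
      rw [hv]; simp only [mat_mul, mat_mkG, ← toMatF_mul]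
    · refine key _ _ ?_ z_r1
      rw [hu, hv, pow_succ, pow_two]; simp only [mat_mul, mat_mkG, ← toMatF_mul]
    · refine key _ _ ?_ z_r2
      rw [he, hu, pow_succ, pow_two]; simp only [mat_mul, mat_mkG, ← toMatF_mul]
    · refine key _ _ ?_ z_r3
      rw [he, hv, pow_succ, pow_two]; simp only [mat_mul, mat_mkG, ← toMatF_mul]
    · refine key _ _ ?_ z_r4
      rw [he, hu, hv, pow_succ, pow_two]; simp only [mat_mul, mat_mkG, ← toMatF_mul]
  have hnc : (e * u) * (e * v) ≠ (e * v) * (e * u) := by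
    intro hc
    have h1 := congrArg mat hc
    rw [he, hu, hv] at h1
    simp only [mat_mul, mat_mkG, ← toMatF_mul] at h1
    exact z_nc (toMatF_inj hF h1)
  obtain ⟨hc54, ⟨ψ⟩⟩ := hR.closure_equiv hnc
  have hle : Subgroup.closure ({e, u, v} : Set (Cfsg.SU 3 F 2)) ≤ commutator (Cfsg.SU 3 F 2) := by
    rw [Subgroup.closure_le]
    rintro x (rfl | rfl | rfl)
    · exact heC
    · exact huC
    · exact hvC
  have heq : Subgroup.closure ({e, u, v} : Set (Cfsg.SU 3 F 2)) = commutator (Cfsg.SU 3 F 2) := by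
    apply Subgroup.eq_of_le_of_card_ge hle
    rw [hc54]
    exact Nat.le_of_dvd (by norm_num) (card_commutator_dvd hF)
  exact ⟨ψ.trans (MulEquiv.subgroupCongr heq)⟩

end Cfsg.Agent.Lib.Helper46.Mod
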