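import Cfsg.Agent.Lib.Helper46.End1
import Cfsg.Agent.Lib.Helper66.OCGroup

set_option autoImplicit false
set_option linter.all false
set_option maxHeartbeats 1000000

/-! The end game: a finite group generated by a class of at most nine involutions with all
products of order three and no commuting independent pairs is `S₃` or the group of order `54`. -/

namespace Cfsg.Agent.Lib.Helper46.Mod

/-- two involutions satisfying the braid relation generate `S₃` (after Helper83) -/
theorem braid_s3 {X : Type*} [Group X] (a c : X) (ha : a * a = 1) (hc : c * c = 1)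
    (hbr : a * c * a = c * a * c) (hca : c ≠ a)
    (hgen : Subgroup.closure ({a, c} : Set X) = ⊤) :
    Nonempty (X ≃* Equiv.Perm (Fin 3)) := by
  have e1 : ∀ t : X, a * (a * t) = t := fun t => by rw [← mul_assoc, ha, one_mul]
  have e2 : ∀ t : X, c * (c * t) = t := fun t => by rw [← mul_assoc, hc, one_mul]
  have e3 : ∀ t : X, c * (a * (c * t)) = a * (c * (a * t)) := by
    intro t
    have : c * (a * (c * t)) = (c * a * c) * t := by simp only [mul_assoc]
    rw [this, ← hbr]
    simp only [mul_assoc]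
  have e4 : ∀ t : X, c * (a * (c * (a * t))) = a * (c * t) := by
    intro t
    rw [e3, e1]
  let f : Fin 6 → X := ![1, a, c, a * c, c * a, a * c * a]
  have hcl : ∀ x : X, x ∈ Set.range f → a * x ∈ Set.range f ∧ c * x ∈ Set.range f := by
    rintro x ⟨i, rfl⟩
    fin_cases i
    · exact ⟨⟨1, by simp [f]⟩, ⟨2, by simp [f]⟩⟩
    · exact ⟨⟨0, by simp [f, ha]⟩, ⟨4, by simp [f]⟩⟩
    · exact ⟨⟨3, by simp [f]⟩, ⟨0, by simp [f, hc]⟩⟩
    · exact ⟨⟨2, by simp [f, e1]⟩, ⟨5, by simp [f, hbr, mul_assoc]⟩⟩
    · exact ⟨⟨5, by simp [f, mul_assoc]⟩, ⟨1, by simp [f, e2]⟩⟩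
    · refine ⟨⟨4, by simp [f, mul_assoc, e1]⟩, ⟨3, ?_⟩⟩
      simp only [f]
      show a * c = c * (a * c * a)
      rw [hbr]
      simp only [mul_assoc, e2]
  have hsurj : Function.Surjective f := by
    intro x
    have hx : x ∈ Subgroup.closure ({a, c} : Set X) := by rw [hgen]; trivial
    have hainv : a⁻¹ = a := inv_eq_of_mul_eq_one_right ha
    have hcinv : c⁻¹ = c := inv_eq_of_mul_eq_one_right hc
    induction hx using Subgroup.closure_induction_left with
    | one => exact ⟨0, by simp [f]⟩
    | mul_left y hy z _ ih =>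
      have hy' : y = a ∨ y = c := by simpa using hy
      rcases hy' with h | h
      · rw [h]; exact (hcl z ih).1
      · rw [h]; exact (hcl z ih).2
    | inv_mul_cancel y hy z _ ih =>
      have hy' : y = a ∨ y = c := by simpa using hy
      rcases hy' with h | h
      · rw [h, hainv]; exact (hcl z ih).1
      · rw [h, hcinv]; exact (hcl z ih).2
  have hfin : Finite X := Finite.of_surjective f hsurj
  have hle : Nat.card X ≤ 6 := by
    have := Nat.card_le_card_of_surjective f hsurj
    simpa using this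
  have hnc : a * c ≠ c * a := by
    intro h
    apply hca
    have h1 : a * c * a = c := by rw [h, mul_assoc, ha, mul_one]
    have h2 : c * a * c = a := by rw [← h, mul_assoc, hc, mul_one]
    rw [← h1, hbr, h2]
  have ha1 : a ≠ 1 := by
    intro h
    apply hnc
    rw [h, one_mul, mul_one]
  have ho2 : orderOf a = 2 := orderOf_eq_prime (by rw [pow_two]; exact ha) ha1
  have hac1 : a * c ≠ 1 := by
    intro h
    apply hca
    have : c = a⁻¹ := (inv_eq_of_mul_eq_one_right h).symm
    rw [this]
    exact inv_eq_of_mul_eq_one_right ha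
  have ho3 : orderOf (a * c) = 3 := by
    apply orderOf_eq_prime _ hac1
    have : (a * c) ^ 3 = (a * c * a) * (c * a * c) := by
      simp only [pow_succ, pow_zero, one_mul, mul_assoc]
    rw [this, ← hbr]
    simp only [mul_assoc, e1, e2, ha]
  have h2 : 2 ∣ Nat.card X := ho2 ▸ orderOf_dvd_natCard a
  have h3 : 3 ∣ Nat.card X := ho3 ▸ orderOf_dvd_natCard (a * c)
  have hpos : 0 < Nat.card X := Nat.card_pos
  have h6 : Nat.card X = 6 := by omega
  exact Cfsg.Agent.Lib.Helper66.OC.equiv_perm_of_card_six h6 (fun h => hnc (h a c))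

/-- in a subgroup of order dividing `2 * 3 ^ m`, elements of order dividing three generate a
3-group -/
theorem isPGroup3_closure_sub {G : Type*} [Group G] (K : Subgroup G) [Finite K] (m : Nat)
    (hK : Nat.card K ∣ 2 * 3 ^ m) (S : Set G) (hSK : S ⊆ K) (hS : ∀ y ∈ S, y ^ 3 = 1) :
    IsPGroup 3 (Subgroup.closure S) := by
  have h1 : IsPGroup 3 (Subgroup.closure ((K.subtype) ⁻¹' S)) := by
    apply isPGroup3_closure m hK
    intro y hy
    apply Subtype.ext
    simpa using hS y hy
  have h2 : (Subgroup.closure ((K.subtype) ⁻¹' S)).map K.subtype = Subgroup.closure S := by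
    rw [MonoidHom.map_closure]
    congr 1
    ext y
    simp only [Set.mem_image, Set.mem_preimage]
    constructor
    · rintro ⟨z, hz, rfl⟩; exact hz
    · intro hy; exact ⟨⟨y, hSK hy⟩, hy, rfl⟩
  rw [← h2]
  exact h1.map _

section EG

variable {Hb : Type*} [Group Hb] {D : Set Hb}
  (hconj : ∀ g : Hb, ∀ d ∈ D, g * d * g⁻¹ ∈ D)
  (hinv : ∀ d ∈ D, d * d = 1) (hcube : ∀ x ∈ D, ∀ y ∈ D, (x * y) ^ 3 = 1)

include hinv in
theorem d_inv {x : Hb} (hx : x ∈ D) : x⁻¹ = x := inv_eq_of_mul_eq_one_right (hinv x hx)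

include hconj hinv in
theorem d_conj {x y : Hb} (hx : x ∈ D) (hy : y ∈ D) : x * y * x ∈ D := by
  have := hconj x y hy
  rwa [d_inv hinv hx] at this

include hinv hcube in
theorem d_braid {x y : Hb} (hx : x ∈ D) (hy : y ∈ D) : x * y * x = y * x * y := by
  have h3 := hcube x hx y hy
  have hxx := hinv x hx
  have hyy := hinv y hy
  have : x * y * x * (y * x * y) = 1 := by
    simp only [pow_succ, pow_zero, one_mul, mul_assoc] at h3 ⊢; exact h3
  have h4 : x * y * x = (y * x * y)⁻¹ := eq_inv_of_mul_eq_one_left this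
  rw [h4, mul_inv_rev, mul_inv_rev, d_inv hinv hx, d_inv hinv hy, mul_assoc]

include hinv hcube in
/-- conjugation by the product moves the first factor to the second -/
theorem d_move {x y : Hb} (hx : x ∈ D) (hy : y ∈ D) : (x * y) * x * (x * y)⁻¹ = y := by
  rw [mul_inv_rev, d_inv hinv hx, d_inv hinv hy]
  have hb := d_braid hinv hcube hx hy
  have hxx := hinv x hx
  calc x * y * x * (y * x) = (x * y * x) * y * x := by group
    _ = (y * x * y) * y * x := by rw [hb]
    _ = y * x * (y * y) * x := by group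
    _ = y * (x * x) := by rw [hinv y hy]; group
    _ = y := by rw [hxx, mul_one]

include hinv hcube in
theorem d_move' {x y : Hb} (hx : x ∈ D) (hy : y ∈ D) : (y * x) * x * (y * x)⁻¹ = x * y * x := by
  rw [mul_inv_rev, d_inv hinv hx, d_inv hinv hy]
  have hb := d_braid hinv hcube hx hy
  have hxx := hinv x hx
  calc y * x * x * (x * y) = y * (x * x) * (x * y) := by group
    _ = y * x * y := by rw [hxx]; group
    _ = x * y * x := hb.symm

include hconj hinv hcube in
theorem end_game [Finite Hb] (hgen : Subgroup.closure D = ⊤)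
    (hne : ∃ x ∈ D, ∃ u ∈ D, x ≠ u) (hcard : D.ncard ≤ 9)
    (hSA : ∀ x ∈ D, ∀ u ∈ D, ∀ w ∈ D, x ≠ u → x ≠ w → u ≠ w → w ≠ x * u * x →
      (x * u) * (x * w) ≠ (x * w) * (x * u)) :
    Nonempty (Hb ≃* Equiv.Perm (Fin 3)) ∨ Nonempty (PresentedGroup rels54 ≃* Hb) := by
  classical
  obtain ⟨x, hx, u, hu, hxu⟩ := hne
  by_cases hA : ∀ d ∈ D, d = x ∨ d = u ∨ d = x * u * x
  · left
    apply braid_s3 x u (hinv x hx) (hinv u hu) (d_braid hinv hcube hx hu) (Ne.symm hxu)
    rw [eq_top_iff, ← hgen, Subgroup.closure_le]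
    intro d hd
    have hxL : x ∈ Subgroup.closure ({x, u} : Set Hb) := Subgroup.subset_closure (by simp)
    have huL : u ∈ Subgroup.closure ({x, u} : Set Hb) := Subgroup.subset_closure (by simp)
    rcases hA d hd with rfl | rfl | rfl
    · exact hxL
    · exact huL
    · exact Subgroup.mul_mem _ (Subgroup.mul_mem _ hxL huL) hxL
  · right
    push Not at hA
    obtain ⟨w, hw, hwx, hwu, hwl⟩ := hA
    have hnc := hSA x hx u hu w hw hxu (Ne.symm hwx) (Ne.symm hwu) hwl
    have hR : Rel54 x u w :=
      ⟨hinv x hx, hinv u hu, hinv w hw, hcube u hu w hw, hcube x hx u hu, hcube x hx w hw,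
        hcube u hu _ (d_conj hconj hinv hw hx)⟩
    obtain ⟨hc54, ⟨ψ⟩⟩ := hR.closure_equiv hnc
    obtain ⟨L, hL⟩ : ∃ L : Subgroup Hb, L = Subgroup.closure ({x, u, w} : Set Hb) := ⟨_, rfl⟩
    rw [← hL] at hc54 ψ
    have hxL : x ∈ L := by rw [hL]; exact Subgroup.subset_closure (by simp)
    have huL : u ∈ L := by rw [hL]; exact Subgroup.subset_closure (by simp)
    have hwL : w ∈ L := by rw [hL]; exact Subgroup.subset_closure (by simp)
    obtain ⟨T, hT⟩ : ∃ T : Subgroup Hb, T = Subgroup.closure ({x * u, x * w} : Set Hb) :=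
      ⟨_, rfl⟩
    have hTL : T ≤ L := by
      rw [hT, Subgroup.closure_le]
      rintro y (rfl | rfl)
      · exact L.mul_mem hxL huL
      · exact L.mul_mem hxL hwL
    have hT3 : IsPGroup 3 T := by
      rw [hT]
      apply isPGroup3_closure_sub L 3 (by rw [hc54]; norm_num)
      · rintro y (rfl | rfl)
        · exact L.mul_mem hxL huL
        · exact L.mul_mem hxL hwL
      · rintro y (rfl | rfl)
        · exact hcube x hx u hu
        · exact hcube x hx w hw
    -- the conjugation action of `T`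
    obtain ⟨T', hT'⟩ : ∃ T' : Subgroup (MulAut Hb), T' = T.map (MulAut.conj : Hb →* MulAut Hb) :=
      ⟨_, rfl⟩
    have hT'3 : IsPGroup 3 T' := by rw [hT']; exact hT3.map _
    obtain ⟨n, hn⟩ := hT'3.card_orbit (α := Hb) x
    have horb : ∀ y : Hb, y ∈ MulAction.orbit T' x ↔ ∃ g ∈ T, g * x * g⁻¹ = y := by
      intro y
      rw [MulAction.mem_orbit_iff]
      constructor
      · rintro ⟨⟨f, hf⟩, hfy⟩
        rw [hT'] at hf
        obtain ⟨g, hg, rfl⟩ := hf
        exact ⟨g, hg, hfy⟩
      · rintro ⟨g, hg, hgy⟩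
        exact ⟨⟨MulAut.conj g, by rw [hT']; exact ⟨g, hg, rfl⟩⟩, hgy⟩
    have hsub : MulAction.orbit T' x ⊆ D := by
      intro y hy
      obtain ⟨g, hg, rfl⟩ := (horb y).mp hy
      exact hconj g x hx
    have hxuT : x * u ∈ T := by rw [hT]; exact Subgroup.subset_closure (by simp)
    have hxwT : x * w ∈ T := by rw [hT]; exact Subgroup.subset_closure (by simp)
    have huxT : u * x ∈ T := by
      have := T.inv_mem hxuT
      rwa [mul_inv_rev, d_inv hinv hx, d_inv hinv hu] at this
    have h4 : ({x, u, w, x * u * x} : Set Hb) ⊆ MulAction.orbit T' x := by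
      rintro y (rfl | rfl | rfl | rfl)
      · exact (horb _).mpr ⟨1, T.one_mem, by simp⟩
      · exact (horb _).mpr ⟨_, hxuT, d_move hinv hcube hx hu⟩
      · exact (horb _).mpr ⟨_, hxwT, d_move hinv hcube hx hw⟩
      · exact (horb _).mpr ⟨_, huxT, d_move' hinv hcube hx hu⟩
    have hl1 : x * u * x ≠ x := by
      intro h
      apply hxu
      have h1 : x * u = 1 := by
        have : x * u * x = 1 * x := by rw [h, one_mul]
        exact mul_right_cancel this
      rw [← d_inv hinv hx]
      exact (inv_eq_of_mul_eq_one_right h1).symm ▸ rfl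
    have hl2 : x * u * x ≠ u := by
      intro h
      apply hxu
      rw [d_braid hinv hcube hx hu] at h
      have h1 : u * x = 1 := by
        have : u * x * u = 1 * u := by rw [h, one_mul]
        exact mul_right_cancel this
      rw [← d_inv hinv hu]
      exact (inv_eq_of_mul_eq_one_right h1).symm
    have hc4 : ({x, u, w, x * u * x} : Set Hb).ncard = 4 := by
      rw [Set.ncard_insert_of_notMem, Set.ncard_insert_of_notMem, Set.ncard_pair hwl]
      · simp only [Set.mem_insert_iff, Set.mem_singleton_iff, not_or]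
        exact ⟨Ne.symm hwu, Ne.symm hl2⟩
      · simp only [Set.mem_insert_iff, Set.mem_singleton_iff, not_or]
        exact ⟨hxu, Ne.symm hwx, Ne.symm hl1⟩
    have hge4 : 4 ≤ (MulAction.orbit T' x).ncard := by
      rw [← hc4]
      exact Set.ncard_le_ncard h4 (Set.toFinite _)
    have hle9 : (MulAction.orbit T' x).ncard ≤ 9 :=
      (Set.ncard_le_ncard hsub (Set.toFinite _)).trans hcard
    rw [Nat.card_coe_set_eq] at hn
    have hn2 : 2 ≤ n := by
      by_contra hlt
      have : n = 0 ∨ n = 1 := by omega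
      rcases this with rfl | rfl
      · rw [hn] at hge4; norm_num at hge4
      · rw [hn] at hge4; norm_num at hge4
    have h9 : 9 ≤ (MulAction.orbit T' x).ncard := by
      rw [hn]
      calc 9 = 3 ^ 2 := by norm_num
        _ ≤ 3 ^ n := Nat.pow_le_pow_right (by norm_num) hn2
    have heq : MulAction.orbit T' x = D :=
      Set.eq_of_subset_of_ncard_le hsub (hcard.trans h9) (Set.toFinite _)
    have hDL : D ⊆ L := by
      intro d hd
      rw [← heq] at hd
      obtain ⟨g, hg, rfl⟩ := (horb d).mp hd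
      exact L.mul_mem (L.mul_mem (hTL hg) hxL) (L.inv_mem (hTL hg))
    have hLtop : L = ⊤ := by
      rw [eq_top_iff, ← hgen, Subgroup.closure_le]
      exact hDL
    exact ⟨ψ.trans ((MulEquiv.subgroupCongr hLtop).trans Subgroup.topEquiv)⟩

end EG

end Cfsg.Agent.Lib.Helper46.Mod
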