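import Cfsg.Agent.Lib.Helper46.Plumb3

set_option autoImplicit false
set_option linter.all false
set_option maxHeartbeats 1000000

namespace Cfsg.Agent.Lib.Helper46.Mod

open Cfsg

universe u

variable {H : Type u} [Group H]

theorem mem_of_map_mem {W V : Subgroup H} [W.Normal] (hWV : W ≤ V) {x : H}
    (hx : (QuotientGroup.mk' W) x ∈ V.map (QuotientGroup.mk' W)) : x ∈ V := by
  obtain ⟨v, hv, hvx⟩ := hx
  have : v⁻¹ * x ∈ W := by
    rw [← QuotientGroup.eq]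
    exact hvx
  have h2 : x = v * (v⁻¹ * x) := by group
  rw [h2]
  exact V.mul_mem hv (hWV this)

theorem blocks_structure [Finite H] (V : Subgroup H) [hVn : V.Normal] (hV2 : IsPGroup 2 V)
    (hCV : ∀ x : H, (∀ v ∈ V, x * v = v * x) → x ∈ V)
    (E : Set H) (hEconj : ∀ g : H, ∀ e ∈ E, g * e * g⁻¹ ∈ E) (hEgen : Subgroup.closure E = ⊤)
    (hEinv : ∀ e ∈ E, e * e = 1)
    (hdich : ∀ a ∈ E, ∀ b ∈ E, a * b ∈ V ∨ ((a * b) ^ 3 = 1 ∧ a * b ∉ V))
    (hEclass : ∀ a ∈ E, ∀ b ∈ E, ∃ g : H, b = g * a * g⁻¹)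
    {a0 b0 : H} (ha0 : a0 ∈ E) (hb0 : b0 ∈ E) (h0 : a0 * b0 ∉ V) :
    ∃ (Q : Type u) (_ : Group Q) (_ : Finite Q) (A : Type u) (_ : AddCommGroup A)
      (φ : Q →* AddMonoid.End A) (ψ : H →* Q),
      Hyp φ (ψ '' E) ∧ (∀ v ∈ V, ψ v = 1) ∧ (∀ a ∈ E, ∀ b ∈ E, ψ a = ψ b → a * b ∈ V) ∧
        (ψ '' E).ncard ≤ 9 := by
  classical
  obtain ⟨y0, hy0⟩ : ∃ y0, y0 = a0 * b0 := ⟨_, rfl⟩
  have hy03 : y0 ^ 3 = 1 := by
    rw [hy0]; exact ((hdich a0 ha0 b0 hb0).resolve_left h0).1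
  have hy0V : y0 ∉ V := by rw [hy0]; exact h0
  -- a maximal normal subgroup of V centralized by y0
  let WW : Set (Subgroup H) := {W | W.Normal ∧ W ≤ V ∧ ∀ w ∈ W, y0 * w = w * y0}
  have hbot : (⊥ : Subgroup H) ∈ WW := by
    refine ⟨inferInstance, bot_le, ?_⟩
    intro w hw
    rw [Subgroup.mem_bot] at hw
    rw [hw, mul_one, one_mul]
  obtain ⟨W, ⟨hWn, hWV, hWc⟩, hWmax⟩ :=
    Set.exists_max_image WW (fun W => Nat.card W) (Set.toFinite _) ⟨⊥, hbot⟩
  haveI := hWn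
  have hWneV : W ≠ V := by
    intro h
    apply hy0V
    apply hCV
    intro v hv
    exact hWc v (h ▸ hv)
  obtain ⟨π, hπ⟩ : ∃ π : H →* H ⧸ W, π = QuotientGroup.mk' W := ⟨_, rfl⟩
  have hπsurj : Function.Surjective π := by rw [hπ]; exact QuotientGroup.mk'_surjective W
  have hπker : ∀ x : H, π x = 1 ↔ x ∈ W := by
    intro x; rw [hπ]; exact QuotientGroup.eq_one_iff x
  have hmapV : ∀ x : H, π x ∈ V.map π → x ∈ V := by
    intro x hx; rw [hπ] at hx; exact mem_of_map_mem hWV hx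
  obtain ⟨Vt, hVt⟩ : ∃ Vt : Subgroup (H ⧸ W), Vt = V.map π := ⟨_, rfl⟩
  haveI hVtn : Vt.Normal := by rw [hVt]; exact hVn.map π hπsurj
  have hVt2 : IsPGroup 2 Vt := by rw [hVt]; exact hV2.map π
  have hVtne : Vt ≠ ⊥ := by
    intro h
    apply hWneV
    apply le_antisymm hWV
    intro v hv
    have : π v ∈ Vt := by rw [hVt]; exact Subgroup.mem_map_of_mem π hv
    rw [h, Subgroup.mem_bot] at this
    exact (hπker v).mp this
  -- the centre of Vt as a subgroup of the quotient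
  obtain ⟨Zv, hZv⟩ : ∃ Zv : Subgroup (H ⧸ W), Zv = Subgroup.centralizer (Vt : Set (H ⧸ W)) ⊓ Vt :=
    ⟨_, rfl⟩
  have hZmem : ∀ z : H ⧸ W, z ∈ Zv ↔ (∀ v ∈ Vt, v * z = z * v) ∧ z ∈ Vt := by
    intro z
    rw [hZv, Subgroup.mem_inf, Subgroup.mem_centralizer_iff]
    rfl
  have hZn : Zv.Normal := by
    refine ⟨?_⟩
    intro z hz g
    rw [hZmem] at hz ⊢
    refine ⟨?_, hVtn.conj_mem z hz.2 g⟩
    intro v hv
    have hv' : g⁻¹ * v * g⁻¹⁻¹ ∈ Vt := hVtn.conj_mem v hv g⁻¹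
    rw [inv_inv] at hv'
    have := hz.1 _ hv'
    calc v * (g * z * g⁻¹) = g * ((g⁻¹ * v * g) * z) * g⁻¹ := by group
      _ = g * (z * (g⁻¹ * v * g)) * g⁻¹ := by rw [this]
      _ = g * z * g⁻¹ * v := by group
  have hZne : Zv ≠ ⊥ := by
    haveI : Nontrivial ↥Vt := by
      rw [← not_subsingleton_iff_nontrivial]
      intro hs
      exact hVtne (Subgroup.eq_bot_of_subsingleton Vt)
    haveI : Fact (Nat.Prime 2) := ⟨Nat.prime_two⟩
    haveI := hVt2.center_nontrivial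
    obtain ⟨z, hz⟩ := exists_ne (1 : Subgroup.center ↥Vt)
    intro h
    apply hz
    have hzZ : ((z : ↥Vt) : H ⧸ W) ∈ Zv := by
      rw [hZmem]
      refine ⟨?_, (z : ↥Vt).2⟩
      intro v hv
      have := (Subgroup.mem_center_iff.mp z.2) ⟨v, hv⟩
      exact congrArg Subtype.val this
    rw [h, Subgroup.mem_bot] at hzZ
    apply Subtype.ext
    apply Subtype.ext
    exact hzZ
  -- a minimal normal subgroup inside the centre
  let SS : Set (Subgroup (H ⧸ W)) := {M | M.Normal ∧ M ≤ Zv ∧ M ≠ ⊥}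
  obtain ⟨M, ⟨hMn, hMZ, hMne⟩, hMmin⟩ :=
    Set.exists_min_image SS (fun M => Nat.card M) (Set.toFinite _) ⟨Zv, hZn, le_rfl, hZne⟩
  haveI := hMn
  have hMV : M ≤ Vt := fun m hm => ((hZmem m).mp (hMZ hm)).2
  have hMc : ∀ v ∈ Vt, ∀ m ∈ M, v * m = m * v := fun v hv m hm => ((hZmem m).mp (hMZ hm)).1 v hv
  have hMirr : ∀ N : Subgroup (H ⧸ W), N.Normal → N ≤ M → N = ⊥ ∨ N = M := by
    intro N hNn hNM
    by_cases hN : N = ⊥
    · left; exact hN
    · right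
      have h1 : Nat.card M ≤ Nat.card N := hMmin N ⟨hNn, hNM.trans hMZ, hN⟩
      exact Subgroup.eq_of_le_of_card_ge hNM h1
  -- the image class
  have hEconj' : ∀ g : H ⧸ W, ∀ e ∈ π '' E, g * e * g⁻¹ ∈ π '' E := by
    rintro g e ⟨e0, he0, rfl⟩
    obtain ⟨g0, rfl⟩ := hπsurj g
    exact ⟨g0 * e0 * g0⁻¹, hEconj g0 e0 he0, by simp only [map_mul, map_inv]⟩
  have hEgen' : Subgroup.closure (π '' E) = ⊤ := by
    rw [← MonoidHom.map_closure, hEgen, ← MonoidHom.range_eq_map, MonoidHom.range_eq_top]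
    exact hπsurj
  have hEinv' : ∀ e ∈ π '' E, e * e = 1 := by
    rintro e ⟨e0, he0, rfl⟩
    rw [← map_mul, hEinv e0 he0, map_one]
  have hdich' : ∀ a ∈ π '' E, ∀ b ∈ π '' E, a * b ∈ Vt ∨ ((a * b) ^ 3 = 1 ∧ a * b ∉ Vt) := by
    rintro a ⟨a1, ha1, rfl⟩ b ⟨b1, hb1, rfl⟩
    rcases hdich a1 ha1 b1 hb1 with h | ⟨h3, hn⟩
    · left
      rw [← map_mul, hVt]; exact Subgroup.mem_map_of_mem π h
    · right
      refine ⟨by rw [← map_mul, ← map_pow, h3, map_one], ?_⟩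
      intro hmem
      apply hn
      apply hmapV
      rw [map_mul, ← hVt]; exact hmem
  have hact : ∀ e ∈ π '' E, ∃ m ∈ M, e * m ≠ m * e := by
    rintro e ⟨e0, he0, rfl⟩
    by_contra hno
    push Not at hno
    -- every member centralizes M
    have hall : ∀ f ∈ E, ∀ m ∈ M, π f * m = m * π f := by
      intro f hf m hm
      obtain ⟨g, rfl⟩ := hEclass e0 he0 f hf
      have hm' : (π g)⁻¹ * m * (π g)⁻¹⁻¹ ∈ M := hMn.conj_mem m hm (π g)⁻¹
      rw [inv_inv] at hm'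
      have := hno _ hm'
      simp only [map_mul, map_inv]
      calc π g * π e0 * (π g)⁻¹ * m = π g * (π e0 * ((π g)⁻¹ * m * π g)) * (π g)⁻¹ := by group
        _ = π g * (((π g)⁻¹ * m * π g) * π e0) * (π g)⁻¹ := by rw [this]
        _ = m * (π g * π e0 * (π g)⁻¹) := by group
    have hy0M : ∀ m ∈ M, π y0 * m = m * π y0 := by
      intro m hm
      rw [hy0, map_mul, mul_assoc, hall b0 hb0 m hm, ← mul_assoc, hall a0 ha0 m hm, mul_assoc]
    -- the preimage of M is a larger member of WW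
    obtain ⟨W2, hW2⟩ : ∃ W2 : Subgroup H, W2 = M.comap π := ⟨_, rfl⟩
    have hW2n : W2.Normal := by rw [hW2]; exact hMn.comap π
    have hW2V : W2 ≤ V := by
      intro x hx
      rw [hW2, Subgroup.mem_comap] at hx
      apply hmapV
      rw [← hVt]; exact hMV hx
    have hWW2 : W ≤ W2 := by
      intro x hx
      rw [hW2, Subgroup.mem_comap, (hπker x).mpr hx]
      exact M.one_mem
    have hW2c : ∀ w ∈ W2, y0 * w = w * y0 := by
      intro x hx
      have hxM : π x ∈ M := by rw [hW2, Subgroup.mem_comap] at hx; exact hx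
      have hcW : y0 * x * y0⁻¹ * x⁻¹ ∈ W := by
        rw [← hπker]
        simp only [map_mul, map_inv]
        rw [hy0M _ hxM]; group
      apply fp_lemma hy03 (hWc _ hcW)
      obtain ⟨k, hk⟩ := hV2 ⟨_, hWV hcW⟩
      refine ⟨k, ?_⟩
      have := congrArg Subtype.val hk
      simpa using this
    have hle : Nat.card W2 ≤ Nat.card W := hWmax W2 ⟨hW2n, hW2V, hW2c⟩
    have heq : W = W2 := Subgroup.eq_of_le_of_card_ge hWW2 hle
    apply hMne
    rw [Subgroup.eq_bot_iff_forall]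
    intro m hm
    obtain ⟨x, rfl⟩ := hπsurj m
    have : x ∈ W2 := by rw [hW2, Subgroup.mem_comap]; exact hm
    rw [← heq] at this
    exact (hπker x).mpr this
  obtain ⟨Q, iG, iF, A, iA, φ, ψ', hHyp, hψV, hsame, hcard⟩ :=
    module_setting Vt M hVt2 hMV hMc hMne hMirr (π '' E) hEconj' hEgen' hEinv' hdich' hact
  refine ⟨Q, iG, iF, A, iA, φ, ψ'.comp π, ?_, ?_, ?_, ?_⟩
  · have : (ψ'.comp π) '' E = ψ' '' (π '' E) := by
      rw [Set.image_image]; rfl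
    rw [this]; exact hHyp
  · intro v hv
    show ψ' (π v) = 1
    apply hψV
    rw [hVt]; exact Subgroup.mem_map_of_mem π hv
  · intro a ha b hb hab
    have := hsame (π a) ⟨a, ha, rfl⟩ (π b) ⟨b, hb, rfl⟩ hab
    apply hmapV
    rw [map_mul, ← hVt]; exact this
  · have : (ψ'.comp π) '' E = ψ' '' (π '' E) := by
      rw [Set.image_image]; rfl
    rw [this]; exact hcard

end Cfsg.Agent.Lib.Helper46.Mod
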