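import Cfsg.Prelude.Def_SporadicB
import Cfsg.Prelude.Def_Solvable
import Cfsg.Prelude.Def_Local
import Cfsg.Agent.Lib.Helper46.Plumb4
import Cfsg.Agent.Lib.Helper46.End3
import Cfsg.Agent.Lib.Helper22.FStar
import Cfsg.Agent.Lib.Helper84.PCore

set_option autoImplicit false
set_option linter.all false
set_option maxHeartbeats 1000000

/-! Assembly: a `{2,3,2}`-group generated by a class of 3-transpositions with `F* = O₂`. -/

namespace Cfsg.Agent.Lib.Helper46.Mod

open Cfsg

universe u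

theorem eq_one_of_coprime_pow {G : Type*} [Group G] {g : G} {m n : ℕ} (hm : g ^ m = 1)
    (hn : g ^ n = 1) (hmn : Nat.Coprime m n) : g = 1 := by
  have h1 : orderOf g ∣ Nat.gcd m n :=
    Nat.dvd_gcd (orderOf_dvd_of_pow_eq_one hm) (orderOf_dvd_of_pow_eq_one hn)
  rw [Nat.Coprime.gcd_eq_one hmn] at h1
  exact orderOf_eq_one_iff.mp (Nat.dvd_one.mp h1)

theorem tt68_aux {H : Type u} [Group H] [Finite H] {E : Set H}
    (hE : IsThreeTranspositionClass E)
    (hE2 : ∃ a ∈ E, ∃ b ∈ E, a ≠ b) (V : Subgroup H) [hVn : V.Normal] (hV : V = pCore 2 H)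
    (hF : generalizedFittingSubgroup H = V)
    (h232 : ∃ P : Sylow 3 (H ⧸ V), (P : Subgroup (H ⧸ V)).Normal ∧
      ∃ k : ℕ, (P : Subgroup (H ⧸ V)).index = 2 ^ k) :
    Nonempty (H ⧸ V ≃* Equiv.Perm (Fin 3)) ∨ Nonempty (PresentedGroup rels54 ≃* H ⧸ V) := by
  classical
  haveI : Fact (Nat.Prime 2) := ⟨Nat.prime_two⟩
  haveI : Fact (Nat.Prime 3) := ⟨Nat.prime_three⟩
  obtain ⟨⟨hEord, hEprod⟩, ⟨d, hdE, hEd⟩, hEgen⟩ := hE
  have hV2 : IsPGroup 2 V := by rw [hV]; exact Cfsg.Agent.Lib.Helper84.pCore_isPGroup 2 H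
  have hCV : ∀ x : H, (∀ v ∈ V, x * v = v * x) → x ∈ V := by
    intro x hx
    have h1 := Cfsg.Agent.Lib.Helper22.centralizer_generalizedFitting_le H
    rw [hF] at h1
    apply h1
    rw [Subgroup.mem_centralizer_iff]
    intro v hv
    exact (hx v hv).symm
  have hEinv : ∀ e ∈ E, e * e = 1 := by
    intro e he; rw [← pow_two, ← hEord e he, pow_orderOf_eq_one]
  have hEconj : ∀ g : H, ∀ e ∈ E, g * e * g⁻¹ ∈ E := by
    intro g e he
    rw [hEd] at he ⊢
    have he' : IsConj d e := he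
    show IsConj d (g * e * g⁻¹)
    exact he'.trans (isConj_iff.mpr ⟨g, rfl⟩)
  have hEclass : ∀ a ∈ E, ∀ b ∈ E, ∃ g : H, b = g * a * g⁻¹ := by
    intro a ha b hb
    rw [hEd] at ha hb
    have ha' : IsConj d a := ha
    have hb' : IsConj d b := hb
    obtain ⟨g, hg⟩ := isConj_iff.mp (ha'.symm.trans hb')
    exact ⟨g, hg.symm⟩
  -- the 2-group on top
  obtain ⟨P, hPn, k, hPk⟩ := h232
  haveI := hPn
  have hT2 : IsPGroup 2 ((H ⧸ V) ⧸ (P : Subgroup (H ⧸ V))) := by
    apply IsPGroup.of_card (n := k)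
    rw [← Subgroup.index_eq_card, hPk]
  obtain ⟨τ, hτ⟩ : ∃ τ : H →* (H ⧸ V) ⧸ (P : Subgroup (H ⧸ V)),
      τ = (QuotientGroup.mk' (P : Subgroup (H ⧸ V))).comp (QuotientGroup.mk' V) := ⟨_, rfl⟩
  have hτker : ∀ x : H, τ x = 1 ↔ (QuotientGroup.mk' V x) ∈ (P : Subgroup (H ⧸ V)) := by
    intro x; rw [hτ]; exact QuotientGroup.eq_one_iff _
  have h2cube : ∀ t : (H ⧸ V) ⧸ (P : Subgroup (H ⧸ V)), t ^ 3 = 1 → t = 1 := by
    intro t ht
    obtain ⟨j, hj⟩ := hT2 t
    exact eq_one_of_coprime_pow ht hj (Nat.Coprime.pow_right j (by norm_num))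
  have hτinv : ∀ a ∈ E, τ a * τ a = 1 := by
    intro a ha; rw [← map_mul, hEinv a ha, map_one]
  have hτcomm : ∀ a ∈ E, ∀ b ∈ E, τ a * τ b = τ b * τ a := by
    intro a ha b hb
    have hai : (τ a)⁻¹ = τ a := inv_eq_of_mul_eq_one_right (hτinv a ha)
    have hbi : (τ b)⁻¹ = τ b := inv_eq_of_mul_eq_one_right (hτinv b hb)
    rcases hEprod a ha b hb with h | h
    · have h1 : (τ a * τ b) * (τ a * τ b) = 1 := by
        rw [← map_mul, ← map_mul, ← pow_two, h, map_one]
      have h2 : τ a * τ b = (τ a * τ b)⁻¹ := eq_inv_of_mul_eq_one_left h1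
      rw [h2, mul_inv_rev, hai, hbi]
    · have h1 : (τ a * τ b) ^ 3 = 1 := by rw [← map_mul, ← map_pow, h, map_one]
      have h2 := h2cube _ h1
      have h3 : τ b = τ a := by
        rw [← hai]; exact (inv_eq_of_mul_eq_one_right h2).symm
      rw [h3]
  have hτcent : ∀ a ∈ E, ∀ h : H, Commute (τ a) (τ h) := by
    intro a ha h
    have hh : h ∈ Subgroup.closure E := by rw [hEgen]; trivial
    induction hh using Subgroup.closure_induction with
    | mem x hx => exact hτcomm a ha x hx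
    | one => rw [map_one]; exact Commute.one_right _
    | mul x y _ _ ihx ihy => rw [map_mul]; exact ihx.mul_right ihy
    | inv x _ ih => rw [map_inv]; exact ih.inv_right
  have hτeq : ∀ a ∈ E, ∀ b ∈ E, τ a = τ b := by
    intro a ha b hb
    obtain ⟨g, hg⟩ := hEclass a ha b hb
    rw [hg, map_mul, map_mul, map_inv, ← (hτcent a ha g).eq, mul_inv_cancel_right]
  have hP : ∀ a ∈ E, ∀ b ∈ E, (QuotientGroup.mk' V (a * b)) ∈ (P : Subgroup (H ⧸ V)) := by
    intro a ha b hb
    rw [← hτker, map_mul, ← hτeq a ha b hb, hτinv a ha]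
  -- the dichotomy
  have hdich : ∀ a ∈ E, ∀ b ∈ E, a * b ∈ V ∨ ((a * b) ^ 3 = 1 ∧ a * b ∉ V) := by
    intro a ha b hb
    by_cases hab : a * b ∈ V
    · left; exact hab
    · right
      refine ⟨?_, hab⟩
      rcases hEprod a ha b hb with h | h
      · exfalso; apply hab
        have hmem := hP a ha b hb
        obtain ⟨j, hj⟩ := P.2 ⟨_, hmem⟩
        have hj' : (QuotientGroup.mk' V (a * b)) ^ (3 ^ j) = 1 := by
          have := congrArg Subtype.val hj
          simpa using this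
        have h2' : (QuotientGroup.mk' V (a * b)) ^ 2 = 1 := by
          rw [← map_pow, h, map_one]
        have h1 := eq_one_of_coprime_pow h2' hj' (Nat.Coprime.pow_right j (by norm_num))
        exact (QuotientGroup.eq_one_iff _).mp h1
      · exact h
  -- a pair with product outside `V`
  have hex : ∃ a0 ∈ E, ∃ b0 ∈ E, a0 * b0 ∉ V := by
    by_contra hcon
    push Not at hcon
    have hcomm : ∀ a ∈ E, ∀ b ∈ E, a * b = b * a := by
      intro a ha b hb
      have hai : a⁻¹ = a := inv_eq_of_mul_eq_one_right (hEinv a ha)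
      have hbi : b⁻¹ = b := inv_eq_of_mul_eq_one_right (hEinv b hb)
      have hsq : (a * b) ^ 2 = 1 := by
        rcases hEprod a ha b hb with h | h
        · exact h
        · obtain ⟨j, hj⟩ := hV2 ⟨a * b, hcon a ha b hb⟩
          have hj' : (a * b) ^ (2 ^ j) = 1 := by
            have := congrArg Subtype.val hj
            simpa using this
          have : a * b = 1 :=
            eq_one_of_coprime_pow h hj' (Nat.Coprime.pow_right j (by norm_num))
          rw [this, one_pow]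
      have h1 : (a * b) * (a * b) = 1 := by rw [← pow_two]; exact hsq
      have h2 : a * b = (a * b)⁻¹ := eq_inv_of_mul_eq_one_left h1
      rw [h2, mul_inv_rev, hai, hbi]
    have hcent : ∀ a ∈ E, ∀ h : H, Commute a h := by
      intro a ha h
      have hh : h ∈ Subgroup.closure E := by rw [hEgen]; trivial
      induction hh using Subgroup.closure_induction with
      | mem x hx => exact hcomm a ha x hx
      | one => exact Commute.one_right _
      | mul x y _ _ ihx ihy => exact ihx.mul_right ihy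
      | inv x _ ih => exact ih.inv_right
    obtain ⟨a, ha, b, hb, hab⟩ := hE2
    apply hab
    obtain ⟨g, hg⟩ := hEclass a ha b hb
    rw [hg, ← (hcent a ha g).eq, mul_inv_cancel_right]
  obtain ⟨a0, ha0, b0, hb0, h0⟩ := hex
  obtain ⟨Q, iG, iF, A, iA, φ, ψ, hHyp, hψV, hsame, hcard⟩ :=
    blocks_structure V hV2 hCV E hEconj hEgen hEinv hdich hEclass ha0 hb0 h0
  -- the quotient
  obtain ⟨π, hπ⟩ : ∃ π : H →* H ⧸ V, π = QuotientGroup.mk' V := ⟨_, rfl⟩
  have hπs : Function.Surjective π := by rw [hπ]; exact QuotientGroup.mk'_surjective V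
  have hπker : ∀ x : H, π x = 1 ↔ x ∈ V := by
    intro x; rw [hπ]; exact QuotientGroup.eq_one_iff x
  obtain ⟨ψb, hψb⟩ : ∃ ψb : H ⧸ V →* Q, ∀ h : H, ψb (π h) = ψ h := by
    refine ⟨QuotientGroup.lift V ψ (fun v hv => hψV v hv), ?_⟩
    intro h
    rw [hπ]
    rfl
  obtain ⟨D, hD⟩ : ∃ D : Set (H ⧸ V), D = π '' E := ⟨_, rfl⟩
  have hconjD : ∀ g : H ⧸ V, ∀ d ∈ D, g * d * g⁻¹ ∈ D := by
    intro g d hd
    rw [hD] at hd ⊢
    obtain ⟨e, he, rfl⟩ := hd
    obtain ⟨g0, rfl⟩ := hπs g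
    exact ⟨g0 * e * g0⁻¹, hEconj g0 e he, by rw [map_mul, map_mul, map_inv]⟩
  have hgenD : Subgroup.closure D = ⊤ := by
    rw [hD, ← MonoidHom.map_closure, hEgen]
    exact Subgroup.map_top_of_surjective π hπs
  have hinvD : ∀ d ∈ D, d * d = 1 := by
    intro d hd
    rw [hD] at hd
    obtain ⟨e, he, rfl⟩ := hd
    rw [← map_mul, hEinv e he, map_one]
  have hcubeD : ∀ x ∈ D, ∀ y ∈ D, (x * y) ^ 3 = 1 := by
    intro x hx y hy
    rw [hD] at hx hy
    obtain ⟨a, ha, rfl⟩ := hx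
    obtain ⟨b, hb, rfl⟩ := hy
    rcases hdich a ha b hb with h | ⟨h, -⟩
    · rw [← map_mul, (hπker _).mpr h, one_pow]
    · rw [← map_mul, ← map_pow, h, map_one]
  have hneD : ∃ x ∈ D, ∃ u ∈ D, x ≠ u := by
    refine ⟨π a0, hD ▸ ⟨a0, ha0, rfl⟩, π b0, hD ▸ ⟨b0, hb0, rfl⟩, ?_⟩
    intro h
    apply h0
    rw [← hπker, map_mul, h, ← map_mul, hEinv b0 hb0, map_one]
  have hinjD : Set.InjOn ψb D := by
    intro x hx y hy hxy
    rw [hD] at hx hy
    obtain ⟨a, ha, rfl⟩ := hx
    obtain ⟨b, hb, rfl⟩ := hy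
    rw [hψb, hψb] at hxy
    have h1 : π (a * b) = 1 := (hπker _).mpr (hsame a ha b hb hxy)
    rw [map_mul] at h1
    have h2 : π b * π b = 1 := by rw [← map_mul, hEinv b hb, map_one]
    calc π a = π a * (π b * π b) := by rw [h2, mul_one]
      _ = (π a * π b) * π b := by rw [mul_assoc]
      _ = π b := by rw [h1, one_mul]
  have himg : ψb '' D = ψ '' E := by
    rw [hD, Set.image_image]
    apply Set.image_congr
    intro a _
    exact hψb a
  have hcardD : D.ncard ≤ 9 := by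
    rw [← hinjD.ncard_image, himg]
    exact hcard
  have hSA : ∀ x ∈ D, ∀ u ∈ D, ∀ w ∈ D, x ≠ u → x ≠ w → u ≠ w → w ≠ x * u * x →
      (x * u) * (x * w) ≠ (x * w) * (x * u) := by
    intro x hx u hu w hw hxu hxw huw hwl hc
    have hmem : ∀ d ∈ D, ψb d ∈ ψ '' E := by
      intro d hd; rw [← himg]; exact ⟨d, hd, rfl⟩
    have hrr : ψb x * ψb x = 1 := by rw [← map_mul, hinvD x hx, map_one]
    have hpp : ψb u * ψb u = 1 := by rw [← map_mul, hinvD u hu, map_one]
    have hqq : ψb w * ψb w = 1 := by rw [← map_mul, hinvD w hw, map_one]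
    have hri : (ψb x)⁻¹ = ψb x := inv_eq_of_mul_eq_one_right hrr
    have hpi : (ψb u)⁻¹ = ψb u := inv_eq_of_mul_eq_one_right hpp
    have hqi : (ψb w)⁻¹ = ψb w := inv_eq_of_mul_eq_one_right hqq
    have hY3 : (ψb x * ψb w) ^ 3 = 1 := hHyp.cube _ (hmem x hx) _ (hmem w hw)
    apply no_commuting_pair hHyp (hmem x hx) (x := ψb x * ψb u) (y := ψb x * ψb w)
    · rw [mul_inv_rev, hri, hpi]
      calc ψb x * (ψb x * ψb u) * ψb x = (ψb x * ψb x) * ψb u * ψb x := by group
        _ = ψb u * ψb x := by rw [hrr, one_mul]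
    · rw [mul_inv_rev, hri, hqi]
      calc ψb x * (ψb x * ψb w) * ψb x = (ψb x * ψb x) * ψb w * ψb x := by group
        _ = ψb w * ψb x := by rw [hrr, one_mul]
    · exact hHyp.cube _ (hmem x hx) _ (hmem u hu)
    · exact hY3
    · have := congrArg ψb hc
      simpa only [map_mul] using this
    · intro h
      apply hxu
      apply hinjD hx hu
      rw [← hri]; exact (inv_eq_of_mul_eq_one_right h).symm ▸ rfl
    · intro h
      apply hxw
      apply hinjD hx hw
      rw [← hri]; exact (inv_eq_of_mul_eq_one_right h).symm ▸ rfl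
    · intro h
      apply hwl
      apply hinjD hw (d_conj hconjD hinvD hx hu)
      rw [map_mul, map_mul]
      have h1 : (ψb x * ψb u * ψb x) * ψb w = 1 := by
        rw [← h]; group
      rw [← hqi]
      exact inv_eq_of_mul_eq_one_left h1
    · intro h
      apply huw
      apply hinjD hu hw
      have h3 : (ψb x * ψb w) * (ψb x * ψb w) * (ψb x * ψb w) = 1 := by
        rw [← hY3, pow_succ, pow_two]
      have h4 : ψb x * ψb u = ψb x * ψb w := by
        have h5 : ψb x * ψb u * ((ψb x * ψb w) * (ψb x * ψb w)) = 1 := by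
          rw [← h]; group
        have h6 : (ψb x * ψb w) * ((ψb x * ψb w) * (ψb x * ψb w)) = 1 := by
          rw [← h3]; group
        exact mul_right_cancel (h5.trans h6.symm)
      exact mul_left_cancel h4
  exact end_game hconjD hinvD hcubeD hgenD hneD hcardD hSA

end Cfsg.Agent.Lib.Helper46.Mod
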