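import Mathlib

set_option autoImplicit false
set_option linter.style.haveILetI false
set_option linter.unusedSectionVars false

/-!
# Flag counting for an invariant family of subsets in a transitive action
-/

namespace Cfsg.Agent.Lib.Helper46.FlagCount

open Pointwise

variable {Γ Ω : Type*} [Group Γ] [MulAction Γ Ω] [Fintype Ω] [DecidableEq Ω]

/-- The number of members of size `k` of an invariant family through a point does not depend on
the point (inside one orbit). -/
theorem card_through_smul (L : Finset (Finset Ω)) (hL : ∀ g : Γ, ∀ ℓ ∈ L, g • ℓ ∈ L) (k : ℕ)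
    (α : Ω) (g : Γ) :
    (L.filter fun ℓ => ℓ.card = k ∧ g • α ∈ ℓ).card = (L.filter fun ℓ => ℓ.card = k ∧ α ∈ ℓ).card := by
  symm
  apply Finset.card_nbij' (fun ℓ => g • ℓ) (fun ℓ => g⁻¹ • ℓ)
  · intro ℓ hℓ
    rw [Finset.mem_coe, Finset.mem_filter] at hℓ ⊢
    exact ⟨hL g ℓ hℓ.1, by rw [Finset.card_smul_finset]; exact hℓ.2.1,
      (Finset.smul_mem_smul_finset_iff g).mpr hℓ.2.2⟩
  · intro ℓ hℓ
    rw [Finset.mem_coe, Finset.mem_filter] at hℓ ⊢
    refine ⟨hL g⁻¹ ℓ hℓ.1, by rw [Finset.card_smul_finset]; exact hℓ.2.1, ?_⟩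
    rw [Finset.mem_inv_smul_finset_iff]
    exact hℓ.2.2
  · intro ℓ _
    simp
  · intro ℓ _
    simp

/-- Flag counting. -/
theorem flag_count [MulAction.IsPretransitive Γ Ω] (L : Finset (Finset Ω))
    (hL : ∀ g : Γ, ∀ ℓ ∈ L, g • ℓ ∈ L) (k : ℕ) (α : Ω) :
    Fintype.card Ω * (L.filter fun ℓ => ℓ.card = k ∧ α ∈ ℓ).card =
      k * (L.filter fun ℓ => ℓ.card = k).card := by
  have key := Finset.sum_card_bipartiteAbove_eq_sum_card_bipartiteBelow
    (s := (Finset.univ : Finset Ω)) (t := L.filter fun ℓ => ℓ.card = k) (fun a ℓ => a ∈ ℓ)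
  have hl : ∀ a ∈ (Finset.univ : Finset Ω),
      ((L.filter fun ℓ => ℓ.card = k).bipartiteAbove (fun a ℓ => a ∈ ℓ) a).card =
        (L.filter fun ℓ => ℓ.card = k ∧ α ∈ ℓ).card := by
    intro a _
    obtain ⟨g, rfl⟩ := MulAction.exists_smul_eq Γ α a
    rw [← card_through_smul L hL k α g]
    congr 1
    ext ℓ
    simp [Finset.mem_bipartiteAbove, and_assoc]
  have hr : ∀ ℓ ∈ L.filter (fun ℓ => ℓ.card = k),
      ((Finset.univ : Finset Ω).bipartiteBelow (fun a ℓ => a ∈ ℓ) ℓ).card = k := by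
    intro ℓ hℓ
    rw [Finset.mem_filter] at hℓ
    rw [← hℓ.2]
    congr 1
    ext a
    simp [Finset.mem_bipartiteBelow]
  rw [Finset.sum_congr rfl hl, Finset.sum_congr rfl hr, Finset.sum_const, Finset.sum_const,
    smul_eq_mul, smul_eq_mul, Finset.card_univ] at key
  rw [key, mul_comm]

end Cfsg.Agent.Lib.Helper46.FlagCount
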