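import Cfsg.Agent.Lib.Helper46.Trace
import Cfsg.Agent.Lib.Helper46.SylowAux

set_option autoImplicit false

namespace Cfsg.Agent.Lib.Helper46

open Cfsg
open scoped commutatorElement

variable {H : Type*} [Group H]

theorem omegaOne_mem_of_abelian {p : ℕ} (Z : Subgroup H)
    (hZ : Z ≤ Subgroup.centralizer (Z : Set H)) :
    ∀ a ∈ Cfsg.omegaOne p Z, a ∈ Z ∧ a ^ p = 1 := by
  let K : Subgroup H :=
    { carrier := {a | a ∈ Z ∧ a ^ p = 1}
      one_mem' := ⟨Subgroup.one_mem _, one_pow _⟩
      mul_mem' := by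
        rintro a b ⟨ha, hap⟩ ⟨hb, hbp⟩
        refine ⟨Subgroup.mul_mem _ ha hb, ?_⟩
        have hc : Commute a b := by
          have := (Subgroup.mem_centralizer_iff.mp (hZ ha)) b hb
          exact this.symm
        rw [hc.mul_pow, hap, hbp, one_mul]
      inv_mem' := by
        rintro a ⟨ha, hap⟩
        refine ⟨Subgroup.inv_mem _ ha, ?_⟩
        rw [inv_pow, hap, inv_one] }
  have : Cfsg.omegaOne p Z ≤ K := by
    unfold Cfsg.omegaOne
    rw [Subgroup.closure_le]
    intro a ha
    exact ha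
  intro a ha
  exact this ha

theorem mem_omegaOne {p : ℕ} (Z : Subgroup H) {a : H} (ha : a ∈ Z) (hap : a ^ p = 1) :
    a ∈ Cfsg.omegaOne p Z := by
  unfold Cfsg.omegaOne
  exact Subgroup.subset_closure ⟨ha, hap⟩

theorem inf_centralizer_abelian (S : Subgroup H) :
    S ⊓ Subgroup.centralizer (S : Set H) ≤
      Subgroup.centralizer ((S ⊓ Subgroup.centralizer (S : Set H) : Subgroup H) : Set H) := by
  intro a ha
  exact (Subgroup.centralizer_le (s := ((S ⊓ Subgroup.centralizer (S : Set H) : Subgroup H) : Set H))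
    (t := (S : Set H)) (fun x hx => hx.1)) ha.2

theorem commute_of_mem_centralizer {S : Set H} {a b : H} (ha : a ∈ Subgroup.centralizer S) (hb : b ∈ S) :
    b * a = a * b := (Subgroup.mem_centralizer_iff.mp ha) b hb

theorem conj_eq_of_commute {a b : H} (h : a * b = b * a) : a * b * a⁻¹ = b := by
  rw [h]; group

theorem commute_of_conj_eq {a b : H} (h : a * b * a⁻¹ = b) : a * b = b * a := by
  have : a * b * a⁻¹ * a = b * a := by rw [h]
  simpa using this

/-- The index of a Sylow subgroup in a normal subgroup is prime to `p`. -/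
theorem sylow_relIndex_normal [Finite H] {p : ℕ} [Fact p.Prime] (T : Sylow p H) (L : Subgroup H)
    [L.Normal] : ¬ p ∣ ((T : Subgroup H) ⊓ L).relIndex L := by
  obtain ⟨P₀, hP₀⟩ := sylow_inf_normal T L
  have h1 : ((T : Subgroup H) ⊓ L).subgroupOf L = (P₀ : Subgroup ↥L) := by
    rw [← hP₀]
    exact Subgroup.comap_map_eq_self_of_injective L.subtype_injective _
  unfold Subgroup.relIndex
  rw [h1]
  exact P₀.not_dvd_index

end Cfsg.Agent.Lib.Helper46
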