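import Cfsg.Agent.Lib.Helper46.Kieler

set_option autoImplicit false

namespace Cfsg.Agent.Lib.Helper46

open Cfsg
open scoped commutatorElement

variable {H : Type*} [Group H]

/-- Common setup facts for the normal case of Kieler's lemma. -/
structure KielerSetup [Finite H] (p : ℕ) [Fact p.Prime] (T : Sylow p H) (L U : Subgroup H) : Prop where
  U_normal : U.Normal
  U_comm : ∀ a ∈ U, ∀ b ∈ U, a * b = b * a
  U_exp : ∀ a ∈ U, a ^ p = 1
  U_le_T : U ≤ (T : Subgroup H)
  U_le_L : U ≤ L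
  ZL_le_U : Cfsg.omegaOne p (((T : Subgroup H) ⊓ L) ⊓
    Subgroup.centralizer ((((T : Subgroup H) ⊓ L : Subgroup H)) : Set H)) ≤ U
  comm_mem_U : ∀ m ∈ L, ∀ z ∈ (T : Subgroup H) ⊓ Subgroup.centralizer ((T : Subgroup H) : Set H),
    z ^ p = 1 → m * z * m⁻¹ * z⁻¹ ∈ U

theorem kielerSetup_exists [Finite H] {p : ℕ} [Fact p.Prime]
    (hH : Subgroup.centralizer (Cfsg.pCore p H : Set H) ≤ Cfsg.pCore p H) (T : Sylow p H)
    (L : Subgroup H) [hLn : L.Normal] : ∃ U : Subgroup H, KielerSetup p T L U := by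
  set Q : Subgroup H := Cfsg.pCore p H with hQ
  have hQn : Q.Normal := Cfsg.pCore_normal p H
  have hQp : IsPGroup p Q := pCore_isPGroup p
  have hQT : Q ≤ (T : Subgroup H) := pCore_le_sylow T
  have hchr : (Cfsg.pCore p ↥L).Characteristic := pCore_characteristic p _
  set QL : Subgroup H := (Cfsg.pCore p ↥L).map L.subtype with hQL
  have hQLn : QL.Normal := ConjAct.normal_of_characteristic_of_normal
  have hQLp : IsPGroup p QL := (pCore_isPGroup p).map _
  have hQLL : QL ≤ L := Subgroup.map_subtype_le _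
  have hQLT : QL ≤ (T : Subgroup H) := IsPGroup.le_sylow_of_normal hQLp T
  have hQLQ : QL ≤ Q := le_pCore p QL hQLn hQLp
  have hLchar := charP_of_normal hH L
  have hCQLn : (Subgroup.centralizer (QL : Set H)).Normal := Subgroup.normal_centralizer
  have hCQn : (Subgroup.centralizer (Q : Set H)).Normal := Subgroup.normal_centralizer
  set ZQL : Subgroup H := QL ⊓ Subgroup.centralizer (QL : Set H) with hZQL
  have hZQLab := inf_centralizer_abelian QL
  set U : Subgroup H := Cfsg.omegaOne p ZQL with hU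
  have hUmem := omegaOne_mem_of_abelian (p := p) ZQL hZQLab
  have hmemU : ∀ a, a ∈ ZQL → a ^ p = 1 → a ∈ U := fun a ha hap => mem_omegaOne ZQL ha hap
  -- elements of L ∩ Q lie in QL
  have hLQ : ∀ x, x ∈ L → x ∈ Q → x ∈ QL := by
    intro x hxL hxQ
    have h1 : Q.subgroupOf L ≤ Cfsg.pCore p ↥L := by
      apply le_pCore
      · unfold Subgroup.subgroupOf
        exact Subgroup.Normal.comap hQn _
      · exact hQp.comap_subtype
    have : (⟨x, hxL⟩ : ↥L) ∈ Q.subgroupOf L := by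
      rw [Subgroup.mem_subgroupOf]; exact hxQ
    exact Subgroup.mem_map.mpr ⟨_, h1 this, rfl⟩
  refine ⟨U, ?_, ?_, ?_, ?_, ?_, ?_, ?_⟩
  · constructor
    intro a ha g
    obtain ⟨haZ, hap⟩ := hUmem a ha
    apply hmemU
    · exact ⟨hQLn.conj_mem a haZ.1 g, hCQLn.conj_mem a haZ.2 g⟩
    · rw [conj_pow, hap]; simp
  · intro a ha b hb
    exact commute_of_mem_centralizer (hZQLab (hUmem b hb).1) (hUmem a ha).1
  · exact fun a ha => (hUmem a ha).2
  · exact fun a ha => hQLT (hUmem a ha).1.1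
  · exact fun a ha => hQLL (hUmem a ha).1.1
  · -- ZL ≤ U
    unfold Cfsg.omegaOne
    rw [Subgroup.closure_le]
    rintro x ⟨⟨⟨hxT, hxL⟩, hxC⟩, hxp⟩
    have hxCQL : x ∈ Subgroup.centralizer (QL : Set H) := by
      refine (Subgroup.centralizer_le (s := (QL : Set H))
        (t := ((((T : Subgroup H) ⊓ L : Subgroup H)) : Set H)) ?_) hxC
      intro y hy
      exact ⟨hQLT hy, hQLL hy⟩
    have hx' : (⟨x, hxL⟩ : ↥L) ∈ Subgroup.centralizer (Cfsg.pCore p ↥L : Set ↥L) := by
      rw [Subgroup.mem_centralizer_iff]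
      intro q hq
      have hq' : (q : H) ∈ QL := Subgroup.mem_map.mpr ⟨q, hq, rfl⟩
      have := commute_of_mem_centralizer hxCQL hq'
      apply Subtype.ext
      simpa using this
    have hxQL : x ∈ QL := Subgroup.mem_map.mpr ⟨_, hLchar hx', rfl⟩
    exact hmemU x ⟨hxQL, hxCQL⟩ hxp
  · -- commutators [m, z] lie in U
    intro m hm z hz hzp
    have hzCQ : z ∈ Subgroup.centralizer (Q : Set H) :=
      (Subgroup.centralizer_le (s := (Q : Set H)) (t := ((T : Subgroup H) : Set H)) hQT) hz.2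
    have hzQ : z ∈ Q := hH hzCQ
    set r : H := m * z * m⁻¹ * z⁻¹ with hr
    have hrL : r ∈ L := by
      have : r = m * (z * m⁻¹ * z⁻¹) := by rw [hr]; group
      rw [this]
      exact L.mul_mem hm (hLn.conj_mem _ (L.inv_mem hm) z)
    have h1Q : m * z * m⁻¹ ∈ Q := hQn.conj_mem z hzQ m
    have h1C : m * z * m⁻¹ ∈ Subgroup.centralizer (Q : Set H) := hCQn.conj_mem z hzCQ m
    have hrQ : r ∈ Q := Q.mul_mem h1Q (Q.inv_mem hzQ)
    have hrC : r ∈ Subgroup.centralizer (Q : Set H) :=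
      Subgroup.mul_mem _ h1C (Subgroup.inv_mem _ hzCQ)
    have hrp : r ^ p = 1 := by
      have hc : Commute (m * z * m⁻¹) z⁻¹ := by
        have := commute_of_mem_centralizer h1C (Q.inv_mem hzQ)
        exact this.symm
      rw [hr, hc.mul_pow, conj_pow, hzp, inv_pow, hzp]; simp
    have hrQL : r ∈ QL := hLQ r hrL hrQ
    have hrCQL : r ∈ Subgroup.centralizer (QL : Set H) :=
      (Subgroup.centralizer_le (s := (QL : Set H)) (t := (Q : Set H)) hQLQ) hrC
    exact hmemU r ⟨hrQL, hrCQL⟩ hrp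

end Cfsg.Agent.Lib.Helper46
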