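import Cfsg.Agent.Lib.Helper46.Kieler2

set_option autoImplicit false

namespace Cfsg.Agent.Lib.Helper46

open Cfsg
open scoped commutatorElement

variable {H : Type*} [Group H]

theorem exists_inv_mod {p k : ℕ} (hp : p.Prime) (hk : k.Coprime p) : ∃ j : ℕ, k * j % p = 1 := by
  obtain ⟨m, _, hm⟩ := Nat.exists_mul_mod_eq_one_of_coprime hk hp.one_lt
  exact ⟨m, hm⟩

theorem pow_mul_eq_self {G : Type*} [Group G] {p k j : ℕ} {c : G} (hc : c ^ p = 1) (h : k * j % p = 1) :
    (c ^ k) ^ j = c := by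
  rw [← pow_mul, pow_eq_pow_mod (k * j) hc, h, pow_one]

/-- Direction (2): `C_L(Ω₁ Z(T ∩ L)) ≤ C(Ω₁ Z(T))`. -/
theorem kieler_dir2 [Finite H] {p : ℕ} [hp : Fact p.Prime] (T : Sylow p H) (L U : Subgroup H)
    [hLn : L.Normal] (hS : KielerSetup p T L U) :
    L ⊓ Subgroup.centralizer ((Cfsg.omegaOne p (((T : Subgroup H) ⊓ L) ⊓
      Subgroup.centralizer ((((T : Subgroup H) ⊓ L : Subgroup H)) : Set H)) : Subgroup H) : Set H) ≤
    Subgroup.centralizer ((Cfsg.omegaOne p ((T : Subgroup H) ⊓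
      Subgroup.centralizer ((T : Subgroup H) : Set H)) : Subgroup H) : Set H) := by
  set P : Subgroup H := (T : Subgroup H) ⊓ L with hP
  set ZL : Subgroup H := Cfsg.omegaOne p (P ⊓ Subgroup.centralizer (P : Set H)) with hZL
  set M : Subgroup H := L ⊓ Subgroup.centralizer (ZL : Set H) with hM
  have hUn : U.Normal := hS.U_normal
  have hZLmem := omegaOne_mem_of_abelian (p := p) _ (inf_centralizer_abelian P)
  rw [Subgroup.le_centralizer_iff]
  unfold Cfsg.omegaOne
  rw [Subgroup.closure_le]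
  rintro z ⟨hz, hzp⟩
  -- goal: z ∈ centralizer M
  have hzU : ∀ a ∈ U, z * a = a * z := by
    intro a ha
    exact (commute_of_mem_centralizer hz.2 (hS.U_le_T ha)).symm
  set Zz : Subgroup H := Subgroup.zpowers z with hZz
  set B : Subgroup H := U ⊔ Zz with hB
  have hUB : U ≤ B := le_sup_left
  have hzB : z ∈ B := (le_sup_right : Zz ≤ B) (Subgroup.mem_zpowers z)
  -- B abelian
  have hUCU : U ≤ Subgroup.centralizer (U : Set H) := by
    intro a ha
    rw [Subgroup.mem_centralizer_iff]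
    intro b hb
    exact hS.U_comm b hb a ha
  have hZzCU : Zz ≤ Subgroup.centralizer (U : Set H) := by
    rw [hZz, Subgroup.zpowers_le, Subgroup.mem_centralizer_iff]
    intro a ha
    exact (hzU a ha).symm
  have hZzCZz : Zz ≤ Subgroup.centralizer (Zz : Set H) := by
    rw [hZz, Subgroup.zpowers_le, Subgroup.mem_centralizer_iff]
    intro a ha
    obtain ⟨i, rfl⟩ := Subgroup.mem_zpowers_iff.mp ha
    exact (Commute.zpow_self z i)
  have hBab : B ≤ Subgroup.centralizer (B : Set H) := by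
    apply sup_le
    · rw [Subgroup.le_centralizer_iff]
      exact sup_le hUCU hZzCU
    · rw [Subgroup.le_centralizer_iff]
      exact sup_le (Subgroup.le_centralizer_iff.mp hZzCU) hZzCZz
  have hab : ∀ a ∈ B, ∀ b ∈ B, a * b = b * a := by
    intro a ha b hb
    exact commute_of_mem_centralizer (hBab hb) ha
  -- commutators
  have hcommU : ∀ m ∈ M, m * z * m⁻¹ * z⁻¹ ∈ U := fun m hm => hS.comm_mem_U m hm.1 z hz hzp
  -- M normalizes B
  have hMB : M ≤ Subgroup.normalizer (B : Set H) := by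
    apply le_normalizer_of_conj_mem
    intro m hm b hb
    have hmap : B.map (MulAut.conj m).toMonoidHom ≤ B := by
      rw [hB, Subgroup.map_sup]
      apply sup_le
      · refine le_trans ?_ hUB
        intro y hy
        obtain ⟨a, ha, rfl⟩ := Subgroup.mem_map.mp hy
        simpa using hUn.conj_mem a ha m
      · rw [hZz, MonoidHom.map_zpowers, Subgroup.zpowers_le]
        have : (MulAut.conj m).toMonoidHom z = (m * z * m⁻¹ * z⁻¹) * z := by
          simp
        rw [this]
        exact B.mul_mem (hUB (hcommU m hm)) hzB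
    have := hmap (Subgroup.mem_map_of_mem _ hb)
    simpa using this
  -- P ≤ M
  have hPM : P ≤ M := by
    intro x hx
    refine ⟨hx.2, Subgroup.mem_centralizer_iff.mpr ?_⟩
    intro y hy
    exact (commute_of_mem_centralizer (hZLmem y hy).1.2 hx).symm
  have hML : M ≤ L := inf_le_left
  have hrel : (P.relIndex M).Coprime p := by
    have h1 : ¬ p ∣ P.relIndex L := sylow_relIndex_normal T L
    have h2 : P.relIndex M ∣ P.relIndex L :=
      Dvd.intro _ (Subgroup.relIndex_mul_relIndex P M L hPM hML)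
    have h3 : ¬ p ∣ P.relIndex M := fun h => h1 (h.trans h2)
    exact ((Nat.Prime.coprime_iff_not_dvd hp.out).mpr h3).symm
  have hPz : ∀ x ∈ P, x * z * x⁻¹ = z := by
    intro x hx
    exact conj_eq_of_commute (commute_of_mem_centralizer hz.2 hx.1)
  obtain ⟨τ, hτB, k, hk, hτfix, hτU, _⟩ := exists_trace B M P hab hMB hPM hrel z hzB hPz
  have haU : τ * (z ^ k)⁻¹ ∈ U := hτU U hcommU
  set a : H := τ * (z ^ k)⁻¹ with ha
  -- a is P-fixed hence in ZL
  have haP : ∀ x ∈ P, x * a = a * x := by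
    intro x hx
    have h1 : x * τ * x⁻¹ = τ := hτfix x (hPM hx)
    have h2 : x * z * x⁻¹ = z := hPz x hx
    apply commute_of_conj_eq
    rw [ha]
    have : x * (τ * (z ^ k)⁻¹) * x⁻¹ = (x * τ * x⁻¹) * ((x * z * x⁻¹) ^ k)⁻¹ := by
      rw [conj_pow]; group
    rw [this, h1, h2]
  have haZL : a ∈ ZL := by
    apply mem_omegaOne
    · refine ⟨⟨hS.U_le_T haU, hS.U_le_L haU⟩, Subgroup.mem_centralizer_iff.mpr ?_⟩
      intro x hx
      exact haP x hx
    · exact hS.U_exp a haU
  -- M centralizes a and τ, hence z^k, hence z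
  apply Subgroup.mem_centralizer_iff.mpr
  intro m hm
  have hma : m * a = a * m := (commute_of_mem_centralizer hm.2 haZL).symm
  have hmτ : m * τ = τ * m := commute_of_conj_eq (hτfix m hm)
  have hzk : z ^ k = a⁻¹ * τ := by rw [ha]; group
  have hmzk : m * z ^ k = z ^ k * m := by
    rw [hzk]
    have h1 : m * a⁻¹ = a⁻¹ * m := by
      have : Commute m a := hma
      exact this.inv_right.eq
    calc m * (a⁻¹ * τ) = (m * a⁻¹) * τ := by group
      _ = (a⁻¹ * m) * τ := by rw [h1]
      _ = a⁻¹ * (m * τ) := by group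
      _ = a⁻¹ * (τ * m) := by rw [hmτ]
      _ = a⁻¹ * τ * m := by group
  obtain ⟨j, hj⟩ := exists_inv_mod hp.out hk
  have hzz : (z ^ k) ^ j = z := pow_mul_eq_self hzp hj
  have : Commute m (z ^ k) := hmzk
  have h2 := (this.pow_right j).eq
  rw [hzz] at h2
  exact h2

end Cfsg.Agent.Lib.Helper46
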