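import Cfsg.Agent.Lib.Helper46.Kieler3
import Mathlib.GroupTheory.Nilpotent

set_option autoImplicit false

namespace Cfsg.Agent.Lib.Helper46

open Cfsg
open scoped commutatorElement

variable {H : Type*} [Group H]

/-- Direction (1): `C_L(Ω₁ Z(T)) ≤ C(Ω₁ Z(T ∩ L))`. -/
theorem kieler_dir1 [Finite H] {p : ℕ} [hp : Fact p.Prime] (T : Sylow p H) (L U : Subgroup H)
    [hLn : L.Normal] (hS : KielerSetup p T L U) :
    L ⊓ Subgroup.centralizer ((Cfsg.omegaOne p ((T : Subgroup H) ⊓
      Subgroup.centralizer ((T : Subgroup H) : Set H)) : Subgroup H) : Set H) ≤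
    Subgroup.centralizer ((Cfsg.omegaOne p (((T : Subgroup H) ⊓ L) ⊓
      Subgroup.centralizer ((((T : Subgroup H) ⊓ L : Subgroup H)) : Set H)) : Subgroup H) : Set H) := by
  set P : Subgroup H := (T : Subgroup H) ⊓ L with hP
  set ZL : Subgroup H := Cfsg.omegaOne p (P ⊓ Subgroup.centralizer (P : Set H)) with hZL
  set Z : Subgroup H := Cfsg.omegaOne p ((T : Subgroup H) ⊓
      Subgroup.centralizer ((T : Subgroup H) : Set H)) with hZ
  set N : Subgroup H := L ⊓ Subgroup.centralizer (Z : Set H) with hN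
  have hUn : U.Normal := hS.U_normal
  have hZLmem := omegaOne_mem_of_abelian (p := p) _ (inf_centralizer_abelian P)
  have hZmem := omegaOne_mem_of_abelian (p := p) _ (inf_centralizer_abelian (T : Subgroup H))
  have hZLU : ZL ≤ U := hS.ZL_le_U
  -- T normalizes N
  have hTN : (T : Subgroup H) ≤ Subgroup.normalizer (N : Set H) := by
    apply le_normalizer_of_conj_mem
    intro t ht n hn
    refine ⟨hLn.conj_mem n hn.1 t, Subgroup.mem_centralizer_iff.mpr ?_⟩
    intro z hz
    have hzt : t * z = z * t := commute_of_mem_centralizer (hZmem z hz).1.2 ht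
    have hzt' : t⁻¹ * z = z * t⁻¹ := by
      have : Commute t z := hzt
      exact this.inv_left.eq
    have hzn : z * n = n * z := commute_of_mem_centralizer hn.2 hz
    calc z * (t * n * t⁻¹) = (z * t) * n * t⁻¹ := by group
      _ = (t * z) * n * t⁻¹ := by rw [hzt]
      _ = t * (z * n) * t⁻¹ := by group
      _ = t * (n * z) * t⁻¹ := by rw [hzn]
      _ = t * n * (z * t⁻¹) := by group
      _ = t * n * (t⁻¹ * z) := by rw [hzt']
      _ = t * n * t⁻¹ * z := by group
  have hNU : N ≤ Subgroup.normalizer (U : Set H) := by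
    rw [Subgroup.normalizer_eq_top]; exact le_top
  have hTU : (T : Subgroup H) ≤ Subgroup.normalizer (U : Set H) := by
    rw [Subgroup.normalizer_eq_top]; exact le_top
  -- P ≤ N
  have hPN : P ≤ N := by
    intro x hx
    refine ⟨hx.2, Subgroup.mem_centralizer_iff.mpr ?_⟩
    intro z hz
    exact (commute_of_mem_centralizer (hZmem z hz).1.2 hx.1).symm
  have hNL : N ≤ L := inf_le_left
  have hrel : (P.relIndex N).Coprime p := by
    have h1 : ¬ p ∣ P.relIndex L := sylow_relIndex_normal T L
    have h2 : P.relIndex N ∣ P.relIndex L :=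
      Dvd.intro _ (Subgroup.relIndex_mul_relIndex P N L hPN hNL)
    have h3 : ¬ p ∣ P.relIndex N := fun h => h1 (h.trans h2)
    exact ((Nat.Prime.coprime_iff_not_dvd hp.out).mpr h3).symm
  -- T normalizes ZL
  have hTP : ∀ t ∈ (T : Subgroup H), ∀ y ∈ P, t * y * t⁻¹ ∈ P := by
    intro t ht y hy
    exact ⟨(T : Subgroup H).mul_mem ((T : Subgroup H).mul_mem ht hy.1) ((T : Subgroup H).inv_mem ht),
      hLn.conj_mem y hy.2 t⟩
  have hTZL : ∀ t ∈ (T : Subgroup H), ∀ x ∈ ZL, t * x * t⁻¹ ∈ ZL := by
    intro t ht x hx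
    obtain ⟨⟨hxP, hxC⟩, hxp⟩ := hZLmem x hx
    apply mem_omegaOne
    · refine ⟨hTP t ht x hxP, Subgroup.mem_centralizer_iff.mpr ?_⟩
      intro y hy
      have hy' : t⁻¹ * y * t⁻¹⁻¹ ∈ P := hTP t⁻¹ ((T : Subgroup H).inv_mem ht) y hy
      have hc := commute_of_mem_centralizer hxC hy'
      calc y * (t * x * t⁻¹) = t * ((t⁻¹ * y * t⁻¹⁻¹) * x) * t⁻¹ := by group
        _ = t * (x * (t⁻¹ * y * t⁻¹⁻¹)) * t⁻¹ := by rw [hc]
        _ = t * x * t⁻¹ * y := by group
    · rw [conj_pow, hxp]; simp
  -- the chain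
  set e : ℕ → Subgroup H := Cfsg.iterCommutator ZL (T : Subgroup H) with he
  have he0 : e 0 = ZL := rfl
  have hes : ∀ k, e (k + 1) = ⁅e k, (T : Subgroup H)⁆ := fun k => rfl
  have hZLT : ZL ≤ (T : Subgroup H) := fun x hx => (hZLmem x hx).1.1.1
  have heZL : ∀ k, e k ≤ ZL := by
    intro k
    induction k with
    | zero => exact le_rfl
    | succ k ih =>
      rw [hes]
      refine (Subgroup.commutator_mono ih le_rfl).trans ?_
      rw [Subgroup.commutator_le]
      intro x hx t ht
      rw [commutatorElement_def]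
      have h1 := hTZL t ht x⁻¹ (ZL.inv_mem hx)
      have : x * t * x⁻¹ * t⁻¹ = x * (t * x⁻¹ * t⁻¹) := by group
      rw [this]
      exact ZL.mul_mem hx h1
  have helcs : ∀ k, e k ≤ (T : Subgroup H).lowerCentralSeries k := by
    intro k
    induction k with
    | zero => exact hZLT
    | succ k ih =>
      rw [hes]
      exact Subgroup.commutator_mono ih le_rfl
  have hnil : Group.IsNilpotent ↥(T : Subgroup H) := T.isPGroup'.isNilpotent
  obtain ⟨n, hn⟩ := (Subgroup.isNilpotent_iff_lowerCentralSeries (T : Subgroup H)).mp hnil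
  have hen : e n = ⊥ := by
    rw [eq_bot_iff, ← hn]; exact helcs n
  -- key step
  have hstep : ∀ k, e (k + 1) ≤ Subgroup.centralizer (N : Set H) → e k ≤ Subgroup.centralizer (N : Set H) := by
    intro k hk u hu
    have huZL : u ∈ ZL := heZL k hu
    have huU : u ∈ U := hZLU huZL
    have hPu : ∀ x ∈ P, x * u * x⁻¹ = u := by
      intro x hx
      exact conj_eq_of_commute (commute_of_mem_centralizer (hZLmem u huZL).1.2 hx)
    obtain ⟨τ, hτU, kk, hkk, hτfix, _, hτeq⟩ := exists_trace U N P hS.U_comm hNU hPN hrel u huU hPu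
    obtain ⟨j, hj⟩ := exists_inv_mod hp.out hkk
    set u' : H := τ ^ j with hu'
    have hu'U : u' ∈ U := U.pow_mem hτU j
    have hu'fix : ∀ m ∈ N, m * u' * m⁻¹ = u' := by
      intro m hm
      rw [hu', ← conj_pow, hτfix m hm]
    set w : H := u * u'⁻¹ with hw
    have hwU : w ∈ U := U.mul_mem huU (U.inv_mem hu'U)
    -- w is T-fixed
    have hwT : ∀ t ∈ (T : Subgroup H), t * w = w * t := by
      intro t ht
      set c : H := t * u * t⁻¹ * u⁻¹ with hc
      have hce : c ∈ e (k + 1) := by
        rw [hes, Subgroup.commutator_comm]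
        have := Subgroup.commutator_mem_commutator ht hu
        rwa [commutatorElement_def] at this
      have hcU : c ∈ U := hZLU (heZL _ hce)
      have hcN : ∀ m ∈ N, m * c * m⁻¹ = c := by
        intro m hm
        exact conj_eq_of_commute (commute_of_mem_centralizer (hk hce) hm)
      have htu : t * u * t⁻¹ = u * c := by
        have h1 : t * u * t⁻¹ = c * u := by rw [hc]; group
        rw [h1]
        exact hS.U_comm c hcU u huU
      have hτt := hτeq t c (hTN ht) (hTU ht) hcU hcN htu
      have hu't : t * u' * t⁻¹ = u' * c := by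
        rw [hu', ← conj_pow, hτt]
        have hcomm : Commute τ (c ^ kk) := hS.U_comm τ hτU _ (U.pow_mem hcU kk)
        rw [hcomm.mul_pow, pow_mul_eq_self (hS.U_exp c hcU) hj]
      apply commute_of_conj_eq
      have : t * w * t⁻¹ = (t * u * t⁻¹) * (t * u' * t⁻¹)⁻¹ := by rw [hw]; group
      rw [this, htu, hu't, hw]
      group
    have hwZ : w ∈ Z := by
      apply mem_omegaOne
      · refine ⟨hS.U_le_T hwU, Subgroup.mem_centralizer_iff.mpr ?_⟩
        intro t ht
        exact hwT t ht
      · exact hS.U_exp w hwU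
    apply Subgroup.mem_centralizer_iff.mpr
    intro m hm
    have hmw : m * w = w * m := (commute_of_mem_centralizer hm.2 hwZ).symm
    have hmu' : m * u' = u' * m := commute_of_conj_eq (hu'fix m hm)
    have hu : u = w * u' := by rw [hw]; group
    rw [hu]
    calc m * (w * u') = (m * w) * u' := by group
      _ = (w * m) * u' := by rw [hmw]
      _ = w * (m * u') := by group
      _ = w * (u' * m) := by rw [hmu']
      _ = w * u' * m := by group
  -- downward induction
  have hall : ∀ j, j ≤ n → e (n - j) ≤ Subgroup.centralizer (N : Set H) := by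
    intro j
    induction j with
    | zero =>
      intro _
      rw [Nat.sub_zero, hen]; exact bot_le
    | succ j ih =>
      intro hj
      have h1 : n - (j + 1) + 1 = n - j := by omega
      apply hstep
      rw [h1]
      exact ih (by omega)
  have h0 := hall n le_rfl
  rw [Nat.sub_self, he0] at h0
  exact Subgroup.le_centralizer_iff.mp h0

end Cfsg.Agent.Lib.Helper46
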