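import Cfsg.Agent.Lib.Helper46.TCa

set_option autoImplicit false

namespace Cfsg.Agent.Lib.Helper46.TCa

open Classical in
/-- The index of `H` divides the number of rows of a checked certificate. -/
theorem index_dvd (C : Cert) {G : Type*} [Group G] (H : Subgroup G) (gam : Nat → G)
    (hinv : ∀ g, g < C.k → gam g * gam g = 1)
    (hgen : Subgroup.closure (gam '' {i | i < C.k}) = ⊤)
    (hrels : ∀ w ∈ C.rels, evw gam w = 1)
    (hsubs : ∀ g, g < C.nsub → gam g ∈ H)
    (hE : ∀ e, e < C.m → checkEdge C e = true)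
    (hP : ∀ p, p < C.n → checkPoint C p = true)
    (h0 : 0 < C.n) : Finite (G ⧸ H) ∧ H.index ∣ C.n := by
  set x0 : G ⧸ H := ((1 : G) : G ⧸ H) with hx0
  have hrels' : ∀ w ∈ C.rels, ∀ x : G ⧸ H, ract x (evw gam w) = x := by
    intro w hw x
    rw [hrels w hw, ract_one]
  have hsubs' : ∀ g, g < C.nsub → ract x0 (gam g) = x0 := by
    intro g hg
    unfold ract
    show (((gam g)⁻¹ * 1 : G) : G ⧸ H) = ((1 : G) : G ⧸ H)
    rw [QuotientGroup.eq]
    simpa using hsubs g hg
  have hF := all_facts C gam x0 hinv hrels' hsubs' hE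
  set ψ : Nat → G ⧸ H := psi C gam x0 with hψ
  have hstep : ∀ p, p < C.n → ∀ g, g < C.k → ract (ψ p) (gam g) = ψ (stepC C p g) :=
    fun p hp g hg => step_equiv C gam x0 hinv hF p g hg (hP p hp)
  have hlt : ∀ p, p < C.n → ∀ g, g < C.k → stepC C p g < C.n :=
    fun p hp g hg => (point_facts C p g hg (hP p hp)).2.2.2.1
  have hinvol : ∀ p, p < C.n → ∀ g, g < C.k → stepC C (stepC C p g) g = p :=
    fun p hp g hg => step_invol C p g hg (hP p hp)
  let N : G ⧸ H → Nat := fun x => ((Finset.range C.n).filter (fun p => ψ p = x)).card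
  have hA : ∀ g, g < C.k → ∀ x, N x ≤ N (ract x (gam g)) := by
    intro g hg x
    apply Finset.card_le_card_of_injOn (fun p => stepC C p g)
    · intro p hp
      simp only [Finset.coe_filter, Finset.mem_range, Set.mem_setOf_eq] at hp ⊢
      exact ⟨hlt p hp.1 g hg, by rw [← hstep p hp.1 g hg, hp.2]⟩
    · intro p hp q hq hpq
      simp only [Finset.coe_filter, Finset.mem_range, Set.mem_setOf_eq] at hp hq
      have h1 := hinvol p hp.1 g hg
      have h2 := hinvol q hq.1 g hg
      simp only at hpq
      rw [← h1, ← h2, hpq]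
  have hB : ∀ g, g < C.k → ∀ x, N (ract x (gam g)) = N x := by
    intro g hg x
    apply le_antisymm
    · have := hA g hg (ract x (gam g))
      rwa [← ract_mul, hinv g hg, ract_one] at this
    · exact hA g hg x
  have hCl : ∀ a : G, ∀ x, N (ract x a) = N x := by
    intro a
    have ha : a ∈ Subgroup.closure (gam '' {i | i < C.k}) := by rw [hgen]; trivial
    induction ha using Subgroup.closure_induction with
    | mem y hy =>
      obtain ⟨i, hi, rfl⟩ := hy
      exact hB i hi
    | one => intro x; rw [ract_one]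
    | mul a b _ _ iha ihb => intro x; rw [ract_mul, ihb, iha]
    | inv a _ iha =>
      intro x
      have := iha (ract x a⁻¹)
      rw [← ract_mul, inv_mul_cancel, ract_one] at this
      exact this.symm
  have hD : ∀ x, N x = N x0 := by
    intro x
    obtain ⟨b, rfl⟩ := QuotientGroup.mk_surjective x
    have : ract x0 b⁻¹ = ((b : G) : G ⧸ H) := by
      unfold ract
      rw [inv_inv]
      show ((b * 1 : G) : G ⧸ H) = _
      rw [mul_one]
    rw [← this, hCl]
  have hN0 : 0 < N x0 := by
    apply Finset.card_pos.mpr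
    refine ⟨0, ?_⟩
    simp only [Finset.mem_filter, Finset.mem_range]
    exact ⟨h0, psi_zero C gam x0⟩
  have hsurj : ∀ x, ∃ p, p < C.n ∧ ψ p = x := by
    intro x
    have : 0 < N x := by rw [hD]; exact hN0
    obtain ⟨p, hp⟩ := Finset.card_pos.mp this
    simp only [Finset.mem_filter, Finset.mem_range] at hp
    exact ⟨p, hp⟩
  have hfin : Finite (G ⧸ H) := by
    have : (Set.univ : Set (G ⧸ H)) ⊆ ψ '' (Finset.range C.n : Set Nat) := by
      intro x _
      obtain ⟨p, hp, rfl⟩ := hsurj x
      exact ⟨p, by simpa using hp, rfl⟩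
    exact Set.finite_univ_iff.mp (((Finset.finite_toSet _).image ψ).subset this)
  refine ⟨hfin, ?_⟩
  haveI : Fintype (G ⧸ H) := Fintype.ofFinite _
  have hsum : (Finset.range C.n).card =
      ∑ x ∈ (Finset.univ : Finset (G ⧸ H)), ((Finset.range C.n).filter (fun p => ψ p = x)).card :=
    Finset.card_eq_sum_card_fiberwise (fun p _ => Finset.mem_univ (ψ p))
  have hsum' : C.n = Fintype.card (G ⧸ H) * N x0 := by
    rw [Finset.card_range] at hsum
    rw [hsum]
    have : ∀ x ∈ (Finset.univ : Finset (G ⧸ H)),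
        ((Finset.range C.n).filter (fun p => ψ p = x)).card = N x0 := fun x _ => hD x
    rw [Finset.sum_congr rfl this, Finset.sum_const, Finset.card_univ, smul_eq_mul]
  rw [Subgroup.index_eq_card, Nat.card_eq_fintype_card]
  exact ⟨N x0, hsum'⟩

end Cfsg.Agent.Lib.Helper46.TCa
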