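import Mathlib

set_option autoImplicit false
set_option linter.all false

/-! Operator identities on an abelian group with two commuting automorphisms of order three. -/

namespace Cfsg.Agent.Lib.Helper46.Mod

variable {A : Type*} [AddCommGroup A] {F : Type*} [FunLike F A A] [AddMonoidHomClass F A A]

/-- the nine point identity: four vanishing "line sums" through the origin force `3 w = 0` -/
theorem nine_point (a b : F) (hab : ∀ x, a (b x) = b (a x))
    (ha : ∀ x, a (a (a x)) = x) (hb : ∀ x, b (b (b x)) = x) (w : A)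
    (h1 : w + a w + a (a w) = 0) (h2 : w + b w + b (b w) = 0)
    (h3 : w + a (b w) + a (b (a (b w))) = 0)
    (h4 : w + a (b (b w)) + a (b (b (a (b (b w))))) = 0) : (3 : ℕ) • w = 0 := by
  have hba : ∀ x, b (a x) = a (b x) := fun x => (hab x).symm
  have h3' : w + a (b w) + a (a (b (b w))) = 0 := by
    have : a (b (a (b w))) = a (a (b (b w))) := by rw [hba]
    rw [← this]; exact h3
  have h4' : w + a (b (b w)) + a (a (b w)) = 0 := by
    have : a (b (b (a (b (b w))))) = a (a (b w)) := by
      rw [hba (b (b w)), hba (b (b (b w))), hb]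
    rw [← this]; exact h4
  have e1 : b w + a (b w) + a (a (b w)) = 0 := by
    have := congrArg b h1
    rw [map_add, map_add, map_zero, hba, hba, hba] at this
    exact this
  have e2 : b (b w) + a (b (b w)) + a (a (b (b w))) = 0 := by
    have := congrArg b e1
    rw [map_add, map_add, map_zero, hba, hba, hba] at this
    exact this
  have key : (3 : ℕ) • w = (w + a w + a (a w)) + (w + b w + b (b w)) + (w + a (b w) + a (a (b (b w))))
      + (w + a (b (b w)) + a (a (b w))) - ((w + a w + a (a w)) + (b w + a (b w) + a (a (b w)))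
      + (b (b w) + a (b (b w)) + a (a (b (b w))))) := by abel
  rw [key, h1, h2, h3', h4', e1, e2]; simp

/-- in a 2-group, `3 w = 0` forces `w = 0` -/
theorem eq_zero_of_three_nsmul (h2 : ∀ m : A, ∃ k : ℕ, (2 ^ k : ℕ) • m = 0) {w : A}
    (h : (3 : ℕ) • w = 0) : w = 0 := by
  obtain ⟨k, hk⟩ := h2 w
  have hcop : Nat.Coprime 3 (2 ^ k) := by
    apply Nat.Coprime.pow_right; norm_num
  have h3 : addOrderOf w ∣ 3 := addOrderOf_dvd_of_nsmul_eq_zero h
  have h4 : addOrderOf w ∣ 2 ^ k := addOrderOf_dvd_of_nsmul_eq_zero hk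
  have : addOrderOf w ∣ 1 := by
    have := Nat.dvd_gcd h3 h4
    rwa [hcop.gcd_eq_one] at this
  exact AddMonoid.addOrderOf_eq_one_iff.mp (Nat.dvd_one.mp this)

/-- if `a`, `b`, `ab`, `ab²` are all fixed point free then the group is trivial -/
theorem four_fix (h2 : ∀ m : A, ∃ k : ℕ, (2 ^ k : ℕ) • m = 0) (a b : F)
    (hab : ∀ x, a (b x) = b (a x))
    (ha : ∀ x, a (a (a x)) = x) (hb : ∀ x, b (b (b x)) = x)
    (f1 : ∀ x, a x = x → x = 0) (f2 : ∀ x, b x = x → x = 0)
    (f3 : ∀ x, a (b x) = x → x = 0) (f4 : ∀ x, a (b (b x)) = x → x = 0) (m : A) : m = 0 := by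
  have hba : ∀ x, b (a x) = a (b x) := fun x => (hab x).symm
  apply eq_zero_of_three_nsmul h2
  apply nine_point a b hab ha hb m
  · apply f1
    rw [map_add, map_add, ha]; abel
  · apply f2
    rw [map_add, map_add, hb]; abel
  · apply f3
    rw [map_add, map_add, map_add, map_add]
    have : a (b (a (b (a (b m))))) = m := by
      simp only [hba, ha, hb]
    rw [this]; abel
  · apply f4
    rw [map_add, map_add, map_add, map_add, map_add, map_add]
    have : a (b (b (a (b (b (a (b (b m)))))))) = m := by
      simp only [hba, ha, hb]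
    rw [this]; abel

end Cfsg.Agent.Lib.Helper46.Mod
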