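import Cfsg.Agent.Lib.Helper46.Mod1

set_option autoImplicit false
set_option linter.all false

/-! A group generated by a class of involutions with products of order three, acting faithfully on
an abelian 2-group subject to the "three transposition" module condition. -/

namespace Cfsg.Agent.Lib.Helper46.Mod

variable {Q A : Type*} [Group Q] [AddCommGroup A] (φ : Q →* AddMonoid.End A) (PP : Set Q)

theorem app_mul (g h : Q) (m : A) : φ (g * h) m = φ g (φ h m) := by
  rw [map_mul]; rfl

theorem app_one (m : A) : φ 1 m = m := by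
  rw [map_one]; rfl

theorem app_cube {g : Q} (hg : g ^ 3 = 1) (m : A) : φ g (φ g (φ g m)) = m := by
  rw [← app_mul, ← app_mul, ← pow_two, ← pow_succ, hg, app_one]

/-- the hypotheses on the acting group -/
structure Hyp : Prop where
  inj : Function.Injective φ
  two : ∀ m : A, ∃ k : ℕ, (2 ^ k : ℕ) • m = 0
  conj : ∀ g : Q, ∀ e ∈ PP, g * e * g⁻¹ ∈ PP
  inv : ∀ e ∈ PP, e * e = 1
  cube : ∀ e ∈ PP, ∀ e' ∈ PP, (e * e') ^ 3 = 1
  cond : ∀ e ∈ PP, ∀ e' ∈ PP, e ≠ e' → ∀ m : A,
    (φ e' m - m) + φ (e * e') (φ e' m - m) + φ (e * e') (φ (e * e') (φ e' m - m)) = 0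
  ne_one : (1 : Q) ∉ PP

variable {φ PP}

theorem Hyp.inv_eq (H : Hyp φ PP) {e : Q} (he : e ∈ PP) : e⁻¹ = e :=
  inv_eq_of_mul_eq_one_left (H.inv e he)

/-- the line sum of an element inverted by `r` -/
theorem line_sum (H : Hyp φ PP) {r : Q} (hr : r ∈ PP) {g : Q} (hinv : r * g * r = g⁻¹)
    (hg3 : g ^ 3 = 1) (hg1 : g ≠ 1) (m : A) :
    (φ r m - m) + φ g (φ r m - m) + φ g (φ g (φ r m - m)) = 0 := by
  have hri := H.inv_eq hr
  have he : g * r * g⁻¹ ∈ PP := H.conj g r hr
  have hprod : g * r * g⁻¹ * r = g * g := by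
    have : r * g⁻¹ * r = g := by
      have h1 : (r * g * r)⁻¹ = g := by rw [hinv, inv_inv]
      rw [mul_inv_rev, mul_inv_rev, hri] at h1
      rw [mul_assoc]; exact h1
    calc g * r * g⁻¹ * r = g * (r * g⁻¹ * r) := by group
      _ = g * g := by rw [this]
  have hne : g * r * g⁻¹ ≠ r := by
    intro h
    have h1 : g * g = 1 := by rw [← hprod, h, H.inv r hr]
    apply hg1
    have : g = g ^ 3 * (g * g)⁻¹ := by group
    rw [this, hg3, h1]; simp
  have := H.cond _ he r hr hne m
  rw [hprod] at this
  set w := φ r m - m with hw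
  rw [app_mul φ, app_mul φ] at this
  have h3 : φ g (φ g (φ g (φ g w))) = φ g w := by rw [app_cube φ hg3]
  rw [h3] at this
  rw [← this]; abel

/-- the key exclusion: two commuting independent elements inverted by a member cannot exist -/
theorem no_commuting_pair (H : Hyp φ PP) {r : Q} (hr : r ∈ PP) {x y : Q}
    (hx : r * x * r = x⁻¹) (hy : r * y * r = y⁻¹) (hx3 : x ^ 3 = 1) (hy3 : y ^ 3 = 1)
    (hc : x * y = y * x) (h1 : x ≠ 1) (h2 : y ≠ 1) (h3 : x * y ≠ 1) (h4 : x * y * y ≠ 1) : False := by
  have hri := H.inv_eq hr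
  have hcm : Commute x y := hc
  have hxy : r * (x * y) * r = (x * y)⁻¹ := by
    calc r * (x * y) * r = (r * x * r) * (r * y * r) := by
          have : r * r = 1 := H.inv r hr
          calc r * (x * y) * r = r * x * 1 * y * r := by group
            _ = r * x * (r * r) * y * r := by rw [this]
            _ = (r * x * r) * (r * y * r) := by group
      _ = x⁻¹ * y⁻¹ := by rw [hx, hy]
      _ = (x * y)⁻¹ := by rw [hc, mul_inv_rev]
  have hxy3 : (x * y) ^ 3 = 1 := by rw [hcm.mul_pow, hx3, hy3, one_mul]
  have hcm2 : Commute x (y * y) := hcm.mul_right hcm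
  have hxyy : r * (x * y * y) * r = (x * y * y)⁻¹ := by
    calc r * (x * y * y) * r = (r * (x * y) * r) * (r * y * r) := by
          have : r * r = 1 := H.inv r hr
          calc r * (x * y * y) * r = r * (x * y) * 1 * y * r := by group
            _ = r * (x * y) * (r * r) * y * r := by rw [this]
            _ = (r * (x * y) * r) * (r * y * r) := by group
      _ = (x * y)⁻¹ * y⁻¹ := by rw [hxy, hy]
      _ = (x * y * y)⁻¹ := by
          rw [mul_inv_rev (x * y) y]
          have : Commute (x * y) y := (hcm.mul_left (Commute.refl y))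
          exact (this.inv_inv).eq
  have hxyy3 : (x * y * y) ^ 3 = 1 := by
    rw [mul_assoc, hcm2.mul_pow, hx3, one_mul, (Commute.refl y).mul_pow, hy3, one_mul]
  -- the operator argument
  have hall : ∀ m : A, φ r m = m := by
    intro m
    have hw0 : φ r m - m = 0 := by
      apply eq_zero_of_three_nsmul H.two
      apply nine_point (φ x) (φ y)
      · intro z; rw [← app_mul φ, ← app_mul φ, hc]
      · intro z; exact app_cube φ hx3 z
      · intro z; exact app_cube φ hy3 z
      · exact line_sum H hr hx hx3 h1 m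
      · exact line_sum H hr hy hy3 h2 m
      · have := line_sum H hr hxy hxy3 h3 m
        simp only [app_mul φ] at this
        exact this
      · have := line_sum H hr hxyy hxyy3 h4 m
        simp only [app_mul φ] at this
        exact this
    exact sub_eq_zero.mp hw0
  have : φ r = φ 1 := by
    ext m; rw [hall m, app_one φ]
  exact H.ne_one (H.inj this ▸ hr)

/-- an element of 3-power order inverted by a member gives another member -/
theorem mul_mem_of_inverted (H : Hyp φ PP) {r : Q} (hr : r ∈ PP) {g : Q} {j : ℕ}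
    (hg : g ^ (3 ^ j) = 1) (hinv : r * g * r = g⁻¹) : r * g ∈ PP := by
  have hri := H.inv_eq hr
  have hodd : 3 ^ j % 2 = 1 := by
    rw [Nat.pow_mod]; norm_num
  set k := (3 ^ j + 1) / 2 with hk
  have h2k : 2 * k = 3 ^ j + 1 := by omega
  set w := g ^ k with hw
  have hww : w * w = g := by
    rw [hw, ← pow_add, ← two_mul, h2k, pow_succ, hg, one_mul]
  have hwinv : r * w * r = w⁻¹ := by
    have hconjpow : ∀ n : ℕ, r * g ^ n * r = (r * g * r) ^ n := by
      intro n
      induction n with
      | zero => simp [H.inv r hr]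
      | succ n ih =>
        rw [pow_succ, pow_succ, ← ih]
        have : r * r = 1 := H.inv r hr
        calc r * (g ^ n * g) * r = r * g ^ n * 1 * g * r := by group
          _ = r * g ^ n * (r * r) * g * r := by rw [this]
          _ = r * g ^ n * r * (r * g * r) := by group
    rw [hw, hconjpow, hinv, inv_pow]
  have : r * g = w⁻¹ * r * (w⁻¹)⁻¹ := by
    rw [inv_inv]
    have h1 : r * w⁻¹ * r = w := by
      have : (r * w * r)⁻¹ = w := by rw [hwinv, inv_inv]
      rw [mul_inv_rev, mul_inv_rev, hri] at this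
      rw [mul_assoc]; exact this
    have hrr : r * r = 1 := H.inv r hr
    calc r * g = r * (w * w) := by rw [hww]
      _ = r * ((r * w⁻¹ * r) * w) := by rw [h1]
      _ = (r * r) * w⁻¹ * r * w := by group
      _ = w⁻¹ * r * w := by rw [hrr, one_mul]
  rw [this]
  exact H.conj _ r hr

end Cfsg.Agent.Lib.Helper46.Mod
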