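import Cfsg.Agent.Lib.Helper46.W4Data
import Cfsg.Agent.Lib.Helper46.TCb

set_option autoImplicit false
set_option maxRecDepth 1000000
set_option linter.all false

namespace Cfsg.Agent.Lib.Helper46.W4Data

open Cfsg.Agent.Lib.Helper46.TCa

theorem chkE_0 : allRange (checkEdge cert) 0 1000 = true := by decide +kernel
theorem chkE_1000 : allRange (checkEdge cert) 1000 1000 = true := by decide +kernel
theorem chkE_2000 : allRange (checkEdge cert) 2000 1000 = true := by decide +kernel
theorem chkE_3000 : allRange (checkEdge cert) 3000 1000 = true := by decide +kernel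
theorem chkE_4000 : allRange (checkEdge cert) 4000 860 = true := by decide +kernel

theorem edges_ok : ∀ e, e < cert.m → checkEdge cert e = true := by
  intro i hi
  have hn : cert.m = 4860 := rfl
  rw [hn] at hi
  rcases Nat.lt_or_ge i 1000 with h | h
  · exact allRange_sound _ 0 1000 chkE_0 i (by omega) (by omega)
  rcases Nat.lt_or_ge i 2000 with h | h
  · exact allRange_sound _ 1000 1000 chkE_1000 i (by omega) (by omega)
  rcases Nat.lt_or_ge i 3000 with h | h
  · exact allRange_sound _ 2000 1000 chkE_2000 i (by omega) (by omega)
  rcases Nat.lt_or_ge i 4000 with h | h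
  · exact allRange_sound _ 3000 1000 chkE_3000 i (by omega) (by omega)
  exact allRange_sound _ 4000 860 chkE_4000 i (by omega) (by omega)

theorem chkP_0 : allRange (checkPoint cert) 0 500 = true := by decide +kernel
theorem chkP_500 : allRange (checkPoint cert) 500 500 = true := by decide +kernel
theorem chkP_1000 : allRange (checkPoint cert) 1000 500 = true := by decide +kernel
theorem chkP_1500 : allRange (checkPoint cert) 1500 500 = true := by decide +kernel
theorem chkP_2000 : allRange (checkPoint cert) 2000 187 = true := by decide +kernel

theorem pts_ok : ∀ p, p < cert.n → checkPoint cert p = true := by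
  intro i hi
  have hn : cert.n = 2187 := rfl
  rw [hn] at hi
  rcases Nat.lt_or_ge i 500 with h | h
  · exact allRange_sound _ 0 500 chkP_0 i (by omega) (by omega)
  rcases Nat.lt_or_ge i 1000 with h | h
  · exact allRange_sound _ 500 500 chkP_500 i (by omega) (by omega)
  rcases Nat.lt_or_ge i 1500 with h | h
  · exact allRange_sound _ 1000 500 chkP_1000 i (by omega) (by omega)
  rcases Nat.lt_or_ge i 2000 with h | h
  · exact allRange_sound _ 1500 500 chkP_1500 i (by omega) (by omega)
  exact allRange_sound _ 2000 187 chkP_2000 i (by omega) (by omega)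

end Cfsg.Agent.Lib.Helper46.W4Data
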