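import Cfsg.Agent.Lib.Helper46.W2Chk
import Cfsg.Agent.Lib.Helper46.W3Chk
import Cfsg.Agent.Lib.Helper46.W4Chk

set_option autoImplicit false
set_option linter.all false

namespace Cfsg.Agent.Lib.Helper46.TCa

/-- wrapper of `index_dvd` for closures inside an ambient group -/
theorem relIndex_dvd (C : Cert) {G : Type*} [Group G] (gam : Nat → G)
    (hinv : ∀ g, g < C.k → gam g * gam g = 1)
    (hout : ∀ g, C.k ≤ g → gam g = 1)
    (hrels : ∀ w ∈ C.rels, evw gam w = 1)
    (hE : ∀ e, e < C.m → checkEdge C e = true)
    (hP : ∀ p, p < C.n → checkPoint C p = true)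
    (h0 : 0 < C.n) :
    (Subgroup.closure (gam '' {i | i < C.nsub})).relIndex
      (Subgroup.closure (gam '' {i | i < C.k})) ∣ C.n := by
  set K := Subgroup.closure (gam '' {i | i < C.k}) with hK
  have hmem : ∀ i, gam i ∈ K := by
    intro i
    by_cases hi : i < C.k
    · exact Subgroup.subset_closure ⟨i, hi, rfl⟩
    · rw [hout i (by omega)]; exact K.one_mem
  let gam' : Nat → K := fun i => ⟨gam i, hmem i⟩
  have hcoe : ∀ w, ((evw gam' w : K) : G) = evw gam w := by
    intro w
    induction w with
    | nil => simp [evw]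
    | cons g w ih => simp [evw, ih, gam']
  have h := index_dvd C ((Subgroup.closure (gam '' {i | i < C.nsub})).subgroupOf K) gam'
    (by
      intro g hg
      apply Subtype.ext
      simpa [gam'] using hinv g hg)
    (by
      apply Subgroup.map_injective K.subtype_injective
      rw [MonoidHom.map_closure, Set.image_image]
      have : (fun x => K.subtype (gam' x)) = gam := by
        funext x; rfl
      rw [this, ← hK, ← MonoidHom.range_eq_map, Subgroup.range_subtype])
    (by
      intro w hw
      apply Subtype.ext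
      rw [hcoe w, hrels w hw]
      rfl)
    (by
      intro g hg
      rw [Subgroup.mem_subgroupOf]
      exact Subgroup.subset_closure ⟨g, hg, rfl⟩)
    hE hP h0
  exact h.2

/-- a point word: a generator or a conjugate of a generator by a generator -/
def isPt (k : Nat) (p : List Nat) : Bool :=
  match p with
  | [i] => Nat.blt i k
  | [j, i, j'] => Nat.beq j j' && (Nat.blt i k && Nat.blt j k)
  | _ => false

def eqL : List Nat → List Nat → Bool
  | [], [] => true
  | a :: as, b :: bs => cond (Nat.beq a b) (eqL as bs) false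
  | _, _ => false

theorem eqL_eq : ∀ (a b : List Nat), eqL a b = true → a = b
  | [], [], _ => rfl
  | [], _ :: _, h => by simp [eqL] at h
  | _ :: _, [], h => by simp [eqL] at h
  | a :: as, b :: bs, h => by
    simp only [eqL] at h
    by_cases hab : Nat.beq a b = true
    · rw [hab] at h
      simp only [cond_true] at h
      have h1 : a = b := Nat.eq_of_beq_eq_true hab
      have h2 := eqL_eq as bs h
      rw [h1, h2]
    · have : Nat.beq a b = false := Bool.eq_false_iff.mpr hab
      rw [this] at h
      simp at h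

def cubeW (p q : List Nat) : List Nat := p ++ q ++ (p ++ q) ++ (p ++ q)

def isCubeAt (k : Nat) (w : List Nat) (lp lq : Nat) : Bool :=
  isPt k (w.take lp) && (isPt k ((w.drop lp).take lq) &&
    eqL w (cubeW (w.take lp) ((w.drop lp).take lq)))

def isCube (k : Nat) (w : List Nat) : Bool :=
  isCubeAt k w 1 1 || (isCubeAt k w 1 3 || (isCubeAt k w 3 1 || isCubeAt k w 3 3))

def allCube (k : Nat) : List (List Nat) → Bool
  | [] => true
  | w :: ws => cond (isCube k w) (allCube k ws) false

theorem allCube_sound (k : Nat) : ∀ ws, allCube k ws = true → ∀ w ∈ ws, isCube k w = true := by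
  intro ws
  induction ws with
  | nil => intro _ w hw; simp at hw
  | cons a as ih =>
    intro h w hw
    simp only [allCube] at h
    by_cases hf : isCube k a = true
    · rw [hf] at h
      simp only [cond_true] at h
      rcases List.mem_cons.mp hw with rfl | hw'
      · exact hf
      · exact ih h w hw'
    · have : isCube k a = false := Bool.eq_false_iff.mpr hf
      rw [this] at h
      simp at h

section Cube

variable {G : Type*} [Group G] (D : Set G) (gam : Nat → G) (k : Nat)
  (hsq : ∀ x ∈ D, x * x = 1)
  (hconj : ∀ x ∈ D, ∀ y ∈ D, y * x * y⁻¹ ∈ D)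
  (hcube : ∀ x ∈ D, ∀ y ∈ D, (x * y) ^ 3 = 1)
  (hgam : ∀ i, i < k → gam i ∈ D)

include hsq hconj hgam in
theorem isPt_sound (p : List Nat) (h : isPt k p = true) : evw gam p ∈ D := by
  match p, h with
  | [i], h =>
    simp only [isPt] at h
    have hi : i < k := by simpa [Nat.blt] using h
    simpa [evw] using hgam i hi
  | [j, i, j'], h =>
    simp only [isPt, Bool.and_eq_true] at h
    obtain ⟨h1, h2, h3⟩ := h
    have hj : j = j' := Nat.eq_of_beq_eq_true h1
    have hi : i < k := by simpa [Nat.blt] using h2
    have hj4 : j < k := by simpa [Nat.blt] using h3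
    subst hj
    have hinv : (gam j)⁻¹ = gam j := inv_eq_of_mul_eq_one_right (hsq _ (hgam j hj4))
    have := hconj _ (hgam i hi) _ (hgam j hj4)
    rw [hinv] at this
    simpa [evw, mul_assoc] using this

include hsq hconj hcube hgam in
theorem isCube_sound (w : List Nat) (h : isCube k w = true) : evw gam w = 1 := by
  have key : ∀ lp lq, isCubeAt k w lp lq = true → evw gam w = 1 := by
    intro lp lq h
    simp only [isCubeAt, Bool.and_eq_true] at h
    obtain ⟨h1, h2, h3⟩ := h
    have hw := eqL_eq _ _ h3
    have hp := isPt_sound D gam k hsq hconj hgam _ h1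
    have hq := isPt_sound D gam k hsq hconj hgam _ h2
    rw [hw, cubeW, evw_append, evw_append, evw_append]
    have := hcube _ hp _ hq
    rw [pow_succ, pow_two] at this
    exact this
  simp only [isCube, Bool.or_eq_true] at h
  rcases h with h | h | h | h
  · exact key _ _ h
  · exact key _ _ h
  · exact key _ _ h
  · exact key _ _ h

end Cube

end Cfsg.Agent.Lib.Helper46.TCa

namespace Cfsg.Agent.Lib.Helper46

open TCa

theorem w2_cube : allCube 2 W2Data.cert.rels = true := by decide +kernel
theorem w3_cube : allCube 3 W3Data.cert.rels = true := by decide +kernel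
theorem w4_cube : allCube 4 W4Data.cert.rels = true := by decide +kernel

/-- one stage: the relative index of consecutive closures divides the number of rows -/
theorem stage_dvd {G : Type*} [Group G] (D : Set G)
    (hsq : ∀ x ∈ D, x * x = 1)
    (hconj : ∀ x ∈ D, ∀ y ∈ D, y * x * y⁻¹ ∈ D)
    (hcube : ∀ x ∈ D, ∀ y ∈ D, (x * y) ^ 3 = 1)
    (gam : Nat → G) (C : Cert) (hgam : ∀ i, i < C.k → gam i ∈ D)
    (hsk : C.nsub ≤ C.k)
    (hcu : allCube C.k C.rels = true)
    (hE : ∀ e, e < C.m → checkEdge C e = true)
    (hP : ∀ p, p < C.n → checkPoint C p = true)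
    (h0 : 0 < C.n) :
    (Subgroup.closure (gam '' {i | i < C.nsub})).relIndex
      (Subgroup.closure (gam '' {i | i < C.k})) ∣ C.n := by
  let gk : Nat → G := fun i => if i < C.k then gam i else 1
  have hgk : ∀ i, i < C.k → gk i = gam i := by
    intro i hi; simp only [gk, hi, if_true]
  have himg : ∀ j, j ≤ C.k → gk '' {i | i < j} = gam '' {i | i < j} := by
    intro j hj
    apply Set.image_congr
    intro i hi
    exact hgk i (lt_of_lt_of_le hi hj)
  have h := relIndex_dvd C gk
    (by intro g hg; rw [hgk g hg]; exact hsq _ (hgam g hg))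
    (by intro g hg; simp only [gk, not_lt.mpr hg, if_false])
    (by
      intro w hw
      exact isCube_sound D gk C.k hsq hconj hcube (by intro i hi; rw [hgk i hi]; exact hgam i hi) w
        (allCube_sound C.k _ hcu w hw))
    hE hP h0
  rw [himg _ hsk, himg _ le_rfl] at h
  exact h

/-- four-generator lemma: a group generated by four members of a conjugation-closed set of involutions in which
all products of two members have order dividing three has order dividing `2 * 3 ^ 10`. -/
theorem card_closure4_dvd {G : Type*} [Group G] (D : Set G)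
    (hsq : ∀ x ∈ D, x * x = 1)
    (hconj : ∀ x ∈ D, ∀ y ∈ D, y * x * y⁻¹ ∈ D)
    (hcube : ∀ x ∈ D, ∀ y ∈ D, (x * y) ^ 3 = 1)
    {a b c d : G} (ha : a ∈ D) (hb : b ∈ D) (hc : c ∈ D) (hd : d ∈ D) :
    Nat.card (Subgroup.closure ({a, b, c, d} : Set G)) ∣ 118098 := by
  let gam : Nat → G := fun i =>
    if i = 0 then a else if i = 1 then b else if i = 2 then c else d
  have hgam : ∀ i, gam i ∈ D := by
    intro i
    simp only [gam]
    split_ifs <;> assumption
  have s2 := stage_dvd D hsq hconj hcube gam W2Data.cert (fun i _ => hgam i) (by decide)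
    w2_cube W2Data.edges_ok W2Data.pts_ok (by decide)
  have s3 := stage_dvd D hsq hconj hcube gam W3Data.cert (fun i _ => hgam i) (by decide)
    w3_cube W3Data.edges_ok W3Data.pts_ok (by decide)
  have s4 := stage_dvd D hsq hconj hcube gam W4Data.cert (fun i _ => hgam i) (by decide)
    w4_cube W4Data.edges_ok W4Data.pts_ok (by decide)
  have e2 : W2Data.cert.nsub = 0 ∧ W2Data.cert.k = 2 ∧ W2Data.cert.n = 6 := ⟨rfl, rfl, rfl⟩
  have e3 : W3Data.cert.nsub = 2 ∧ W3Data.cert.k = 3 ∧ W3Data.cert.n = 9 := ⟨rfl, rfl, rfl⟩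
  have e4 : W4Data.cert.nsub = 3 ∧ W4Data.cert.k = 4 ∧ W4Data.cert.n = 2187 := ⟨rfl, rfl, rfl⟩
  rw [e2.1, e2.2.1, e2.2.2] at s2
  rw [e3.1, e3.2.1, e3.2.2] at s3
  rw [e4.1, e4.2.1, e4.2.2] at s4
  have hbot : Subgroup.closure (gam '' {i | i < 0}) = ⊥ := by
    have : {i : Nat | i < 0} = ∅ := by ext i; simp
    rw [this, Set.image_empty, Subgroup.closure_empty]
  rw [hbot] at s2
  have hmono : ∀ i j : Nat, i ≤ j →
      Subgroup.closure (gam '' {l | l < i}) ≤ Subgroup.closure (gam '' {l | l < j}) := by
    intro i j hij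
    apply Subgroup.closure_mono
    apply Set.image_mono
    intro l hl
    exact lt_of_lt_of_le hl hij
  have h23 := Subgroup.relIndex_mul_relIndex (⊥ : Subgroup G) _ _ bot_le (hmono 2 3 (by omega))
  have h34 := Subgroup.relIndex_mul_relIndex (⊥ : Subgroup G) _ _ bot_le (hmono 3 4 (by omega))
  have h4 : gam '' {i | i < 4} = {a, b, c, d} := by
    ext x
    constructor
    · rintro ⟨i, hi, rfl⟩
      have hi' : i < 4 := hi
      interval_cases i <;> simp [gam]
    · intro hx
      simp only [Set.mem_insert_iff, Set.mem_singleton_iff] at hx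
      rcases hx with rfl | rfl | rfl | rfl
      · exact ⟨0, by show (0:Nat) < 4; omega, by simp [gam]⟩
      · exact ⟨1, by show (1:Nat) < 4; omega, by simp [gam]⟩
      · exact ⟨2, by show (2:Nat) < 4; omega, by simp [gam]⟩
      · exact ⟨3, by show (3:Nat) < 4; omega, by simp [gam]⟩
  rw [← h4, ← Subgroup.relIndex_bot_left, ← h34, ← h23]
  have : (118098 : Nat) = 6 * 9 * 2187 := by norm_num
  rw [this]
  exact Nat.mul_dvd_mul (Nat.mul_dvd_mul s2 s3) s4

end Cfsg.Agent.Lib.Helper46
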