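import Cfsg.Prelude.Def_FischerSpaces
import Cfsg.Prelude.Def_Solvable
import Cfsg.Agent.Lib.Helper46.W4Main
import Cfsg.Agent.Lib.Helper91.Baer
import Cfsg.Agent.Lib.Helper84.PCore

set_option autoImplicit false
set_option linter.all false

namespace Cfsg.Agent.Lib.Helper46

open Cfsg

/-- in a subgroup of order dividing `2 * 3 ^ m`, elements of order dividing three generate a 3-group -/
theorem isPGroup_three_closure {G : Type*} [Group G] (K : Subgroup G) [Finite K] (m : Nat)
    (hK : Nat.card K ∣ 2 * 3 ^ m) (S : Set G) (hSK : S ⊆ K) (hS : ∀ y ∈ S, y ^ 3 = 1) :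
    IsPGroup 3 (Subgroup.closure S) := by
  haveI : Fact (Nat.Prime 3) := ⟨by norm_num⟩
  obtain ⟨P⟩ : Nonempty (Sylow 3 K) := inferInstance
  have hidx : (P : Subgroup K).index ∣ 2 := by
    have h1 : (P : Subgroup K).index ∣ 2 * 3 ^ m := (Subgroup.index_dvd_card _).trans hK
    have h2 : ¬ 3 ∣ (P : Subgroup K).index := P.not_dvd_index
    have h3 : Nat.Coprime (P : Subgroup K).index (3 ^ m) :=
      Nat.Coprime.pow_right m ((Nat.Prime.coprime_iff_not_dvd (by norm_num)).mpr h2).symm
    exact h3.dvd_of_dvd_mul_right h1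
  have hnorm : (P : Subgroup K).Normal := by
    have : (P : Subgroup K).index = 1 ∨ (P : Subgroup K).index = 2 := by
      have := Nat.le_of_dvd (by norm_num) hidx
      have hne : (P : Subgroup K).index ≠ 0 := Subgroup.index_ne_zero_of_finite
      omega
    rcases this with h | h
    · rw [Subgroup.index_eq_one] at h
      rw [h]; infer_instance
    · exact Subgroup.normal_of_index_eq_two h
  have hmem : ∀ y : K, y ^ 3 = 1 → y ∈ (P : Subgroup K) := by
    intro y hy
    rw [← QuotientGroup.eq_one_iff]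
    have h1 : orderOf (y : K ⧸ (P : Subgroup K)) ∣ 3 := by
      apply orderOf_dvd_of_pow_eq_one
      rw [← QuotientGroup.mk_pow, hy]; rfl
    have h2 : orderOf (y : K ⧸ (P : Subgroup K)) ∣ 2 := by
      have : orderOf (y : K ⧸ (P : Subgroup K)) ∣ Nat.card (K ⧸ (P : Subgroup K)) := orderOf_dvd_natCard _
      rw [← Subgroup.index_eq_card] at this
      exact this.trans hidx
    have h3 : orderOf (y : K ⧸ (P : Subgroup K)) ∣ Nat.gcd 3 2 := Nat.dvd_gcd h1 h2
    have h4 : orderOf (y : K ⧸ (P : Subgroup K)) = 1 := by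
      have : Nat.gcd 3 2 = 1 := by norm_num
      rw [this] at h3
      exact Nat.dvd_one.mp h3
    exact orderOf_eq_one_iff.mp h4
  have hP3 : IsPGroup 3 ((P : Subgroup K).map K.subtype) := P.2.map _
  apply hP3.to_le
  rw [Subgroup.closure_le]
  intro y hy
  refine ⟨⟨y, hSK hy⟩, hmem _ ?_, rfl⟩
  apply Subtype.ext
  simpa using hS y hy

section W

variable {G : Type*} [Group G] {D : Set G}

theorem tt_sq (hD : IsThreeTranspositionSet D) {x : G} (hx : x ∈ D) : x * x = 1 := by
  have := hD.1 x hx
  rw [← pow_two, ← this, pow_orderOf_eq_one]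

theorem tt_inv (hD : IsThreeTranspositionSet D) {x : G} (hx : x ∈ D) : x⁻¹ = x :=
  inv_eq_of_mul_eq_one_right (tt_sq hD hx)

theorem tt_ne_one (hD : IsThreeTranspositionSet D) {x : G} (hx : x ∈ D) : x ≠ 1 := by
  intro h
  have := hD.1 x hx
  rw [h, orderOf_one] at this
  omega

/-- width one: commuting members coincide, so every product of two members has order dividing three -/
theorem tt_cube (hD : IsThreeTranspositionSet D)
    (hw : ∀ x ∈ D, ∀ y ∈ D, Commute x y → x = y) {x y : G} (hx : x ∈ D) (hy : y ∈ D) :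
    (x * y) ^ 3 = 1 := by
  rcases hD.2 x hx y hy with h | h
  · have hc : Commute x y := by
      show x * y = y * x
      have h1 : x * y * (x * y) = 1 := by rw [← pow_two]; exact h
      have h2 : x * y = (x * y)⁻¹ := eq_inv_of_mul_eq_one_left h1
      rw [h2, mul_inv_rev, tt_inv hD hx, tt_inv hD hy]
    have := hw x hx y hy hc
    subst this
    rw [tt_sq hD hx, one_pow]
  · exact h

theorem width_one_iff [Finite G] (hne : D.Nonempty) :
    commutingWidth D = 1 ↔ ∀ x ∈ D, ∀ y ∈ D, Commute x y → x = y := by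
  unfold commutingWidth
  set S := {n : ℕ | ∃ E : Set G, E ⊆ D ∧ E.Finite ∧ (∀ a ∈ E, ∀ b ∈ E, Commute a b) ∧ E.ncard = n}
    with hS
  have hbdd : BddAbove S := by
    refine ⟨Nat.card G, ?_⟩
    rintro n ⟨E, -, -, -, rfl⟩
    exact Set.ncard_le_card E
  obtain ⟨d, hd⟩ := hne
  have h1 : 1 ∈ S := by
    refine ⟨{d}, by simpa using hd, Set.finite_singleton d, ?_, Set.ncard_singleton d⟩
    intro a ha b hb
    rw [Set.mem_singleton_iff] at ha hb
    rw [ha, hb]
  constructor
  · intro h x hx y hy hc
    by_contra hne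
    have h2 : 2 ∈ S := by
      refine ⟨{x, y}, ?_, Set.toFinite _, ?_, Set.ncard_pair hne⟩
      · intro z hz
        rcases hz with rfl | rfl
        · exact hx
        · exact hy
      · intro a ha b hb
        rcases ha with rfl | rfl <;> rcases hb with rfl | rfl
        · exact Commute.refl _
        · exact hc
        · exact hc.symm
        · exact Commute.refl _
    have := le_csSup hbdd h2
    omega
  · intro hw
    apply IsGreatest.csSup_eq
    refine ⟨h1, ?_⟩
    rintro n ⟨E, hED, hEf, hEc, rfl⟩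
    rw [Set.ncard_le_one_iff_subsingleton]
    intro a ha b hb
    exact hw a (hED ha) b (hED hb) (hEc a ha b hb)

/-- width one: the product of two members lies in the largest normal 3-subgroup -/
theorem mul_mem_pCore_three [Finite G] (hD : IsThreeTranspositionGroup D)
    (hw : ∀ x ∈ D, ∀ y ∈ D, Commute x y → x = y) {a b : G} (ha : a ∈ D) (hb : b ∈ D) :
    a * b ∈ pCore 3 G := by
  haveI : Fact (Nat.Prime 3) := ⟨by norm_num⟩
  obtain ⟨hT, hconj, hgen⟩ := hD
  have hsq : ∀ x ∈ D, x * x = 1 := fun x hx => tt_sq hT hx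
  have hconj' : ∀ x ∈ D, ∀ y ∈ D, y * x * y⁻¹ ∈ D := fun x hx y _ => hconj y x hx
  have hcube : ∀ x ∈ D, ∀ y ∈ D, (x * y) ^ 3 = 1 := fun x hx y hy => tt_cube hT hw hx hy
  obtain ⟨N, hN, hNp, hXN⟩ := Cfsg.Agent.Lib.Helper91.baer_suzuki (p := 3) (Subgroup.zpowers (a * b)) (by
    intro g
    have hc : g * a * g⁻¹ ∈ D := hconj g a ha
    have he : g * b * g⁻¹ ∈ D := hconj g b hb
    have hcard := card_closure4_dvd D hsq hconj' hcube ha hb hc he
    have heq : Subgroup.zpowers (a * b) ⊔ (Subgroup.zpowers (a * b)).map (MulAut.conj g).toMonoidHom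
        = Subgroup.closure {a * b, (g * a * g⁻¹) * (g * b * g⁻¹)} := by
      rw [MonoidHom.map_zpowers, Subgroup.zpowers_eq_closure, Subgroup.zpowers_eq_closure,
        ← Subgroup.closure_union]
      congr 1
      ext x
      simp only [Set.union_singleton, Set.mem_insert_iff, Set.mem_singleton_iff,
        MulEquiv.coe_toMonoidHom, MulAut.conj_apply]
      constructor
      · rintro (h | h)
        · right; rw [h]; group
        · left; exact h
      · rintro (h | h)
        · right; exact h
        · left; rw [h]; group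
    rw [heq]
    apply isPGroup_three_closure (Subgroup.closure {a, b, g * a * g⁻¹, g * b * g⁻¹}) 10
      (by
        have : (2 * 3 ^ 10 : Nat) = 118098 := by norm_num
        rw [this]; exact hcard)
    · intro y hy
      rcases hy with rfl | rfl
      · apply Subgroup.mul_mem <;> apply Subgroup.subset_closure <;> simp
      · apply Subgroup.mul_mem <;> apply Subgroup.subset_closure <;> simp
    · intro y hy
      rcases hy with rfl | rfl
      · exact hcube a ha b hb
      · exact hcube _ hc _ he)
  apply Cfsg.Agent.Lib.Helper84.le_pCore hN hNp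
  exact hXN (Subgroup.mem_zpowers _)

/-- the width one theorem -/
theorem width_one_iff_pCore [Finite G] (hD : IsThreeTranspositionGroup D) {d : G} (hd : d ∈ D) :
    commutingWidth D = 1 ↔ Subgroup.zpowers d ⊔ pCore 3 G = ⊤ := by
  haveI : Fact (Nat.Prime 3) := ⟨by norm_num⟩
  rw [width_one_iff ⟨d, hd⟩]
  have hT := hD.1
  constructor
  · intro hw
    rw [eq_top_iff, ← hD.2.2, Subgroup.closure_le]
    intro a ha
    have h1 : d * a ∈ pCore 3 G := mul_mem_pCore_three hD hw hd ha
    have h2 : a = d * (d * a) := by rw [← mul_assoc, tt_sq hT hd, one_mul]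
    rw [h2]
    exact Subgroup.mul_mem _ (Subgroup.mem_sup_left (Subgroup.mem_zpowers d)) (Subgroup.mem_sup_right h1)
  · intro htop x hx y hy hc
    by_contra hne
    haveI hON : (pCore 3 G).Normal := Cfsg.Agent.Lib.Helper84.pCore_normal 3 G
    have hOp : IsPGroup 3 (pCore 3 G) := Cfsg.Agent.Lib.Helper84.pCore_isPGroup 3 G
    -- every member of D lies in d * O
    have key : ∀ a ∈ D, d * a ∈ pCore 3 G := by
      intro a ha
      have hamem : a ∈ Subgroup.zpowers d ⊔ pCore 3 G := by rw [htop]; trivial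
      rw [Subgroup.mem_sup_of_normal_right] at hamem
      obtain ⟨u, hu, o, ho, rfl⟩ := hamem
      obtain ⟨i, rfl⟩ := Subgroup.mem_zpowers_iff.mp hu
      have hd2 : d ^ (2 : ℤ) = 1 := by
        rw [zpow_ofNat, pow_two]; exact tt_sq hT hd
      rcases Int.emod_two_eq_zero_or_one i with h | h
      · -- d^i = 1, so a ∈ O: impossible since a has order 2
        exfalso
        have hi : d ^ i = 1 := by
          rw [← Int.mul_ediv_add_emod i 2, h, add_zero, zpow_mul, hd2, one_zpow]
        rw [hi, one_mul] at ha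
        obtain ⟨k, hk⟩ := hOp ⟨o, ho⟩
        have hk' : o ^ (3 ^ k) = 1 := by
          have := congrArg Subtype.val hk
          simpa using this
        have h2 : orderOf o ∣ 3 ^ k := orderOf_dvd_of_pow_eq_one hk'
        rw [hT.1 o ha] at h2
        have : (2 : ℕ) ∣ 3 := (Nat.Prime.dvd_of_dvd_pow Nat.prime_two h2)
        omega
      · have hi : d ^ i = d := by
          rw [← Int.mul_ediv_add_emod i 2, h, zpow_add, zpow_mul, hd2, one_zpow, one_mul, zpow_one]
        rw [hi, ← mul_assoc, tt_sq hT hd, one_mul]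
        exact ho
    have hx' := key x hx
    have hy' := key y hy
    -- x * y = (d x)⁻¹ * (d y)
    have hxy : x * y ∈ pCore 3 G := by
      have : x * y = (d * x)⁻¹ * (d * y) := by
        rw [mul_inv_rev, tt_inv hT hx, tt_inv hT hd]
        calc x * y = x * ((d * d) * y) := by rw [tt_sq hT hd, one_mul]
          _ = x * d * (d * y) := by group
      rw [this]
      exact Subgroup.mul_mem _ (Subgroup.inv_mem _ hx') hy'
    obtain ⟨k, hk⟩ := hOp ⟨x * y, hxy⟩
    have hk' : (x * y) ^ (3 ^ k) = 1 := by
      have := congrArg Subtype.val hk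
      simpa using this
    have hsq2 : (x * y) ^ 2 = 1 := by
      rw [pow_two]
      calc x * y * (x * y) = x * (y * x) * y := by group
        _ = x * (x * y) * y := by rw [hc.eq]
        _ = (x * x) * (y * y) := by group
        _ = 1 := by rw [tt_sq hT hx, tt_sq hT hy, one_mul]
    have h1 : orderOf (x * y) ∣ 3 ^ k := orderOf_dvd_of_pow_eq_one hk'
    have h2 : orderOf (x * y) ∣ 2 := orderOf_dvd_of_pow_eq_one hsq2
    have h3 : orderOf (x * y) ∣ Nat.gcd (3 ^ k) 2 := Nat.dvd_gcd h1 h2
    have h4 : Nat.gcd (3 ^ k) 2 = 1 := by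
      apply Nat.Coprime.pow_left
      norm_num
    rw [h4, Nat.dvd_one, orderOf_eq_one_iff] at h3
    apply hne
    have : x = y⁻¹ := eq_inv_of_mul_eq_one_left h3
    rw [this, tt_inv hT hy]

end W

end Cfsg.Agent.Lib.Helper46
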