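import Cfsg.Agent.Lib.Helper46.Mod2
import Cfsg.Agent.Lib.Helper46.Width1

set_option autoImplicit false
set_option linter.all false

namespace Cfsg.Agent.Lib.Helper46.Mod

open Cfsg

variable {Q A : Type*} [Group Q] [AddCommGroup A] {φ : Q →* AddMonoid.End A} {PP : Set Q}

/-- the subgroup generated by the products `r e` -/
def PK (PP : Set Q) (r : Q) : Subgroup Q := Subgroup.closure {x | ∃ e ∈ PP, x = r * e}

theorem mem_PK {r e : Q} (he : e ∈ PP) : r * e ∈ PK PP r :=
  Subgroup.subset_closure ⟨e, he, rfl⟩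

theorem Hyp.rr (H : Hyp φ PP) {r : Q} (hr : r ∈ PP) : r * r = 1 := H.inv r hr

theorem PK_conj_mem (H : Hyp φ PP) {r : Q} (hr : r ∈ PP) {e' : Q} (he' : e' ∈ PP) {x : Q}
    (hx : x ∈ PK PP r) : e' * x * e'⁻¹ ∈ PK PP r := by
  have hei := H.inv_eq he'
  have hri := H.inv_eq hr
  induction hx using Subgroup.closure_induction with
  | mem x hx =>
    obtain ⟨e, he, rfl⟩ := hx
    have hee := H.inv_eq he
    have : e' * (r * e) * e'⁻¹ = (r * e')⁻¹ * ((r * e)⁻¹ * (r * e')) := by
      rw [hei, mul_inv_rev, mul_inv_rev, hei, hri, hee]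
      have := H.rr hr
      calc e' * (r * e) * e' = e' * r * (e * 1 * e') := by group
        _ = e' * r * (e * (r * r) * e') := by rw [this]
        _ = e' * r * (e * r * (r * e')) := by group
    rw [this]
    exact Subgroup.mul_mem _ (Subgroup.inv_mem _ (mem_PK he'))
      (Subgroup.mul_mem _ (Subgroup.inv_mem _ (mem_PK he)) (mem_PK he'))
  | one => simp
  | mul x y _ _ hx hy =>
    have : e' * (x * y) * e'⁻¹ = (e' * x * e'⁻¹) * (e' * y * e'⁻¹) := by group
    rw [this]; exact Subgroup.mul_mem _ hx hy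
  | inv x _ hx =>
    have : e' * x⁻¹ * e'⁻¹ = (e' * x * e'⁻¹)⁻¹ := by group
    rw [this]; exact Subgroup.inv_mem _ hx

theorem PK_conj (H : Hyp φ PP) (hgen : Subgroup.closure PP = ⊤) {r : Q} (hr : r ∈ PP) (g : Q) :
    ∀ x ∈ PK PP r, g * x * g⁻¹ ∈ PK PP r ∧ g⁻¹ * x * g ∈ PK PP r := by
  have hg : g ∈ Subgroup.closure PP := by rw [hgen]; trivial
  induction hg using Subgroup.closure_induction with
  | mem e he =>
    intro x hx
    have := PK_conj_mem H hr he hx
    refine ⟨this, ?_⟩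
    have hei := H.inv_eq he
    rw [hei] at this ⊢
    exact this
  | one => intro x hx; simpa using hx
  | mul g h _ _ ihg ihh =>
    intro x hx
    constructor
    · have : g * h * x * (g * h)⁻¹ = g * (h * x * h⁻¹) * g⁻¹ := by group
      rw [this]; exact (ihg _ (ihh x hx).1).1
    · have : (g * h)⁻¹ * x * (g * h) = h⁻¹ * (g⁻¹ * x * g) * h := by group
      rw [this]; exact (ihh _ (ihg x hx).2).2
  | inv g _ ih =>
    intro x hx
    refine ⟨?_, ?_⟩
    · rw [inv_inv]; exact (ih x hx).2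
    · rw [inv_inv]; exact (ih x hx).1

theorem PK_normal (H : Hyp φ PP) (hgen : Subgroup.closure PP = ⊤) {r : Q} (hr : r ∈ PP) :
    (PK PP r).Normal := ⟨fun x hx g => (PK_conj H hgen hr g x hx).1⟩

theorem tt_group (H : Hyp φ PP) (hgen : Subgroup.closure PP = ⊤) : IsThreeTranspositionGroup PP := by
  refine ⟨⟨?_, ?_⟩, H.conj, hgen⟩
  · intro d hd
    apply orderOf_eq_prime
    · rw [pow_two]; exact H.inv d hd
    · intro h; exact H.ne_one (h ▸ hd)
  · intro d hd e he
    right; exact H.cube d hd e he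

theorem width_one (H : Hyp φ PP) : ∀ x ∈ PP, ∀ y ∈ PP, Commute x y → x = y := by
  intro x hx y hy hc
  have h3 := H.cube x hx y hy
  have h2 : (x * y) ^ 2 = 1 := by
    rw [hc.mul_pow, pow_two, pow_two, H.inv x hx, H.inv y hy, one_mul]
  have h1 : x * y = 1 := by
    have : x * y = (x * y) ^ 3 * ((x * y) ^ 2)⁻¹ := by group
    rw [this, h3, h2]; simp
  have := H.inv_eq hx
  rw [← this]
  exact inv_eq_of_mul_eq_one_right h1

theorem PK_le_pCore [Finite Q] (H : Hyp φ PP) (hgen : Subgroup.closure PP = ⊤) {r : Q} (hr : r ∈ PP) :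
    PK PP r ≤ pCore 3 Q := by
  unfold PK
  rw [Subgroup.closure_le]
  rintro x ⟨e, he, rfl⟩
  exact mul_mem_pCore_three (tt_group H hgen) (width_one H) hr he

theorem PK_pow [Finite Q] (H : Hyp φ PP) (hgen : Subgroup.closure PP = ⊤) {r : Q} (hr : r ∈ PP)
    {x : Q} (hx : x ∈ PK PP r) : ∃ j : ℕ, x ^ (3 ^ j) = 1 := by
  haveI : Fact (Nat.Prime 3) := ⟨by norm_num⟩
  have hp := Cfsg.Agent.Lib.Helper84.pCore_isPGroup 3 Q
  obtain ⟨j, hj⟩ := hp ⟨x, PK_le_pCore H hgen hr hx⟩
  refine ⟨j, ?_⟩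
  have := congrArg Subtype.val hj
  simpa using this

theorem not_mem_PK [Finite Q] (H : Hyp φ PP) (hgen : Subgroup.closure PP = ⊤) {r : Q} (hr : r ∈ PP) :
    r ∉ PK PP r := by
  intro h
  obtain ⟨j, hj⟩ := PK_pow H hgen hr h
  have h2 : r ^ 2 = 1 := by rw [pow_two]; exact H.rr hr
  have h3 : orderOf r ∣ 3 ^ j := orderOf_dvd_of_pow_eq_one hj
  have h4 : orderOf r ∣ 2 := orderOf_dvd_of_pow_eq_one h2
  have hcop : Nat.Coprime (3 ^ j) 2 := by
    apply Nat.Coprime.pow_left; norm_num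
  have : orderOf r ∣ 1 := by
    have := Nat.dvd_gcd h3 h4
    rwa [hcop.gcd_eq_one] at this
  have h1 : r = 1 := orderOf_eq_one_iff.mp (Nat.dvd_one.mp this)
  exact H.ne_one (h1 ▸ hr)

theorem mem_or_mul_mem (H : Hyp φ PP) (hgen : Subgroup.closure PP = ⊤) {r : Q} (hr : r ∈ PP) (g : Q) :
    g ∈ PK PP r ∨ r * g ∈ PK PP r := by
  have hri := H.inv_eq hr
  have hrr := H.rr hr
  have hg : g ∈ Subgroup.closure PP := by rw [hgen]; trivial
  have hN := PK_normal H hgen hr
  induction hg using Subgroup.closure_induction with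
  | mem e he => right; exact mem_PK he
  | one => left; exact Subgroup.one_mem _
  | mul g h _ _ ihg ihh =>
    rcases ihg with hg | hg <;> rcases ihh with hh | hh
    · left; exact Subgroup.mul_mem _ hg hh
    · right
      have : r * (g * h) = (r * g * r⁻¹) * (r * h) := by group
      rw [this]; exact Subgroup.mul_mem _ (hN.conj_mem g hg r) hh
    · right
      rw [← mul_assoc]; exact Subgroup.mul_mem _ hg hh
    · left
      have : g * h = (r⁻¹ * (r * g) * r⁻¹⁻¹) * (r * h) := by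
        rw [inv_inv, hri]
        calc g * h = 1 * g * (1 * h) := by group
          _ = (r * r) * g * ((r * r) * h) := by rw [hrr]
          _ = r * (r * g) * r * (r * h) := by group
      rw [this]; exact Subgroup.mul_mem _ (hN.conj_mem _ hg r⁻¹) hh
  | inv g _ ih =>
    rcases ih with hg | hg
    · left; exact Subgroup.inv_mem _ hg
    · right
      have : r * g⁻¹ = r * (r * g)⁻¹ * r⁻¹ := by
        rw [mul_inv_rev, hri]
        calc r * g⁻¹ = r * g⁻¹ * 1 := by group
          _ = r * g⁻¹ * (r * r) := by rw [hrr]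
          _ = r * (g⁻¹ * r) * r := by group
      rw [this]; exact hN.conj_mem _ (Subgroup.inv_mem _ hg) r

end Cfsg.Agent.Lib.Helper46.Mod
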