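import Mathlib

set_option autoImplicit false
set_option linter.all false

namespace Cfsg.Agent.Lib.Helper46.Mod

/-- a nonabelian finite `p`-group has a noncentral element which is central of order `p` modulo the centre -/
theorem exists_second_center {G : Type*} [Group G] [Finite G] (p : ℕ) [hp : Fact p.Prime]
    (hG : IsPGroup p G) (hnc : ∃ a b : G, a * b ≠ b * a) :
    ∃ v : G, v ∉ Subgroup.center G ∧ (∀ y : G, v * y * v⁻¹ * y⁻¹ ∈ Subgroup.center G) ∧
      v ^ p ∈ Subgroup.center G := by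
  set Z := Subgroup.center G with hZ
  have hZtop : Z ≠ ⊤ := by
    intro h
    obtain ⟨a, b, hab⟩ := hnc
    apply hab
    have : a ∈ Z := by rw [h]; trivial
    exact ((Subgroup.mem_center_iff.mp this) b).symm
  haveI : Nontrivial (G ⧸ Z) := by
    rw [← not_subsingleton_iff_nontrivial]
    intro hs
    exact hZtop (QuotientGroup.subgroup_eq_top_of_subsingleton Z hs)
  have hq : IsPGroup p (G ⧸ Z) := hG.to_quotient Z
  haveI := hq.center_nontrivial
  have hc : IsPGroup p (Subgroup.center (G ⧸ Z)) := hq.to_subgroup _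
  have hdvd : p ∣ Nat.card (Subgroup.center (G ⧸ Z)) := by
    rcases hc.card_eq_or_dvd with h | h
    · exfalso
      have : Subsingleton (Subgroup.center (G ⧸ Z)) := (Nat.card_eq_one_iff_unique.mp h).1
      exact not_nontrivial _ ‹Nontrivial (Subgroup.center (G ⧸ Z))›
    · exact h
  obtain ⟨⟨vb, hvb⟩, hord⟩ := exists_prime_orderOf_dvd_card' p hdvd
  have hord' : orderOf vb = p := by
    rw [← hord]; exact (Subgroup.orderOf_mk vb hvb).symm
  obtain ⟨v, rfl⟩ := QuotientGroup.mk_surjective vb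
  refine ⟨v, ?_, ?_, ?_⟩
  · intro hv
    have : ((v : G) : G ⧸ Z) = 1 := (QuotientGroup.eq_one_iff v).mpr hv
    rw [this, orderOf_one] at hord'
    exact hp.out.one_lt.ne hord'
  · intro y
    rw [← QuotientGroup.eq_one_iff]
    have hcomm := (Subgroup.mem_center_iff.mp hvb) (y : G ⧸ Z)
    show ((v * y * v⁻¹ * y⁻¹ : G) : G ⧸ Z) = 1
    rw [QuotientGroup.mk_mul, QuotientGroup.mk_mul, QuotientGroup.mk_mul, QuotientGroup.mk_inv,
      QuotientGroup.mk_inv, ← hcomm]
    group
  · rw [← QuotientGroup.eq_one_iff]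
    show ((v ^ p : G) : G ⧸ Z) = 1
    rw [QuotientGroup.mk_pow, ← hord', pow_orderOf_eq_one]

end Cfsg.Agent.Lib.Helper46.Mod
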