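import Mathlib

set_option autoImplicit false
set_option linter.all false

namespace Cfsg.Agent.Lib.Helper46.Mod

variable {Q : Type*} [Group Q]

/-- the commutator map of `u` -/
def cm (u x : Q) : Q := u * x * u⁻¹ * x⁻¹

theorem cm_eq_one_iff (u x : Q) : cm u x = 1 ↔ u * x = x * u := by
  unfold cm
  constructor
  · intro h
    have : u * x = (u * x * u⁻¹ * x⁻¹) * (x * u) := by group
    rw [this, h, one_mul]
  · intro h
    have : u * x * u⁻¹ * x⁻¹ = (u * x) * (x * u)⁻¹ := by group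
    rw [this, h]; group

section

variable (P : Subgroup Q) {u : Q} (hu : u ∈ P)
  (hZ : ∀ x ∈ P, cm u x ∈ P ∧ ∀ w ∈ P, w * cm u x = cm u x * w)

include hu hZ

theorem cm_mul {x y : Q} (hx : x ∈ P) (hy : y ∈ P) : cm u (x * y) = cm u x * cm u y := by
  have h1 : x * cm u y = cm u y * x := (hZ y hy).2 x hx
  have h2 : x * cm u y * x⁻¹ = cm u y := by rw [h1]; group
  have : cm u (x * y) = cm u x * (x * cm u y * x⁻¹) := by unfold cm; group
  rw [this, h2]

omit hu hZ in
theorem cm_one (u : Q) : cm u 1 = 1 := by unfold cm; group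

theorem cm_inv {x : Q} (hx : x ∈ P) : cm u x⁻¹ = (cm u x)⁻¹ := by
  have := cm_mul P hu hZ hx (P.inv_mem hx)
  rw [mul_inv_cancel, cm_one] at this
  exact (inv_eq_of_mul_eq_one_right this.symm).symm

theorem cm_comm {x y : Q} (hx : x ∈ P) (hy : y ∈ P) : cm u x * cm u y = cm u y * cm u x :=
  (hZ y hy).2 _ (hZ x hx).1

theorem cm_cube {x : Q} (hx : x ∈ P) (hu3 : x * u ^ 3 = u ^ 3 * x) : (cm u x) ^ 3 = 1 := by
  have hcu : u * cm u x = cm u x * u := (hZ x hx).2 u hu
  have e1 : u * x * u⁻¹ = cm u x * x := by unfold cm; group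
  have e2 : u * (cm u x * x) * u⁻¹ = cm u x * (cm u x * x) := by
    calc u * (cm u x * x) * u⁻¹ = (u * cm u x) * x * u⁻¹ := by group
      _ = (cm u x * u) * x * u⁻¹ := by rw [hcu]
      _ = cm u x * (u * x * u⁻¹) := by group
      _ = cm u x * (cm u x * x) := by rw [e1]
  have e3 : u * (cm u x * (cm u x * x)) * u⁻¹ = cm u x * (cm u x * (cm u x * x)) := by
    calc u * (cm u x * (cm u x * x)) * u⁻¹ = (u * cm u x) * (cm u x * x) * u⁻¹ := by group
      _ = (cm u x * u) * (cm u x * x) * u⁻¹ := by rw [hcu]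
      _ = cm u x * (u * (cm u x * x) * u⁻¹) := by group
      _ = cm u x * (cm u x * (cm u x * x)) := by rw [e2]
  have hpow : u ^ 3 = u * u * u := by rw [pow_succ, pow_two]
  have e4 : u ^ 3 * x * (u ^ 3)⁻¹ = cm u x * (cm u x * (cm u x * x)) := by
    calc u ^ 3 * x * (u ^ 3)⁻¹ = u * (u * (u * x * u⁻¹) * u⁻¹) * u⁻¹ := by rw [hpow]; group
      _ = cm u x * (cm u x * (cm u x * x)) := by rw [e1, e2, e3]
  have e5 : u ^ 3 * x * (u ^ 3)⁻¹ = x := by rw [← hu3]; group
  rw [e5] at e4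
  have : (cm u x) ^ 3 = (cm u x * (cm u x * (cm u x * x))) * x⁻¹ := by
    rw [pow_succ, pow_two]; group
  rw [this, ← e4]; group

end

/-- powers of an element commuting with `x` commute with `x` -/
theorem pow_comm_of_comm {x z : Q} (h : x * z = z * x) (n : ℕ) : x * z ^ n = z ^ n * x :=
  ((Commute.pow_right (show Commute x z from h) n)).eq

theorem eq_of_sq_eq_inv {y w : Q} (hy3 : y ^ 3 = 1) (hw3 : w ^ 3 = 1) (h : y * y = w⁻¹) : y = w := by
  have e : y = (y * y) * (y * y) * (y ^ 3)⁻¹ := by rw [pow_succ, pow_two]; group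
  calc y = (y * y) * (y * y) * (y ^ 3)⁻¹ := e
    _ = w⁻¹ * w⁻¹ := by rw [h, hy3]; group
    _ = w * (w ^ 3)⁻¹ := by rw [pow_succ, pow_two]; group
    _ = w := by rw [hw3]; group

theorem ncard_three_le {α : Type*} (a b c : α) : ({a, b, c} : Set α).ncard ≤ 3 := by
  calc ({a, b, c} : Set α).ncard ≤ ({b, c} : Set α).ncard + 1 := Set.ncard_insert_le a {b, c}
    _ ≤ (({c} : Set α).ncard + 1) + 1 := Nat.add_le_add_right (Set.ncard_insert_le b {c}) 1
    _ = 3 := by rw [Set.ncard_singleton]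

end Cfsg.Agent.Lib.Helper46.Mod
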