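import Cfsg.Agent.Lib.Helper46.Mod3
import Cfsg.Agent.Lib.Helper46.Mod4
import Cfsg.Agent.Lib.Helper46.Mod5

set_option autoImplicit false
set_option linter.all false

namespace Cfsg.Agent.Lib.Helper46.Mod

open Cfsg

variable {Q A : Type*} [Group Q] [AddCommGroup A] {φ : Q →* AddMonoid.End A} {PP : Set Q}

theorem inverted_gen (H : Hyp φ PP) {r e : Q} (hr : r ∈ PP) (he : e ∈ PP) :
    r * (r * e) * r = (r * e)⁻¹ := by
  rw [mul_inv_rev, H.inv_eq hr, H.inv_eq he, ← mul_assoc r r e, H.rr hr, one_mul]

/-- a nontrivial central element of `P` inverted by `r` forces at most three members -/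
theorem three_of_central_inverted [Finite Q] (H : Hyp φ PP) (hgen : Subgroup.closure PP = ⊤)
    {r : Q} (hr : r ∈ PP) {z : Q} (hzP : z ∈ PK PP r)
    (hzc : ∀ x ∈ PK PP r, x * z = z * x) (hz1 : z ≠ 1) (hzi : r * z * r = z⁻¹) :
    ∀ e ∈ PP, e = r ∨ e = r * z ∨ e = r * z⁻¹ := by
  obtain ⟨j, hj⟩ := PK_pow H hgen hr hzP
  have hrz : r * z ∈ PP := mul_mem_of_inverted H hr hj hzi
  have hrr := H.rr hr
  have hz3 : z ^ 3 = 1 := by
    have := H.cube r hr (r * z) hrz
    rwa [← mul_assoc, hrr, one_mul] at this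
  intro e he
  by_contra hcon
  push Not at hcon
  obtain ⟨hc1, hc2, hc3⟩ := hcon
  have hy := inverted_gen H hr he
  have hy3 := H.cube r hr e he
  have hc : z * (r * e) = (r * e) * z := (hzc _ (mem_PK he)).symm
  have hre : ∀ w : Q, r * e = w → e = r * w := by
    intro w hw
    rw [← hw, ← mul_assoc, hrr, one_mul]
  apply no_commuting_pair H hr hzi hy hz3 hy3 hc hz1
  · intro h
    apply hc1
    have := hre 1 h
    rw [this, mul_one]
  · intro h
    apply hc3
    apply hre
    exact (inv_eq_of_mul_eq_one_right h).symm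
  · intro h
    apply hc2
    apply hre
    -- (re)(re) = z⁻¹, so re = (re)^4 = z⁻² = z
    have h1 : (r * e) * (r * e) = z⁻¹ := by
      rw [mul_assoc] at h
      exact (inv_eq_of_mul_eq_one_right h).symm
    exact eq_of_sq_eq_inv hy3 hz3 h1

/-- a nontrivial central element has no nonzero fixed points on an irreducible module -/
theorem fixed_zero (H : Hyp φ PP)
    (hirr : ∀ B : AddSubgroup A, (∀ g : Q, ∀ m ∈ B, φ g m ∈ B) → B = ⊥ ∨ B = ⊤)
    {g : Q} (hgc : ∀ h : Q, h * g = g * h) (hg1 : g ≠ 1) (m : A) (hm : φ g m = m) : m = 0 := by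
  let B : AddSubgroup A :=
    { carrier := {m | φ g m = m}
      add_mem' := by
        intro a b ha hb
        show φ g (a + b) = a + b
        rw [map_add, ha, hb]
      zero_mem' := by
        show φ g 0 = 0
        rw [map_zero]
      neg_mem' := by
        intro a ha
        show φ g (-a) = -a
        rw [map_neg, ha] }
  have hB : ∀ h : Q, ∀ m ∈ B, φ h m ∈ B := by
    intro h m hm
    show φ g (φ h m) = φ h m
    rw [← app_mul φ, ← hgc h, app_mul φ]
    congr 1
  rcases hirr B hB with h | h
  · have : m ∈ B := hm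
    rw [h] at this
    exact (AddSubgroup.mem_bot.mp this)
  · exfalso
    apply hg1
    apply H.inj
    ext m'
    have : m' ∈ B := by rw [h]; trivial
    rw [app_one φ]
    exact this

/-- the elements of order three in the centre form a group of order at most three -/
theorem omega_small [Nontrivial A] (H : Hyp φ PP)
    (hirr : ∀ B : AddSubgroup A, (∀ g : Q, ∀ m ∈ B, φ g m ∈ B) → B = ⊥ ∨ B = ⊤)
    {a b : Q} (hac : ∀ h : Q, h * a = a * h) (hbc : ∀ h : Q, h * b = b * h)
    (ha3 : a ^ 3 = 1) (hb3 : b ^ 3 = 1) (ha1 : a ≠ 1) : b = 1 ∨ b = a ∨ b = a⁻¹ := by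
  by_contra hcon
  push Not at hcon
  obtain ⟨h1, h2, h3⟩ := hcon
  obtain ⟨m, hm⟩ := exists_ne (0 : A)
  apply hm
  have hab : a * b = b * a := hbc a
  have hcm : Commute a b := hab
  apply four_fix H.two (φ a) (φ b)
  · intro z; rw [← app_mul φ, ← app_mul φ, hab]
  · intro z; exact app_cube φ ha3 z
  · intro z; exact app_cube φ hb3 z
  · exact fixed_zero H hirr hac ha1
  · exact fixed_zero H hirr hbc h1
  · intro x hx
    rw [← app_mul φ] at hx
    refine fixed_zero H hirr ?_ ?_ x hx
    · intro h
      exact ((show Commute h a from hac h).mul_right (show Commute h b from hbc h)).eq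
    · intro h
      apply h3
      exact (inv_eq_of_mul_eq_one_right h).symm
  · intro x hx
    rw [← app_mul φ, ← app_mul φ] at hx
    refine fixed_zero H hirr ?_ ?_ x hx
    · intro h
      exact (((show Commute h a from hac h).mul_right (show Commute h b from hbc h)).mul_right
        (show Commute h b from hbc h)).eq
    · intro h
      apply h2
      -- a * (b*b) = 1 → b*b = a⁻¹ → b = b^4 = a⁻² = a
      rw [mul_assoc] at h
      have e1 : b * b = a⁻¹ := (inv_eq_of_mul_eq_one_right h).symm
      exact eq_of_sq_eq_inv hb3 ha3 e1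

end Cfsg.Agent.Lib.Helper46.Mod
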