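import Cfsg.Agent.Lib.Helper46.Mod6

set_option autoImplicit false
set_option linter.all false
set_option maxHeartbeats 1000000

namespace Cfsg.Agent.Lib.Helper46.Mod

open Cfsg

variable {Q A : Type*} [Group Q] [AddCommGroup A] {φ : Q →* AddMonoid.End A} {PP : Set Q}

theorem PK_induction {r : Q} {p : Q → Prop} (hgen : ∀ e ∈ PP, p (r * e)) (h1 : p 1)
    (hmul : ∀ x ∈ PK PP r, ∀ y ∈ PK PP r, p x → p y → p (x * y))
    (hinv : ∀ x ∈ PK PP r, p x → p x⁻¹) : ∀ x ∈ PK PP r, p x := by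
  intro x hx
  unfold PK at hx
  induction hx using Subgroup.closure_induction with
  | mem x hx => obtain ⟨e, he, rfl⟩ := hx; exact hgen e he
  | one => exact h1
  | mul x y hx hy ihx ihy => exact hmul x hx y hy ihx ihy
  | inv x hx ih => exact hinv x hx ih

/-- the main bound: at most nine members -/
theorem card_le_nine [Finite Q] [Nontrivial A] (H : Hyp φ PP) (hgen : Subgroup.closure PP = ⊤)
    (hirr : ∀ B : AddSubgroup A, (∀ g : Q, ∀ m ∈ B, φ g m ∈ B) → B = ⊥ ∨ B = ⊤) :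
    PP.ncard ≤ 9 := by
  classical
  by_cases hne : PP.Nonempty
  swap
  · rw [Set.not_nonempty_iff_eq_empty] at hne; rw [hne]; simp
  obtain ⟨r, hr⟩ := hne
  by_cases hsmall : ∃ a b c : Q, PP ⊆ {a, b, c}
  · obtain ⟨a, b, c, h⟩ := hsmall
    calc PP.ncard ≤ ({a, b, c} : Set Q).ncard := Set.ncard_le_ncard h (Set.toFinite _)
      _ ≤ 3 := ncard_three_le a b c
      _ ≤ 9 := by norm_num
  have hrr := H.rr hr
  have hri := H.inv_eq hr
  have hrr' : ∀ w : Q, r * (r * w) = w := fun w => by rw [← mul_assoc, hrr, one_mul]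
  have hPN := PK_normal H hgen hr
  obtain ⟨P, hP⟩ : ∃ P, P = PK PP r := ⟨_, rfl⟩
  rw [← hP] at hPN
  have hconjr : ∀ x ∈ P, r * x * r ∈ P := by
    intro x hx
    have := hPN.conj_mem x hx r
    rwa [hri] at this
  -- central elements of P are fixed by r
  have hfix : ∀ z ∈ P, (∀ x ∈ P, x * z = z * x) → r * z * r = z := by
    intro z hzP hzc
    by_contra hne'
    have hrzr := hconjr z hzP
    have hrzr_c : ∀ x ∈ P, x * (r * z * r) = (r * z * r) * x := by
      intro x hx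
      have h1 := hzc _ (hconjr x hx)
      have e1 : x * (r * z * r⁻¹) = r * ((r⁻¹ * x * r) * z) * r⁻¹ := by group
      have e2 : (r * z * r⁻¹) * x = r * (z * (r⁻¹ * x * r)) * r⁻¹ := by group
      rw [hri] at e1 e2
      rw [e1, e2, h1]
    obtain ⟨z', hz'⟩ : ∃ z', z' = z * (r * z * r)⁻¹ := ⟨_, rfl⟩
    have hz'P : z' ∈ P := by rw [hz']; exact P.mul_mem hzP (P.inv_mem hrzr)
    have hz'c : ∀ x ∈ P, x * z' = z' * x := by
      intro x hx
      have c1 : Commute x z := hzc x hx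
      have c2 : Commute x (r * z * r) := hrzr_c x hx
      rw [hz']
      exact (c1.mul_right c2.inv_right).eq
    have hz'i : r * z' * r = z'⁻¹ := by
      rw [hz']
      simp only [mul_assoc, mul_inv_rev, inv_inv, hri, hrr, hrr', mul_one, one_mul]
    have hz'1 : z' ≠ 1 := by
      intro h
      apply hne'
      rw [hz'] at h
      exact (mul_inv_eq_one.mp h).symm
    have h3 := three_of_central_inverted H hgen hr (hP ▸ hz'P) (hP ▸ hz'c) hz'1 hz'i
    exact hsmall ⟨r, r * z', r * z'⁻¹, fun e he => by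
      rcases h3 e he with h | h | h <;> simp [h]⟩
  haveI : Fact (Nat.Prime 3) := ⟨by norm_num⟩
  have hPp : IsPGroup 3 ↥P := by
    rw [hP]
    exact (Cfsg.Agent.Lib.Helper84.pCore_isPGroup 3 Q).to_le (PK_le_pCore H hgen hr)
  have hmemK : ∀ e ∈ PP, r * e ∈ P := fun e he => hP ▸ mem_PK he
  have hnonab : ∃ a b : ↥P, a * b ≠ b * a := by
    by_contra hab
    push Not at hab
    apply hsmall
    refine ⟨r, r, r, fun e he => ?_⟩
    have hy : r * e ∈ P := hmemK e he
    have hc : ∀ x ∈ P, x * (r * e) = (r * e) * x := fun x hx =>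
      congrArg Subtype.val (hab ⟨x, hx⟩ ⟨r * e, hy⟩)
    have h1 := hfix _ hy hc
    rw [inverted_gen H hr he] at h1
    have h2 : (r * e) * (r * e) = 1 := by
      nth_rewrite 1 [← h1]; group
    have h3 := H.cube r hr e he
    have h4 : r * e = 1 := by
      have : r * e = (r * e) ^ 3 * ((r * e) * (r * e))⁻¹ := by rw [pow_succ, pow_two]; group
      rw [this, h3, h2]; group
    have : e = r := by
      have := inv_eq_of_mul_eq_one_right h4
      rw [← this, hri]
    simp [this]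
  obtain ⟨u', hu1, hu2, hu3⟩ := exists_second_center 3 hPp hnonab
  obtain ⟨u, huP⟩ := u'
  have hunc : ¬ ∀ x ∈ P, x * u = u * x := by
    intro h
    apply hu1
    rw [Subgroup.mem_center_iff]
    intro g
    exact Subtype.ext (h g g.2)
  have hZ : ∀ x ∈ P, cm u x ∈ P ∧ ∀ w ∈ P, w * cm u x = cm u x * w := by
    intro x hx
    have hm := hu2 ⟨x, hx⟩
    refine ⟨?_, ?_⟩
    · unfold cm; exact P.mul_mem (P.mul_mem (P.mul_mem huP hx) (P.inv_mem huP)) (P.inv_mem hx)
    · intro w hw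
      have := (Subgroup.mem_center_iff.mp hm) ⟨w, hw⟩
      exact congrArg Subtype.val this
  have hu3' : ∀ x ∈ P, x * u ^ 3 = u ^ 3 * x := by
    intro x hx
    have := (Subgroup.mem_center_iff.mp hu3) ⟨x, hx⟩
    exact congrArg Subtype.val this
  have hcQ : ∀ x ∈ P, r * cm u x * r = cm u x := fun x hx => hfix _ (hZ x hx).1 (hZ x hx).2
  have hc3 : ∀ x ∈ P, (cm u x) ^ 3 = 1 := fun x hx => cm_cube P huP hZ hx (hu3' x hx)
  have hcr : ∀ x ∈ P, cm u (r * x * r) = (cm u x)⁻¹ := by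
    rw [hP]
    apply PK_induction
    · intro e he
      rw [inverted_gen H hr he]
      exact cm_inv P huP hZ (hmemK e he)
    · rw [mul_one, hrr, cm_one, inv_one]
    · intro x hx y hy ihx ihy
      rw [← hP] at hx hy
      have : r * (x * y) * r = (r * x * r) * (r * y * r) := by
        simp only [mul_assoc, hrr']
      rw [this, cm_mul P huP hZ (hconjr x hx) (hconjr y hy), ihx, ihy, cm_mul P huP hZ hx hy,
        mul_inv_rev]
      have hcomm := cm_comm P huP hZ hx hy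
      have : Commute (cm u x) (cm u y) := hcomm
      exact (this.inv_inv).eq
    · intro x hx ih
      rw [← hP] at hx
      have : r * x⁻¹ * r = (r * x * r)⁻¹ := by
        simp only [mul_assoc, mul_inv_rev, hri]
      rw [this, cm_inv P huP hZ (hconjr x hx), ih, cm_inv P huP hZ hx]
  -- the central element ζ = (r u r) u
  obtain ⟨v, hv⟩ : ∃ v, v = r * u * r := ⟨_, rfl⟩
  have hvP : v ∈ P := by rw [hv]; exact hconjr u huP
  obtain ⟨ζ, hζ⟩ : ∃ ζ, ζ = v * u := ⟨_, rfl⟩
  have hζP : ζ ∈ P := by rw [hζ]; exact P.mul_mem hvP huP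
  have hζc : ∀ x ∈ P, x * ζ = ζ * x := by
    intro x hx
    have hcv : cm v x = cm u (r * x * r) := by
      have e1 : cm v x = r * cm u (r * x * r) * r := by
        rw [hv]; unfold cm
        simp only [mul_assoc, mul_inv_rev, inv_inv, hri, hrr, hrr', mul_one, one_mul]
      rw [e1, hcQ _ (hconjr x hx)]
    have e2 : cm ζ x = cm u x * cm v x := by
      have hvc : v * cm u x = cm u x * v := (hZ x hx).2 v hvP
      have : cm ζ x = (v * cm u x) * x * v⁻¹ * x⁻¹ := by rw [hζ]; unfold cm; group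
      rw [this, hvc]; unfold cm; group
    have e3 : cm ζ x = 1 := by rw [e2, hcv, hcr x hx, mul_inv_cancel]
    exact ((cm_eq_one_iff ζ x).mp e3).symm
  obtain ⟨j, hj⟩ := PK_pow H hgen hr (hP ▸ hζP)
  have hodd : 3 ^ j % 2 = 1 := by rw [Nat.pow_mod]; norm_num
  have hpos : 0 < 3 ^ j := pow_pos (by norm_num) j
  obtain ⟨n, hn⟩ : ∃ n, n = 3 ^ j := ⟨_, rfl⟩
  rw [← hn] at hodd hpos
  obtain ⟨k, hk⟩ : ∃ k, k = (n - 1) / 2 := ⟨_, rfl⟩
  have h2k : k + 1 + k = 3 ^ j := by rw [← hn]; omega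
  have hζkP : ζ ^ k ∈ P := P.pow_mem hζP k
  have hζk_c : ∀ x ∈ P, x * ζ ^ k = ζ ^ k * x := fun x hx => pow_comm_of_comm (hζc x hx) k
  have hζk_r : r * ζ ^ k * r = ζ ^ k := hfix _ hζkP hζk_c
  obtain ⟨y0, hy0⟩ : ∃ y0, y0 = u * ζ ^ k := ⟨_, rfl⟩
  have hy0P : y0 ∈ P := by rw [hy0]; exact P.mul_mem huP hζkP
  have hy0i : r * y0 * r = y0⁻¹ := by
    have e1 : r * y0 * r = v * ζ ^ k := by
      have : r * (u * ζ ^ k) * r = (r * u * r) * (r * ζ ^ k * r) := by simp only [mul_assoc, hrr']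
      rw [hy0, this, hζk_r, hv]
    have e2 : v = ζ * u⁻¹ := by rw [hζ]; group
    have e3 : u⁻¹ * ζ ^ k = ζ ^ k * u⁻¹ := hζk_c _ (P.inv_mem huP)
    rw [e1, e2, mul_assoc, e3, ← mul_assoc, hy0, mul_inv_rev]
    congr 1
    have : ζ * ζ ^ k * ζ ^ k = 1 := by
      rw [← pow_succ', ← pow_add, h2k, hj]
    exact eq_inv_of_mul_eq_one_left this
  have hcm0 : ∀ x ∈ P, cm y0 x = cm u x := by
    intro x hx
    have e := hζk_c x hx
    have : cm y0 x = u * (ζ ^ k * x * (ζ ^ k)⁻¹) * u⁻¹ * x⁻¹ := by rw [hy0]; unfold cm; group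
    rw [this, ← e]; unfold cm; group
  have hy0nc : ¬ ∀ x ∈ P, x * y0 = y0 * x := by
    intro h
    apply hunc
    intro x hx
    have c1 : Commute x y0 := h x hx
    have c2 : Commute x (ζ ^ k) := hζk_c x hx
    have : u = y0 * (ζ ^ k)⁻¹ := by rw [hy0]; group
    rw [this]
    exact (c1.mul_right c2.inv_right).eq
  have hy01 : y0 ≠ 1 := by
    intro h
    apply hy0nc
    intro x hx
    rw [h, mul_one, one_mul]
  have hy03 : y0 ^ 3 = 1 := by
    obtain ⟨j', hj'⟩ := PK_pow H hgen hr (hP ▸ hy0P)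
    have hry0 : r * y0 ∈ PP := mul_mem_of_inverted H hr hj' hy0i
    have := H.cube r hr (r * y0) hry0
    rwa [hrr'] at this
  -- central elements of P are central in Q
  have hcentQ : ∀ z ∈ P, (∀ x ∈ P, x * z = z * x) → ∀ h : Q, h * z = z * h := by
    intro z hzP hzc h
    have hrz : r * z = z * r := by
      have := hfix z hzP hzc
      calc r * z = r * z * (r * r) := by rw [hrr, mul_one]
        _ = (r * z * r) * r := by group
        _ = z * r := by rw [this]
    rcases mem_or_mul_mem H hgen hr h with hh | hh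
    · exact hzc h (hP ▸ hh)
    · have e1 : h = r * (r * h) := (hrr' h).symm
      have e2 := hzc (r * h) (hP ▸ hh)
      rw [e1, mul_assoc, e2, ← mul_assoc, hrz, mul_assoc]
  -- a nontrivial value of the commutator map
  have hex : ∃ x0 ∈ P, cm u x0 ≠ 1 := by
    by_contra hno
    push Not at hno
    apply hunc
    intro x hx
    exact ((cm_eq_one_iff u x).mp (hno x hx)).symm
  obtain ⟨x0, hx0P, hx01⟩ := hex
  obtain ⟨ζ0, hζ0⟩ : ∃ ζ0, ζ0 = cm u x0 := ⟨_, rfl⟩
  have hζ0c : ∀ h : Q, h * ζ0 = ζ0 * h := by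
    rw [hζ0]; exact hcentQ _ (hZ x0 hx0P).1 (hZ x0 hx0P).2
  have hζ03 : ζ0 ^ 3 = 1 := by rw [hζ0]; exact hc3 x0 hx0P
  have hζ01 : ζ0 ≠ 1 := by rw [hζ0]; exact hx01
  have hval : ∀ x ∈ P, cm u x = 1 ∨ cm u x = ζ0 ∨ cm u x = ζ0⁻¹ := by
    intro x hx
    exact omega_small H hirr hζ0c (hcentQ _ (hZ x hx).1 (hZ x hx).2) hζ03 (hc3 x hx) hζ01
  -- selection of representatives
  let sel : Q → Q := fun ω => if h : ∃ x ∈ P, cm u x = ω then h.choose else 1
  have hsel : ∀ ω, (∃ x ∈ P, cm u x = ω) → sel ω ∈ P ∧ cm u (sel ω) = ω := by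
    intro ω h
    have : sel ω = h.choose := dif_pos h
    rw [this]
    exact h.choose_spec
  have hsub : PP ⊆ (fun p : Q × Q => sel p.1 * p.2 * (sel p.1)⁻¹) ''
      (({1, ζ0, ζ0⁻¹} : Set Q) ×ˢ ({r, r * y0⁻¹, r * y0} : Set Q)) := by
    intro e he
    have hxP : r * e ∈ P := hmemK e he
    obtain ⟨ω, hω⟩ : ∃ ω, ω = cm u (r * e) := ⟨_, rfl⟩
    obtain ⟨hsP, hsω⟩ := hsel ω ⟨r * e, hxP, hω.symm⟩
    obtain ⟨s, hs⟩ : ∃ s, s = sel ω := ⟨_, rfl⟩
    rw [← hs] at hsP hsω
    obtain ⟨t, ht⟩ : ∃ t, t = s⁻¹ * (r * e) := ⟨_, rfl⟩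
    have htP : t ∈ P := by rw [ht]; exact P.mul_mem (P.inv_mem hsP) hxP
    have hct : cm u t = 1 := by
      rw [ht, cm_mul P huP hZ (P.inv_mem hsP) hxP, cm_inv P huP hZ hsP, hsω, ← hω, inv_mul_cancel]
    have hut : u * t = t * u := (cm_eq_one_iff u t).mp hct
    have hy0t : Commute t y0 := by
      have c1 : Commute t u := hut.symm
      have c2 : Commute t (ζ ^ k) := hζk_c t htP
      rw [hy0]; exact c1.mul_right c2
    have he_eq : e = (r * e) * r * (r * e)⁻¹ := by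
      have h3 := H.cube r hr e he
      have hee := H.inv_eq he
      rw [mul_inv_rev, hri, hee]
      have : (r * e) * (r * e) * (r * e) = 1 := by rw [← h3, pow_succ, pow_two]
      calc e = ((r * e) * (r * e) * (r * e)) * e := by rw [this, one_mul]
        _ = r * e * r * (e * (r * (e * e))) := by group
        _ = r * e * r * (e * r) := by rw [H.inv e he, mul_one]
    obtain ⟨e2, he2⟩ : ∃ e2, e2 = t * r * t⁻¹ := ⟨_, rfl⟩
    have he2P : e2 ∈ PP := by rw [he2]; exact H.conj t r hr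
    have he_s : e = s * e2 * s⁻¹ := by
      have hst : r * e = s * t := by rw [ht]; group
      rw [he_eq, hst, he2]; group
    obtain ⟨g2, hg2⟩ : ∃ g2, g2 = r * e2 := ⟨_, rfl⟩
    have hg2i : r * g2 * r = g2⁻¹ := by rw [hg2]; exact inverted_gen H hr he2P
    have hg23 : g2 ^ 3 = 1 := by rw [hg2]; exact H.cube r hr e2 he2P
    have he2g : e2 = r * g2 := by rw [hg2, hrr']
    have hg2c : y0 * g2 = g2 * y0 := by
      -- g2 = (r t r) t⁻¹
      have e1 : g2 = (r * t * r) * t⁻¹ := by rw [hg2, he2]; group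
      have c1 : Commute (r * t * r) y0 := by
        have hy0inv : r * y0⁻¹ * r = y0 := by
          have h1 : (r * y0 * r)⁻¹ = r * y0⁻¹ * r := by simp only [mul_assoc, mul_inv_rev, hri]
          rw [← h1, hy0i, inv_inv]
        have ct : t * y0⁻¹ = y0⁻¹ * t := (hy0t.inv_right).eq
        show r * t * r * y0 = y0 * (r * t * r)
        calc r * t * r * y0 = r * t * (r * y0 * r) * r := by
              simp only [mul_assoc, hrr, hrr', mul_one]
          _ = r * (t * y0⁻¹) * r := by rw [hy0i]; group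
          _ = r * (y0⁻¹ * t) * r := by rw [ct]
          _ = (r * y0⁻¹ * r) * (r * t * r) := by simp only [mul_assoc, hrr']
          _ = y0 * (r * t * r) := by rw [hy0inv]
      have c2 : Commute t⁻¹ y0 := hy0t.inv_left
      rw [e1]
      exact ((c1.mul_left c2).symm).eq
    have hcases : g2 = 1 ∨ g2 = y0⁻¹ ∨ g2 = y0 := by
      by_contra hcon
      push Not at hcon
      obtain ⟨n1, n2, n3⟩ := hcon
      apply no_commuting_pair H hr hy0i hg2i hy03 hg23 hg2c hy01 n1
      · intro h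
        apply n2
        exact (inv_eq_of_mul_eq_one_right h).symm
      · intro h
        apply n3
        rw [mul_assoc] at h
        exact eq_of_sq_eq_inv hg23 hy03 (inv_eq_of_mul_eq_one_right h).symm
    refine ⟨(ω, e2), ⟨?_, ?_⟩, ?_⟩
    · show ω ∈ ({1, ζ0, ζ0⁻¹} : Set Q)
      rw [hω]
      rcases hval _ hxP with h | h | h <;> simp [h]
    · show e2 ∈ ({r, r * y0⁻¹, r * y0} : Set Q)
      rw [he2g]
      rcases hcases with h | h | h <;> simp [h]
    · show sel ω * e2 * (sel ω)⁻¹ = e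
      rw [← hs, ← he_s]
  calc PP.ncard ≤ ((fun p : Q × Q => sel p.1 * p.2 * (sel p.1)⁻¹) ''
        (({1, ζ0, ζ0⁻¹} : Set Q) ×ˢ ({r, r * y0⁻¹, r * y0} : Set Q))).ncard :=
        Set.ncard_le_ncard hsub (Set.toFinite _)
    _ ≤ ((({1, ζ0, ζ0⁻¹} : Set Q) ×ˢ ({r, r * y0⁻¹, r * y0} : Set Q))).ncard :=
        Set.ncard_image_le (Set.toFinite _)
    _ = ({1, ζ0, ζ0⁻¹} : Set Q).ncard * ({r, r * y0⁻¹, r * y0} : Set Q).ncard := Set.ncard_prod
    _ ≤ 3 * 3 := Nat.mul_le_mul (ncard_three_le _ _ _) (ncard_three_le _ _ _)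
    _ = 9 := by norm_num

end Cfsg.Agent.Lib.Helper46.Mod
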