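import Mathlib
import Cfsg.Agent.Lib.Helper46.SL2Gen

/-! Recognition of the natural `SL₂(F)`-module: an irreducible nontrivial action of `SL₂(F)` on a
finite abelian `p`-group on which the upper unitriangular group acts quadratically (or has "large"
fixed points) is the natural module. -/

set_option autoImplicit false

namespace Cfsg.Agent.Lib.Helper46.NatRecog

open Cfsg.Agent.Lib.Helper46.SL2

variable {F : Type*} [Field F]

/-- upper unitriangular -/
def xx (t : F) : SL F := ⟨!![1, t; 0, 1], by simp [Matrix.det_fin_two]⟩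
/-- lower unitriangular -/
def yy (u : F) : SL F := ⟨!![1, 0; u, 1], by simp [Matrix.det_fin_two]⟩
/-- monomial -/
def ww (t : Fˣ) : SL F := ⟨!![0, (t : F); -((t⁻¹ : Fˣ) : F), 0], by simp [Matrix.det_fin_two]⟩
/-- diagonal -/
def hh (t : Fˣ) : SL F := ⟨!![(t : F), 0; 0, ((t⁻¹ : Fˣ) : F)], by simp [Matrix.det_fin_two]⟩

theorem mv_xx (t : F) (v : Fin 2 → F) : mv (xx t) v = ![v 0 + t * v 1, v 1] := by
  apply vec2_ext
  · rw [mv_apply_zero]; simp [xx]
  · rw [mv_apply_one]; simp [xx]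

theorem mv_yy (u : F) (v : Fin 2 → F) : mv (yy u) v = ![v 0, u * v 0 + v 1] := by
  apply vec2_ext
  · rw [mv_apply_zero]; simp [yy]
  · rw [mv_apply_one]; simp [yy]

theorem mv_ww (t : Fˣ) (v : Fin 2 → F) :
    mv (ww t) v = ![(t : F) * v 1, -(((t⁻¹ : Fˣ) : F) * v 0)] := by
  apply vec2_ext
  · rw [mv_apply_zero]; simp [ww]
  · rw [mv_apply_one]; simp [ww]

theorem mv_hh (t : Fˣ) (v : Fin 2 → F) :
    mv (hh t) v = ![(t : F) * v 0, ((t⁻¹ : Fˣ) : F) * v 1] := by
  apply vec2_ext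
  · rw [mv_apply_zero]; simp [hh]
  · rw [mv_apply_one]; simp [hh]

theorem xx_zero : xx (0 : F) = 1 := by
  apply ext_mv; intro v
  rw [mv_xx, mv_one]
  apply vec2_ext <;> simp

theorem xx_add (s t : F) : xx (s + t) = xx s * xx t := by
  apply ext_mv; intro v
  rw [mv_mul, mv_xx, mv_xx, mv_xx]
  apply vec2_ext <;> simp
  ring

theorem yy_zero : yy (0 : F) = 1 := by
  apply ext_mv; intro v
  rw [mv_yy, mv_one]
  apply vec2_ext <;> simp

theorem ww_eq (t : Fˣ) : ww t = xx (t : F) * yy (-((t⁻¹ : Fˣ) : F)) * xx (t : F) := by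
  apply ext_mv; intro v
  rw [mv_mul, mv_mul, mv_xx, mv_yy, mv_xx, mv_ww]
  apply vec2_ext <;> simp <;> field_simp <;> ring

theorem hh_mul_ww_one (t : Fˣ) : hh t * ww 1 = ww t := by
  apply ext_mv; intro v
  rw [mv_mul, mv_ww, mv_hh, mv_ww]
  apply vec2_ext <;> simp

theorem hh_one : hh (1 : Fˣ) = 1 := by
  apply ext_mv; intro v
  rw [mv_hh, mv_one]
  apply vec2_ext <;> simp

theorem hh_mul (s t : Fˣ) : hh (s * t) = hh s * hh t := by
  apply ext_mv; intro v
  rw [mv_mul, mv_hh, mv_hh, mv_hh]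
  apply vec2_ext <;> simp <;> ring

theorem hh_mul_xx (a : Fˣ) (t : F) : hh a * xx t = xx ((a : F) ^ 2 * t) * hh a := by
  apply ext_mv; intro v
  rw [mv_mul, mv_mul, mv_xx, mv_hh, mv_hh, mv_xx]
  apply vec2_ext <;> simp <;> field_simp

theorem xx_mul_ww (s : F) (t : Fˣ) :
    xx s * ww t = ww t * yy (-(s * ((t⁻¹ : Fˣ) : F) ^ 2)) := by
  apply ext_mv; intro v
  rw [mv_mul, mv_mul, mv_ww, mv_xx, mv_yy, mv_ww]
  apply vec2_ext <;> simp <;> field_simp <;> ring

theorem yy_mul_ww (u : F) (t : Fˣ) :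
    yy u * ww t = ww t * xx (-((t : F) ^ 2 * u)) := by
  apply ext_mv; intro v
  rw [mv_mul, mv_mul, mv_ww, mv_yy, mv_xx, mv_ww]
  apply vec2_ext <;> simp <;> field_simp <;> ring

theorem hh_mul_ww (a t : Fˣ) : hh a * ww t = ww (a ^ 2 * t) * hh a := by
  apply ext_mv; intro v
  rw [mv_mul, mv_mul, mv_ww, mv_hh, mv_hh, mv_ww]
  apply vec2_ext <;> simp <;> field_simp

theorem ww_one_mul_ww_one : ww (1 : Fˣ) * ww 1 = hh (-1) := by
  apply ext_mv; intro v
  rw [mv_mul, mv_ww, mv_ww, mv_hh]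
  apply vec2_ext <;> simp

theorem ww_one_mul_ww_neg_one : ww (1 : Fˣ) * ww (-1) = 1 := by
  apply ext_mv; intro v
  rw [mv_mul, mv_ww, mv_ww, mv_one]
  apply vec2_ext <;> simp

theorem ww_neg_one_mul_ww_one : ww (-1 : Fˣ) * ww 1 = 1 := by
  apply ext_mv; intro v
  rw [mv_mul, mv_ww, mv_ww, mv_one]
  apply vec2_ext <;> simp


theorem xx_neg_mul (t : F) : xx (-t) * xx t = 1 := by
  rw [← xx_add, neg_add_cancel, xx_zero]

theorem xx_mul_neg (t : F) : xx t * xx (-t) = 1 := by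
  rw [← xx_add, add_neg_cancel, xx_zero]

theorem xx_inv (t : F) : (xx t)⁻¹ = xx (-t) := by
  rw [inv_eq_iff_mul_eq_one, xx_mul_neg]

theorem ww_one_inv : (ww (1 : Fˣ))⁻¹ = ww (-1) := by
  rw [inv_eq_iff_mul_eq_one, ww_one_mul_ww_neg_one]

theorem yy_eq (u : F) : yy u = ww (-1) * xx (-u) * ww 1 := by
  have h := xx_mul_ww (-u) (1 : Fˣ)
  rw [mul_assoc, h, ← mul_assoc, ww_neg_one_mul_ww_one, one_mul]
  simp

theorem mem_stabVec_e1 {M : SL F} (hM : M ∈ stabVec (![1, 0] : Fin 2 → F)) :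
    ∃ t : F, M = xx t := by
  rw [mem_stabVec] at hM
  have h0 := congrFun hM 0
  have h1 := congrFun hM 1
  rw [mv_apply_zero] at h0
  rw [mv_apply_one] at h1
  simp at h0 h1
  have hd := det_eq M
  rw [h0, h1] at hd
  simp at hd
  refine ⟨(M : Matrix (Fin 2) (Fin 2) F) 0 1, ?_⟩
  apply ext_mv; intro v
  rw [mv_xx]
  apply vec2_ext
  · rw [mv_apply_zero, h0]; simp
  · rw [mv_apply_one, h1, hd]; simp

theorem mem_stabVec_e2 {M : SL F} (hM : M ∈ stabVec (![0, 1] : Fin 2 → F)) :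
    ∃ u : F, M = yy u := by
  rw [mem_stabVec] at hM
  have h0 := congrFun hM 0
  have h1 := congrFun hM 1
  rw [mv_apply_zero] at h0
  rw [mv_apply_one] at h1
  simp at h0 h1
  have hd := det_eq M
  rw [h0, h1] at hd
  simp at hd
  refine ⟨(M : Matrix (Fin 2) (Fin 2) F) 1 0, ?_⟩
  apply ext_mv; intro v
  rw [mv_yy]
  apply vec2_ext
  · rw [mv_apply_zero, h0, hd]; simp
  · rw [mv_apply_one, h1]; simp

/-- `SL₂(F)` is generated by the `xx t` and `ww 1`. -/
theorem eq_top_of_gens (K : Subgroup (SL F)) (hx : ∀ t : F, xx t ∈ K) (hw : ww (1 : Fˣ) ∈ K) :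
    K = ⊤ := by
  have hd : dd (![1, 0] : Fin 2 → F) ![0, 1] ≠ 0 := by
    unfold dd; simp
  rw [eq_top_iff, ← stabVec_sup_stabVec hd]
  apply sup_le
  · intro M hM
    obtain ⟨t, rfl⟩ := mem_stabVec_e1 hM
    exact hx t
  · intro M hM
    obtain ⟨u, rfl⟩ := mem_stabVec_e2 hM
    rw [yy_eq]
    have hw' : ww (-1 : Fˣ) ∈ K := by
      rw [← ww_one_inv]; exact K.inv_mem hw
    exact K.mul_mem (K.mul_mem hw' (hx _)) hw

section Action

variable (F)
variable (W : Type*) [AddCommGroup W] [DistribMulAction (SL F) W]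

/-- fixed points of the upper unitriangular group -/
def W0 : AddSubgroup W where
  carrier := {v | ∀ t : F, xx t • v = v}
  zero_mem' := fun t => smul_zero _
  add_mem' := fun {a b} ha hb t => by rw [smul_add, ha t, hb t]
  neg_mem' := fun {a} ha t => by rw [smul_neg, ha t]

/-- fixed points of the lower unitriangular group -/
def W1 : AddSubgroup W where
  carrier := {v | ∀ u : F, yy u • v = v}
  zero_mem' := fun t => smul_zero _
  add_mem' := fun {a b} ha hb t => by rw [smul_add, ha t, hb t]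
  neg_mem' := fun {a} ha t => by rw [smul_neg, ha t]

variable {F W}

theorem mem_W0 {v : W} : v ∈ W0 F W ↔ ∀ t : F, xx t • v = v := Iff.rfl
theorem mem_W1 {v : W} : v ∈ W1 F W ↔ ∀ u : F, yy u • v = v := Iff.rfl

/-- the stabilizer of an additive subgroup, as a subgroup -/
def stabAdd (N : AddSubgroup W) : Subgroup (SL F) where
  carrier := {M | ∀ v, M • v ∈ N ↔ v ∈ N}
  one_mem' := fun v => by rw [one_smul]
  mul_mem' := fun {A B} hA hB v => by rw [mul_smul, hA, hB]
  inv_mem' := fun {A} hA v => by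
    have := hA (A⁻¹ • v)
    rw [smul_inv_smul] at this
    exact this.symm

theorem invariant_of_gens (N : AddSubgroup W) (hx : ∀ t : F, ∀ v ∈ N, xx t • v ∈ N)
    (hw : ∀ v ∈ N, ww (1 : Fˣ) • v ∈ N) : ∀ M : SL F, ∀ v ∈ N, M • v ∈ N := by
  have hK : stabAdd (F := F) N = ⊤ := by
    apply eq_top_of_gens
    · intro t v
      constructor
      · intro h
        have := hx (-t) _ h
        rwa [← mul_smul, xx_neg_mul, one_smul] at this
      · exact hx t v
    · intro v
      constructor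
      · intro h
        have h1 := hw _ (hw _ (hw _ h))
        have e : ww (1 : Fˣ) * ww 1 * ww 1 * ww 1 = 1 := by
          rw [ww_one_mul_ww_one, mul_assoc, ww_one_mul_ww_one, ← hh_mul]
          simp [hh_one]
        rwa [← mul_smul, ← mul_smul, ← mul_smul, e, one_smul] at h1
      · exact hw v
  intro M v hv
  have : M ∈ stabAdd (F := F) N := by rw [hK]; trivial
  exact (this v).mpr hv


/-- Standing hypotheses: irreducible and nontrivial. -/
structure Hyp (F : Type*) [Field F] (W : Type*) [AddCommGroup W] [DistribMulAction (SL F) W] :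
    Prop where
  irr : ∀ N : AddSubgroup W, (∀ M : SL F, ∀ v ∈ N, M • v ∈ N) → N = ⊥ ∨ N = ⊤
  nontriv : ∃ (M : SL F) (v : W), M • v ≠ v

theorem ww_one_eq : ww (1 : Fˣ) = xx (1 : F) * yy (-1) * xx 1 := by
  have := ww_eq (1 : Fˣ)
  simpa using this

theorem Hyp.inf_eq_bot (h : Hyp F W) : W0 F W ⊓ W1 F W = ⊥ := by
  -- the fixed points of the whole group
  let N : AddSubgroup W :=
    { carrier := {v | ∀ M : SL F, M • v = v}
      zero_mem' := fun M => smul_zero _
      add_mem' := fun {a b} ha hb M => by rw [smul_add, ha M, hb M]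
      neg_mem' := fun {a} ha M => by rw [smul_neg, ha M] }
  have hN : N = ⊥ := by
    rcases h.irr N (fun M v hv M' => by rw [hv M]; exact hv M') with h1 | h1
    · exact h1
    · exfalso
      obtain ⟨M, v, hMv⟩ := h.nontriv
      have : v ∈ N := by rw [h1]; trivial
      exact hMv (this M)
  rw [eq_bot_iff]
  intro v hv
  rw [AddSubgroup.mem_inf] at hv
  have hK : MulAction.stabilizer (SL F) v = ⊤ := by
    apply eq_top_of_gens
    · intro t
      exact hv.1 t
    · rw [ww_one_eq]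
      apply Subgroup.mul_mem _ (Subgroup.mul_mem _ _ _) _
      · exact hv.1 1
      · exact hv.2 (-1)
      · exact hv.1 1
  have : v ∈ N := by
    intro M
    have : M ∈ MulAction.stabilizer (SL F) v := by rw [hK]; trivial
    exact this
  rw [hN] at this
  exact this

theorem ww_smul_mem_W1 {v : W} (hv : v ∈ W0 F W) (t : Fˣ) : ww t • v ∈ W1 F W := by
  intro u
  rw [← mul_smul, yy_mul_ww, mul_smul, hv]

theorem ww_smul_mem_W0 {v : W} (hv : v ∈ W1 F W) (t : Fˣ) : ww t • v ∈ W0 F W := by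
  intro s
  rw [← mul_smul, xx_mul_ww, mul_smul, hv]

theorem hh_eq (a : Fˣ) : hh a = ww a * ww (-1) := by
  rw [← hh_mul_ww_one a, mul_assoc, ww_one_mul_ww_neg_one, mul_one]

theorem hh_smul_mem_W0 {v : W} (hv : v ∈ W0 F W) (a : Fˣ) : hh a • v ∈ W0 F W := by
  rw [hh_eq, mul_smul]
  exact ww_smul_mem_W0 (ww_smul_mem_W1 hv _) _

theorem hh_smul_mem_W1 {v : W} (hv : v ∈ W1 F W) (a : Fˣ) : hh a • v ∈ W1 F W := by
  rw [hh_eq, mul_smul]
  exact ww_smul_mem_W1 (ww_smul_mem_W0 hv _) _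

/-- Key computation: on vectors of `W1` moved by `xx t` into `W0`, `ww t` acts as `xx t - 1`. -/
theorem ww_smul_eq (hinf : W0 F W ⊓ W1 F W = ⊥) {b : W} (hb : b ∈ W1 F W) (t : Fˣ)
    (hc : xx (t : F) • b - b ∈ W0 F W) : ww t • b = xx (t : F) • b - b := by
  set c := xx (t : F) • b - b with hcdef
  have h1 : xx (t : F) • b = c + b := by rw [hcdef]; abel
  -- (xx t * yy u) • c = ww t • c
  have h2 : (xx (t : F) * yy (-((t⁻¹ : Fˣ) : F))) • c = ww t • c := by
    have : ww t • c = (xx (t : F) * yy (-((t⁻¹ : Fˣ) : F))) • (xx (t : F) • c) := by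
      rw [← mul_smul, ← ww_eq]
    rw [this, hc]
  have h3 : ww t • b = ww t • c + c + b := by
    conv_lhs => rw [ww_eq, mul_smul, h1, smul_add, mul_smul (xx (t : F)) _ b, hb, h2, h1]
    abel
  have h4 : ww t • b - c ∈ W0 F W ⊓ W1 F W := by
    rw [AddSubgroup.mem_inf]
    constructor
    · exact AddSubgroup.sub_mem _ (ww_smul_mem_W0 hb t) hc
    · have : ww t • b - c = ww t • c + b := by rw [h3]; abel
      rw [this]
      exact AddSubgroup.add_mem _ (ww_smul_mem_W1 hc t) hb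
  rw [hinf, AddSubgroup.mem_bot] at h4
  exact sub_eq_zero.mp h4


/-! ### The quadratic case -/

/-- `lam t a = (xx t - 1) (w⁻¹ a)`: scalar multiplication by `t` on `W0`. -/
def lam (t : F) (a : W) : W := xx t • (ww (-1 : Fˣ) • a) - ww (-1 : Fˣ) • a

theorem lam_zero_left (a : W) : lam (0 : F) a = 0 := by
  unfold lam; rw [xx_zero, one_smul, sub_self]

theorem lam_add_right (t : F) (a a' : W) : lam t (a + a') = lam t a + lam t a' := by
  unfold lam; rw [smul_add, smul_add]; abel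

theorem lam_zero_right (t : F) : lam t (0 : W) = 0 := by
  unfold lam; rw [smul_zero, smul_zero, sub_self]

section Quad

variable (Q : ∀ (t : F) (v : W), xx t • v - v ∈ W0 F W)
include Q

theorem lam_mem (t : F) (a : W) : lam t a ∈ W0 F W := Q t _

theorem lam_add_left (s t : F) (a : W) : lam (s + t) a = lam s a + lam t a := by
  have h1 : xx t • (ww (-1 : Fˣ) • a) = ww (-1 : Fˣ) • a + lam t a := by unfold lam; abel
  have h2 : xx s • lam t a = lam t a := lam_mem Q t a s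
  unfold lam at h2 ⊢
  rw [xx_add, mul_smul]
  rw [h1, smul_add]
  unfold lam
  rw [h2]
  abel

theorem lam_unit (hinf : W0 F W ⊓ W1 F W = ⊥) {a : W} (ha : a ∈ W0 F W) (t : Fˣ) :
    lam (t : F) a = hh t • a := by
  have hb : ww (-1 : Fˣ) • a ∈ W1 F W := ww_smul_mem_W1 ha _
  rw [hh_eq, mul_smul, ww_smul_eq hinf hb t (Q _ _)]
  rfl

theorem lam_one (hinf : W0 F W ⊓ W1 F W = ⊥) {a : W} (ha : a ∈ W0 F W) : lam (1 : F) a = a := by
  have := lam_unit Q hinf ha 1
  rw [hh_one, one_smul] at this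
  simpa using this

theorem lam_mul (hinf : W0 F W ⊓ W1 F W = ⊥) {a : W} (ha : a ∈ W0 F W) (s t : F) :
    lam (s * t) a = lam s (lam t a) := by
  by_cases hs : s = 0
  · rw [hs, zero_mul, lam_zero_left, lam_zero_left]
  by_cases ht : t = 0
  · rw [ht, mul_zero, lam_zero_left, lam_zero_right]
  have e1 := lam_unit Q hinf ha (Units.mk0 s hs * Units.mk0 t ht)
  have e2 := lam_unit Q hinf ha (Units.mk0 t ht)
  have e3 := lam_unit Q hinf (lam_mem Q t a) (Units.mk0 s hs)
  simp only [Units.val_mul, Units.val_mk0] at e1 e2 e3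
  rw [e1, e3, e2, hh_mul, mul_smul]

theorem lam_neg_one (hinf : W0 F W ⊓ W1 F W = ⊥) {a : W} (ha : a ∈ W0 F W) :
    lam (-1 : F) a = -a := by
  have h1 := lam_add_left Q (-1 : F) 1 a
  rw [neg_add_cancel, lam_zero_left, lam_one Q hinf ha] at h1
  exact eq_neg_of_add_eq_zero_left h1.symm

/-- the comparison map from the natural module -/
def Phi (a₀ : W) : (Fin 2 → F) →+ W where
  toFun v := lam (v 0) a₀ + ww (-1 : Fˣ) • lam (v 1) a₀
  map_zero' := by
    simp only [Pi.zero_apply, lam_zero_left, smul_zero, add_zero]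
  map_add' := by
    intro v v'
    simp only [Pi.add_apply]
    rw [lam_add_left Q, lam_add_left Q, smul_add]
    abel

theorem Phi_apply (a₀ : W) (v : Fin 2 → F) :
    Phi Q a₀ v = lam (v 0) a₀ + ww (-1 : Fˣ) • lam (v 1) a₀ := rfl

theorem Phi_xx (hinf : W0 F W ⊓ W1 F W = ⊥) {a₀ : W} (ha : a₀ ∈ W0 F W) (t : F)
    (v : Fin 2 → F) : Phi Q a₀ (mv (xx t) v) = xx t • Phi Q a₀ v := by
  rw [Phi_apply, Phi_apply, mv_xx]
  simp only [Matrix.cons_val_zero, Matrix.cons_val_one]
  rw [lam_add_left Q, lam_mul Q hinf ha, smul_add, lam_mem Q (v 0) a₀ t]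
  have : xx t • (ww (-1 : Fˣ) • lam (v 1) a₀) = lam t (lam (v 1) a₀) + ww (-1 : Fˣ) • lam (v 1) a₀ := by
    unfold lam; abel
  rw [this]
  abel

theorem Phi_ww (hinf : W0 F W ⊓ W1 F W = ⊥) {a₀ : W} (ha : a₀ ∈ W0 F W)
    (v : Fin 2 → F) : Phi Q a₀ (mv (ww (1 : Fˣ)) v) = ww (1 : Fˣ) • Phi Q a₀ v := by
  rw [Phi_apply, Phi_apply, mv_ww]
  simp only [Matrix.cons_val_zero, Matrix.cons_val_one, Units.val_one, one_mul, inv_one]
  rw [smul_add, ← mul_smul, ww_one_mul_ww_neg_one, one_smul]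
  have hc : lam (v 0) a₀ ∈ W0 F W := lam_mem Q _ _
  have h1 : ww (1 : Fˣ) • lam (v 0) a₀ = ww (-1 : Fˣ) • lam (-1 : F) (lam (v 0) a₀) := by
    have e := lam_unit Q hinf hc (-1)
    simp only [Units.val_neg, Units.val_one] at e
    rw [e, ← ww_one_mul_ww_one, ← mul_smul, ← mul_assoc, ww_neg_one_mul_ww_one, one_mul]
  rw [h1, ← lam_mul Q hinf ha]
  simp only [neg_mul, one_mul]
  abel

theorem Phi_equivariant (hinf : W0 F W ⊓ W1 F W = ⊥) {a₀ : W} (ha : a₀ ∈ W0 F W) (M : SL F)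
    (v : Fin 2 → F) : Phi Q a₀ (mv M v) = M • Phi Q a₀ v := by
  let K : Subgroup (SL F) :=
    { carrier := {M | ∀ v, Phi Q a₀ (mv M v) = M • Phi Q a₀ v}
      one_mem' := fun v => by rw [mv_one, one_smul]
      mul_mem' := fun {A B} hA hB v => by rw [mv_mul, hA, hB, mul_smul]
      inv_mem' := fun {A} hA v => by
        have := hA (mv A⁻¹ v)
        rw [mv_mv_inv] at this
        rw [this, inv_smul_smul] }
  have hK : K = ⊤ := eq_top_of_gens K (fun t v => Phi_xx Q hinf ha t v) (fun v => Phi_ww Q hinf ha v)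
  have : M ∈ K := by rw [hK]; trivial
  exact this v

theorem Phi_bijective (h : Hyp F W) {a₀ : W} (ha : a₀ ∈ W0 F W) (ha0 : a₀ ≠ 0) :
    Function.Bijective (Phi Q a₀) := by
  have hinf := h.inf_eq_bot
  have he1 : Phi Q a₀ ![1, 0] = a₀ := by
    rw [Phi_apply]
    simp only [Matrix.cons_val_zero, Matrix.cons_val_one]
    rw [lam_one Q hinf ha, lam_zero_left, smul_zero, add_zero]
  constructor
  · rw [injective_iff_map_eq_zero]
    intro v hv
    by_contra hv0
    have he : (![1, 0] : Fin 2 → F) ≠ 0 := by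
      intro h0
      have := congrFun h0 0
      simp at this
    obtain ⟨M, hM⟩ := exists_mv_eq hv0 he
    have := Phi_equivariant Q hinf ha M v
    rw [hM, he1, hv, smul_zero] at this
    exact ha0 this
  · have hr : (Phi Q a₀).range = ⊤ := by
      rcases h.irr (Phi Q a₀).range (by
        rintro M _ ⟨v, rfl⟩
        exact ⟨mv M v, Phi_equivariant Q hinf ha M v⟩) with h1 | h1
      · exfalso
        have : a₀ ∈ (Phi Q a₀).range := ⟨_, he1⟩
        rw [h1, AddSubgroup.mem_bot] at this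
        exact ha0 this
      · exact h1
    intro w
    have : w ∈ (Phi Q a₀).range := by rw [hr]; trivial
    exact this

end Quad


/-! ### Existence of fixed points -/

theorem xx_mem_stabVec (t : F) : xx t ∈ stabVec (![1, 0] : Fin 2 → F) := by
  rw [mem_stabVec, mv_xx]
  apply vec2_ext <;> simp

theorem e1_ne_zero : (![1, 0] : Fin 2 → F) ≠ 0 := by
  intro h0
  have := congrFun h0 0
  simp at this

theorem Hyp.nontrivial (h : Hyp F W) : ∃ v : W, v ≠ 0 := by
  obtain ⟨M, v, hv⟩ := h.nontriv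
  refine ⟨v, ?_⟩
  rintro rfl
  exact hv (smul_zero _)

theorem prime_dvd_card_of_nontrivial {A : Type*} [Finite A] {p m : ℕ} (hp : p.Prime)
    (hA : Nat.card A = p ^ m) (hne : 1 < Nat.card A) : p ∣ Nat.card A := by
  rw [hA] at hne ⊢
  have : m ≠ 0 := by
    rintro rfl
    simp at hne
  exact dvd_pow_self p this

theorem exists_W0_ne_zero [Fintype F] [Finite W] {p n m : ℕ} [hp : Fact p.Prime]
    (hF : Fintype.card F = p ^ n) (hW : Nat.card W = p ^ m) (h : Hyp F W) :
    ∃ a ∈ W0 F W, a ≠ 0 := by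
  have hU : IsPGroup p (stabVec (![1, 0] : Fin 2 → F)) := stabVec_isPGroup hF e1_ne_zero
  have hcard : p ∣ Nat.card W := by
    apply prime_dvd_card_of_nontrivial hp.out hW
    obtain ⟨v, hv⟩ := h.nontrivial
    exact Finite.one_lt_card_iff_nontrivial.mpr ⟨⟨v, 0, hv⟩⟩
  have h0 : (0 : W) ∈ MulAction.fixedPoints (stabVec (![1, 0] : Fin 2 → F)) W := by
    intro g
    exact smul_zero _
  obtain ⟨b, hb, hb0⟩ := hU.exists_fixed_point_of_prime_dvd_card_of_fixed_point W hcard h0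
  refine ⟨b, ?_, fun h => hb0 h.symm⟩
  intro t
  exact hb ⟨xx t, xx_mem_stabVec t⟩

/-- The natural module is recognized in the quadratic case. -/
theorem natural_of_quad [Fintype F] [Finite W] {p n m : ℕ} [hp : Fact p.Prime]
    (hF : Fintype.card F = p ^ n) (hW : Nat.card W = p ^ m) (h : Hyp F W)
    (Q : ∀ (t : F) (v : W), xx t • v - v ∈ W0 F W) :
    ∃ Φ : (Fin 2 → F) ≃+ W, ∀ (M : SL F) (v : Fin 2 → F), Φ (mv M v) = M • Φ v := by
  obtain ⟨a₀, ha, ha0⟩ := exists_W0_ne_zero hF hW h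
  refine ⟨AddEquiv.ofBijective (Phi Q a₀) (Phi_bijective Q h ha ha0), ?_⟩
  intro M v
  exact Phi_equivariant Q h.inf_eq_bot ha M v


/-! ### The counting case: `|W| ≤ |W0|²` implies quadratic -/

/-- the action of a group element as an additive endomorphism -/
def act (M : SL F) : W →+ W := DistribSMul.toAddMonoidHom W M

theorem act_apply (M : SL F) (v : W) : act M v = M • v := rfl

theorem act_comp (A B : SL F) : (act A : W →+ W).comp (act B) = act (A * B) := by
  ext v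
  simp [act_apply, mul_smul]

/-- the second fixed points inside `W1` -/
def U1 (F : Type*) [Field F] (W : Type*) [AddCommGroup W] [DistribMulAction (SL F) W] :
    AddSubgroup W where
  carrier := {b | b ∈ W1 F W ∧ ∀ t : F, xx t • b - b ∈ W0 F W}
  zero_mem' := ⟨AddSubgroup.zero_mem _, fun t => by rw [smul_zero, sub_self]; exact AddSubgroup.zero_mem _⟩
  add_mem' := fun {a b} ha hb => ⟨AddSubgroup.add_mem _ ha.1 hb.1, fun t => by
    have : xx t • (a + b) - (a + b) = (xx t • a - a) + (xx t • b - b) := by rw [smul_add]; abel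
    rw [this]; exact AddSubgroup.add_mem _ (ha.2 t) (hb.2 t)⟩
  neg_mem' := fun {a} ha => ⟨AddSubgroup.neg_mem _ ha.1, fun t => by
    have : xx t • (-a) - (-a) = -(xx t • a - a) := by rw [smul_neg]; abel
    rw [this]; exact AddSubgroup.neg_mem _ (ha.2 t)⟩

theorem mem_U1 {b : W} : b ∈ U1 F W ↔ b ∈ W1 F W ∧ ∀ t : F, xx t • b - b ∈ W0 F W := Iff.rfl

theorem xx_mul_hh (t : F) (a : Fˣ) : xx t * hh a = hh a * xx (((a⁻¹ : Fˣ) : F) ^ 2 * t) := by
  rw [hh_mul_xx]
  congr 2
  have : (a : F) * ((a⁻¹ : Fˣ) : F) = 1 := by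
    rw [← Units.val_mul, mul_inv_cancel, Units.val_one]
  calc t = ((a : F) * ((a⁻¹ : Fˣ) : F)) ^ 2 * t := by rw [this, one_pow, one_mul]
    _ = (a : F) ^ 2 * (((a⁻¹ : Fˣ) : F) ^ 2 * t) := by ring

theorem hh_smul_mem_U1 {b : W} (hb : b ∈ U1 F W) (a : Fˣ) : hh a • b ∈ U1 F W := by
  refine ⟨hh_smul_mem_W1 hb.1 a, ?_⟩
  intro t
  rw [← mul_smul, xx_mul_hh, mul_smul, ← smul_sub]
  exact hh_smul_mem_W0 (hb.2 _) a

theorem map_hh_U1 (a : Fˣ) : (U1 F W).map (act (hh a)) = U1 F W := by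
  apply le_antisymm
  · rintro _ ⟨b, hb, rfl⟩
    exact hh_smul_mem_U1 hb a
  · intro b hb
    refine ⟨hh a⁻¹ • b, hh_smul_mem_U1 hb _, ?_⟩
    rw [act_apply, ← mul_smul, ← hh_mul, mul_inv_cancel, hh_one, one_smul]

/-- `P t = ww t • U1` -/
def PP (F : Type*) [Field F] (W : Type*) [AddCommGroup W] [DistribMulAction (SL F) W] (t : Fˣ) :
    AddSubgroup W := (U1 F W).map (act (ww t))

theorem PP_eq_map_hh (a : Fˣ) : PP F W a = (PP F W 1).map (act (hh a)) := by
  unfold PP
  rw [AddSubgroup.map_map, act_comp, hh_mul_ww_one]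

theorem map_hh_PP (a t : Fˣ) : (PP F W t).map (act (hh a)) = PP F W (a ^ 2 * t) := by
  unfold PP
  rw [AddSubgroup.map_map, act_comp, hh_mul_ww, ← act_comp, ← AddSubgroup.map_map, map_hh_U1]

theorem PP_sq (a : Fˣ) : PP F W (a ^ 2) = PP F W a := by
  rw [PP_eq_map_hh a, map_hh_PP, mul_one]

theorem PP_const (a : Fˣ) : PP F W a = PP F W 1 := by
  -- P(ab) = P(a² b)
  have key : ∀ a b : Fˣ, PP F W (a * b) = PP F W (a ^ 2 * b) := by
    intro a b
    rw [← PP_sq (a * b), mul_pow, ← map_hh_PP, PP_sq, map_hh_PP]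
  have := key a a⁻¹
  rw [mul_inv_cancel, pow_two, mul_assoc, mul_inv_cancel, mul_one] at this
  exact this.symm

theorem PP_le_W0 (t : Fˣ) : PP F W t ≤ W0 F W := by
  rintro _ ⟨b, hb, rfl⟩
  exact ww_smul_mem_W0 hb.1 t

theorem quad_of_U1 (h : Hyp F W) (hU : U1 F W ≠ ⊥) :
    ∀ (t : F) (v : W), xx t • v - v ∈ W0 F W := by
  have hinf := h.inf_eq_bot
  -- N = P 1 ⊔ U1 is invariant
  have hN : PP F W 1 ⊔ U1 F W = ⊤ := by
    rcases h.irr (PP F W 1 ⊔ U1 F W) (by
      apply invariant_of_gens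
      · intro t v hv
        rw [AddSubgroup.mem_sup] at hv ⊢
        obtain ⟨q, hq, b, hb, rfl⟩ := hv
        by_cases ht : t = 0
        · rw [ht, xx_zero, one_smul]; exact ⟨q, hq, b, hb, rfl⟩
        · have e1 : xx t • q = q := PP_le_W0 1 hq t
          have e2 := ww_smul_eq hinf hb.1 (Units.mk0 t ht) (hb.2 _)
          simp only [Units.val_mk0] at e2
          have e3 : ww (Units.mk0 t ht) • b ∈ PP F W 1 := by
            rw [← PP_const (Units.mk0 t ht)]
            exact ⟨b, hb, rfl⟩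
          refine ⟨q + ww (Units.mk0 t ht) • b, AddSubgroup.add_mem _ hq e3, b, hb, ?_⟩
          rw [smul_add, e1, e2]
          abel
      · intro v hv
        rw [AddSubgroup.mem_sup] at hv ⊢
        obtain ⟨q, hq, b, hb, rfl⟩ := hv
        obtain ⟨b₁, hb₁, rfl⟩ := hq
        refine ⟨ww 1 • b, ⟨b, hb, act_apply _ _⟩, hh (-1) • b₁, hh_smul_mem_U1 hb₁ _, ?_⟩
        rw [smul_add, act_apply, ← mul_smul, ww_one_mul_ww_one]
        abel) with h1 | h1
    · exfalso
      apply hU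
      rw [eq_bot_iff, ← h1]
      exact le_sup_right
    · exact h1
  intro t v
  have hv : v ∈ PP F W 1 ⊔ U1 F W := by rw [hN]; trivial
  rw [AddSubgroup.mem_sup] at hv
  obtain ⟨q, hq, b, hb, rfl⟩ := hv
  have e1 : xx t • q = q := PP_le_W0 1 hq t
  have : xx t • (q + b) - (q + b) = xx t • b - b := by rw [smul_add, e1]; abel
  rw [this]
  exact hb.2 t


/-- `W0` and `W1` have the same size. -/
def W0equivW1 (F : Type*) [Field F] (W : Type*) [AddCommGroup W] [DistribMulAction (SL F) W] :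
    ↥(W0 F W) ≃ ↥(W1 F W) where
  toFun a := ⟨ww (1 : Fˣ) • (a : W), ww_smul_mem_W1 a.2 1⟩
  invFun b := ⟨ww (-1 : Fˣ) • (b : W), ww_smul_mem_W0 b.2 _⟩
  left_inv a := by
    apply Subtype.ext
    show ww (-1 : Fˣ) • ww (1 : Fˣ) • (a : W) = a
    rw [← mul_smul, ww_neg_one_mul_ww_one, one_smul]
  right_inv b := by
    apply Subtype.ext
    show ww (1 : Fˣ) • ww (-1 : Fˣ) • (b : W) = b
    rw [← mul_smul, ww_one_mul_ww_neg_one, one_smul]

theorem exists_decomp [Finite W] (hinf : W0 F W ⊓ W1 F W = ⊥)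
    (hcard : Nat.card W ≤ Nat.card ↥(W0 F W) ^ 2) (v : W) :
    ∃ a ∈ W0 F W, ∃ b ∈ W1 F W, v = a + b := by
  let f : ↥(W0 F W) × ↥(W1 F W) → W := fun x => (x.1 : W) + (x.2 : W)
  have hf : Function.Injective f := by
    rintro ⟨a, b⟩ ⟨a', b'⟩ hab
    have hab' : (a : W) + (b : W) = (a' : W) + (b' : W) := hab
    have h1 : (a : W) - a' ∈ W0 F W ⊓ W1 F W := by
      rw [AddSubgroup.mem_inf]
      refine ⟨AddSubgroup.sub_mem _ a.2 a'.2, ?_⟩
      have : (a : W) - a' = (b' : W) - b := by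
        rw [sub_eq_sub_iff_add_eq_add, hab', add_comm]
      rw [this]
      exact AddSubgroup.sub_mem _ b'.2 b.2
    rw [hinf, AddSubgroup.mem_bot, sub_eq_zero] at h1
    have h2 : (b : W) = b' := by
      rw [h1] at hab'
      exact add_left_cancel hab'
    exact Prod.ext (Subtype.ext h1) (Subtype.ext h2)
  have hle : Nat.card W ≤ Nat.card (↥(W0 F W) × ↥(W1 F W)) := by
    rw [Nat.card_prod, ← Nat.card_congr (W0equivW1 F W), ← pow_two]
    exact hcard
  obtain ⟨⟨a, b⟩, hab⟩ := (hf.bijective_of_nat_card_le hle).2 v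
  exact ⟨a, a.2, b, b.2, hab.symm⟩

/-- The action of the unitriangular group on `W ⧸ W0`. -/
@[instance_reducible] def quotAct (F : Type*) [Field F] (W : Type*) [AddCommGroup W] [DistribMulAction (SL F) W] :
    MulAction ↥(stabVec (![1, 0] : Fin 2 → F)) (W ⧸ W0 F W) where
  smul g := QuotientAddGroup.map (W0 F W) (W0 F W) (act (g : SL F)) (by
    intro a ha
    obtain ⟨t, ht⟩ := mem_stabVec_e1 g.2
    show act (g : SL F) a ∈ W0 F W
    rw [act_apply, ht, ha t]
    exact ha)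
  one_smul := by
    intro q
    induction q using QuotientAddGroup.induction_on with
    | H v =>
      show QuotientAddGroup.map (W0 F W) (W0 F W) _ _ (v : W ⧸ W0 F W) = _
      rw [QuotientAddGroup.map_mk, act_apply]
      simp
  mul_smul := by
    intro g g' q
    induction q using QuotientAddGroup.induction_on with
    | H v =>
      show QuotientAddGroup.map (W0 F W) (W0 F W) _ _ (v : W ⧸ W0 F W) =
        QuotientAddGroup.map (W0 F W) (W0 F W) _ _
          (QuotientAddGroup.map (W0 F W) (W0 F W) _ _ (v : W ⧸ W0 F W))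
      rw [QuotientAddGroup.map_mk, QuotientAddGroup.map_mk, QuotientAddGroup.map_mk, act_apply,
        act_apply, act_apply]
      simp [mul_smul]

theorem quotAct_mk (g : ↥(stabVec (![1, 0] : Fin 2 → F))) (v : W) :
    (quotAct F W).smul g (v : W ⧸ W0 F W) = (((g : SL F) • v : W) : W ⧸ W0 F W) := rfl

theorem exists_second_fixed [Fintype F] [Finite W] {p n m : ℕ} [hp : Fact p.Prime]
    (hF : Fintype.card F = p ^ n) (hW : Nat.card W = p ^ m) (hne : W0 F W ≠ ⊤) :
    ∃ v : W, v ∉ W0 F W ∧ ∀ t : F, xx t • v - v ∈ W0 F W := by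
  let _ := quotAct F W
  have hU : IsPGroup p (stabVec (![1, 0] : Fin 2 → F)) := stabVec_isPGroup hF e1_ne_zero
  have hcard : p ∣ Nat.card (W ⧸ W0 F W) := by
    have hidx : Nat.card (W ⧸ W0 F W) = (W0 F W).index := rfl
    have hdvd : (W0 F W).index ∣ p ^ m := by
      rw [← hW]; exact AddSubgroup.index_dvd_card _
    obtain ⟨k, hk, hk2⟩ := (Nat.dvd_prime_pow hp.out).mp hdvd
    rw [hidx, hk2]
    have : k ≠ 0 := by
      rintro rfl
      rw [pow_zero] at hk2
      exact hne (AddSubgroup.index_eq_one.mp hk2)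
    exact dvd_pow_self p this
  have h0 : ((0 : W) : W ⧸ W0 F W) ∈
      MulAction.fixedPoints ↥(stabVec (![1, 0] : Fin 2 → F)) (W ⧸ W0 F W) := by
    intro g
    show (quotAct F W).smul g ((0 : W) : W ⧸ W0 F W) = _
    rw [quotAct_mk, smul_zero]
  obtain ⟨q, hq, hq0⟩ :=
    hU.exists_fixed_point_of_prime_dvd_card_of_fixed_point (W ⧸ W0 F W) hcard h0
  induction q using QuotientAddGroup.induction_on with
  | H v =>
    refine ⟨v, ?_, ?_⟩
    · intro hv
      apply hq0
      rw [eq_comm, QuotientAddGroup.mk_zero, QuotientAddGroup.eq_zero_iff]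
      exact hv
    · intro t
      have := hq ⟨xx t, xx_mem_stabVec t⟩
      have h1 : (((xx t • v : W)) : W ⧸ W0 F W) = (v : W ⧸ W0 F W) := this
      rw [QuotientAddGroup.eq] at h1
      have h2 : xx t • v - v = -(-(xx t • v) + v) := by abel
      rw [h2]
      exact AddSubgroup.neg_mem _ h1

/-- The counting hypothesis implies the quadratic one. -/
theorem quad_of_card [Fintype F] [Finite W] {p n m : ℕ} [hp : Fact p.Prime]
    (hF : Fintype.card F = p ^ n) (hW : Nat.card W = p ^ m) (h : Hyp F W)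
    (hcard : Nat.card W ≤ Nat.card ↥(W0 F W) ^ 2) :
    ∀ (t : F) (v : W), xx t • v - v ∈ W0 F W := by
  have hinf := h.inf_eq_bot
  apply quad_of_U1 h
  -- W0 ≠ ⊤
  have hne : W0 F W ≠ ⊤ := by
    intro htop
    obtain ⟨a, ha, ha0⟩ := exists_W0_ne_zero hF hW h
    -- then W1 = W too, contradiction with inf = ⊥
    have h1 : a ∈ W1 F W := by
      have : ww (-1 : Fˣ) • a ∈ W0 F W := by rw [htop]; trivial
      have h2 := ww_smul_mem_W1 this 1
      rwa [← mul_smul, ww_one_mul_ww_neg_one, one_smul] at h2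
    have : a ∈ W0 F W ⊓ W1 F W := ⟨ha, h1⟩
    rw [hinf, AddSubgroup.mem_bot] at this
    exact ha0 this
  obtain ⟨v, hv, hv2⟩ := exists_second_fixed hF hW hne
  obtain ⟨a, ha, b, hb, rfl⟩ := exists_decomp hinf hcard v
  intro hU
  have hbU : b ∈ U1 F W := by
    refine ⟨hb, fun t => ?_⟩
    have := hv2 t
    rw [smul_add, ha t] at this
    have e : a + xx t • b - (a + b) = xx t • b - b := by abel
    rwa [e] at this
  rw [hU, AddSubgroup.mem_bot] at hbU
  apply hv
  rw [hbU, add_zero]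
  exact ha

/-- Main recognition theorem. -/
theorem natural_of_quad_or_card [Fintype F] [Finite W] {p n m : ℕ} [hp : Fact p.Prime]
    (hF : Fintype.card F = p ^ n) (hW : Nat.card W = p ^ m) (h : Hyp F W)
    (hyp : (∀ (t : F) (v : W), xx t • v - v ∈ W0 F W) ∨
      Nat.card W ≤ Nat.card ↥(W0 F W) ^ 2) :
    ∃ Φ : (Fin 2 → F) ≃+ W, ∀ (M : SL F) (v : Fin 2 → F), Φ (mv M v) = M • Φ v := by
  rcases hyp with Q | hc
  · exact natural_of_quad hF hW h Q
  · exact natural_of_quad hF hW h (quad_of_card hF hW h hc)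

end Action

end Cfsg.Agent.Lib.Helper46.NatRecog
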