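import Mathlib
import Cfsg.Prelude.Def_BaumannBlocks
import Cfsg.Prelude.Def_Transfer
import Cfsg.Agent.Lib.Helper46.NatRecog

/-! Transport of the natural-module recognition theorem to the setting of subgroups `G`, `V` of
an ambient group with `G` acting on `V` by conjugation. -/

set_option autoImplicit false

namespace Cfsg.Agent.Lib.Helper46.NatRecog

open Cfsg.Agent.Lib.Helper46.SL2
open scoped IsMulCommutative
open scoped commutatorElement

section Transport

variable {X : Type*} [Group X] {F : Type*} [Field F]
variable (G V : Subgroup X) [IsMulCommutative ↥V]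
  (hGV : G ≤ Subgroup.normalizer (V : Set X)) (e : ↥G ≃* SL F)

/-- conjugation of an element of `V` by an element of `G` -/
def conjV (g : ↥G) (v : ↥V) : ↥V :=
  ⟨(g : X) * v * (g : X)⁻¹, ((Subgroup.mem_normalizer_iff.mp (hGV g.2)) v).mp v.2⟩

theorem conjV_coe (g : ↥G) (v : ↥V) : ((conjV G V hGV g v : ↥V) : X) = (g : X) * v * (g : X)⁻¹ := rfl

/-- the conjugation action, transported to `SL₂(F)` acting on `Additive V` -/
@[reducible] def dma : DistribMulAction (SL F) (Additive ↥V) where
  smul M v := Additive.ofMul (conjV G V hGV (e.symm M) (Additive.toMul v))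
  one_smul v := by
    show Additive.ofMul (conjV G V hGV (e.symm 1) (Additive.toMul v)) = v
    apply Additive.toMul.injective
    apply Subtype.ext
    simp [conjV_coe]
  mul_smul A B v := by
    show Additive.ofMul (conjV G V hGV (e.symm (A * B)) (Additive.toMul v)) =
      Additive.ofMul (conjV G V hGV (e.symm A)
        (Additive.toMul (Additive.ofMul (conjV G V hGV (e.symm B) (Additive.toMul v)))))
    apply Additive.toMul.injective
    apply Subtype.ext
    simp [conjV_coe, mul_assoc]
  smul_zero M := by
    show Additive.ofMul (conjV G V hGV (e.symm M) (Additive.toMul 0)) = 0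
    apply Additive.toMul.injective
    apply Subtype.ext
    simp [conjV_coe]
  smul_add M v w := by
    show Additive.ofMul (conjV G V hGV (e.symm M) (Additive.toMul (v + w))) =
      Additive.ofMul (conjV G V hGV (e.symm M) (Additive.toMul v)) +
        Additive.ofMul (conjV G V hGV (e.symm M) (Additive.toMul w))
    apply Additive.toMul.injective
    apply Subtype.ext
    simp [conjV_coe, mul_assoc]

theorem dma_smul_coe (M : SL F) (v : Additive ↥V) :
    ((Additive.toMul ((dma G V hGV e).smul M v) : ↥V) : X) =
      ((e.symm M : ↥G) : X) * ((Additive.toMul v : ↥V) : X) * ((e.symm M : ↥G) : X)⁻¹ := rfl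


end Transport

/-- Recognition of the natural module for subgroups acting by conjugation. -/
theorem actsAsSL2_of_irreducible {X : Type*} [Group X] [Finite X] {p : ℕ} [Fact p.Prime]
    (G V : Subgroup X) (hV : Cfsg.IsElementaryAbelian p V)
    (hGV : G ≤ Subgroup.normalizer (V : Set X))
    (F : Type*) [Field F] [Fintype F] (n : ℕ) (hF : Fintype.card F = p ^ n)
    (hG : Nonempty (↥G ≃* Matrix.SpecialLinearGroup (Fin 2) F))
    (hirr : ∀ U : Subgroup X, U ≤ V → G ≤ Subgroup.normalizer (U : Set X) → U = ⊥ ∨ U = V)
    (hnt : ⁅V, G⁆ ≠ ⊥) (S : Sylow p ↥G)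
    (hyp : ⁅⁅V, (S : Subgroup ↥G).map G.subtype⁆, (S : Subgroup ↥G).map G.subtype⁆ = ⊥ ∨
      Nat.card ↥V ≤ Nat.card ↥(V ⊓ Subgroup.centralizer
        (((S : Subgroup ↥G).map G.subtype : Subgroup X) : Set X)) ^ 2) :
    Cfsg.ActsAsSL2OnSection F ⊤ G V ⊥ := by
  classical
  obtain ⟨e₀⟩ := hG
  -- normalise the isomorphism so that `S` goes to the upper unitriangular group
  have hsurj : Function.Surjective (e₀.toMonoidHom) := e₀.surjective
  obtain ⟨v₀, hv₀, hSv⟩ := sylow_eq_stabVec hF (S.mapSurjective hsurj)
  obtain ⟨M₀, hM₀⟩ := exists_mv_eq hv₀ (e1_ne_zero (F := F))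
  let e : ↥G ≃* SL F := e₀.trans (MulAut.conj M₀)
  have he : ∀ g : ↥G, e g = M₀ * e₀ g * M₀⁻¹ := fun g => rfl
  have hS : ∀ g : ↥G, g ∈ (S : Subgroup ↥G) ↔ e g ∈ stabVec (![1, 0] : Fin 2 → F) := by
    intro g
    rw [he, ← hM₀, conj_mem_stabVec, ← hSv, Sylow.coe_mapSurjective]
    constructor
    · intro hg
      exact ⟨g, hg, rfl⟩
    · rintro ⟨g', hg', hgg⟩
      have : g' = g := e₀.injective hgg
      rwa [← this]
  haveI : IsMulCommutative ↥V := hV.1
  letI := dma G V hGV e
  set SX : Subgroup X := (S : Subgroup ↥G).map G.subtype with hSX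
  -- elements `e.symm (xx t)` lie in `S`
  have hxS : ∀ t : F, ((e.symm (xx t) : ↥G) : X) ∈ SX := by
    intro t
    refine ⟨e.symm (xx t), ?_, rfl⟩
    rw [SetLike.mem_coe, hS, MulEquiv.apply_symm_apply]
    exact xx_mem_stabVec t
  have hsmul : ∀ (M : SL F) (w : Additive ↥V), ((Additive.toMul (M • w) : ↥V) : X) =
      ((e.symm M : ↥G) : X) * ((Additive.toMul w : ↥V) : X) * ((e.symm M : ↥G) : X)⁻¹ :=
    fun M w => rfl
  -- the hypotheses
  have hHyp : Hyp F (Additive ↥V) := by
    constructor
    · intro N hN
      let U : Subgroup X := (AddSubgroup.toSubgroup' N).map V.subtype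
      have hUV : U ≤ V := by
        rintro _ ⟨v, _, rfl⟩
        exact v.2
      have hmemU : ∀ x : X, x ∈ U ↔ ∃ v : ↥V, Additive.ofMul v ∈ N ∧ (v : X) = x := by
        intro x
        constructor
        · rintro ⟨v, hv, rfl⟩
          exact ⟨v, hv, rfl⟩
        · rintro ⟨v, hv, rfl⟩
          exact ⟨v, hv, rfl⟩
      have hUn : G ≤ Subgroup.normalizer (U : Set X) := by
        intro g hg
        rw [Subgroup.mem_normalizer_iff]
        intro x
        rw [hmemU, hmemU]
        constructor
        · rintro ⟨v, hv, rfl⟩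
          refine ⟨Additive.toMul (e ⟨g, hg⟩ • Additive.ofMul v), hN _ _ hv, ?_⟩
          rw [hsmul]
          simp
        · rintro ⟨v, hv, hvx⟩
          refine ⟨Additive.toMul (e ⟨g, hg⟩⁻¹ • Additive.ofMul v), hN _ _ hv, ?_⟩
          rw [hsmul]
          simp only [toMul_ofMul, map_inv, MulEquiv.symm_apply_apply, Subgroup.coe_inv, inv_inv]
          rw [hvx]
          group
      rcases hirr U hUV hUn with h1 | h1
      · left
        rw [eq_bot_iff]
        intro w hw
        have : ((Additive.toMul w : ↥V) : X) ∈ U := (hmemU _).mpr ⟨Additive.toMul w, hw, rfl⟩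
        rw [h1, Subgroup.mem_bot] at this
        rw [AddSubgroup.mem_bot]
        apply Additive.toMul.injective
        apply Subtype.ext
        exact this
      · right
        rw [eq_top_iff]
        intro w _
        have : ((Additive.toMul w : ↥V) : X) ∈ U := by rw [h1]; exact (Additive.toMul w).2
        obtain ⟨v, hv, hvw⟩ := (hmemU _).mp this
        have : v = Additive.toMul w := Subtype.ext hvw
        rw [this] at hv
        exact hv
    · by_contra hcon
      push Not at hcon
      apply hnt
      rw [Subgroup.commutator_eq_bot_iff_le_centralizer]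
      intro v hv
      rw [Subgroup.mem_centralizer_iff]
      intro g hg
      have := hcon (e ⟨g, hg⟩) (Additive.ofMul ⟨v, hv⟩)
      have h2 := congrArg (fun w => ((Additive.toMul w : ↥V) : X)) this
      simp only [hsmul, MulEquiv.symm_apply_apply, toMul_ofMul] at h2
      calc g * v = g * v * g⁻¹ * g := by group
        _ = v * g := by rw [h2]
  have hVp : IsPGroup p ↥V := by
    intro v
    refine ⟨1, ?_⟩
    rw [pow_one]
    apply Subtype.ext
    rw [Subgroup.coe_pow, Subgroup.coe_one]
    exact hV.2 v v.2
  obtain ⟨m, hm⟩ := hVp.exists_card_eq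
  have hW : Nat.card (Additive ↥V) = p ^ m := hm
  have hyp' : (∀ (t : F) (w : Additive ↥V), xx t • w - w ∈ W0 F (Additive ↥V)) ∨
      Nat.card (Additive ↥V) ≤ Nat.card ↥(W0 F (Additive ↥V)) ^ 2 := by
    rcases hyp with hq | hc
    · left
      intro t w s
      -- c = [g, v]
      set c : Additive ↥V := xx t • w - w with hc
      have hcX : ((Additive.toMul c : ↥V) : X) =
          ⁅((e.symm (xx t) : ↥G) : X), ((Additive.toMul w : ↥V) : X)⁆ := by
        rw [hc, commutatorElement_def]
        rw [toMul_sub, Subgroup.coe_div, div_eq_mul_inv, hsmul]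
      have hcm : ((Additive.toMul c : ↥V) : X) ∈ ⁅V, SX⁆ := by
        rw [hcX, Subgroup.commutator_comm]
        exact Subgroup.commutator_mem_commutator (hxS t) (Additive.toMul w).2
      have h2 : ⁅((Additive.toMul c : ↥V) : X), ((e.symm (xx s) : ↥G) : X)⁆ ∈
          ⁅⁅V, SX⁆, SX⁆ := Subgroup.commutator_mem_commutator hcm (hxS s)
      rw [hq, Subgroup.mem_bot, commutatorElement_def] at h2
      apply Additive.toMul.injective
      apply Subtype.ext
      rw [hsmul]
      set a := ((Additive.toMul c : ↥V) : X)
      set b := ((e.symm (xx s) : ↥G) : X)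
      have : a * b = b * a := by
        calc a * b = a * b * a⁻¹ * b⁻¹ * b * a := by group
          _ = b * a := by rw [h2]; group
      calc b * a * b⁻¹ = a * b * b⁻¹ := by rw [this]
        _ = a := by group
    · right
      let f : ↥(V ⊓ Subgroup.centralizer (SX : Set X)) → ↥(W0 F (Additive ↥V)) := fun u =>
        ⟨Additive.ofMul ⟨(u : X), u.2.1⟩, by
          intro t
          apply Additive.toMul.injective
          apply Subtype.ext
          rw [hsmul]
          have := (Subgroup.mem_centralizer_iff.mp u.2.2) _ (hxS t)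
          simp only [toMul_ofMul]
          rw [this]
          group⟩
      have hf : Function.Injective f := by
        intro u u' huu
        have := congrArg (fun z : ↥(W0 F (Additive ↥V)) => ((Additive.toMul (z : Additive ↥V) : ↥V) : X)) huu
        exact Subtype.ext this
      have h1 := Nat.card_le_card_of_injective f hf
      calc Nat.card (Additive ↥V) = Nat.card ↥V := rfl
        _ ≤ _ := hc
        _ ≤ _ := Nat.pow_le_pow_left h1 2
  obtain ⟨Φ, hΦ⟩ := natural_of_quad_or_card hF hW hHyp hyp'
  have hΦs : ∀ (M : SL F) (y : Additive ↥V), Φ.symm (M • y) = mv M (Φ.symm y) := by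
    intro M y
    apply Φ.injective
    rw [hΦ, AddEquiv.apply_symm_apply, AddEquiv.apply_symm_apply]
  refine ⟨hGV, bot_le, e.toMonoidHom, ?_, ?_, ?_, ?_, ?_⟩
  · exact
      { toFun := fun u => Multiplicative.ofAdd (Φ.symm (Additive.ofMul u))
        map_one' := by simp
        map_mul' := by
          intro u u'
          rw [ofMul_mul, map_add, ofAdd_add] }
  · exact MonoidHom.range_eq_top.mpr e.surjective
  · intro y
    refine ⟨Additive.toMul (Φ (Multiplicative.toAdd y)), ?_⟩
    simp
  · intro u
    simp only [MonoidHom.coe_mk, OneHom.coe_mk, Subgroup.mem_bot]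
    rw [← ofAdd_zero, Multiplicative.ofAdd.injective.eq_iff, map_eq_zero_iff _ Φ.symm.injective]
    constructor
    · intro h
      have : u = 1 := Additive.ofMul.injective h
      rw [this]; rfl
    · intro h
      have : u = 1 := Subtype.ext h
      rw [this]; rfl
  · intro g u
    refine ⟨conjV G V hGV g u, rfl, ?_⟩
    simp only [MonoidHom.coe_mk, OneHom.coe_mk, toAdd_ofAdd]
    have h1 : Additive.ofMul (conjV G V hGV g u) = (e g) • Additive.ofMul u := by
      apply Additive.toMul.injective
      apply Subtype.ext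
      rw [hsmul]
      simp [conjV_coe]
    rw [h1, hΦs]
    rfl

end Cfsg.Agent.Lib.Helper46.NatRecog
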