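import Mathlib
import Cfsg.Agent.Lib.Helper46.OmDefs
import Cfsg.Agent.Lib.Helper33.OmDISC
import Cfsg.Agent.Lib.Helper24.OmUE1
import Cfsg.Agent.Lib.Helper31.OnOSUM

/-! # Om hive (S5991): OM-PE2 `forced_class` (helper46) -/

set_option autoImplicit false
set_option linter.unusedVariables false
set_option linter.unusedSectionVars false

namespace Cfsg.Agent.Lib.Helper46.Om

open Module
open Cfsg.Agent.Lib.Helper2.BG Cfsg.Agent.Lib.Helper99 Cfsg.Agent.Lib.Helper48.Ti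
open Cfsg.Agent.Lib.Helper5.Hy (Plus Orth Fix)
open Cfsg.Agent.Lib.Helper81.On (SameType Fixes)

section abstract

variable {F V : Type*} [Field F] [Fintype F] [AddCommGroup V] [Module F V] [FiniteDimensional F V]
variable {B : V →ₗ[F] V →ₗ[F] F}

/-- two forced discriminants lie in the same class -/
theorem pe2_sq_of_forced {ε ε' δ s : F} (hδ : δ ≠ 0) (hs : s ≠ 0)
    (h : IsSquare (ε * δ * s)) (h' : IsSquare (ε' * δ * s)) : IsSquare (ε * ε') := by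
  obtain ⟨x, hx⟩ := h
  obtain ⟨y, hy⟩ := h'
  refine ⟨x * y / (δ * s), ?_⟩
  have hne : δ * s ≠ 0 := mul_ne_zero hδ hs
  field_simp
  have : ε * ε' * δ ^ 2 * s ^ 2 = (ε * δ * s) * (ε' * δ * s) := by ring
  rw [this, hx, hy]
  ring

/-- the case `dim ≡ 1 (mod 4)` -/
theorem pe2_case_one (h2 : (2 : F) ≠ 0) (hs : ∀ u v, B u v = B v u)
    {f : Module.End F V} (hf : Isom B f)
    (δ : F) (hδ0 : δ ≠ 0) (hδ : ∀ w ∈ Fix f, B w w ≠ 0 → IsSquare (B w w * δ))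
    (hJ : ∀ W : Submodule F V, Inv f W → Nd B W → finrank F W % 4 = 1 →
      (∀ w ∈ W, (f - 1) ((f - 1) w) = 0) ∧ 2 * finrank F ↥(W ⊓ Fix f) = finrank F W + 1)
    {W₁ W₂ : Submodule F V} (h₁i : Inv f W₁) (h₁ : Nd B W₁) (h₂i : Inv f W₂) (h₂ : Nd B W₂)
    (hdim : finrank F W₁ = finrank F W₂) (h4 : finrank F W₁ % 4 = 1)
    {ε₁ ε₂ : F} (hε₁ : Disc B W₁ ε₁) (hε₂ : Disc B W₂ ε₂) : IsSquare (ε₁ * ε₂) := by
  obtain ⟨hsq₁, hk₁⟩ := hJ W₁ h₁i h₁ h4
  obtain ⟨hsq₂, hk₂⟩ := hJ W₂ h₂i h₂ (by rw [← hdim]; exact h4)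
  have e₁ := unip_forced_disc h2 hs hf h₁i h₁ hsq₁ hk₁ δ hδ hε₁
  have e₂ := unip_forced_disc h2 hs hf h₂i h₂ hsq₂ hk₂ δ hδ hε₂
  rw [← hdim] at e₂
  exact pe2_sq_of_forced hδ0 (pow_ne_zero _ (by simp)) e₁ e₂

/-- the orthogonal complement of an invariant nondegenerate subspace -/
theorem pe2_perp (hs : ∀ u v, B u v = B v u) (hV : Nd B ⊤) {f : Module.End F V} (hf : Isom B f)
    {W : Submodule F V} (hWi : Inv f W) (hW : Nd B W) :
    ∃ P : Submodule F V, Inv f P ∧ Nd B P ∧ Orth B W P ∧ W ⊓ P = ⊥ ∧ W ⊔ P = ⊤ ∧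
      finrank F W + finrank F P = finrank F V := by
  obtain ⟨P, -, hPnd, horth, hdisj, hsup⟩ :=
    Cfsg.Agent.Lib.Helper81.On.nd_perp_in hs hV hW le_top
  have hinf : W ⊓ P = ⊥ := disjoint_iff.1 hdisj
  have hdim : finrank F W + finrank F P = finrank F V := by
    have h1 := Submodule.finrank_sup_add_finrank_inf_eq W P
    rw [hsup, hinf, finrank_bot, add_zero, finrank_top] at h1
    exact h1.symm
  -- characterisation of `P`
  have hchar : ∀ v, (∀ u ∈ W, B u v = 0) → v ∈ P := by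
    intro v hv
    have hvtop : v ∈ W ⊔ P := by rw [hsup]; exact Submodule.mem_top
    obtain ⟨w, hw, y, hy, rfl⟩ := Submodule.mem_sup.1 hvtop
    have hw0 : w = 0 := by
      apply hW w hw
      intro u hu
      have h1 := hv u hu
      rw [map_add, horth u hu y hy, add_zero] at h1
      rw [hs]; exact h1
    rw [hw0, zero_add]; exact hy
  -- `f` is surjective on `W`
  have hWi' : ∀ v ∈ W, f v ∈ W := hWi
  have hinj : Function.Injective (f.restrict hWi') := by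
    rw [← LinearMap.ker_eq_bot, LinearMap.ker_eq_bot']
    intro u hu
    apply Subtype.ext
    apply hW u u.2
    intro v hv
    have h1 : f (u : V) = 0 := by
      have := congrArg Subtype.val hu
      rwa [LinearMap.coe_restrict_apply] at this
    have := hf (u : V) v
    rw [h1] at this
    simp only [map_zero, LinearMap.zero_apply] at this
    exact this.symm
  have hsurj : Function.Surjective (f.restrict hWi') :=
    LinearMap.surjective_of_injective hinj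
  refine ⟨P, ?_, hPnd, horth, hinf, hsup, hdim⟩
  intro v hv
  apply hchar
  intro u hu
  obtain ⟨u', hu'⟩ := hsurj ⟨u, hu⟩
  have hu'' : f (u' : V) = u := by
    have := congrArg Subtype.val hu'
    rwa [LinearMap.coe_restrict_apply] at this
  rw [← hu'', hf]
  exact horth u' u'.2 v hv

/-- OM-PE2 -/
theorem forced_class (h2 : (2 : F) ≠ 0) (hs : ∀ u v, B u v = B v u) (hV : Nd B ⊤)
    (hn : finrank F V % 4 = 0) {f : Module.End F V} (hf : Isom B f)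
    (δ : F) (hδ0 : δ ≠ 0) (hδ : ∀ w ∈ Fix f, B w w ≠ 0 → IsSquare (B w w * δ))
    (hJ : ∀ W : Submodule F V, Inv f W → Nd B W → finrank F W % 4 = 1 →
      (∀ w ∈ W, (f - 1) ((f - 1) w) = 0) ∧ 2 * finrank F ↥(W ⊓ Fix f) = finrank F W + 1)
    {W₁ W₂ : Submodule F V} (h₁i : Inv f W₁) (h₁ : Nd B W₁) (h₂i : Inv f W₂) (h₂ : Nd B W₂)
    (hdim : finrank F W₁ = finrank F W₂) (hodd : Odd (finrank F W₁)) : SameType B W₁ W₂ := by
  obtain ⟨ε₁, hε₁⟩ := disc_exists (B := B) W₁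
  obtain ⟨ε₂, hε₂⟩ := disc_exists (B := B) W₂
  apply sameType_of_disc h2 hs h₁ h₂ hdim hε₁ hε₂
  have hm4 : finrank F W₁ % 4 = 1 ∨ finrank F W₁ % 4 = 3 := by
    obtain ⟨t, ht⟩ := hodd
    omega
  rcases hm4 with h4 | h4
  · exact pe2_case_one h2 hs hf δ hδ0 hδ hJ h₁i h₁ h₂i h₂ hdim h4 hε₁ hε₂
  · obtain ⟨P₁, hP₁i, hP₁, ho₁, hi₁, hs₁, hd₁⟩ := pe2_perp hs hV hf h₁i h₁
    obtain ⟨P₂, hP₂i, hP₂, ho₂, hi₂, hs₂, hd₂⟩ := pe2_perp hs hV hf h₂i h₂
    obtain ⟨η₁, hη₁⟩ := disc_exists (B := B) P₁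
    obtain ⟨η₂, hη₂⟩ := disc_exists (B := B) P₂
    have hPdim : finrank F P₁ = finrank F P₂ := by omega
    have hP4 : finrank F P₁ % 4 = 1 := by omega
    have hηsq : IsSquare (η₁ * η₂) :=
      pe2_case_one h2 hs hf δ hδ0 hδ hJ hP₁i hP₁ hP₂i hP₂ hPdim hP4 hη₁ hη₂
    have hT₁ : Disc B ⊤ (ε₁ * η₁) := by
      have := disc_sup hs ho₁ hi₁ hε₁ hη₁
      rwa [hs₁] at this
    have hT₂ : Disc B ⊤ (ε₂ * η₂) := by
      have := disc_sup hs ho₂ hi₂ hε₂ hη₂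
      rwa [hs₂] at this
    obtain ⟨s, hs0, hseq⟩ := disc_unique hT₁ hT₂
    obtain ⟨t, ht⟩ := hηsq
    have hη₂0 : η₂ ≠ 0 := disc_ne_zero hs hP₂ hη₂
    refine ⟨s * ε₁ * t / η₂, ?_⟩
    field_simp
    have : ε₁ * ε₂ * η₂ ^ 2 = ε₁ * η₂ * (ε₂ * η₂) := by ring
    rw [this, hseq]
    have h5 : ε₁ * η₂ * (s ^ 2 * (ε₁ * η₁)) = s ^ 2 * ε₁ ^ 2 * (η₁ * η₂) := by ring
    rw [h5, ht]
    ring

end abstract

end Cfsg.Agent.Lib.Helper46.Om
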