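import Mathlib
import Cfsg.Agent.Lib.Helper46.OmBR
import Cfsg.Agent.Lib.Helper46.OmUE3b
import Cfsg.Agent.Lib.Helper46.OmPE2
import Cfsg.Agent.Lib.Helper21.OmUE4
import Cfsg.Agent.Lib.Helper53.OmPE3
import Cfsg.Agent.Lib.Helper32.OmPE1
import Cfsg.Agent.Lib.Helper76.OnBASIC
import Cfsg.Agent.Lib.Helper8.SpBlkDec

/-! # Om hive (S5991): OM-PE4 = OM-P-EVEN `exists_bad_unipotent_even` (helper46): the case `r = p`, `d` even -/

set_option autoImplicit false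
set_option linter.unusedVariables false
set_option linter.unusedSectionVars false

namespace Cfsg.Agent.Lib.Helper46.Om

open Module
open Cfsg.Agent.Lib.Helper2.BG Cfsg.Agent.Lib.Helper99 Cfsg.Agent.Lib.Helper48.Ti
open Cfsg.Agent.Lib.Helper5.Hy (Plus Orth Fix)
open Cfsg.Agent.Lib.Helper81.On (SameType Fixes)
open Cfsg.Agent.Lib.Helper8.SpBlk (blk)

variable {F : Type*} [Field F] [Fintype F] {p : ℕ} [Fact p.Prime] [CharP F p]

local notation "MatM" k => Matrix ((Fin k ⊕ Fin k) ⊕ Fin 2) ((Fin k ⊕ Fin k) ⊕ Fin 2) F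

/-- OM-PE4 -/
theorem exists_bad_unipotent_even (h2 : (2 : F) ≠ 0) (k m : ℕ) (hk : 3 ≤ k) (hko : Odd k)
    (hm : Odd m) (a b : F)
    (hab : ∀ x y : F, x ^ 2 + a * x * y + b * y ^ 2 = 0 → x = 0 ∧ y = 0)
    (W₀ : Submodule F (VM k F)) (hW₀ : finrank F W₀ = m) (hW₀nd : Nd (minusB k a b) W₀) :
    ∃ x : Matrix.GeneralLinearGroup ((Fin k ⊕ Fin k) ⊕ Fin 2) F,
      x ∈ Cfsg.Geo.omegaGL (Cfsg.quadFormMinus k F a b) ∧
      ((x ^ p : Matrix.GeneralLinearGroup ((Fin k ⊕ Fin k) ⊕ Fin 2) F) : MatM k) = 1 ∧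
      (∀ z : F, (x : MatM k) ≠ z • (1 : MatM k)) ∧
      ¬ Fixes (minusB k a b) (Matrix.toLin' (x : MatM k)) W₀ := by
  classical
  obtain ⟨x, hxΩ, hxp, hns, hdim, hJ⟩ := pe_jordan (p := p) h2 k hk hko a b hab
  by_cases hfix : Fixes (minusB k a b) (Matrix.toLin' (x : MatM k)) W₀
  swap
  · exact ⟨x, hxΩ, hxp, hns, hfix⟩
  obtain ⟨W₁, hW₁nd, hW₁st, hW₁inv⟩ := hfix
  have hxiso := mem_isom_of_mem_omega k a b x hxΩ
  have hf := isom_of_mem h2 k a b x hxiso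
  have hsymm : ∀ u v : VM k F, minusB k a b u v = minusB k a b v u := minusB_symm h2 k a b
  obtain ⟨δ, hδ0, hδ⟩ := unip_rank_one_ne hsymm hf hdim
  obtain ⟨g, lam, hlam, hg⟩ := exists_similitude h2 k a b hab
  obtain ⟨hx'iso, hconj⟩ := pe_conj h2 k a b hab g lam hlam hg x hxiso
  have hp : p.Prime := Fact.out
  have hp2 : p ≠ 2 := by
    rintro rfl
    apply h2
    have := CharP.cast_eq_zero F 2
    exact_mod_cast this
  have hpodd : Odd p := hp.odd_of_ne_two hp2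
  -- `x' ^ p = 1`
  have hxp1 : x ^ p = 1 := by
    apply Units.ext
    rw [hxp]; rfl
  have hx'p : (g * x * g⁻¹) ^ p = 1 := by
    rw [conj_pow, hxp1, mul_one, mul_inv_cancel]
  have hx'p' : (((g * x * g⁻¹) ^ p : Matrix.GeneralLinearGroup ((Fin k ⊕ Fin k) ⊕ Fin 2) F) :
      MatM k) = 1 := by rw [hx'p]; rfl
  -- `x'` is not scalar
  have hns' : ∀ z : F, ((g * x * g⁻¹ : Matrix.GeneralLinearGroup ((Fin k ⊕ Fin k) ⊕ Fin 2) F) :
      MatM k) ≠ z • (1 : MatM k) := by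
    intro z hz
    apply hns z
    have h1 : (x : MatM k) = ((g⁻¹ * (g * x * g⁻¹) * g :
        Matrix.GeneralLinearGroup ((Fin k ⊕ Fin k) ⊕ Fin 2) F) : MatM k) := by
      congr 1
      group
    rw [h1, Units.val_mul, Units.val_mul, hz, Matrix.mul_smul, Matrix.mul_one, Matrix.smul_mul,
      ← Units.val_mul, inv_mul_cancel]
    rfl
  -- odd order
  have hx'Ω : g * x * g⁻¹ ∈ Cfsg.Geo.omegaGL (Cfsg.quadFormMinus k F a b) := by
    apply mem_omegaGL_of_odd_order h2 k a b hab _ hx'iso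
    have hdvd : orderOf (g * x * g⁻¹) ∣ p := orderOf_dvd_of_pow_eq_one hx'p
    rcases (Nat.dvd_prime hp).1 hdvd with h1 | h1
    · rw [h1]; exact odd_one
    · rw [h1]; exact hpodd
  refine ⟨g * x * g⁻¹, hx'Ω, hx'p', hns', ?_⟩
  intro hfix'
  obtain ⟨W, hWinv, hWnd, hWdim, hWnot⟩ := hconj W₀ (by rw [hW₀]; exact hm) hW₀nd hfix'
  apply hWnot
  have hn4 : finrank F (VM k F) % 4 = 0 := by
    rw [finrank_VM]
    obtain ⟨t, ht⟩ := hko
    omega
  have hst : SameType (minusB k a b) W W₁ :=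
    forced_class h2 hsymm (minusB_nd h2 k a b hab) hn4 hf δ hδ0 hδ
      (fun W' hi hn h4 => hJ W' hi hn h4) hWinv hWnd hW₁inv hW₁nd
      (by rw [hWdim, hW₁st.finrank_eq]) (by rw [hWdim, hW₀]; exact hm)
  exact hst.trans hW₁st

end Cfsg.Agent.Lib.Helper46.Om
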