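import Mathlib
import Cfsg.Agent.Lib.Helper46.OmBR
import Cfsg.Agent.Lib.Helper69.OnR2R
import Cfsg.Agent.Lib.Helper37.MinusType

/-! # Om hive (S5991): the spinor-norm criterion for `x² = -1` in `O⁻`, and OM-R2B (helper46) -/

set_option autoImplicit false
set_option linter.unusedVariables false
set_option linter.unusedSectionVars false

namespace Cfsg.Agent.Lib.Helper46.Om

open Polynomial Module
open Cfsg.Agent.Lib.Helper2.BG Cfsg.Agent.Lib.Helper99 Cfsg.Agent.Lib.Helper48.Ti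
open Cfsg.Agent.Lib.Helper37
open Matrix

variable {F : Type*} [Field F]

local notation "MatM" k => Matrix ((Fin k ⊕ Fin k) ⊕ Fin 2) ((Fin k ⊕ Fin k) ⊕ Fin 2) F

/-- the spinor-norm criterion for an isometry of `quadFormMinus k` squaring to `-1` -/
theorem r2_mem_iff [Fintype F] (h2 : (2 : F) ≠ 0) (k : ℕ) (a b : F)
    (hab : ∀ x y : F, x ^ 2 + a * x * y + b * y ^ 2 = 0 → x = 0 ∧ y = 0)
    (g : ↥(Cfsg.isometryGroup F (Cfsg.quadFormMinus k F a b)))
    (hgg : toMat (Cfsg.quadFormMinus k F a b) g * toMat (Cfsg.quadFormMinus k F a b) g = -1) :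
    IsSquare (gramM k F a b).det ∧
      (g ∈ Cfsg.Omega F (Cfsg.quadFormMinus k F a b) ↔ IsSquare ((2 : F) ^ (k + 1))) := by
  have hG := br_isGram h2 k a b
  obtain ⟨hdet, n, vs, t, hcard, hvs, hprod, hlen, ht, hQ⟩ :=
    Cfsg.Agent.Lib.Helper81.On.refl_of_sq_neg_one hG (gramM_det_ne_zero h2 k a b hab) g hgg
  refine ⟨hdet, ?_⟩
  have hn : n = k + 1 := by
    rw [minus_card_two_mul] at hcard
    omega
  subst hn
  rw [mem_omega_iff hG g vs hvs (by rw [← toMat_apply]; exact hprod), hlen, hQ]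
  constructor
  · rintro ⟨-, s, hs⟩
    refine ⟨s / t, ?_⟩
    field_simp
    rw [hs]
    ring
  · rintro ⟨s, hs⟩
    refine ⟨even_two_mul _, s * t, ?_⟩
    rw [hs]
    ring

/-- membership in `Ω⁻` of an isometry squaring to `-1` (for OM-R2A) -/
theorem r2_mem_of_isSquare [Fintype F] (h2 : (2 : F) ≠ 0) (k : ℕ) (a b : F)
    (hab : ∀ x y : F, x ^ 2 + a * x * y + b * y ^ 2 = 0 → x = 0 ∧ y = 0)
    (x : GL ((Fin k ⊕ Fin k) ⊕ Fin 2) F)
    (hx : x ∈ Cfsg.isometryGroup F (Cfsg.quadFormMinus k F a b))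
    (hxx : (x : MatM k) * (x : MatM k) = -1) (hsq : IsSquare ((2 : F) ^ (k + 1))) :
    x ∈ Cfsg.Geo.omegaGL (Cfsg.quadFormMinus k F a b) := by
  have hgg : toMat (Cfsg.quadFormMinus k F a b) ⟨x, hx⟩ *
      toMat (Cfsg.quadFormMinus k F a b) ⟨x, hx⟩ = -1 := hxx
  obtain ⟨-, h3⟩ := r2_mem_iff h2 k a b hab ⟨x, hx⟩ hgg
  exact ⟨⟨x, hx⟩, h3.2 hsq, rfl⟩

/-- OM-R2B: `d = k + 1` even or `q ≢ 7 (mod 8)`: no element of `Ω⁻` squares to `-1` -/
theorem sq_neg_one_not_mem [Fintype F] (h2 : (2 : F) ≠ 0) (k : ℕ) (a b : F)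
    (hab : ∀ x y : F, x ^ 2 + a * x * y + b * y ^ 2 = 0 → x = 0 ∧ y = 0)
    (hq : Odd k ∨ Fintype.card F % 8 ≠ 7) (x : GL ((Fin k ⊕ Fin k) ⊕ Fin 2) F)
    (hx : x ∈ Cfsg.Geo.omegaGL (Cfsg.quadFormMinus k F a b)) :
    (x : MatM k) * (x : MatM k) ≠ -1 := by
  intro hxx
  obtain ⟨g, hgΩ, rfl⟩ := hx
  have hgg : toMat (Cfsg.quadFormMinus k F a b) g * toMat (Cfsg.quadFormMinus k F a b) g = -1 :=
    hxx
  obtain ⟨h1, h3⟩ := r2_mem_iff h2 k a b hab g hgg
  have h4 := h3.1 hgΩ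
  have hodd : Odd (Fintype.card F) := Nat.odd_iff.2
    (FiniteField.odd_card_of_char_ne_two (F := F) (ringChar_ne_two_of_two_ne_zero h2))
  have h5 := (isSquare_gramM_det_iff hodd (k + 1) (by omega) a b hab).1
    (by simpa using h1)
  -- `q^(k+1) % 4 = 3` forces `k` even and `q % 4 = 3`
  rcases Nat.even_or_odd' k with ⟨j, rfl | rfl⟩
  · -- `k = 2 j`
    rw [pow_mod_four_odd _ j hodd] at h5
    have h6 : IsSquare (2 : F) := by
      obtain ⟨s, hs⟩ := h4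
      refine ⟨s / 2 ^ j, ?_⟩
      have h2j : (2 : F) ^ j ≠ 0 := pow_ne_zero _ h2
      field_simp
      rw [pow_two s, ← hs]
      ring
    rw [FiniteField.isSquare_two_iff] at h6
    rcases hq with hko | hq8
    · rcases hko with ⟨t, ht⟩
      omega
    · omega
  · -- `k = 2 j + 1`: `q^(2j+2) % 4 = 1`
    have : Fintype.card F ^ (2 * j + 1 + 1) % 4 = 1 := by
      have := pow_mod_four_even (Fintype.card F) (j + 1) hodd
      rwa [show 2 * (j + 1) = 2 * j + 1 + 1 by ring] at this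
    omega

end Cfsg.Agent.Lib.Helper46.Om
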