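import Mathlib
import Cfsg.Agent.Lib.Helper81.OnAsm
import Cfsg.Agent.Lib.Helper76.HyT2
import Cfsg.Agent.Lib.Helper46.OmBR
import Cfsg.Agent.Lib.Helper46.OmR2
import Cfsg.Agent.Lib.Helper13.OmNOTPLUS
import Cfsg.Agent.Lib.Helper37.OmR2A
import Cfsg.Agent.Lib.Helper13.OmE
import Cfsg.Agent.Lib.Helper42.OmPODD
import Cfsg.Agent.Lib.Helper46.OmPE4

/-! # S5991 hive "Om" (helper46): assembly of the leaves (clone of helper81's `OnAsm`) -/

set_option autoImplicit false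
set_option linter.unusedVariables false
set_option linter.unusedSectionVars false
set_option linter.style.haveILetI false

namespace Cfsg.Agent.Lib.Helper46.Om

open Polynomial Module
open Cfsg.Agent.Lib.Helper2.BG Cfsg.Agent.Lib.Helper99 Cfsg.Agent.Lib.Helper48.Ti
open Cfsg.Agent.Lib.Helper5.Hy (Plus Orth Fix)
open Cfsg.Agent.Lib.Helper81.On (SameType Fixes)
open Cfsg.Agent.Lib.Helper8.SpBlk (blk)

section asm

variable {F : Type*} [Field F]

local notation "MatM" k => Matrix ((Fin k ⊕ Fin k) ⊕ Fin 2) ((Fin k ⊕ Fin k) ⊕ Fin 2) F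

/-- the concrete fixed-subspace statement in the abstract language -/
theorem asm_fixes_iff (h2 : (2 : F) ≠ 0) (k m : ℕ) (a b : F) (W₀ : Submodule F (VM k F))
    (hW₀ : finrank F W₀ = m) (f : Module.End F (VM k F)) :
    (∃ W : Submodule F ((Fin k ⊕ Fin k) ⊕ Fin 2 → F), (finrank F ↥W = m ∧
        Cfsg.Geo.IsNondegenerateOn (QuadraticMap.polar (Cfsg.quadFormMinus k F a b)) W ∧
        Cfsg.Geo.AreIsometricFor (Cfsg.quadFormMinus k F a b) W W₀) ∧ W.map f ≤ W) ↔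
      Fixes (minusB k a b) f W₀ := by
  constructor
  · rintro ⟨W, ⟨-, hnd, hiso⟩, hinv⟩
    exact ⟨W, (nd_iff h2 k a b W).1 hnd, (iso_iff h2 k a b W W₀).1 hiso,
      (Cfsg.Agent.Lib.Helper81.On.asm_map_le_iff f W).1 hinv⟩
  · rintro ⟨W, hnd, hst, hinv⟩
    exact ⟨W, ⟨by rw [hst.finrank_eq, hW₀], (nd_iff h2 k a b W).2 hnd,
      (iso_iff h2 k a b W W₀).2 hst⟩, (Cfsg.Agent.Lib.Helper81.On.asm_map_le_iff f W).2 hinv⟩

/-- the two families have the same cardinality -/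
theorem asm_card_eq (h2 : (2 : F) ≠ 0) (k m : ℕ) (a b : F) (W₀ : Submodule F (VM k F))
    (hW₀ : finrank F W₀ = m) :
    Nat.card {W : Submodule F ((Fin k ⊕ Fin k) ⊕ Fin 2 → F) // finrank F ↥W = m ∧
        Cfsg.Geo.IsNondegenerateOn (QuadraticMap.polar (Cfsg.quadFormMinus k F a b)) W ∧
        Cfsg.Geo.AreIsometricFor (Cfsg.quadFormMinus k F a b) W W₀} =
      Nat.card {W : Submodule F (VM k F) // Nd (minusB k a b) W ∧ SameType (minusB k a b) W W₀} := by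
  apply Nat.card_congr
  apply Equiv.subtypeEquivRight
  intro W
  constructor
  · rintro ⟨-, hnd, hiso⟩
    exact ⟨(nd_iff h2 k a b W).1 hnd, (iso_iff h2 k a b W W₀).1 hiso⟩
  · rintro ⟨hnd, hst⟩
    exact ⟨by rw [hst.finrank_eq, hW₀], (nd_iff h2 k a b W).2 hnd, (iso_iff h2 k a b W W₀).2 hst⟩

theorem asm_pow_mem {k : ℕ} {a b : F} (x : GL ((Fin k ⊕ Fin k) ⊕ Fin 2) F)
    (hx : x ∈ Cfsg.isometryGroup F (Cfsg.quadFormMinus k F a b)) (n : ℕ) :
    x ^ n ∈ Cfsg.isometryGroup F (Cfsg.quadFormMinus k F a b) :=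
  Subgroup.pow_mem _ hx n

theorem asm_toLin_pow {k : ℕ} (x : GL ((Fin k ⊕ Fin k) ⊕ Fin 2) F) (n : ℕ) :
    Matrix.toLin' ((x ^ n : GL ((Fin k ⊕ Fin k) ⊕ Fin 2) F) : MatM k) =
      (Matrix.toLin' (x : MatM k)) ^ n := by
  rw [Units.val_pow_eq_pow_val, Matrix.toLin'_pow]

/-- normalisation: an isometry with `x^r = ±1` (`r` odd) has the same invariant subspaces as an
isometry `g` with `g^r = 1` -/
theorem asm_normalize (h2 : (2 : F) ≠ 0) (k : ℕ) (a b : F) {r : ℕ} (hr : Odd r)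
    (x : GL ((Fin k ⊕ Fin k) ⊕ Fin 2) F)
    (hx : x ∈ Cfsg.isometryGroup F (Cfsg.quadFormMinus k F a b)) (z : F)
    (hz : ((x ^ r : GL ((Fin k ⊕ Fin k) ⊕ Fin 2) F) : MatM k) = z • (1 : MatM k)) :
    ∃ g : Module.End F (VM k F), Isom (minusB k a b) g ∧ g ^ r = 1 ∧
      ∀ W₀, Fixes (minusB k a b) g W₀ ↔ Fixes (minusB k a b) (Matrix.toLin' (x : MatM k)) W₀ := by
  have hf := isom_of_mem h2 k a b x hx
  have hpow : (Matrix.toLin' (x : MatM k)) ^ r = z • (1 : Module.End F (VM k F)) := by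
    rw [← asm_toLin_pow, hz, map_smul, Matrix.toLin'_one]
    rfl
  rcases scalar_pm_one k a b (x ^ r) (asm_pow_mem x hx r) z hz with rfl | rfl
  · exact ⟨_, hf, by rw [hpow, one_smul], fun _ => Iff.rfl⟩
  · set g : Module.End F (VM k F) := Matrix.toLin' (x : MatM k) with hg
    refine ⟨-g, Cfsg.Agent.Lib.Helper81.On.asm_isom_neg hf, ?_,
      fun W₀ => Cfsg.Agent.Lib.Helper81.On.asm_fixes_neg _ W₀⟩
    have h1 : (-g) ^ r = -(g ^ r) := Odd.neg_pow hr g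
    rw [h1, hpow]
    ext v a
    simp

/-- a nonscalar witness: an isometry with `x^r = 1`, `r` odd, whose fixed space is not everything -/
theorem asm_nonscalar (h2 : (2 : F) ≠ 0) (k : ℕ) (a b : F) {r : ℕ} (hr : Odd r)
    (x : GL ((Fin k ⊕ Fin k) ⊕ Fin 2) F)
    (hx : x ∈ Cfsg.isometryGroup F (Cfsg.quadFormMinus k F a b)) (hxr : x ^ r = 1)
    (hfix : finrank F (LinearMap.ker (Matrix.toLin' (x : MatM k) - 1)) < 2 * k + 2) :
    ∀ z : F, (x : MatM k) ≠ z • (1 : MatM k) := by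
  intro z hz
  rcases scalar_pm_one k a b x hx z hz with rfl | rfl
  · rw [one_smul] at hz
    rw [hz, Matrix.toLin'_one] at hfix
    have : (LinearMap.id : VM k F →ₗ[F] VM k F) - 1 = 0 := by
      ext v; simp
    rw [this, LinearMap.ker_zero, finrank_top, finrank_VM] at hfix
    omega
  · have h1 : ((x ^ r : GL ((Fin k ⊕ Fin k) ⊕ Fin 2) F) : MatM k) = 1 := by rw [hxr]; rfl
    rw [Units.val_pow_eq_pow_val, hz] at h1
    have h3 : ((-1 : F) • (1 : MatM k)) ^ r = (-1 : F) • (1 : MatM k) := by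
      rw [_root_.smul_pow, one_pow, Odd.neg_one_pow hr]
    rw [h3] at h1
    have := congrFun (congrFun h1 (Sum.inr 0)) (Sum.inr 0)
    simp only [Matrix.smul_apply, Matrix.one_apply_eq, smul_eq_mul, mul_one] at this
    apply h2
    linear_combination -this

/-- the case `r = 2` -/
theorem asm_case_two [Fintype F] (h2 : (2 : F) ≠ 0) (k m : ℕ) (hk : 3 ≤ k) (hm : Odd m)
    (hmk : m < k + 1) (a b : F)
    (hab : ∀ x y : F, x ^ 2 + a * x * y + b * y ^ 2 = 0 → x = 0 ∧ y = 0)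
    (W₀ : Submodule F (VM k F)) (hW₀m : finrank F W₀ = m)
    (hW₀ : Nd (minusB k a b) W₀) :
    (∀ x : GL ((Fin k ⊕ Fin k) ⊕ Fin 2) F, x ∈ Cfsg.Geo.omegaGL (Cfsg.quadFormMinus k F a b) →
      (∃ z : F, ((x ^ 2 : GL ((Fin k ⊕ Fin k) ⊕ Fin 2) F) : MatM k) = z • (1 : MatM k)) →
      (∀ z : F, (x : MatM k) ≠ z • (1 : MatM k)) →
      Fixes (minusB k a b) (Matrix.toLin' (x : MatM k)) W₀) ↔
    (Odd k ∨ Fintype.card F % 8 ≠ 7) := by
  have hsymm : ∀ u v : VM k F, minusB k a b u v = minusB k a b v u := minusB_symm h2 k a b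
  constructor
  · intro H
    by_contra hcon
    have hke : Even k := by
      by_contra hne
      exact hcon (Or.inl (Nat.not_even_iff_odd.1 hne))
    have hq8 : Fintype.card F % 8 = 7 := by
      by_contra h8
      exact hcon (Or.inr h8)
    obtain ⟨x, hxΩ, hxx⟩ := exists_sq_neg_one_mem h2 k hke hq8 a b hab
    have hxiso := mem_isom_of_mem_omega k a b x hxΩ
    have hsq : ((x ^ 2 : GL ((Fin k ⊕ Fin k) ⊕ Fin 2) F) : MatM k) = (-1 : F) • (1 : MatM k) := by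
      rw [Units.val_pow_eq_pow_val, pow_two, hxx]; simp
    have hns : ∀ z : F, (x : MatM k) ≠ z • (1 : MatM k) := by
      intro z hz
      have hzz : (z * z) • (1 : MatM k) = (-1 : F) • (1 : MatM k) := by
        rw [← hsq, Units.val_pow_eq_pow_val, pow_two, hz]
        simp [smul_smul]
      have hz2 : z * z = -1 := by
        have := congrFun (congrFun hzz (Sum.inr 0)) (Sum.inr 0)
        simpa using this
      rcases scalar_pm_one k a b x hxiso z hz with rfl | rfl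
      · apply h2; linear_combination hz2
      · apply h2; linear_combination hz2
    obtain ⟨W, hWnd, hWst, hWinv⟩ := H x hxΩ ⟨-1, hsq⟩ hns
    have hff : (Matrix.toLin' (x : MatM k)) * (Matrix.toLin' (x : MatM k)) = -1 := by
      rw [Module.End.mul_eq_comp, ← Matrix.toLin'_mul, hxx, map_neg, Matrix.toLin'_one]
      rfl
    have hev := Cfsg.Agent.Lib.Helper81.On.even_of_sq_neg_one h2 hsymm
      (isom_of_mem h2 k a b x hxiso) hff hWinv hWnd
    rw [hWst.finrank_eq, hW₀m] at hev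
    exact (Nat.not_even_iff_odd.2 hm) hev
  · rintro hcond x hxΩ ⟨z, hz⟩ hns
    have hxiso := mem_isom_of_mem_omega k a b x hxΩ
    have hf := isom_of_mem h2 k a b x hxiso
    rcases scalar_pm_one k a b (x ^ 2) (asm_pow_mem x hxiso 2) z hz with rfl | rfl
    · have hff : (Matrix.toLin' (x : MatM k)) * (Matrix.toLin' (x : MatM k)) = 1 := by
        rw [← pow_two, ← asm_toLin_pow, hz, one_smul, Matrix.toLin'_one]
        rfl
      exact Cfsg.Agent.Lib.Helper81.On.invol_fix h2 hsymm (minusB_nd h2 k a b hab) hf hff hW₀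
        (by rw [hW₀m, finrank_VM]; omega)
    · exfalso
      apply sq_neg_one_not_mem h2 k a b hab hcond x hxΩ
      rw [← pow_two, ← Units.val_pow_eq_pow_val, hz]
      simp

/-- the case `r = p` odd -/
theorem asm_case_p [Fintype F] (h2 : (2 : F) ≠ 0) {p : ℕ} [Fact p.Prime] [CharP F p]
    (k m : ℕ) (hk : 3 ≤ k) (hm : Odd m) (a b : F)
    (hab : ∀ x y : F, x ^ 2 + a * x * y + b * y ^ 2 = 0 → x = 0 ∧ y = 0)
    (W₀ : Submodule F (VM k F)) (hW₀m : finrank F W₀ = m) (hW₀ : Nd (minusB k a b) W₀) :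
    ¬ (∀ x : GL ((Fin k ⊕ Fin k) ⊕ Fin 2) F, x ∈ Cfsg.Geo.omegaGL (Cfsg.quadFormMinus k F a b) →
      (∃ z : F, ((x ^ p : GL ((Fin k ⊕ Fin k) ⊕ Fin 2) F) : MatM k) = z • (1 : MatM k)) →
      (∀ z : F, (x : MatM k) ≠ z • (1 : MatM k)) →
      Fixes (minusB k a b) (Matrix.toLin' (x : MatM k)) W₀) := by
  intro H
  rcases Nat.even_or_odd k with hke | hko
  · obtain ⟨x, hxΩ, hxp, hns, hbad⟩ := exists_bad_unipotent_odd (p := p) h2 k m hk hke hm a b hab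
    obtain ⟨W, hWnd, hWst, hWinv⟩ := H x hxΩ ⟨1, by rw [hxp, one_smul]⟩ hns
    apply hbad W ((nd_iff h2 k a b W).2 hWnd)
      ((Cfsg.Agent.Lib.Helper81.On.asm_map_le_iff _ W).2 hWinv)
    rw [hWst.finrank_eq, hW₀m]
  · obtain ⟨x, hxΩ, hxp, hns, hbad⟩ :=
      exists_bad_unipotent_even (p := p) h2 k m hk hko hm a b hab W₀ hW₀m hW₀
    exact hbad (H x hxΩ ⟨1, by rw [hxp, one_smul]⟩ hns)

section oddcase

variable [Fintype F] {p : ℕ} [Fact p.Prime] [CharP F p] {r : ℕ} [Fact r.Prime]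

theorem asm_not_dvd_card (hrp : r ≠ p) : ¬ r ∣ Fintype.card F := by
  obtain ⟨n, hp, hn⟩ := FiniteField.card F p
  rw [hn]
  intro h
  have := (Nat.prime_dvd_prime_iff_eq (Fact.out : r.Prime) hp).1
    ((Fact.out : r.Prime).dvd_of_dvd_pow h)
  exact hrp this

/-- OM-T1: if `blk ∣ 2k+2` and (`i` odd or `(2k+2)/blk` even), every isometry of order `r` of the
elliptic space has a fixed space of dimension `≥ blk` (otherwise the whole space would be of plus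
type by `Hy.plus_fpf`). -/
theorem fix_ge_minus (h2 : (2 : F) ≠ 0) (hr2 : r ≠ 2) (hrp : r ≠ p) (k : ℕ) (a b : F)
    (hab : ∀ x y : F, x ^ 2 + a * x * y + b * y ^ 2 = 0 → x = 0 ∧ y = 0)
    (hdvd : (2 * k + 2) % blk F r = 0)
    (hside : Odd (orderOf ((Fintype.card F : ℕ) : ZMod r)) ∨ Even ((2 * k + 2) / blk F r))
    {f : Module.End F (VM k F)} (hf : Isom (minusB k a b) f) (hfr : f ^ r = 1) :
    blk F r ≤ finrank F (LinearMap.ker (f - 1)) := by
  have hsymm : ∀ u v : VM k F, minusB k a b u v = minusB k a b v u := minusB_symm h2 k a b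
  have hcpos : 0 < blk F r := Cfsg.Agent.Lib.Helper8.SpBlk.blk_pos (F := F) (p := p) hrp
  obtain ⟨s, hs⟩ := Cfsg.Agent.Lib.Helper81.On.mod_le_fix h2 hsymm (minusB_nd h2 k a b hab)
    hr2 hrp hf hfr
  rw [finrank_VM] at hs
  by_contra hlt
  push Not at hlt
  -- the fixed space is trivial
  have hz0 : finrank F (LinearMap.ker (f - 1)) = 0 := by
    have h1 : finrank F (LinearMap.ker (f - 1)) % blk F r = 0 := by
      have : (2 * k + 2) % blk F r = finrank F (LinearMap.ker (f - 1)) % blk F r := by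
        rw [hs, Nat.add_mul_mod_self_right]
      rw [← this]; exact hdvd
    rw [Nat.mod_eq_of_lt hlt] at h1
    exact h1
  have hbot : LinearMap.ker (f - 1) = ⊥ := Submodule.finrank_eq_zero.1 hz0
  have hfix : (⊤ : Submodule F (VM k F)) ⊓ Fix f = ⊥ := by
    rw [top_inf_eq]; exact hbot
  have hplus := Cfsg.Agent.Lib.Helper5.Hy.plus_fpf h2 hsymm hf r hr2 (asm_not_dvd_card hrp) hfr
    (N := ⊤) (fun v _ => Submodule.mem_top) (minusB_nd h2 k a b hab) hfix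
  apply not_plus_minusB h2 k a b hab
  rw [hplus, finrank_top, finrank_VM]
  have hhalf : (2 * k + 2) / 2 = k + 1 := by omega
  rw [hhalf]
  -- `orderOf q ∣ k + 1`
  apply orderOf_dvd_iff_pow_eq_one.1
  have hdvd' : blk F r ∣ 2 * k + 2 := Nat.dvd_of_mod_eq_zero hdvd
  unfold Cfsg.Agent.Lib.Helper8.SpBlk.blk at hdvd' hside
  rcases hside with hio | hev
  · rw [if_neg (Nat.not_even_iff_odd.2 hio)] at hdvd'
    obtain ⟨t, ht⟩ := hdvd'
    exact ⟨t, by
      have : 2 * (k + 1) = 2 * (orderOf ((Fintype.card F : ℕ) : ZMod r) * t) := by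
        rw [← mul_assoc, ← ht]; ring
      omega⟩
  · by_cases hie : Even (orderOf ((Fintype.card F : ℕ) : ZMod r))
    · rw [if_pos hie] at hdvd' hev
      obtain ⟨t, ht⟩ := hev
      have h1 : 2 * k + 2 = orderOf ((Fintype.card F : ℕ) : ZMod r) * (t + t) := by
        rw [← ht]; exact (Nat.mul_div_cancel' hdvd').symm
      exact ⟨t, by
        have : 2 * (k + 1) = 2 * (orderOf ((Fintype.card F : ℕ) : ZMod r) * t) := by
          rw [show 2 * (k + 1) = 2 * k + 2 by ring, h1]; ring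
        omega⟩
    · rw [if_neg hie] at hdvd'
      obtain ⟨t, ht⟩ := hdvd'
      exact ⟨t, by
        have : 2 * (k + 1) = 2 * (orderOf ((Fintype.card F : ℕ) : ZMod r) * t) := by
          rw [← mul_assoc, ← ht]; ring
        omega⟩

/-- from an element with minimal fixed space -/
theorem asm_fwd_core (h2 : (2 : F) ≠ 0) (hr2 : r ≠ 2) (hrp : r ≠ p) (k m : ℕ) (hk : 3 ≤ k)
    (hm : Odd m) (hmk : m < k + 1) (a b : F)
    (hab : ∀ x y : F, x ^ 2 + a * x * y + b * y ^ 2 = 0 → x = 0 ∧ y = 0)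
    (W₀ : Submodule F (VM k F)) (hW₀m : finrank F W₀ = m)
    (hW₀ : Nd (minusB k a b) W₀)
    (hrΩ : r ∣ Nat.card {W : Submodule F (VM k F) //
      Nd (minusB k a b) W ∧ SameType (minusB k a b) W W₀})
    (H : ∀ x : GL ((Fin k ⊕ Fin k) ⊕ Fin 2) F, x ∈ Cfsg.Geo.omegaGL (Cfsg.quadFormMinus k F a b) →
      (∃ z : F, ((x ^ r : GL ((Fin k ⊕ Fin k) ⊕ Fin 2) F) : MatM k) = z • (1 : MatM k)) →
      (∀ z : F, (x : MatM k) ≠ z • (1 : MatM k)) →
      Fixes (minusB k a b) (Matrix.toLin' (x : MatM k)) W₀)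
    (hc : blk F r ≤ 2 * k + 2)
    (hside : (2 * k + 2) % blk F r ≠ 0 ∨
      (Even (orderOf ((Fintype.card F : ℕ) : ZMod r)) ∧ Odd ((2 * k + 2) / blk F r))) :
    blk F r ≤ m ∧ 0 < m % blk F r ∧ m % blk F r < (2 * k + 2) % blk F r := by
  have hsymm : ∀ u v : VM k F, minusB k a b u v = minusB k a b v u := minusB_symm h2 k a b
  have hrodd : Odd r := (Fact.out : r.Prime).odd_of_ne_two hr2
  have hcpos : 0 < blk F r := Cfsg.Agent.Lib.Helper8.SpBlk.blk_pos (F := F) (p := p) hrp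
  have hceven : Even (blk F r) := Cfsg.Agent.Lib.Helper8.SpBlk.blk_even
  obtain ⟨x, hxΩ, hxr, hfix⟩ := exists_max_elt h2 hr2 hrp k a b hab hc hside
  have hxiso := mem_isom_of_mem_omega k a b x hxΩ
  have hf := isom_of_mem h2 k a b x hxiso
  have hlt : (2 * k + 2) % blk F r < blk F r := Nat.mod_lt _ hcpos
  have hns := asm_nonscalar h2 k a b hrodd x hxiso hxr (by rw [hfix]; omega)
  have hfr : (Matrix.toLin' (x : MatM k)) ^ r = 1 := by
    rw [← asm_toLin_pow, hxr]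
    simp
    rfl
  obtain ⟨W, hWnd, hWst, hWinv⟩ := H x hxΩ ⟨1, by rw [hxr, one_smul]; rfl⟩ hns
  have hWm : finrank F W = m := by rw [hWst.finrank_eq, hW₀m]
  have hte : Even ((2 * k + 2) % blk F r) := by
    obtain ⟨j, hj⟩ := hceven
    rw [Nat.even_iff]
    have : (2 * k + 2) % (j + j) % 2 = (2 * k + 2) % 2 := by
      rw [← two_mul]
      exact Nat.mod_mul_right_mod _ _ _
    rw [hj, this]
    omega
  have h1 := Cfsg.Agent.Lib.Helper81.On.odd_nofix h2 hsymm hr2 hrp hf hfr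
    (by rw [hfix]; exact hlt) (by rw [hfix]; exact hte)
    hWinv hWnd (by rw [hWm]; exact hm)
  rw [hWm, hfix] at h1
  refine ⟨?_, h1.1, h1.2⟩
  by_contra hlt'
  push Not at hlt'
  apply Cfsg.Agent.Lib.Helper81.On.not_dvd_of_small h2 hsymm (minusB_nd h2 k a b hab) hr2 hrp hf
    hfr hW₀ (by rw [hW₀m]; exact hlt')
    (by rw [hW₀m, hfix]; rw [Nat.mod_eq_of_lt hlt'] at h1; exact h1.2) (by rw [hfix]; exact hlt)
  exact hrΩ

/-- the case `r ≠ 2`, `r ≠ p` -/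
theorem asm_case_odd (h2 : (2 : F) ≠ 0) (hr2 : r ≠ 2) (hrp : r ≠ p) (k m : ℕ) (hk : 3 ≤ k)
    (hm : Odd m) (hmk : m < k + 1) (a b : F)
    (hab : ∀ x y : F, x ^ 2 + a * x * y + b * y ^ 2 = 0 → x = 0 ∧ y = 0)
    (W₀ : Submodule F (VM k F)) (hW₀m : finrank F W₀ = m)
    (hW₀ : Nd (minusB k a b) W₀)
    (hrΩ : r ∣ Nat.card {W : Submodule F (VM k F) //
      Nd (minusB k a b) W ∧ SameType (minusB k a b) W W₀}) :
    (∀ x : GL ((Fin k ⊕ Fin k) ⊕ Fin 2) F, x ∈ Cfsg.Geo.omegaGL (Cfsg.quadFormMinus k F a b) →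
      (∃ z : F, ((x ^ r : GL ((Fin k ⊕ Fin k) ⊕ Fin 2) F) : MatM k) = z • (1 : MatM k)) →
      (∀ z : F, (x : MatM k) ≠ z • (1 : MatM k)) →
      Fixes (minusB k a b) (Matrix.toLin' (x : MatM k)) W₀) ↔
    ((Odd (orderOf ((Fintype.card F : ℕ) : ZMod r)) ∧
        ((2 * k + 2) % blk F r = 0 ∨
          (blk F r ≤ m ∧ 0 < m % blk F r ∧ m % blk F r < (2 * k + 2) % blk F r))) ∨
     (Even (orderOf ((Fintype.card F : ℕ) : ZMod r)) ∧
       (((2 * k + 2) % blk F r = 0 ∧ Even ((2 * k + 2) / blk F r)) ∨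
        (0 < (2 * k + 2) % blk F r ∧ blk F r ≤ m ∧ 0 < m % blk F r ∧
          m % blk F r < (2 * k + 2) % blk F r)))) := by
  have hsymm : ∀ u v : VM k F, minusB k a b u v = minusB k a b v u := minusB_symm h2 k a b
  have hrodd : Odd r := (Fact.out : r.Prime).odd_of_ne_two hr2
  have hcpos : 0 < blk F r := Cfsg.Agent.Lib.Helper8.SpBlk.blk_pos (F := F) (p := p) hrp
  constructor
  · intro H
    -- `blk ≤ 2k+2`
    have hc : blk F r ≤ 2 * k + 2 := by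
      by_contra hlt
      push Not at hlt
      have hiso1 : Isom (minusB (F := F) k a b) 1 := fun u v => rfl
      have hker : LinearMap.ker ((1 : Module.End F (VM k F)) - 1) = ⊤ := by
        rw [sub_self, LinearMap.ker_zero]
      apply Cfsg.Agent.Lib.Helper81.On.not_dvd_of_small h2 hsymm (minusB_nd h2 k a b hab) hr2 hrp
        hiso1 (one_pow r) hW₀
        (by rw [hW₀m]; omega) (by rw [hW₀m, hker, finrank_top, finrank_VM]; omega)
        (by rw [hker, finrank_top, finrank_VM]; exact hlt)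
      exact hrΩ
    rcases Nat.even_or_odd (orderOf ((Fintype.card F : ℕ) : ZMod r)) with hev | hod
    · right
      refine ⟨hev, ?_⟩
      by_cases he : (2 * k + 2) % blk F r = 0
      · left
        refine ⟨he, ?_⟩
        by_contra hno
        rw [Nat.not_even_iff_odd] at hno
        have := asm_fwd_core h2 hr2 hrp k m hk hm hmk a b hab W₀ hW₀m hW₀ hrΩ H hc
          (Or.inr ⟨hev, hno⟩)
        omega
      · right
        have := asm_fwd_core h2 hr2 hrp k m hk hm hmk a b hab W₀ hW₀m hW₀ hrΩ H hc (Or.inl he)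
        exact ⟨Nat.pos_of_ne_zero he, this⟩
    · left
      refine ⟨hod, ?_⟩
      by_cases he : (2 * k + 2) % blk F r = 0
      · exact Or.inl he
      · exact Or.inr (asm_fwd_core h2 hr2 hrp k m hk hm hmk a b hab W₀ hW₀m hW₀ hrΩ H hc
          (Or.inl he))
  · intro hcond x hxΩ ⟨z, hz⟩ hns
    have hxiso := mem_isom_of_mem_omega k a b x hxΩ
    obtain ⟨g, hg, hgr, hgfix⟩ := asm_normalize h2 k a b hrodd x hxiso z hz
    rw [← hgfix W₀]
    obtain ⟨s, hs⟩ := Cfsg.Agent.Lib.Helper81.On.mod_le_fix h2 hsymm (minusB_nd h2 k a b hab)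
      hr2 hrp hg hgr
    rw [finrank_VM] at hs
    have hmodle : (2 * k + 2) % blk F r ≤ finrank F (LinearMap.ker (g - 1)) := by
      rw [hs, Nat.add_mul_mod_self_right]
      exact Nat.mod_le _ _
    apply Cfsg.Agent.Lib.Helper81.On.odd_fix h2 hsymm (minusB_nd h2 k a b hab) hr2 hrp hg hgr hW₀
      (by rw [hW₀m]; exact hm) (by rw [hW₀m, finrank_VM]; omega)
    rw [hW₀m]
    have hmlt := Nat.mod_lt m hcpos
    rcases hcond with ⟨hod, he | ⟨-, -, h3⟩⟩ | ⟨hev, ⟨he, heven⟩ | ⟨-, -, -, h3⟩⟩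
    · have := fix_ge_minus h2 hr2 hrp k a b hab he (Or.inl hod) hg hgr
      omega
    · omega
    · have := fix_ge_minus h2 hr2 hrp k a b hab he (Or.inr heven) hg hgr
      omega
    · omega

end oddcase

/-- **S5991** in terms of `k = d - 1` -/
theorem main_k [Fintype F] {p : ℕ} [Fact p.Prime] [CharP F p] {q : ℕ}
    (hq : Fintype.card F = q) (hodd : Odd q) (k m : ℕ) (hk : 3 ≤ k) (hm : Odd m) (hmk : m < k + 1)
    (a b : F) (hab : ∀ x y : F, x ^ 2 + a * x * y + b * y ^ 2 = 0 → x = 0 ∧ y = 0)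
    (W₀ : Submodule F ((Fin k ⊕ Fin k) ⊕ Fin 2 → F))
    (hW₀ : Module.finrank F ↥W₀ = m ∧ Cfsg.Geo.IsNondegenerateOn (QuadraticMap.polar (Cfsg.quadFormMinus k F a b)) W₀)
    (r : ℕ) [Fact r.Prime]
    (hrΩ : r ∣ Nat.card {W : Submodule F ((Fin k ⊕ Fin k) ⊕ Fin 2 → F) // Module.finrank F ↥W = m ∧ Cfsg.Geo.IsNondegenerateOn (QuadraticMap.polar (Cfsg.quadFormMinus k F a b)) W ∧ Cfsg.Geo.AreIsometricFor (Cfsg.quadFormMinus k F a b) W W₀})
    (i c : ℕ) (hi : i = orderOf (q : ZMod r)) (hc : c = if Even i then i else 2 * i) :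
    (∀ x : GL ((Fin k ⊕ Fin k) ⊕ Fin 2) F, x ∈ Cfsg.Geo.omegaGL (Cfsg.quadFormMinus k F a b) →
      (∃ z : F, ((x ^ r : GL ((Fin k ⊕ Fin k) ⊕ Fin 2) F) : Matrix ((Fin k ⊕ Fin k) ⊕ Fin 2) ((Fin k ⊕ Fin k) ⊕ Fin 2) F) = z • (1 : Matrix ((Fin k ⊕ Fin k) ⊕ Fin 2) ((Fin k ⊕ Fin k) ⊕ Fin 2) F)) →
      (∀ z : F, (x : Matrix ((Fin k ⊕ Fin k) ⊕ Fin 2) ((Fin k ⊕ Fin k) ⊕ Fin 2) F) ≠ z • (1 : Matrix ((Fin k ⊕ Fin k) ⊕ Fin 2) ((Fin k ⊕ Fin k) ⊕ Fin 2) F)) →
      ∃ W : Submodule F ((Fin k ⊕ Fin k) ⊕ Fin 2 → F), (Module.finrank F ↥W = m ∧ Cfsg.Geo.IsNondegenerateOn (QuadraticMap.polar (Cfsg.quadFormMinus k F a b)) W ∧ Cfsg.Geo.AreIsometricFor (Cfsg.quadFormMinus k F a b) W W₀) ∧ W.map (Matrix.toLin' (x : Matrix ((Fin k ⊕ Fin k) ⊕ Fin 2) ((Fin k ⊕ Fin k) ⊕ Fin 2) F)) ≤ W) ↔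
    ((r = 2 ∧ (Odd k ∨ q % 8 ≠ 7)) ∨
     (r ≠ p ∧ 2 < r ∧ Odd i ∧ ((2 * k + 2) % c = 0 ∨ (c ≤ m ∧ 0 < m % c ∧ m % c < (2 * k + 2) % c))) ∨
     (r ≠ p ∧ 2 < r ∧ Even i ∧ (((2 * k + 2) % c = 0 ∧ Even ((2 * k + 2) / i)) ∨ (0 < (2 * k + 2) % c ∧ i ≤ m ∧ 0 < m % c ∧ m % c < (2 * k + 2) % c)))) := by
  classical
  have h2 : (2 : F) ≠ 0 := Cfsg.Agent.Lib.Helper94.Un.two_ne_zero_of_odd_card hq hodd
  have hW₀nd : Nd (minusB k a b) W₀ := (nd_iff h2 k a b W₀).1 hW₀.2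
  have hrΩ' : r ∣ Nat.card {W : Submodule F (VM k F) //
      Nd (minusB k a b) W ∧ SameType (minusB k a b) W W₀} := by
    rw [← asm_card_eq h2 k m a b W₀ hW₀.1]
    exact hrΩ
  have hr : r.Prime := Fact.out
  have hLHS : (∀ x : GL ((Fin k ⊕ Fin k) ⊕ Fin 2) F, x ∈ Cfsg.Geo.omegaGL (Cfsg.quadFormMinus k F a b) →
      (∃ z : F, ((x ^ r : GL ((Fin k ⊕ Fin k) ⊕ Fin 2) F) : Matrix ((Fin k ⊕ Fin k) ⊕ Fin 2) ((Fin k ⊕ Fin k) ⊕ Fin 2) F) = z • (1 : Matrix ((Fin k ⊕ Fin k) ⊕ Fin 2) ((Fin k ⊕ Fin k) ⊕ Fin 2) F)) →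
      (∀ z : F, (x : Matrix ((Fin k ⊕ Fin k) ⊕ Fin 2) ((Fin k ⊕ Fin k) ⊕ Fin 2) F) ≠ z • (1 : Matrix ((Fin k ⊕ Fin k) ⊕ Fin 2) ((Fin k ⊕ Fin k) ⊕ Fin 2) F)) →
      ∃ W : Submodule F ((Fin k ⊕ Fin k) ⊕ Fin 2 → F), (Module.finrank F ↥W = m ∧ Cfsg.Geo.IsNondegenerateOn (QuadraticMap.polar (Cfsg.quadFormMinus k F a b)) W ∧ Cfsg.Geo.AreIsometricFor (Cfsg.quadFormMinus k F a b) W W₀) ∧ W.map (Matrix.toLin' (x : Matrix ((Fin k ⊕ Fin k) ⊕ Fin 2) ((Fin k ⊕ Fin k) ⊕ Fin 2) F)) ≤ W) ↔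
      (∀ x : GL ((Fin k ⊕ Fin k) ⊕ Fin 2) F, x ∈ Cfsg.Geo.omegaGL (Cfsg.quadFormMinus k F a b) →
      (∃ z : F, ((x ^ r : GL ((Fin k ⊕ Fin k) ⊕ Fin 2) F) : MatM k) = z • (1 : MatM k)) →
      (∀ z : F, (x : MatM k) ≠ z • (1 : MatM k)) →
      Fixes (minusB k a b) (Matrix.toLin' (x : MatM k)) W₀) := by
    constructor
    · intro H x hx hz hns
      exact (asm_fixes_iff h2 k m a b W₀ hW₀.1 _).1 (H x hx hz hns)
    · intro H x hx hz hns
      exact (asm_fixes_iff h2 k m a b W₀ hW₀.1 _).2 (H x hx hz hns)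
  rw [hLHS]
  have hcblk : c = blk F r := by
    subst hi hc
    unfold Cfsg.Agent.Lib.Helper8.SpBlk.blk
    rw [hq]
  have hiq : i = orderOf ((Fintype.card F : ℕ) : ZMod r) := by rw [hi, hq]
  by_cases hr2 : r = 2
  · subst hr2
    rw [asm_case_two h2 k m hk hm hmk a b hab W₀ hW₀.1 hW₀nd, hq]
    constructor
    · intro h; exact Or.inl ⟨rfl, h⟩
    · rintro (⟨-, h⟩ | ⟨-, h, -⟩ | ⟨-, h, -⟩)
      · exact h
      · omega
      · omega
  · have h2r : 2 < r := lt_of_le_of_ne hr.two_le (Ne.symm hr2)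
    by_cases hrp : r = p
    · subst hrp
      constructor
      · intro H
        exact absurd H (asm_case_p h2 k m hk hm a b hab W₀ hW₀.1 hW₀nd)
      · rintro (⟨h, -⟩ | ⟨h, -⟩ | ⟨h, -⟩)
        · exact absurd h hr2
        · exact absurd rfl h
        · exact absurd rfl h
    · rw [asm_case_odd h2 hr2 hrp k m hk hm hmk a b hab W₀ hW₀.1 hW₀nd hrΩ', ← hcblk, ← hiq]
      have hci : Even i → c = i := by
        intro he; rw [hc, if_pos he]
      constructor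
      · rintro (⟨ho, h⟩ | ⟨he, h⟩)
        · exact Or.inr (Or.inl ⟨hrp, h2r, ho, h⟩)
        · refine Or.inr (Or.inr ⟨hrp, h2r, he, ?_⟩)
          rcases h with ⟨h1, h3⟩ | ⟨h0, h1, h3⟩
          · left; rw [← hci he]; exact ⟨h1, h3⟩
          · right; rw [← hci he]; exact ⟨h0, h1, h3⟩
      · rintro (⟨h, -⟩ | ⟨-, -, ho, h⟩ | ⟨-, -, he, h⟩)
        · exact absurd h hr2
        · exact Or.inl ⟨ho, h⟩
        · refine Or.inr ⟨he, ?_⟩
          rcases h with ⟨h1, h3⟩ | ⟨h0, h1, h3⟩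
          · left; rw [← hci he] at h3; exact ⟨h1, h3⟩
          · right; rw [← hci he] at h1; exact ⟨h0, h1, h3⟩

end asm

end Cfsg.Agent.Lib.Helper46.Om
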