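import Mathlib

set_option autoImplicit false
set_option linter.style.haveILetI false
set_option linter.unusedSectionVars false

/-!
# The normalizer of a subgroup acts on the orbit space of the subgroup
-/

namespace Cfsg.Agent.Lib.Helper46.OrbSpace

open MulAction Subgroup

variable {G : Type*} [Group G] {Ω : Type*} [MulAction G Ω] (P : Subgroup G)

theorem rel_smul_iff {g : G} (hg : g ∈ normalizer (P : Set G)) (a b : Ω) :
    (orbitRel ↥P Ω) (g • a) (g • b) ↔ (orbitRel ↥P Ω) a b := by
  rw [orbitRel_apply, orbitRel_apply]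
  constructor
  · rintro ⟨x, hx⟩
    have hx' : (x : G) • g • b = g • a := hx
    refine ⟨⟨g⁻¹ * (x : G) * g, ?_⟩, ?_⟩
    · have := (Subgroup.mem_normalizer_iff.mp (inv_mem hg) (x : G)).mp x.2
      rwa [inv_inv] at this
    · show (g⁻¹ * (x : G) * g) • b = a
      rw [mul_smul, mul_smul, hx', inv_smul_smul]
  · rintro ⟨x, hx⟩
    have hx' : (x : G) • b = a := hx
    refine ⟨⟨g * (x : G) * g⁻¹, (Subgroup.mem_normalizer_iff.mp hg (x : G)).mp x.2⟩, ?_⟩
    show (g * (x : G) * g⁻¹) • g • b = g • a
    rw [mul_smul, mul_smul, inv_smul_smul, hx']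

/-- The permutation of the orbit space of `P` induced by an element of the normalizer. -/
noncomputable def permOf (g : ↥(normalizer (P : Set G))) :
    Equiv.Perm (orbitRel.Quotient ↥P Ω) :=
  Quotient.congr (MulAction.toPerm (g : G)) (fun a b => (rel_smul_iff P g.2 a b).symm)

theorem permOf_mk (g : ↥(normalizer (P : Set G))) (a : Ω) :
    permOf P g (Quotient.mk'' a : orbitRel.Quotient ↥P Ω) = Quotient.mk'' ((g : G) • a) :=
  rfl

/-- The action of the normalizer on the orbit space, as a homomorphism. -/
noncomputable def orbHom :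
    ↥(normalizer (P : Set G)) →* Equiv.Perm (orbitRel.Quotient ↥P Ω) :=
  MonoidHom.mk' (permOf P) (by
    intro g h
    ext q
    induction q using Quotient.inductionOn' with
    | h a =>
      rw [Equiv.Perm.mul_apply, permOf_mk, permOf_mk, permOf_mk, Subgroup.coe_mul, mul_smul])

theorem orbHom_mk (g : ↥(normalizer (P : Set G))) (a : Ω) :
    orbHom P g (Quotient.mk'' a : orbitRel.Quotient ↥P Ω) = Quotient.mk'' ((g : G) • a) :=
  rfl

theorem mem_ker_orbHom_iff (g : ↥(normalizer (P : Set G))) :
    g ∈ (orbHom (Ω := Ω) P).ker ↔ ∀ a : Ω, (g : G) • a ∈ orbit ↥P a := by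
  rw [MonoidHom.mem_ker]
  constructor
  · intro h a
    have := congrArg (fun σ => σ (Quotient.mk'' a : orbitRel.Quotient ↥P Ω)) h
    simp only [orbHom_mk, Equiv.Perm.one_apply] at this
    have h2 := Quotient.exact' this
    rwa [orbitRel_apply] at h2
  · intro h
    ext q
    induction q using Quotient.inductionOn' with
    | h a =>
      rw [orbHom_mk, Equiv.Perm.one_apply]
      apply Quotient.sound'
      rw [orbitRel_apply]
      exact h a

end Cfsg.Agent.Lib.Helper46.OrbSpace
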