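import Mathlib.GroupTheory.Index
import Mathlib.GroupTheory.GroupAction.Quotient
import Mathlib.Algebra.BigOperators.Group.Finset.Basic
import Mathlib.Algebra.BigOperators.GroupWithZero.Action

set_option autoImplicit false

namespace Cfsg.Agent.Lib.Helper46

open scoped Classical in
/-- The orbit of `a` under `N` as a finset. -/
noncomputable def orbFin (N : Type*) {A : Type*} [Group N] [Fintype N] [CommGroup A]
    [MulDistribMulAction N A] (a : A) : Finset A :=
  Finset.univ.image (fun n : N => n • a)

/-- The product over the orbit of `a`. -/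
noncomputable def orbProd (N : Type*) {A : Type*} [Group N] [Fintype N] [CommGroup A]
    [MulDistribMulAction N A] (a : A) : A :=
  ∏ w ∈ orbFin N a, w

section
variable {N A : Type*} [Group N] [Fintype N] [CommGroup A] [MulDistribMulAction N A]

theorem mem_orbFin {a w : A} : w ∈ orbFin N a ↔ ∃ n : N, n • a = w := by
  classical
  unfold orbFin
  simp

theorem self_mem_orbFin (a : A) : a ∈ orbFin N a := mem_orbFin.mpr ⟨1, one_smul _ _⟩

open scoped Classical in
theorem smul_orbFin (n : N) (a : A) : (orbFin N a).image (fun w => n • w) = orbFin N a := by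
  ext w
  rw [Finset.mem_image]
  constructor
  · rintro ⟨v, hv, rfl⟩
    obtain ⟨m, rfl⟩ := mem_orbFin.mp hv
    exact mem_orbFin.mpr ⟨n * m, mul_smul _ _ _⟩
  · intro hw
    obtain ⟨m, rfl⟩ := mem_orbFin.mp hw
    refine ⟨n⁻¹ • (m • a), mem_orbFin.mpr ⟨n⁻¹ * m, mul_smul _ _ _⟩, ?_⟩
    simp

theorem smul_orbProd (n : N) (a : A) : n • orbProd N a = orbProd N a := by
  classical
  unfold orbProd
  rw [Finset.smul_prod']
  conv_rhs => rw [← smul_orbFin n a]
  rw [Finset.prod_image]
  intro x _ y _ h
  exact MulAction.injective n h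

open scoped Classical in
theorem orbFin_mul_fixed (a c : A) (hc : ∀ n : N, n • c = c) :
    orbFin N (a * c) = (orbFin N a).image (fun w => w * c) := by
  ext w
  rw [Finset.mem_image, mem_orbFin]
  constructor
  · rintro ⟨n, rfl⟩
    refine ⟨n • a, mem_orbFin.mpr ⟨n, rfl⟩, ?_⟩
    rw [smul_mul', hc]
  · rintro ⟨v, hv, rfl⟩
    obtain ⟨n, rfl⟩ := mem_orbFin.mp hv
    exact ⟨n, by rw [smul_mul', hc]⟩

theorem card_orbFin_mul_fixed (a c : A) (hc : ∀ n : N, n • c = c) :
    (orbFin N (a * c)).card = (orbFin N a).card := by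
  classical
  rw [orbFin_mul_fixed a c hc, Finset.card_image_of_injective]
  intro x y h
  exact mul_right_cancel h

theorem orbProd_mul_fixed (a c : A) (hc : ∀ n : N, n • c = c) :
    orbProd N (a * c) = orbProd N a * c ^ (orbFin N a).card := by
  classical
  unfold orbProd
  rw [orbFin_mul_fixed a c hc, Finset.prod_image]
  · rw [Finset.prod_mul_distrib, Finset.prod_const]
  · intro x _ y _ h
    exact mul_right_cancel h

theorem card_orbFin_eq (a : A) : (orbFin N a).card = (MulAction.stabilizer N a).index := by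
  classical
  rw [MulAction.index_stabilizer, ← Set.ncard_coe_finset]
  congr 1
  ext w
  simp [mem_orbFin, MulAction.mem_orbit_iff]

theorem card_orbFin_dvd (a : A) (P : Subgroup N) (hP : ∀ x ∈ P, x • a = a) :
    (orbFin N a).card ∣ P.index := by
  rw [card_orbFin_eq]
  apply Subgroup.index_dvd_of_le
  intro x hx
  exact hP x hx

/-- The orbit product differs from `a ^ card` by a product of "commutators" `w * a⁻¹`. -/
theorem orbProd_eq (a : A) :
    orbProd N a = (∏ w ∈ orbFin N a, w * a⁻¹) * a ^ (orbFin N a).card := by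
  classical
  unfold orbProd
  rw [← Finset.prod_const, ← Finset.prod_mul_distrib]
  apply Finset.prod_congr rfl
  intro w _
  simp

end

section equivariance
variable {N A : Type*} [Group N] [Fintype N] [CommGroup A] [MulDistribMulAction N A]

open scoped Classical in
/-- Equivariance of the orbit under a compatible pair of maps. -/
theorem orbFin_map (θ : A →* A) (φ : N → N) (hφ : Function.Surjective φ)
    (h : ∀ (n : N) (a : A), θ (n • a) = φ n • θ a) (a : A) :
    orbFin N (θ a) = (orbFin N a).image θ := by
  ext w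
  rw [Finset.mem_image, mem_orbFin]
  constructor
  · rintro ⟨n, rfl⟩
    obtain ⟨m, rfl⟩ := hφ n
    exact ⟨m • a, mem_orbFin.mpr ⟨m, rfl⟩, h m a⟩
  · rintro ⟨v, hv, rfl⟩
    obtain ⟨n, rfl⟩ := mem_orbFin.mp hv
    exact ⟨φ n, (h n a).symm⟩

theorem orbProd_map (θ : A →* A) (hθ : Function.Injective θ) (φ : N → N)
    (hφ : Function.Surjective φ)
    (h : ∀ (n : N) (a : A), θ (n • a) = φ n • θ a) (a : A) :
    θ (orbProd N a) = orbProd N (θ a) := by
  classical
  unfold orbProd
  rw [orbFin_map θ φ hφ h a, Finset.prod_image, map_prod]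
  intro x _ y _ hxy
  exact hθ hxy

theorem card_orbFin_map (θ : A →* A) (hθ : Function.Injective θ) (φ : N → N)
    (hφ : Function.Surjective φ)
    (h : ∀ (n : N) (a : A), θ (n • a) = φ n • θ a) (a : A) :
    (orbFin N (θ a)).card = (orbFin N a).card := by
  classical
  rw [orbFin_map θ φ hφ h a, Finset.card_image_of_injective _ hθ]

end equivariance

end Cfsg.Agent.Lib.Helper46
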