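import Cfsg.Agent.Lib.Helper46.P3Data
import Cfsg.Agent.Lib.Helper46.TCb

set_option autoImplicit false
set_option maxRecDepth 1000000
set_option linter.all false

namespace Cfsg.Agent.Lib.Helper46.P3Data

open Cfsg.Agent.Lib.Helper46.TCa

theorem chkE_0 : allRange (checkEdge cert) 0 81 = true := by decide +kernel

theorem edges_ok : ∀ e, e < cert.m → checkEdge cert e = true := by
  intro i hi
  have hn : cert.m = 81 := rfl
  rw [hn] at hi
  exact allRange_sound _ 0 81 chkE_0 i (by omega) (by omega)

theorem chkP_0 : allRange (checkPoint cert) 0 54 = true := by decide +kernel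

theorem pts_ok : ∀ p, p < cert.n → checkPoint cert p = true := by
  intro i hi
  have hn : cert.n = 54 := rfl
  rw [hn] at hi
  exact allRange_sound _ 0 54 chkP_0 i (by omega) (by omega)

theorem walk_0 : walkC cert cert.m 0 [0, 2, 1, 0, 1, 2, 0, 2, 1, 0, 1, 2, 0, 2, 1, 0, 1, 2] = some 0 := by decide +kernel

end Cfsg.Agent.Lib.Helper46.P3Data
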