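import Cfsg.Agent.Lib.Helper46.TCa

set_option autoImplicit false
set_option maxRecDepth 100000
set_option linter.all false

namespace Cfsg.Agent.Lib.Helper46.P3Data

open Cfsg.Agent.Lib.Helper46.TCa

noncomputable def lEI : Nat := nat_lit 0x27cea12a64991365c58d1e0c4850e03f7af9e3a72edeb8a0ea2376cf9db48cd59cc850d9319f3584a5f2d74e8eb16c990ad54580a60a87e9d33c4ae522370d512d6ed90a068c8fb33cc539d607179b5cacd2c32a8c1752954162a992234251113404889f387880f3a6cc0e3434c8c165cb15142490828349870c4480f141420e182c189042038602142030008080
noncomputable def tEI (i : Nat) : Nat := fget lEI 7 i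

noncomputable def lEU : Nat := nat_lit 0x2d9e59f4ce69239728b1a2986286bb60aec7de75ca9b6a86996177568d65548137d349171140f39838d3152cb2892091c718530510a1030c2081040000
noncomputable def tEU (i : Nat) : Nat := fget lEU 6 i

noncomputable def lEG : Nat := nat_lit 0x9522198918252290664198a41606486498912264
noncomputable def tEG (i : Nat) : Nat := fget lEG 2 i

noncomputable def lEV : Nat := nat_lit 0x35d75ce99b4d33caacacc31c70c2fbefbaebadb2b7aaa5ba279a59245e38a166051f79d49c6da64f61758d5544d245040f38d20c2c6289207185103081
noncomputable def tEV (i : Nat) : Nat := fget lEV 6 i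

noncomputable def lJK : Nat := nat_lit 0x28aa0a2a228a00820088088080202002008200000
noncomputable def tJK (i : Nat) : Nat := fget lJK 2 i

noncomputable def lJR : Nat := nat_lit 0x3c7b0b3b10cb00810004008040200000008100000
noncomputable def tJR (i : Nat) : Nat := fget lJR 2 i

noncomputable def lJC : Nat := nat_lit 0x2bd40cf0cd6000972031c2103002b640aee000000a8001b0000007405c00004c04c000044000000e00000b000000003000000200006000000000000000
noncomputable def tJC (i : Nat) : Nat := fget lJC 6 i

noncomputable def lJT : Nat := nat_lit 0x2b058090000005a0500900b0000000500000050001010001000010001000001000050050000000000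
noncomputable def tJT (i : Nat) : Nat := fget lJT 4 i

noncomputable def lDE : Nat := nat_lit 0x274991160bf78e5c376cd19b160bd72c54a5426488d1203e78e9b3464b962a50991203c70c16244070c142030404000
noncomputable def tDE (i : Nat) : Nat := fget lDE 7 i

noncomputable def rels : List (List Nat) := [[1, 2, 1, 2, 1, 2], [0, 1, 0, 1, 0, 1], [0, 2, 0, 2, 0, 2], [1, 2, 0, 2, 1, 2, 0, 2, 1, 2, 0, 2]]

noncomputable def cert : Cert := ⟨3, 54, 81, 0, tEI, tEU, tEG, tEV, tJK, tJR, tJC, tJT, tDE, rels⟩

end Cfsg.Agent.Lib.Helper46.P3Data
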