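import Cfsg.Agent.Lib.Helper46.P3_L2dCore
import Cfsg.Agent.Lib.Helper25.P3_L2a
import Cfsg.Agent.Lib.Helper27.P3_L2b
import Cfsg.Agent.Lib.Helper5.P3_L2c

/-! # S4427 hive (architect helper56), leaf P3-L2d: an idempotent `ε = t * w` of augmentation 1 with
coefficients in the local ring, for every `t` of augmentation 1 with coefficients in the local ring. -/

set_option autoImplicit false

namespace Cfsg.Agent.Lib.P3

open Cfsg Cfsg.Agent.Lib.Helper77 Cfsg.Agent.Lib.Helper16
open scoped ComplexConjugate
open Polynomial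

universe u

section

variable {G : Type u} [Group G] [Fintype G]

/-! ### P3-L2d : translation MonoidAlgebra <-> coefficient functions with `conv`; uses L2a,L2b,L2c -/
theorem p3_L2d_exists_idem {p : ℕ} {M : Ideal AlgInt} (hpM : IsPModular p M)
    (t : G → ℂ) (ht : ∀ g, MemLocalRing M (t g)) (haug : ∑ g, t g = 1) :
    ∃ ε w : G → ℂ, (∀ g, MemLocalRing M (ε g)) ∧ conv ε ε = ε ∧ ε = conv t w ∧ ∑ g, ε g = 1 := by
  have hM : M.IsPrime := hpM.2.1.isPrime
  have : IsLocalRing (localSubring M hM) := isLocalRing_localSubring hM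
  exact p3_L2d_core hM (fun m => p3_L2a_split m)
    (fun T g h a b hann hab hg0 hh1 => p3_L2b_idem T g h a b hann hab hg0 hh1)
    (fun T => p3_L2c_annih hM T) t ht haug

end

end Cfsg.Agent.Lib.P3
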