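import Cfsg.Agent.Lib.Helper16.LocalS
import Cfsg.Agent.Lib.Helper77.Fourier
import Mathlib

/-! # S4427 hive (architect helper56), leaf P3-L2d, core: translation between the group algebra over
the local ring and coefficient functions with `conv`.  The three inputs L2a, L2b, L2c are hypotheses
here; `P3_L2d.lean` plugs in the landed leaves. -/

set_option autoImplicit false

namespace Cfsg.Agent.Lib.P3

open Cfsg Cfsg.Agent.Lib.Helper77 Cfsg.Agent.Lib.Helper16
open Polynomial

universe u

variable {G : Type u} [Group G] [Fintype G]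

set_option linter.unusedSectionVars false

/-- coefficient function of an element of the group algebra over the local ring. -/
noncomputable def p3_L2d_cf {M : Ideal AlgInt} (hM : M.IsPrime)
    (x : MonoidAlgebra (localSubring M hM) G) : G → ℂ := fun g => ((x.coeff g : localSubring M hM) : ℂ)

/-- the element of the group algebra with a given coefficient function. -/
noncomputable def p3_L2d_toAlg {M : Ideal AlgInt} (hM : M.IsPrime) (t : G → ℂ)
    (ht : ∀ g, MemLocalRing M (t g)) : MonoidAlgebra (localSubring M hM) G :=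
  MonoidAlgebra.ofCoeff (Finsupp.equivFunOnFinite.symm (fun g => (⟨t g, ht g⟩ : localSubring M hM)))

theorem p3_L2d_cf_toAlg {M : Ideal AlgInt} (hM : M.IsPrime) (t : G → ℂ)
    (ht : ∀ g, MemLocalRing M (t g)) : p3_L2d_cf hM (p3_L2d_toAlg hM t ht) = t := by
  funext g
  rfl

theorem p3_L2d_cf_mem {M : Ideal AlgInt} (hM : M.IsPrime)
    (x : MonoidAlgebra (localSubring M hM) G) (g : G) : MemLocalRing M (p3_L2d_cf hM x g) :=
  (x.coeff g).2

theorem p3_L2d_cf_mul {M : Ideal AlgInt} (hM : M.IsPrime)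
    (x y : MonoidAlgebra (localSubring M hM) G) :
    p3_L2d_cf hM (x * y) = conv (p3_L2d_cf hM x) (p3_L2d_cf hM y) := by
  funext g
  unfold p3_L2d_cf conv
  rw [MonoidAlgebra.coeff_mul_apply_left, Finsupp.sum_fintype _ _ (fun h => zero_mul _)]
  rw [← Subring.subtype_apply, map_sum]
  refine Finset.sum_congr rfl fun h _ => ?_
  rw [map_mul]
  rfl

/-- the augmentation of the group algebra. -/
noncomputable def p3_L2d_aug {M : Ideal AlgInt} (hM : M.IsPrime) :
    MonoidAlgebra (localSubring M hM) G →ₐ[localSubring M hM] (localSubring M hM) :=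
  MonoidAlgebra.lift (localSubring M hM) (localSubring M hM) G (1 : G →* (localSubring M hM))

theorem p3_L2d_aug_apply {M : Ideal AlgInt} (hM : M.IsPrime)
    (x : MonoidAlgebra (localSubring M hM) G) :
    ((p3_L2d_aug hM x : localSubring M hM) : ℂ) = ∑ g, p3_L2d_cf hM x g := by
  unfold p3_L2d_aug p3_L2d_cf
  rw [MonoidAlgebra.lift_apply, Finsupp.sum_fintype _ _ (fun h => by simp)]
  rw [← Subring.subtype_apply, map_sum]
  refine Finset.sum_congr rfl fun h _ => ?_
  simp

/-- P3-L2d with the three inputs as hypotheses. -/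
theorem p3_L2d_core {M : Ideal AlgInt} (hM : M.IsPrime)
    (hL2a : ∀ m : Multiset (localSubring M hM),
      ∃ g h a b : Polynomial (localSubring M hM), (m.map (fun c => X - C c)).prod = g * h ∧
        a * g + b * h = 1 ∧ IsUnit (g.eval 0) ∧ IsUnit (h.eval 1))
    (hL2b : ∀ (t : MonoidAlgebra (localSubring M hM) G) (g h a b : Polynomial (localSubring M hM)),
      Polynomial.aeval t (g * h) = 0 → a * g + b * h = 1 → IsUnit (g.eval 0) → IsUnit (h.eval 1) →
      ∃ ε w : MonoidAlgebra (localSubring M hM) G, ε * ε = ε ∧ ε = t * w ∧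
        ∀ φ : MonoidAlgebra (localSubring M hM) G →ₐ[localSubring M hM] (localSubring M hM),
          φ t = 1 → φ ε = 1)
    (hL2c : ∀ t : MonoidAlgebra (localSubring M hM) G, ∃ m : Multiset (localSubring M hM),
      Polynomial.aeval t ((m.map (fun c => X - C c)).prod) = 0)
    (t : G → ℂ) (ht : ∀ g, MemLocalRing M (t g)) (haug : ∑ g, t g = 1) :
    ∃ ε w : G → ℂ, (∀ g, MemLocalRing M (ε g)) ∧ conv ε ε = ε ∧ ε = conv t w ∧ ∑ g, ε g = 1 := by
  set T := p3_L2d_toAlg hM t ht with hT
  obtain ⟨m, hm⟩ := hL2c T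
  obtain ⟨g, h, a, b, hgh, hab, hg0, hh1⟩ := hL2a m
  rw [hgh] at hm
  obtain ⟨ε, w, hεε, hεw, hφ⟩ := hL2b T g h a b hm hab hg0 hh1
  refine ⟨p3_L2d_cf hM ε, p3_L2d_cf hM w, p3_L2d_cf_mem hM ε, ?_, ?_, ?_⟩
  · rw [← p3_L2d_cf_mul, hεε]
  · conv_lhs => rw [hεw]
    rw [p3_L2d_cf_mul, hT, p3_L2d_cf_toAlg]
  · have h1 : p3_L2d_aug hM T = 1 := by
      apply Subtype.ext
      rw [p3_L2d_aug_apply, hT, p3_L2d_cf_toAlg, haug]
      rfl
    have h2 := hφ (p3_L2d_aug hM) h1
    rw [← p3_L2d_aug_apply, h2]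
    rfl

end Cfsg.Agent.Lib.P3
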