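import Cfsg.Agent.Lib.Helper46.PReduced2
import Cfsg.Agent.Lib.Helper46.SylowAux

set_option autoImplicit false

namespace Cfsg.Agent.Lib.Helper46

open Cfsg

variable {L : Type*} [Group L]

/-- General criterion: the normal closure of a subgroup `X'` of `Ω₁ Z(O_p(L))` is `p`-reduced normal provided
every normal subgroup `D` that is a `p`-group modulo `C(Y)` has `D ⊓ T` centralizing `X'`. -/
theorem pReduced_normalClosure_of [Finite L] {p : ℕ} [Fact p.Prime] (T : Sylow p L) (X' : Subgroup L)
    (hXQ : X' ≤ Cfsg.pCore p L ⊓ Subgroup.centralizer (Cfsg.pCore p L : Set L))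
    (hXp : ∀ a ∈ X', a ^ p = 1)
    (hDT : ∀ D : Subgroup L, D.Normal →
      Subgroup.centralizer ((Subgroup.normalClosure (X' : Set L) : Subgroup L) : Set L) ≤ D →
      (∀ d ∈ D, ∃ k : ℕ, d ^ (p ^ k) ∈
        Subgroup.centralizer ((Subgroup.normalClosure (X' : Set L) : Subgroup L) : Set L)) →
      D ⊓ (T : Subgroup L) ≤ Subgroup.centralizer (X' : Set L)) :
    Cfsg.IsPReducedNormal p (Subgroup.normalClosure (X' : Set L)) := by
  set Q : Subgroup L := Cfsg.pCore p L with hQ
  have hQn : Q.Normal := Cfsg.pCore_normal p L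
  have hCQn : (Subgroup.centralizer (Q : Set L)).Normal := Subgroup.normal_centralizer
  let K : Subgroup L :=
    { carrier := {a | a ∈ Q ⊓ Subgroup.centralizer (Q : Set L) ∧ a ^ p = 1}
      one_mem' := ⟨Subgroup.one_mem _, one_pow _⟩
      mul_mem' := by
        rintro a b ⟨ha, hap⟩ ⟨hb, hbp⟩
        refine ⟨Subgroup.mul_mem _ ha hb, ?_⟩
        have hc : Commute a b := by
          have := (Subgroup.mem_centralizer_iff.mp ha.2) b hb.1
          exact this.symm
        rw [hc.mul_pow, hap, hbp, one_mul]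
      inv_mem' := by
        rintro a ⟨ha, hap⟩
        refine ⟨Subgroup.inv_mem _ ha, ?_⟩
        rw [inv_pow, hap, inv_one] }
  have hKn : K.Normal := by
    constructor
    intro a ha g
    refine ⟨⟨hQn.conj_mem a ha.1.1 g, hCQn.conj_mem a ha.1.2 g⟩, ?_⟩
    rw [conj_pow, ha.2]; simp
  have hXK : (X' : Set L) ⊆ K := fun a ha => ⟨hXQ ha, hXp a ha⟩
  set Y : Subgroup L := Subgroup.normalClosure (X' : Set L) with hY
  have hYK : Y ≤ K := Subgroup.normalClosure_le_normal hXK
  have hKcomm : K ≤ Subgroup.centralizer (K : Set L) := by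
    intro a ha
    rw [Subgroup.mem_centralizer_iff]
    intro b hb
    exact (Subgroup.mem_centralizer_iff.mp ha.1.2) b hb.1.1
  have hYcomm : Y ≤ Subgroup.centralizer (Y : Set L) :=
    hYK.trans (hKcomm.trans (Subgroup.centralizer_le hYK))
  have hYn : Y.Normal := Subgroup.normalClosure_normal
  refine ⟨hYn, ⟨Subgroup.le_centralizer_iff_isMulCommutative.mp hYcomm, fun a ha => (hYK ha).2⟩, ?_⟩
  refine ⟨inferInstance, ?_⟩
  apply pCore_quot_eq_bot_of
  intro D hD hCD hDp
  have hXY : X' ≤ Y := Subgroup.le_normalClosure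
  have hCYX : Subgroup.centralizer (Y : Set L) ≤ Subgroup.centralizer (X' : Set L) :=
    Subgroup.centralizer_le hXY
  have hDR := hDT D hD hCD hDp
  have hDX : D ≤ Subgroup.centralizer (X' : Set L) := by
    intro d hd
    let π := QuotientGroup.mk' (Subgroup.centralizer (Y : Set L))
    have hπ : Function.Surjective π := QuotientGroup.mk'_surjective _
    have hDn : (D.map π).Normal := Subgroup.Normal.map hD _ hπ
    have hDpg : IsPGroup p (D.map π) := by
      rintro ⟨x, hx⟩
      obtain ⟨e, he, rfl⟩ := Subgroup.mem_map.mp hx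
      obtain ⟨k, hk⟩ := hDp e he
      refine ⟨k, ?_⟩
      ext
      simp only [Subgroup.coe_pow, Subgroup.coe_one]
      rw [← map_pow]
      exact (QuotientGroup.eq_one_iff _).mpr hk
    have hle : D.map π ≤ ((T.mapSurjective hπ : Sylow p _) : Subgroup _) :=
      IsPGroup.le_sylow_of_normal hDpg _
    have hd' : π d ∈ ((T.mapSurjective hπ : Sylow p _) : Subgroup _) :=
      hle (Subgroup.mem_map_of_mem _ hd)
    rw [Sylow.coe_mapSurjective] at hd'
    obtain ⟨t, ht, hte⟩ := Subgroup.mem_map.mp hd'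
    have hc : t⁻¹ * d ∈ Subgroup.centralizer (Y : Set L) := by
      have : π (t⁻¹ * d) = 1 := by
        rw [map_mul, map_inv, hte]; simp
      exact (QuotientGroup.eq_one_iff _).mp this
    have htD : t ∈ D := by
      have : t = d * (t⁻¹ * d)⁻¹ := by group
      rw [this]
      exact D.mul_mem hd (D.inv_mem (hCD hc))
    have htX : t ∈ Subgroup.centralizer (X' : Set L) := hDR ⟨htD, ht⟩
    have : d = t * (t⁻¹ * d) := by group
    rw [this]
    exact Subgroup.mul_mem _ htX (hCYX hc)
  rw [Subgroup.le_centralizer_iff]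
  have hCDn : (Subgroup.centralizer (D : Set L)).Normal := Subgroup.normal_centralizer
  apply Subgroup.normalClosure_le_normal
  exact Subgroup.le_centralizer_iff.mp hDX

end Cfsg.Agent.Lib.Helper46
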