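import Mathlib
import Cfsg.Agent.Lib.Helper17.ActionCounts

set_option autoImplicit false
set_option linter.style.haveILetI false
set_option linter.unusedSectionVars false

/-!
# No permutation group of order 70 on eight points
-/

namespace Cfsg.Agent.Lib.Helper46.Perm70

open MulAction Subgroup

/-- Fixed-point congruence for an element of prime-power-free order `q` on an invariant set. -/
theorem card_inter_fixedBy_modEq {M X : Type*} [Group M] [MulAction M X] {q : ℕ}
    [hq : Fact q.Prime] (g : M) (hg : g ^ q = 1) (S : Set X) [Finite S]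
    (hS : ∀ x ∈ S, g • x ∈ S) :
    Nat.card S ≡ Nat.card (S ∩ fixedBy X g : Set X) [MOD q] := by
  have hz : IsPGroup q ↥(Subgroup.zpowers g) := by
    rintro ⟨a, ha⟩
    obtain ⟨k, rfl⟩ := Subgroup.mem_zpowers_iff.mp ha
    refine ⟨1, ?_⟩
    apply Subtype.ext
    show (g ^ k) ^ q ^ 1 = 1
    rw [pow_one, ← zpow_natCast, ← zpow_mul, mul_comm, zpow_mul, zpow_natCast, hg, one_zpow]
  have hSn : ∀ n : ℕ, ∀ x ∈ S, g ^ n • x ∈ S := by
    intro n
    induction n with
    | zero => intro x hx; simpa using hx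
    | succ n ih =>
      intro x hx
      rw [pow_succ, mul_smul]
      exact ih _ (hS x hx)
  have hinv : ∀ a : ↥(Subgroup.zpowers g), ∀ x ∈ S, a • x ∈ S := by
    rintro ⟨a, ha⟩ x hx
    obtain ⟨k, rfl⟩ := Subgroup.mem_zpowers_iff.mp ha
    have hk : g ^ k = g ^ (k % (q : ℤ)).toNat := by
      have h1 : (0 : ℤ) ≤ k % (q : ℤ) := Int.emod_nonneg k (by exact_mod_cast hq.out.ne_zero)
      have h2 : g ^ (k % (q : ℤ)) = g ^ k := by
        have h3 : k = k % (q : ℤ) + (q : ℤ) * (k / (q : ℤ)) := (Int.emod_add_mul_ediv k q).symm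
        conv_rhs => rw [h3]
        rw [zpow_add, zpow_mul, zpow_natCast, hg, one_zpow, mul_one]
      rw [← h2]
      conv_lhs => rw [← Int.toNat_of_nonneg h1]
      rw [zpow_natCast]
    show g ^ k • x ∈ S
    rw [hk]
    exact hSn _ x hx
  have h := Cfsg.Agent.Lib.Helper17.card_invariant_modEq (A := ↥(Subgroup.zpowers g))
    (X := X) hz S hinv
  have hset : fixedPoints ↥(Subgroup.zpowers g) X = fixedBy X g := by
    ext x
    rw [MulAction.mem_fixedPoints, MulAction.mem_fixedBy]
    constructor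
    · intro h
      exact h ⟨g, Subgroup.mem_zpowers g⟩
    · intro h z
      have hle : Subgroup.zpowers g ≤ MulAction.stabilizer M x :=
        Subgroup.zpowers_le.mpr (MulAction.mem_stabilizer_iff.mpr h)
      exact MulAction.mem_stabilizer_iff.mp (hle z.2)
  rw [hset] at h
  exact h

/-- A criterion for the uniqueness of the Sylow `q`-subgroup. -/
theorem card_sylow_eq_one {K : Type*} [Group K] [Finite K] (q m : ℕ) [hq : Fact q.Prime]
    (hK : Nat.card K = q * m) (hqm : ¬ q ∣ m)
    (hdiv : ∀ d, d ∣ m → d % q = 1 → d = 1) : Nat.card (Sylow q K) = 1 := by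
  obtain ⟨P⟩ : Nonempty (Sylow q K) := inferInstance
  have h1 : Nat.card (Sylow q K) % q = 1 := by
    have := card_sylow_modEq_one q K
    rw [Nat.ModEq, Nat.mod_eq_of_lt hq.out.one_lt] at this
    exact this
  have h2 : Nat.card (Sylow q K) ∣ (P : Subgroup K).index := P.card_dvd_index
  have h3 := Subgroup.card_mul_index (P : Subgroup K)
  rw [hK] at h3
  have h4 : ¬ q ∣ (P : Subgroup K).index := P.not_dvd_index
  have hco : Nat.Coprime (P : Subgroup K).index q :=
    ((Nat.Prime.coprime_iff_not_dvd hq.out).mpr h4).symm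
  have h5 : (P : Subgroup K).index ∣ q * m := Dvd.intro_left _ h3
  have h6 : (P : Subgroup K).index ∣ m := hco.dvd_of_dvd_mul_left h5
  exact hdiv _ (h2.trans h6) h1

/-- An element of prime order `q` lies in the unique Sylow `q`-subgroup, which is normal. -/
theorem exists_normal_sylow {K : Type*} [Group K] [Finite K] (q : ℕ) [hq : Fact q.Prime]
    (h1 : Nat.card (Sylow q K) = 1) :
    ∃ P : Subgroup K, P.Normal ∧ IsPGroup q P ∧ ∀ x : K, x ^ q = 1 → x ∈ P := by
  obtain ⟨P⟩ : Nonempty (Sylow q K) := inferInstance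
  haveI : Subsingleton (Sylow q K) := (Nat.card_eq_one_iff_unique.mp h1).1
  refine ⟨P, Sylow.normal_of_subsingleton P, P.2, ?_⟩
  intro x hx
  have hz : IsPGroup q ↥(Subgroup.zpowers x) := by
    rintro ⟨a, ha⟩
    obtain ⟨k, rfl⟩ := Subgroup.mem_zpowers_iff.mp ha
    refine ⟨1, ?_⟩
    apply Subtype.ext
    show (x ^ k) ^ q ^ 1 = 1
    rw [pow_one, ← zpow_natCast, ← zpow_mul, mul_comm, zpow_mul, zpow_natCast, hx, one_zpow]
  obtain ⟨Q, hQ⟩ := hz.exists_le_sylow
  rw [Subsingleton.elim Q P] at hQ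
  exact hQ (Subgroup.mem_zpowers x)

/-- No group of permutations of eight points has order 70. -/
theorem false_of_card_seventy {X : Type*} [Finite X] (hX : Nat.card X = 8)
    (H : Subgroup (Equiv.Perm X)) (hH : Nat.card H = 70) : False := by
  haveI : Fact (Nat.Prime 5) := ⟨by norm_num⟩
  haveI : Fact (Nat.Prime 7) := ⟨by norm_num⟩
  haveI : Finite H := Nat.finite_of_card_ne_zero (by rw [hH]; norm_num)
  have h5 : Nat.card (Sylow 5 H) = 1 := by
    apply card_sylow_eq_one 5 14 (by rw [hH]) (by norm_num)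
    intro d hd hd1
    have : d ∈ Nat.divisors 14 := Nat.mem_divisors.mpr ⟨hd, by norm_num⟩
    have hdiv : Nat.divisors 14 = {1, 2, 7, 14} := by decide
    rw [hdiv] at this
    simp only [Finset.mem_insert, Finset.mem_singleton] at this
    rcases this with rfl | rfl | rfl | rfl <;> simp_all
  have h7 : Nat.card (Sylow 7 H) = 1 := by
    apply card_sylow_eq_one 7 10 (by rw [hH]) (by norm_num)
    intro d hd hd1
    have : d ∈ Nat.divisors 10 := Nat.mem_divisors.mpr ⟨hd, by norm_num⟩
    have hdiv : Nat.divisors 10 = {1, 2, 5, 10} := by decide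
    rw [hdiv] at this
    simp only [Finset.mem_insert, Finset.mem_singleton] at this
    rcases this with rfl | rfl | rfl | rfl <;> simp_all
  obtain ⟨P5, hP5n, hP5, hP5mem⟩ := exists_normal_sylow 5 h5
  obtain ⟨P7, hP7n, hP7, hP7mem⟩ := exists_normal_sylow 7 h7
  obtain ⟨v, hv⟩ := exists_prime_orderOf_dvd_card' (G := H) 5 (by rw [hH]; norm_num)
  obtain ⟨w, hw⟩ := exists_prime_orderOf_dvd_card' (G := H) 7 (by rw [hH]; norm_num)
  have hv5 : v ^ 5 = 1 := by rw [← hv]; exact pow_orderOf_eq_one v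
  have hw7 : w ^ 7 = 1 := by rw [← hw]; exact pow_orderOf_eq_one w
  have hv1 : v ≠ 1 := by
    rintro rfl; rw [orderOf_one] at hv; omega
  have hw1 : w ≠ 1 := by
    rintro rfl; rw [orderOf_one] at hw; omega
  have hdisj : Disjoint P5 P7 := IsPGroup.disjoint_of_ne 5 7 (by norm_num) P5 P7 hP5 hP7
  have hcomm : Commute v w :=
    Subgroup.commute_of_normal_of_disjoint P5 P7 hP5n hP7n hdisj v w (hP5mem v hv5) (hP7mem w hw7)
  -- now work with the permutations
  have hv5' : (v : Equiv.Perm X) ^ 5 = 1 := by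
    have := congrArg Subtype.val hv5; simpa using this
  have hw7' : (w : Equiv.Perm X) ^ 7 = 1 := by
    have := congrArg Subtype.val hw7; simpa using this
  have hv1' : (v : Equiv.Perm X) ≠ 1 := fun e => hv1 (Subtype.ext e)
  have hw1' : (w : Equiv.Perm X) ≠ 1 := fun e => hw1 (Subtype.ext e)
  have hcomm' : (v : Equiv.Perm X) * (w : Equiv.Perm X) = (w : Equiv.Perm X) * (v : Equiv.Perm X) := by
    have := congrArg Subtype.val hcomm.eq; simpa using this
  -- fixed points
  have hlt : ∀ σ : Equiv.Perm X, σ ≠ 1 → Nat.card ↥(fixedBy X σ) < 8 := by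
    intro σ hσ
    have hle : (fixedBy X σ).ncard ≤ Nat.card X := Set.ncard_le_card _
    rw [Nat.card_coe_set_eq]
    rcases Nat.lt_or_ge (fixedBy X σ).ncard 8 with h | h
    · exact h
    · exfalso
      apply hσ
      have huniv : fixedBy X σ = Set.univ := by
        rw [Set.eq_univ_iff_ncard]; omega
      ext x
      have : x ∈ fixedBy X σ := by rw [huniv]; exact Set.mem_univ x
      exact this
  have huniv8 : Nat.card ↥(Set.univ : Set X) = 8 := by
    rw [Nat.card_coe_set_eq, Set.ncard_univ, hX]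
  have hcw : Nat.card ↥(fixedBy X (w : Equiv.Perm X)) = 1 := by
    have h1 := card_inter_fixedBy_modEq (M := Equiv.Perm X) (X := X) (q := 7)
      (w : Equiv.Perm X) hw7' Set.univ (fun x _ => Set.mem_univ _)
    rw [Set.univ_inter, huniv8] at h1
    have h2 := hlt _ hw1'
    have h3 : 8 % 7 = Nat.card ↥(fixedBy X (w : Equiv.Perm X)) % 7 := h1
    omega
  have hcv : Nat.card ↥(fixedBy X (v : Equiv.Perm X)) = 3 := by
    have h1 := card_inter_fixedBy_modEq (M := Equiv.Perm X) (X := X) (q := 5)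
      (v : Equiv.Perm X) hv5' Set.univ (fun x _ => Set.mem_univ _)
    rw [Set.univ_inter, huniv8] at h1
    have h2 := hlt _ hv1'
    have h3 : 8 % 5 = Nat.card ↥(fixedBy X (v : Equiv.Perm X)) % 5 := h1
    omega
  have hinv : ∀ x ∈ fixedBy X (v : Equiv.Perm X), (w : Equiv.Perm X) • x ∈
      fixedBy X (v : Equiv.Perm X) := by
    intro x hx
    rw [MulAction.mem_fixedBy] at hx ⊢
    rw [← mul_smul, hcomm', mul_smul, hx]
  have h1 := card_inter_fixedBy_modEq (M := Equiv.Perm X) (X := X) (q := 7)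
    (w : Equiv.Perm X) hw7' (fixedBy X (v : Equiv.Perm X)) hinv
  have h2 : Nat.card ↥(fixedBy X (v : Equiv.Perm X) ∩ fixedBy X (w : Equiv.Perm X) : Set X) ≤
      Nat.card ↥(fixedBy X (w : Equiv.Perm X)) := by
    rw [Nat.card_coe_set_eq, Nat.card_coe_set_eq]
    exact Set.ncard_le_ncard Set.inter_subset_right
  rw [hcv] at h1
  rw [hcw] at h2
  have h3 : 3 % 7 = Nat.card ↥(fixedBy X (v : Equiv.Perm X) ∩ fixedBy X (w : Equiv.Perm X) :
      Set X) % 7 := h1
  omega

end Cfsg.Agent.Lib.Helper46.Perm70
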