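import Cfsg.Agent.Lib.Helper46.Mod7

set_option autoImplicit false
set_option linter.all false
set_option maxHeartbeats 1000000

namespace Cfsg.Agent.Lib.Helper46.Mod

open Cfsg

universe u

variable {G : Type u} [Group G]

/-- conjugation action of `G` on a normal subgroup, written additively -/
def conjEnd (M : Subgroup G) [hMn : M.Normal] : G →* AddMonoid.End (Additive ↥M) where
  toFun g :=
    { toFun := fun a => Additive.ofMul ⟨g * (Additive.toMul a).1 * g⁻¹, hMn.conj_mem _ (Additive.toMul a).2 g⟩
      map_zero' := by
        apply Additive.toMul.injective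
        apply Subtype.ext
        simp
      map_add' := by
        intro a b
        apply Additive.toMul.injective
        apply Subtype.ext
        simp only [toMul_add, toMul_ofMul, Subgroup.coe_mul]
        group }
  map_one' := by
    refine DFunLike.ext _ _ (fun a => ?_)
    apply Additive.toMul.injective
    apply Subtype.ext
    show 1 * (Additive.toMul a).1 * 1⁻¹ = (Additive.toMul a).1
    group
  map_mul' := by
    intro g h
    refine DFunLike.ext _ _ (fun a => ?_)
    apply Additive.toMul.injective
    apply Subtype.ext
    show g * h * (Additive.toMul a).1 * (g * h)⁻¹ = g * (h * (Additive.toMul a).1 * h⁻¹) * g⁻¹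
    group

theorem conjEnd_apply (M : Subgroup G) [hMn : M.Normal] (g : G) (a : Additive ↥M) :
    ((Additive.toMul (conjEnd M g a) : ↥M) : G) = g * ((Additive.toMul a : ↥M) : G) * g⁻¹ := rfl

theorem mem_ker_conjEnd (M : Subgroup G) [hMn : M.Normal] (g : G) :
    g ∈ (conjEnd M).ker ↔ ∀ m ∈ M, g * m = m * g := by
  rw [MonoidHom.mem_ker]
  constructor
  · intro h m hm
    have := congrArg (fun f : AddMonoid.End (Additive ↥M) => f (Additive.ofMul ⟨m, hm⟩)) h
    have h2 := congrArg (fun a : Additive ↥M => ((Additive.toMul a : ↥M) : G)) this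
    simp only [conjEnd_apply] at h2
    have h3 : g * m * g⁻¹ = m := h2
    calc g * m = g * m * g⁻¹ * g := by group
      _ = m * g := by rw [h3]
  · intro h
    refine DFunLike.ext _ _ (fun a => ?_)
    apply Additive.toMul.injective
    apply Subtype.ext
    have := h _ (Additive.toMul a).2
    show g * (Additive.toMul a).1 * g⁻¹ = (Additive.toMul a).1
    rw [this]; group

/-- a pure group identity behind the module condition -/
theorem cond_identity {t w : G} (ht : t ^ 3 = 1) (htw : (t * w) ^ 3 = 1) :
    w * (t * w * t⁻¹) * (t * (t * w * t⁻¹) * t⁻¹) = 1 := by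
  have h1 : t * t * t = 1 := by rw [← ht, pow_succ, pow_two]
  have h2 : t * w * (t * w) * (t * w) = 1 := by rw [← htw, pow_succ, pow_two]
  have : w * (t * w * t⁻¹) * (t * (t * w * t⁻¹) * t⁻¹) =
      w * (t * w * (t * w) * (t * w)) * w⁻¹ * (t * t * t)⁻¹ := by group
  rw [this, h1, h2]; group

end Cfsg.Agent.Lib.Helper46.Mod
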