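import Cfsg.Agent.Lib.Helper46.Plumb1

set_option autoImplicit false
set_option linter.all false
set_option maxHeartbeats 1000000

namespace Cfsg.Agent.Lib.Helper46.Mod

open Cfsg

universe u

variable {G : Type u} [Group G]

/-- the cubic relation for the commutator of a member with an element of the module -/
theorem key_w (V M : Subgroup G) [hVn : V.Normal] [hMn : M.Normal] (hMV : M ≤ V)
    (E : Set G) (hEconj : ∀ g : G, ∀ e ∈ E, g * e * g⁻¹ ∈ E) (hEinv : ∀ e ∈ E, e * e = 1)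
    (hdich : ∀ a ∈ E, ∀ b ∈ E, a * b ∈ V ∨ ((a * b) ^ 3 = 1 ∧ a * b ∉ V))
    {a b : G} (ha : a ∈ E) (hb : b ∈ E) (hab : a * b ∉ V) {m : G} (hm : m ∈ M) :
    (b * m * b⁻¹ * m⁻¹) * ((a * b) * (b * m * b⁻¹ * m⁻¹) * (a * b)⁻¹) *
      ((a * b) * ((a * b) * (b * m * b⁻¹ * m⁻¹) * (a * b)⁻¹) * (a * b)⁻¹) = 1 := by
  have hbi : b⁻¹ = b := inv_eq_of_mul_eq_one_left (hEinv b hb)
  obtain ⟨ht3, -⟩ := (hdich a ha b hb).resolve_left hab
  have hb' : m * b * m⁻¹ ∈ E := hEconj m b hb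
  have hwM : b⁻¹ * m * b * m⁻¹ ∈ M := by
    have h1 : b⁻¹ * m * b⁻¹⁻¹ ∈ M := hMn.conj_mem m hm b⁻¹
    rw [inv_inv] at h1
    exact M.mul_mem h1 (M.inv_mem hm)
  have e0 : a * (m * b * m⁻¹) = (a * b) * (b⁻¹ * m * b * m⁻¹) := by group
  have hab' : a * (m * b * m⁻¹) ∉ V := by
    intro h
    apply hab
    have : a * b = a * (m * b * m⁻¹) * (b⁻¹ * m * b * m⁻¹)⁻¹ := by rw [e0]; group
    rw [this]
    exact V.mul_mem h (V.inv_mem (hMV hwM))
  obtain ⟨h3', -⟩ := (hdich a ha _ hb').resolve_left hab'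
  have e1 : a * (m * b * m⁻¹) = (a * b) * (b * m * b⁻¹ * m⁻¹) := by
    rw [e0]
    congr 1
    rw [hbi]
  apply cond_identity ht3
  rw [← e1]; exact h3'

theorem module_setting [Finite G] (V M : Subgroup G) [hVn : V.Normal] (hV2 : IsPGroup 2 V)
    [hMn : M.Normal] (hMV : M ≤ V) (hMc : ∀ v ∈ V, ∀ m ∈ M, v * m = m * v) (hM1 : M ≠ ⊥)
    (hMirr : ∀ N : Subgroup G, N.Normal → N ≤ M → N = ⊥ ∨ N = M)
    (E : Set G) (hEconj : ∀ g : G, ∀ e ∈ E, g * e * g⁻¹ ∈ E) (hEgen : Subgroup.closure E = ⊤)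
    (hEinv : ∀ e ∈ E, e * e = 1)
    (hdich : ∀ a ∈ E, ∀ b ∈ E, a * b ∈ V ∨ ((a * b) ^ 3 = 1 ∧ a * b ∉ V))
    (hact : ∀ e ∈ E, ∃ m ∈ M, e * m ≠ m * e) :
    ∃ (Q : Type u) (_ : Group Q) (_ : Finite Q) (A : Type u) (_ : AddCommGroup A)
      (φ : Q →* AddMonoid.End A) (ψ : G →* Q),
      Hyp φ (ψ '' E) ∧ (∀ v ∈ V, ψ v = 1) ∧ (∀ a ∈ E, ∀ b ∈ E, ψ a = ψ b → a * b ∈ V) ∧
        (ψ '' E).ncard ≤ 9 := by
  classical
  letI instC : CommGroup ↥M :=
    { (inferInstance : Group ↥M) with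
      mul_comm := fun x y => Subtype.ext (hMc x.1 (hMV x.2) y.1 y.2) }
  obtain ⟨φ0, hφ0⟩ : ∃ φ0 : G →* AddMonoid.End (Additive ↥M), φ0 = conjEnd M := ⟨_, rfl⟩
  let ψ : G →* G ⧸ φ0.ker := QuotientGroup.mk' φ0.ker
  let φ : G ⧸ φ0.ker →* AddMonoid.End (Additive ↥M) := QuotientGroup.lift φ0.ker φ0 (fun g hg => hg)
  have hφψ : ∀ g : G, φ (ψ g) = φ0 g := fun g => QuotientGroup.lift_mk' φ0.ker (fun g hg => hg) g
  have hφinj : Function.Injective φ := by
    intro q q' h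
    obtain ⟨g, rfl⟩ := QuotientGroup.mk'_surjective φ0.ker q
    obtain ⟨g', rfl⟩ := QuotientGroup.mk'_surjective φ0.ker q'
    have h1 : φ0 g = φ0 g' := by rw [← hφψ g, ← hφψ g']; exact h
    show ((g : G) : G ⧸ φ0.ker) = ((g' : G) : G ⧸ φ0.ker)
    rw [QuotientGroup.eq, MonoidHom.mem_ker, map_mul, ← h1, ← map_mul, inv_mul_cancel, map_one]
  have hψsurj : Function.Surjective ψ := QuotientGroup.mk'_surjective _
  have hker : ∀ g : G, ψ g = 1 ↔ ∀ m ∈ M, g * m = m * g := by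
    intro g
    show ((g : G) : G ⧸ φ0.ker) = 1 ↔ _
    rw [QuotientGroup.eq_one_iff, hφ0, mem_ker_conjEnd]
  have hψV : ∀ v ∈ V, ψ v = 1 := fun v hv => (hker v).mpr (fun m hm => hMc v hv m hm)
  have hkey := fun {a b : G} (ha : a ∈ E) (hb : b ∈ E) (hab : a * b ∉ V) {m : G} (hm : m ∈ M) =>
    key_w V M hMV E hEconj hEinv hdich ha hb hab hm
  have h2grp : ∀ x ∈ M, x ^ 3 = 1 → x = 1 := by
    intro x hx h3
    obtain ⟨k, hk⟩ := hV2 ⟨x, hMV hx⟩
    have hk' : x ^ (2 ^ k) = 1 := by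
      have := congrArg Subtype.val hk
      simpa using this
    have hcop : Nat.Coprime 3 (2 ^ k) := by
      apply Nat.Coprime.pow_right; norm_num
    have h1 : orderOf x ∣ 3 := orderOf_dvd_of_pow_eq_one h3
    have h2 : orderOf x ∣ 2 ^ k := orderOf_dvd_of_pow_eq_one hk'
    have : orderOf x ∣ 1 := by
      have := Nat.dvd_gcd h1 h2
      rwa [hcop.gcd_eq_one] at this
    exact orderOf_eq_one_iff.mp (Nat.dvd_one.mp this)
  have hψinv : ∀ b ∈ E, (ψ b)⁻¹ = ψ b := by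
    intro b hb
    apply inv_eq_of_mul_eq_one_left
    rw [← map_mul, hEinv b hb, map_one]
  -- equal images force the same coset
  have hsame : ∀ a ∈ E, ∀ b ∈ E, ψ a = ψ b → a * b ∈ V := by
    intro a ha b hb hab
    by_contra hV
    have ht : ψ (a * b) = 1 := by
      rw [map_mul, hab, ← map_mul, hEinv b hb, map_one]
    have htc := (hker (a * b)).mp ht
    obtain ⟨m, hm, hne⟩ := hact b hb
    apply hne
    have hwM : b * m * b⁻¹ * m⁻¹ ∈ M := M.mul_mem (hMn.conj_mem m hm b) (M.inv_mem hm)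
    have hk := hkey ha hb hV hm
    have hc := htc _ hwM
    have h1 : (a * b) * (b * m * b⁻¹ * m⁻¹) * (a * b)⁻¹ = b * m * b⁻¹ * m⁻¹ := by
      rw [hc]; group
    rw [h1, h1] at hk
    have h3 : (b * m * b⁻¹ * m⁻¹) ^ 3 = 1 := by rw [pow_succ, pow_two]; exact hk
    have h4 := h2grp _ hwM h3
    calc b * m = (b * m * b⁻¹ * m⁻¹) * (m * b) := by group
      _ = m * b := by rw [h4, one_mul]
  have hH : Hyp φ (ψ '' E) := by
    refine ⟨hφinj, ?_, ?_, ?_, ?_, ?_, ?_⟩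
    · intro m
      obtain ⟨k, hk⟩ := hV2 ⟨(Additive.toMul m).1, hMV (Additive.toMul m).2⟩
      refine ⟨k, ?_⟩
      apply Additive.toMul.injective
      apply Subtype.ext
      have hk' : ((Additive.toMul m).1 : G) ^ (2 ^ k) = 1 := by
        have := congrArg Subtype.val hk
        simpa using this
      simp only [toMul_nsmul, toMul_zero, Subgroup.coe_pow, Subgroup.coe_one]
      exact hk'
    · rintro g e ⟨e0, he0, rfl⟩
      obtain ⟨g0, rfl⟩ := hψsurj g
      exact ⟨g0 * e0 * g0⁻¹, hEconj g0 e0 he0, by simp only [map_mul, map_inv]⟩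
    · rintro e ⟨e0, he0, rfl⟩
      rw [← map_mul, hEinv e0 he0, map_one]
    · rintro e ⟨a, ha, rfl⟩ e' ⟨b, hb, rfl⟩
      rcases hdich a ha b hb with h | ⟨h, _⟩
      · rw [← map_mul, hψV _ h, one_pow]
      · rw [← map_mul, ← map_pow, h, map_one]
    · rintro e ⟨a, ha, rfl⟩ e' ⟨b, hb, rfl⟩ hne m
      have hab : a * b ∉ V := by
        intro h
        apply hne
        have h1 : ψ a * ψ b = 1 := by rw [← map_mul]; exact hψV _ h
        rw [eq_inv_of_mul_eq_one_left h1, hψinv b hb]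
      have hk := hkey ha hb hab (Additive.toMul m).2
      rw [← map_mul, hφψ, hφψ]
      apply Additive.toMul.injective
      apply Subtype.ext
      rw [hφ0]
      simp only [toMul_add, toMul_sub, toMul_zero, Subgroup.coe_mul, Subgroup.coe_div,
        Subgroup.coe_one, Subgroup.coe_inv, conjEnd_apply, div_eq_mul_inv]
      exact hk
    · rintro ⟨e0, he0, h⟩
      obtain ⟨m, hm, hne⟩ := hact e0 he0
      exact hne ((hker e0).mp h m hm)
  have hgen : Subgroup.closure (ψ '' E) = ⊤ := by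
    rw [← MonoidHom.map_closure, hEgen, ← MonoidHom.range_eq_map, MonoidHom.range_eq_top]
    exact hψsurj
  haveI : Nontrivial (Additive ↥M) := by
    have : ∃ m ∈ M, m ≠ 1 := by
      by_contra h
      push Not at h
      apply hM1
      rw [Subgroup.eq_bot_iff_forall]
      exact h
    obtain ⟨m, hm, hm1⟩ := this
    refine ⟨⟨Additive.ofMul ⟨m, hm⟩, 0, ?_⟩⟩
    intro h
    apply hm1
    have := congrArg (fun a : Additive ↥M => ((Additive.toMul a : ↥M) : G)) h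
    simpa using this
  have hirr : ∀ B : AddSubgroup (Additive ↥M), (∀ g : G ⧸ φ0.ker, ∀ m ∈ B, φ g m ∈ B) →
      B = ⊥ ∨ B = ⊤ := by
    intro B hB
    let N : Subgroup G :=
      { carrier := {x | ∃ h : x ∈ M, Additive.ofMul (⟨x, h⟩ : ↥M) ∈ B}
        one_mem' := ⟨M.one_mem, B.zero_mem⟩
        mul_mem' := by
          rintro x y ⟨hx, hxB⟩ ⟨hy, hyB⟩
          exact ⟨M.mul_mem hx hy, B.add_mem hxB hyB⟩
        inv_mem' := by
          rintro x ⟨hx, hxB⟩
          exact ⟨M.inv_mem hx, B.neg_mem hxB⟩ }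
    have hNn : N.Normal := by
      refine ⟨?_⟩
      rintro x ⟨hx, hxB⟩ g
      refine ⟨hMn.conj_mem x hx g, ?_⟩
      have := hB (ψ g) _ hxB
      rw [hφψ, hφ0] at this
      exact this
    have hNM : N ≤ M := fun x hx => hx.1
    rcases hMirr N hNn hNM with h | h
    · left
      rw [AddSubgroup.eq_bot_iff_forall]
      intro a ha
      have : ((Additive.toMul a : ↥M) : G) ∈ N := ⟨(Additive.toMul a).2, ha⟩
      rw [h, Subgroup.mem_bot] at this
      apply Additive.toMul.injective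
      apply Subtype.ext
      simpa using this
    · right
      rw [AddSubgroup.eq_top_iff']
      intro a
      have : ((Additive.toMul a : ↥M) : G) ∈ N := by rw [h]; exact (Additive.toMul a).2
      obtain ⟨_, hB'⟩ := this
      exact hB'
  exact ⟨G ⧸ φ0.ker, inferInstance, inferInstance, Additive ↥M, inferInstance, φ, ψ, hH, hψV, hsame,
    card_le_nine hH hgen hirr⟩

end Cfsg.Agent.Lib.Helper46.Mod
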