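import Cfsg.Agent.Lib.Helper46.Plumb2

set_option autoImplicit false
set_option linter.all false
set_option maxHeartbeats 1000000

namespace Cfsg.Agent.Lib.Helper46.Mod

open Cfsg

universe u

/-- an element of order three acting trivially on a section and on the subgroup below it acts trivially -/
theorem fp_lemma {H : Type*} [Group H] {y x : H} (hy3 : y ^ 3 = 1)
    (hcy : y * (y * x * y⁻¹ * x⁻¹) = (y * x * y⁻¹ * x⁻¹) * y)
    (hc2 : ∃ k : ℕ, (y * x * y⁻¹ * x⁻¹) ^ (2 ^ k) = 1) : y * x = x * y := by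
  obtain ⟨c, hc⟩ : ∃ c, c = y * x * y⁻¹ * x⁻¹ := ⟨_, rfl⟩
  rw [← hc] at hcy hc2
  have e1 : y * x * y⁻¹ = c * x := by rw [hc]; group
  have e2 : y * (c * x) * y⁻¹ = c * (c * x) := by
    calc y * (c * x) * y⁻¹ = (y * c) * x * y⁻¹ := by group
      _ = (c * y) * x * y⁻¹ := by rw [hcy]
      _ = c * (y * x * y⁻¹) := by group
      _ = c * (c * x) := by rw [e1]
  have e3 : y * (c * (c * x)) * y⁻¹ = c * (c * (c * x)) := by
    calc y * (c * (c * x)) * y⁻¹ = (y * c) * (c * x) * y⁻¹ := by group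
      _ = (c * y) * (c * x) * y⁻¹ := by rw [hcy]
      _ = c * (y * (c * x) * y⁻¹) := by group
      _ = c * (c * (c * x)) := by rw [e2]
  have hpow : y ^ 3 = y * y * y := by rw [pow_succ, pow_two]
  have e4 : y ^ 3 * x * (y ^ 3)⁻¹ = c * (c * (c * x)) := by
    calc y ^ 3 * x * (y ^ 3)⁻¹ = y * (y * (y * x * y⁻¹) * y⁻¹) * y⁻¹ := by rw [hpow]; group
      _ = c * (c * (c * x)) := by rw [e1, e2, e3]
  rw [hy3] at e4
  have hc3 : c ^ 3 = 1 := by
    have : c ^ 3 = (c * (c * (c * x))) * x⁻¹ := by rw [pow_succ, pow_two]; group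
    rw [this, ← e4]; group
  obtain ⟨k, hk⟩ := hc2
  have hcop : Nat.Coprime 3 (2 ^ k) := by
    apply Nat.Coprime.pow_right; norm_num
  have h1 : orderOf c ∣ 3 := orderOf_dvd_of_pow_eq_one hc3
  have h2 : orderOf c ∣ 2 ^ k := orderOf_dvd_of_pow_eq_one hk
  have : orderOf c ∣ 1 := by
    have := Nat.dvd_gcd h1 h2
    rwa [hcop.gcd_eq_one] at this
  have hc1 : c = 1 := orderOf_eq_one_iff.mp (Nat.dvd_one.mp this)
  rw [hc1] at hc
  calc y * x = (y * x * y⁻¹ * x⁻¹) * (x * y) := by group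
    _ = x * y := by rw [← hc, one_mul]

end Cfsg.Agent.Lib.Helper46.Mod
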