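import Cfsg.Agent.Lib.Helper46.Kieler5
import Cfsg.Agent.Lib.Helper46.Subnormal
import Cfsg.Agent.Lib.Helper50.SylowJoin
import Cfsg.Agent.S3028
import Cfsg.Prelude.Def_LocalEven
import Cfsg.Prelude.Def_Amalgam

set_option autoImplicit false

namespace Cfsg.Agent.Lib.Helper46.PointStab

open Cfsg Cfsg.Agent.Lib.Helper46

universe u

variable {H : Type u} [Group H]

/-- `Ω₁ Z(R)` as a subgroup of the ambient group. -/
abbrev ZZ (p : ℕ) (R : Subgroup H) : Subgroup H :=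
  Cfsg.omegaOne p (R ⊓ Subgroup.centralizer (R : Set H))

theorem ZZ_le (p : ℕ) (R : Subgroup H) : ZZ p R ≤ R ⊓ Subgroup.centralizer (R : Set H) := by
  unfold ZZ Cfsg.omegaOne
  rw [Subgroup.closure_le]
  intro x hx
  exact hx.1

theorem le_centralizer_ZZ (p : ℕ) (R : Subgroup H) :
    R ≤ Subgroup.centralizer ((ZZ p R : Subgroup H) : Set H) := by
  intro r hr
  rw [Subgroup.mem_centralizer_iff]
  intro z hz
  have hzc := (ZZ_le p R hz).2
  exact ((Subgroup.mem_centralizer_iff.mp hzc) r hr).symm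

theorem centralizer_le_normalizer' (Q : Subgroup H) :
    Subgroup.centralizer (Q : Set H) ≤ Subgroup.normalizer (Q : Set H) := by
  apply le_normalizer_of_conj_mem
  intro a ha x hx
  have := (Subgroup.mem_centralizer_iff.mp ha) x hx
  have h2 : a * x * a⁻¹ = x := by rw [← this, mul_inv_cancel_right]
  rw [h2]
  exact hx

theorem normalizer_le_normalizer_ZZ (p : ℕ) (R : Subgroup H) :
    Subgroup.normalizer (R : Set H) ≤ Subgroup.normalizer ((ZZ p R : Subgroup H) : Set H) := by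
  apply le_normalizer_of_conj_mem
  intro a ha x hx
  have hconjR : ∀ y ∈ R, a * y * a⁻¹ ∈ R := fun y hy => (Subgroup.mem_normalizer_iff.mp ha y).mp hy
  have hconjR' : ∀ y ∈ R, a⁻¹ * y * a ∈ R := by
    intro y hy
    have := (Subgroup.mem_normalizer_iff.mp (Subgroup.inv_mem _ ha) y).mp hy
    simpa using this
  unfold ZZ Cfsg.omegaOne at hx ⊢
  induction hx using Subgroup.closure_induction with
  | mem x hx =>
    apply Subgroup.subset_closure
    obtain ⟨hxRC, hxp⟩ := hx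
    obtain ⟨hxR, hxC⟩ := Subgroup.mem_inf.mp hxRC
    refine ⟨Subgroup.mem_inf.mpr ⟨hconjR x hxR, ?_⟩, ?_⟩
    · rw [Subgroup.mem_centralizer_iff]
      intro y hy
      have h1 := (Subgroup.mem_centralizer_iff.mp hxC) _ (hconjR' y hy)
      -- (a⁻¹ y a) x = x (a⁻¹ y a)
      have h2 : y * (a * x * a⁻¹) = a * ((a⁻¹ * y * a) * x) * a⁻¹ := by group
      have h3 : (a * x * a⁻¹) * y = a * (x * (a⁻¹ * y * a)) * a⁻¹ := by group
      rw [h2, h3, h1]
    · have : (a * x * a⁻¹) ^ p = a * x ^ p * a⁻¹ := conj_pow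
      rw [this, hxp]
      simp
  | one => simp
  | mul x y _ _ hx hy =>
    have : a * (x * y) * a⁻¹ = (a * x * a⁻¹) * (a * y * a⁻¹) := by group
    rw [this]; exact Subgroup.mul_mem _ hx hy
  | inv x _ hx =>
    have : a * x⁻¹ * a⁻¹ = (a * x * a⁻¹)⁻¹ := by group
    rw [this]; exact Subgroup.inv_mem _ hx

theorem ZZ_ne_bot [Finite H] {p : ℕ} [hp : Fact p.Prime] (R : Subgroup H) (hR : IsPGroup p R)
    (hR1 : R ≠ ⊥) : ZZ p R ≠ ⊥ := by
  have : Nontrivial ↥R := (Subgroup.nontrivial_iff_ne_bot R).mpr hR1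
  have hc : Nontrivial (Subgroup.center ↥R) := hR.center_nontrivial
  have hcp : IsPGroup p (Subgroup.center ↥R) := hR.to_subgroup _
  have hdvd : p ∣ Nat.card (Subgroup.center ↥R) := by
    rcases hcp.card_eq_or_dvd with h | h
    · exact absurd h (Finite.one_lt_card (α := Subgroup.center ↥R)).ne'
    · exact h
  obtain ⟨z, hz⟩ := exists_prime_orderOf_dvd_card' p hdvd
  intro hbot
  have hmem : ((z : ↥R) : H) ∈ ZZ p R := by
    apply mem_omegaOne
    · refine Subgroup.mem_inf.mpr ⟨(z : ↥R).2, ?_⟩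
      rw [Subgroup.mem_centralizer_iff]
      intro r hr
      have := (Subgroup.mem_center_iff.mp z.2) ⟨r, hr⟩
      exact congrArg Subtype.val this
    · have h1 : z ^ p = 1 := by rw [← hz]; exact pow_orderOf_eq_one z
      have h2 := congrArg (fun w : Subgroup.center ↥R => ((w : ↥R) : H)) h1
      simpa using h2
  rw [hbot, Subgroup.mem_bot] at hmem
  have hz1 : z = 1 := by
    apply Subtype.ext
    apply Subtype.ext
    exact hmem
  rw [hz1, orderOf_one] at hz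
  exact hp.out.one_lt.ne hz

/-- Kieler's lemma relative to a subgroup `M` of characteristic `p`. -/
theorem kieler_rel [Finite H] {p : ℕ} [Fact p.Prime] (M : Subgroup H)
    (hM : Subgroup.centralizer (Cfsg.pCore p ↥M : Set ↥M) ≤ Cfsg.pCore p ↥M)
    (S : Subgroup H) (hSM : S ≤ M) (hSp : IsPGroup p S) (hSi : ¬ p ∣ S.relIndex M)
    (X : Subgroup H) (hXM : X ≤ M) (hX : (X.subgroupOf M).IsSubnormal) :
    X ⊓ Subgroup.centralizer ((ZZ p S : Subgroup H) : Set H) =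
      X ⊓ Subgroup.centralizer ((ZZ p (S ⊓ X) : Subgroup H) : Set H) := by
  have hTp : IsPGroup p (S.subgroupOf M) := hSp.comap_subtype
  let T' : Sylow p ↥M := hTp.toSylow hSi
  have hT'coe : (T' : Subgroup ↥M) = S.subgroupOf M := rfl
  have hT'map : (T' : Subgroup ↥M).map M.subtype = S := by
    rw [hT'coe, Subgroup.subgroupOf_map_subtype, inf_of_le_left hSM]
  set Lt : Subgroup ↥M := X.subgroupOf M with hLt
  have hLtmap : Lt.map M.subtype = X := by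
    rw [hLt, Subgroup.subgroupOf_map_subtype, inf_of_le_left hXM]
  have hk := (kieler_aux hM T' Lt hX).2.2
  have hmapinf : ((T' : Subgroup ↥M) ⊓ Lt).map M.subtype = S ⊓ X := by
    rw [Subgroup.map_inf _ _ _ M.subtype_injective, hT'map, hLtmap]
  ext x
  rw [Subgroup.mem_inf, Subgroup.mem_inf]
  constructor
  · rintro ⟨hxX, hxC⟩
    refine ⟨hxX, ?_⟩
    have hxM : x ∈ M := hXM hxX
    have h2 : (⟨x, hxM⟩ : ↥M) ∈ Lt ⊓ Subgroup.centralizer
        ((Cfsg.omegaOne p ((T' : Subgroup ↥M) ⊓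
          Subgroup.centralizer ((T' : Subgroup ↥M) : Set ↥M)) : Subgroup ↥M) : Set ↥M) := by
      rw [Subgroup.mem_inf]
      refine ⟨Subgroup.mem_subgroupOf.mpr hxX, ?_⟩
      rw [mem_centralizer_subtype_iff, map_omegaOne_center, hT'map]
      exact hxC
    rw [hk] at h2
    have h3 := (Subgroup.mem_inf.mp h2).2
    rw [mem_centralizer_subtype_iff, map_omegaOne_center, hmapinf] at h3
    exact h3
  · rintro ⟨hxX, hxC⟩
    refine ⟨hxX, ?_⟩
    have hxM : x ∈ M := hXM hxX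
    have h2 : (⟨x, hxM⟩ : ↥M) ∈ Lt ⊓ Subgroup.centralizer
        ((Cfsg.omegaOne p (((T' : Subgroup ↥M) ⊓ Lt) ⊓
          Subgroup.centralizer ((((T' : Subgroup ↥M) ⊓ Lt : Subgroup ↥M)) : Set ↥M)) :
            Subgroup ↥M) : Set ↥M) := by
      rw [Subgroup.mem_inf]
      refine ⟨Subgroup.mem_subgroupOf.mpr hxX, ?_⟩
      rw [mem_centralizer_subtype_iff, map_omegaOne_center, hmapinf]
      exact hxC
    rw [← hk] at h2
    have h3 := (Subgroup.mem_inf.mp h2).2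
    rw [mem_centralizer_subtype_iff, map_omegaOne_center, hT'map] at h3
    exact h3

/-- A subnormal subgroup of `H`, intersected with a `p`-local subgroup, has characteristic `p`. -/
theorem charP_inf_normalizer [Finite H] {p : ℕ} [Fact p.Prime]
    (hH : Cfsg.IsOfLocalCharacteristic p H) (Q : Subgroup H) (hQ : IsPGroup p Q) (hQ1 : Q ≠ ⊥)
    (X₁ : Subgroup H) (hX₁ : X₁.IsSubnormal) :
    Subgroup.centralizer
      (Cfsg.pCore p ↥(X₁ ⊓ Subgroup.normalizer (Q : Set H)) :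
        Set ↥(X₁ ⊓ Subgroup.normalizer (Q : Set H))) ≤
      Cfsg.pCore p ↥(X₁ ⊓ Subgroup.normalizer (Q : Set H)) := by
  have hN := hH.2 Q hQ hQ1
  obtain ⟨T₀⟩ : Nonempty (Sylow p ↥(Subgroup.normalizer (Q : Set H))) := inferInstance
  have hsub : ((X₁ ⊓ Subgroup.normalizer (Q : Set H)).subgroupOf
      (Subgroup.normalizer (Q : Set H))).IsSubnormal := by
    rw [Subgroup.inf_subgroupOf_right]
    exact hX₁.subgroupOf
  have h1 := (kieler_aux hN T₀ _ hsub).1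
  exact charP_congr (Subgroup.subgroupOfEquivOfLe inf_le_right) h1


theorem not_dvd_relIndex_of_le {p : ℕ} {S M X₁ : Subgroup H} (hSM : S ≤ M) (hMX : M ≤ X₁)
    (h : ¬ p ∣ S.relIndex X₁) : ¬ p ∣ S.relIndex M := by
  intro hd
  apply h
  rw [← Subgroup.relIndex_mul_relIndex S M X₁ hSM hMX]
  exact Dvd.dvd.mul_right hd _

/-- Kieler's lemma applied in the `p`-local subgroup `N_H(Q)`. -/
theorem local_kieler [Finite H] {p : ℕ} [Fact p.Prime] (hH : Cfsg.IsOfLocalCharacteristic p H)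
    (T : Sylow p H) (X X₁ : Subgroup H) (hle : X ≤ X₁) (hX₁ : X₁.IsSubnormal)
    (hXn : X₁ ≤ Subgroup.normalizer (X : Set H))
    (Q : Subgroup H) (hQ : IsPGroup p Q) (hQ1 : Q ≠ ⊥)
    (hRQ : (T : Subgroup H) ⊓ X₁ ≤ Subgroup.normalizer (Q : Set H)) :
    (X ⊓ Subgroup.normalizer (Q : Set H)) ⊓
        Subgroup.centralizer ((ZZ p ((T : Subgroup H) ⊓ X₁) : Subgroup H) : Set H) =
      (X ⊓ Subgroup.normalizer (Q : Set H)) ⊓
        Subgroup.centralizer ((ZZ p ((T : Subgroup H) ⊓ X) : Subgroup H) : Set H) := by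
  have hM := charP_inf_normalizer hH Q hQ hQ1 X₁ hX₁
  have hSM : (T : Subgroup H) ⊓ X₁ ≤ X₁ ⊓ Subgroup.normalizer (Q : Set H) := le_inf inf_le_right hRQ
  have hSp : IsPGroup p ((T : Subgroup H) ⊓ X₁ : Subgroup H) := T.2.to_le inf_le_left
  have hSi1 : ¬ p ∣ ((T : Subgroup H) ⊓ X₁).relIndex X₁ := by
    rw [Subgroup.inf_relIndex_right]
    exact Cfsg.Agent.Lib.Helper50.not_dvd_relIndex_of_isSubnormal T hX₁
  have hSi : ¬ p ∣ ((T : Subgroup H) ⊓ X₁).relIndex (X₁ ⊓ Subgroup.normalizer (Q : Set H)) :=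
    not_dvd_relIndex_of_le hSM inf_le_left hSi1
  have hYM : X ⊓ Subgroup.normalizer (Q : Set H) ≤ X₁ ⊓ Subgroup.normalizer (Q : Set H) :=
    inf_le_inf_right _ hle
  have hYn : ((X ⊓ Subgroup.normalizer (Q : Set H)).subgroupOf
      (X₁ ⊓ Subgroup.normalizer (Q : Set H))).Normal := by
    constructor
    intro y hy m
    rw [Subgroup.mem_subgroupOf] at hy ⊢
    have hmX₁ : (m : H) ∈ X₁ := (Subgroup.mem_inf.mp m.2).1
    have hmN : (m : H) ∈ Subgroup.normalizer (Q : Set H) := (Subgroup.mem_inf.mp m.2).2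
    obtain ⟨hy1, hy2⟩ := Subgroup.mem_inf.mp hy
    show (m : H) * (y : H) * (m : H)⁻¹ ∈ X ⊓ Subgroup.normalizer (Q : Set H)
    refine Subgroup.mem_inf.mpr ⟨conj_mem_of_le_normalizer hXn hmX₁ hy1, ?_⟩
    exact Subgroup.mul_mem _ (Subgroup.mul_mem _ hmN hy2) (Subgroup.inv_mem _ hmN)
  have hk := kieler_rel (X₁ ⊓ Subgroup.normalizer (Q : Set H)) hM ((T : Subgroup H) ⊓ X₁) hSM hSp hSi
    (X ⊓ Subgroup.normalizer (Q : Set H)) hYM hYn.isSubnormal
  have hSX : ((T : Subgroup H) ⊓ X₁) ⊓ (X ⊓ Subgroup.normalizer (Q : Set H)) = (T : Subgroup H) ⊓ X := by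
    apply le_antisymm
    · exact le_inf (inf_le_left.trans inf_le_left) (inf_le_right.trans inf_le_left)
    · have h1 : (T : Subgroup H) ⊓ X ≤ (T : Subgroup H) ⊓ X₁ := inf_le_inf_left _ hle
      exact le_inf h1 (le_inf inf_le_right (h1.trans hRQ))
  rw [hSX] at hk
  exact hk

theorem normal_step [Finite H] {p : ℕ} [Fact p.Prime] (hH : Cfsg.IsOfLocalCharacteristic p H)
    (T : Sylow p H) (X X₁ : Subgroup H) (hle : X ≤ X₁) (hX₁ : X₁.IsSubnormal)
    (hN : (X.subgroupOf X₁).Normal) (hR : (T : Subgroup H) ⊓ X ≠ ⊥) :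
    X ⊓ Subgroup.centralizer ((ZZ p ((T : Subgroup H) ⊓ X) : Subgroup H) : Set H) =
      X ⊓ Subgroup.centralizer ((ZZ p ((T : Subgroup H) ⊓ X₁) : Subgroup H) : Set H) := by
  have hXn : X₁ ≤ Subgroup.normalizer (X : Set H) :=
    (Subgroup.normal_subgroupOf_iff_le_normalizer hle).1 hN
  have hRR₁ : (T : Subgroup H) ⊓ X ≤ (T : Subgroup H) ⊓ X₁ := inf_le_inf_left _ hle
  have hRp : IsPGroup p ((T : Subgroup H) ⊓ X : Subgroup H) := T.2.to_le inf_le_left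
  have hR₁p : IsPGroup p ((T : Subgroup H) ⊓ X₁ : Subgroup H) := T.2.to_le inf_le_left
  have hR₁1 : (T : Subgroup H) ⊓ X₁ ≠ ⊥ := by
    intro h
    apply hR
    rw [h] at hRR₁
    exact le_bot_iff.mp hRR₁
  have hR₁R : (T : Subgroup H) ⊓ X₁ ≤ Subgroup.normalizer (((T : Subgroup H) ⊓ X : Subgroup H) : Set H) := by
    apply le_normalizer_of_conj_mem
    intro a ha x hx
    obtain ⟨ha1, ha2⟩ := Subgroup.mem_inf.mp ha
    obtain ⟨hx1, hx2⟩ := Subgroup.mem_inf.mp hx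
    exact Subgroup.mem_inf.mpr ⟨Subgroup.mul_mem _ (Subgroup.mul_mem _ ha1 hx1) (Subgroup.inv_mem _ ha1),
      conj_mem_of_le_normalizer hXn ha2 hx2⟩
  apply le_antisymm
  · have hQp : IsPGroup p (ZZ p ((T : Subgroup H) ⊓ X)) := hRp.to_le ((ZZ_le p _).trans inf_le_left)
    have hQ1 := ZZ_ne_bot _ hRp hR
    have hRQ : (T : Subgroup H) ⊓ X₁ ≤
        Subgroup.normalizer ((ZZ p ((T : Subgroup H) ⊓ X) : Subgroup H) : Set H) :=
      hR₁R.trans (normalizer_le_normalizer_ZZ p _)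
    have hk := local_kieler hH T X X₁ hle hX₁ hXn (ZZ p ((T : Subgroup H) ⊓ X)) hQp hQ1 hRQ
    intro x hx
    obtain ⟨hxX, hxC⟩ := Subgroup.mem_inf.mp hx
    have hxN := centralizer_le_normalizer' _ hxC
    have h1 : x ∈ (X ⊓ Subgroup.normalizer ((ZZ p ((T : Subgroup H) ⊓ X) : Subgroup H) : Set H)) ⊓
        Subgroup.centralizer ((ZZ p ((T : Subgroup H) ⊓ X) : Subgroup H) : Set H) :=
      Subgroup.mem_inf.mpr ⟨Subgroup.mem_inf.mpr ⟨hxX, hxN⟩, hxC⟩
    rw [← hk] at h1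
    exact Subgroup.mem_inf.mpr ⟨hxX, (Subgroup.mem_inf.mp h1).2⟩
  · have hQp : IsPGroup p (ZZ p ((T : Subgroup H) ⊓ X₁)) := hR₁p.to_le ((ZZ_le p _).trans inf_le_left)
    have hQ1 := ZZ_ne_bot _ hR₁p hR₁1
    have hRQ : (T : Subgroup H) ⊓ X₁ ≤
        Subgroup.normalizer ((ZZ p ((T : Subgroup H) ⊓ X₁) : Subgroup H) : Set H) :=
      Subgroup.le_normalizer.trans (normalizer_le_normalizer_ZZ p _)
    have hk := local_kieler hH T X X₁ hle hX₁ hXn (ZZ p ((T : Subgroup H) ⊓ X₁)) hQp hQ1 hRQ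
    intro x hx
    obtain ⟨hxX, hxC⟩ := Subgroup.mem_inf.mp hx
    have hxN := centralizer_le_normalizer' _ hxC
    have h1 : x ∈ (X ⊓ Subgroup.normalizer ((ZZ p ((T : Subgroup H) ⊓ X₁) : Subgroup H) : Set H)) ⊓
        Subgroup.centralizer ((ZZ p ((T : Subgroup H) ⊓ X₁) : Subgroup H) : Set H) :=
      Subgroup.mem_inf.mpr ⟨Subgroup.mem_inf.mpr ⟨hxX, hxN⟩, hxC⟩
    rw [hk] at h1
    exact Subgroup.mem_inf.mpr ⟨hxX, (Subgroup.mem_inf.mp h1).2⟩

/-! ### The `p`-element closure -/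

abbrev pEC (p : ℕ) (A : Subgroup H) : Subgroup H := Cfsg.pElementClosure p A

theorem pEC_le (p : ℕ) (A : Subgroup H) : pEC p A ≤ A := by
  unfold pEC Cfsg.pElementClosure
  rw [Subgroup.closure_le]
  intro x hx
  exact hx.1

theorem pEC_mono {p : ℕ} {A B : Subgroup H} (h : A ≤ B) : pEC p A ≤ pEC p B := by
  unfold pEC Cfsg.pElementClosure
  apply Subgroup.closure_mono
  intro x hx
  exact ⟨h hx.1, hx.2⟩

theorem mem_pEC {p : ℕ} {A : Subgroup H} {x : H} (hx : x ∈ A) (k : ℕ) (hk : orderOf x = p ^ k) :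
    x ∈ pEC p A :=
  Subgroup.subset_closure ⟨hx, k, hk⟩

theorem pEC_inf_pEC {p : ℕ} (X A : Subgroup H) : pEC p (X ⊓ pEC p A) = pEC p (X ⊓ A) := by
  apply le_antisymm (pEC_mono (inf_le_inf_left _ (pEC_le p A)))
  unfold pEC Cfsg.pElementClosure
  rw [Subgroup.closure_le]
  rintro x ⟨hx, k, hk⟩
  obtain ⟨hx1, hx2⟩ := Subgroup.mem_inf.mp hx
  exact Subgroup.subset_closure ⟨Subgroup.mem_inf.mpr ⟨hx1, mem_pEC hx2 k hk⟩, k, hk⟩

theorem isPGroup_le_pEC {p : ℕ} [Fact p.Prime] {Q A : Subgroup H} (hQ : IsPGroup p Q) (hQA : Q ≤ A) :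
    Q ≤ pEC p A := by
  intro x hx
  obtain ⟨k, hk⟩ := (IsPGroup.iff_orderOf.mp hQ) ⟨x, hx⟩
  exact mem_pEC (hQA hx) k (by rw [← hk, Subgroup.orderOf_mk])

theorem pEC_conj_mem {p : ℕ} {A : Subgroup H} {a x : H} (ha : a ∈ A) (hx : x ∈ pEC p A) :
    a * x * a⁻¹ ∈ pEC p A := by
  unfold pEC Cfsg.pElementClosure at hx ⊢
  induction hx using Subgroup.closure_induction with
  | mem x hx =>
    apply Subgroup.subset_closure
    refine ⟨A.mul_mem (A.mul_mem ha hx.1) (A.inv_mem ha), ?_⟩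
    have hc : a * x * a⁻¹ = MulAut.conj a x := by simp [MulAut.conj_apply]
    rw [hc, MulEquiv.orderOf_eq]
    exact hx.2
  | one => simp
  | mul x y _ _ hx hy =>
    have : a * (x * y) * a⁻¹ = (a * x * a⁻¹) * (a * y * a⁻¹) := by group
    rw [this]; exact Subgroup.mul_mem _ hx hy
  | inv x _ hx =>
    have : a * x⁻¹ * a⁻¹ = (a * x * a⁻¹)⁻¹ := by group
    rw [this]; exact Subgroup.inv_mem _ hx

theorem pEC_eq_bot_of [Finite H] {p : ℕ} [hp : Fact p.Prime] (T : Sylow p H) (X : Subgroup H)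
    (hX : X.IsSubnormal) (hR : (T : Subgroup H) ⊓ X = ⊥) (A : Subgroup H) (hA : A ≤ X) :
    pEC p A = ⊥ := by
  have h1 : ¬ p ∣ Nat.card X := by
    have := Cfsg.Agent.Lib.Helper50.not_dvd_relIndex_of_isSubnormal T hX
    rw [← Subgroup.inf_relIndex_right, hR, Subgroup.relIndex_bot_left] at this
    exact this
  unfold pEC Cfsg.pElementClosure
  rw [Subgroup.closure_eq_bot_iff]
  rintro x ⟨hxA, k, hk⟩
  rw [Set.mem_singleton_iff]
  have h2 : orderOf x ∣ Nat.card X := Subgroup.orderOf_dvd_natCard X (hA hxA)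
  rcases Nat.eq_zero_or_pos k with h0 | hpos
  · rw [h0, pow_zero] at hk
    exact orderOf_eq_one_iff.mp hk
  · exfalso
    apply h1
    rw [hk] at h2
    exact (dvd_pow_self p hpos.ne').trans h2

/-- In a group of local characteristic `p`: the `p`-elements of `C_X(Ω₁Z(T ∩ X))` and of
`C_X(Ω₁Z(T))` generate the same subgroup, `X` subnormal. -/
theorem pEC_centralizer_eq [Finite H] {p : ℕ} [Fact p.Prime] (hH : Cfsg.IsOfLocalCharacteristic p H)
    (T : Sylow p H) (X : Subgroup H) (hX : X.IsSubnormal) :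
    pEC p (X ⊓ Subgroup.centralizer ((ZZ p ((T : Subgroup H) ⊓ X) : Subgroup H) : Set H)) =
      pEC p (X ⊓ Subgroup.centralizer ((ZZ p (T : Subgroup H) : Subgroup H) : Set H)) := by
  induction hX with
  | top => rw [inf_top_eq]
  | step X X₁ hle hsub hN ih =>
    by_cases hR : (T : Subgroup H) ⊓ X = ⊥
    · have hXs : X.IsSubnormal := Subgroup.IsSubnormal.step X X₁ hle hsub hN
      rw [pEC_eq_bot_of T X hXs hR _ inf_le_left, pEC_eq_bot_of T X hXs hR _ inf_le_left]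
    · rw [normal_step hH T X X₁ hle hsub hN hR]
      have e1 : X ⊓ Subgroup.centralizer ((ZZ p ((T : Subgroup H) ⊓ X₁) : Subgroup H) : Set H) =
          X ⊓ (X₁ ⊓ Subgroup.centralizer ((ZZ p ((T : Subgroup H) ⊓ X₁) : Subgroup H) : Set H)) := by
        rw [← inf_assoc, inf_of_le_left hle]
      have e2 : X ⊓ Subgroup.centralizer ((ZZ p (T : Subgroup H) : Subgroup H) : Set H) =
          X ⊓ (X₁ ⊓ Subgroup.centralizer ((ZZ p (T : Subgroup H) : Subgroup H) : Set H)) := by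
        rw [← inf_assoc, inf_of_le_left hle]
      rw [e1, e2, ← pEC_inf_pEC X (X₁ ⊓ _), ih, pEC_inf_pEC]

/-- Sylow conjugacy inside a subgroup. -/
theorem exists_conj_mem_of_pElement [Finite H] {p : ℕ} [Fact p.Prime] (A S : Subgroup H)
    (hSA : S ≤ A) (hSp : IsPGroup p S) (hSi : ¬ p ∣ S.relIndex A) (x : H) (hxA : x ∈ A) (k : ℕ)
    (hk : orderOf x = p ^ k) : ∃ a ∈ A, ∃ s ∈ S, x = a * s * a⁻¹ := by
  have hS'p : IsPGroup p (S.subgroupOf A) := hSp.comap_subtype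
  let S' : Sylow p ↥A := hS'p.toSylow hSi
  have hzp : IsPGroup p (Subgroup.zpowers (⟨x, hxA⟩ : ↥A)) := by
    apply IsPGroup.of_card (n := k)
    rw [Nat.card_zpowers, Subgroup.orderOf_mk, hk]
  obtain ⟨Q, hQ⟩ := hzp.exists_le_sylow
  obtain ⟨g, hg⟩ := MulAction.exists_smul_eq ↥A S' Q
  have hxQ : (⟨x, hxA⟩ : ↥A) ∈ (Q : Subgroup ↥A) := hQ (Subgroup.mem_zpowers _)
  rw [← hg, Sylow.coe_subgroup_smul, Subgroup.mem_pointwise_smul_iff_inv_smul_mem] at hxQ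
  have h1 : (MulAut.conj g)⁻¹ • (⟨x, hxA⟩ : ↥A) = g⁻¹ * ⟨x, hxA⟩ * g⁻¹⁻¹ := by
    simp [MulAut.smul_def]
  rw [h1] at hxQ
  have h2 : ((g⁻¹ * ⟨x, hxA⟩ * g⁻¹⁻¹ : ↥A) : H) ∈ S := hxQ
  refine ⟨(g : H), g.2, _, h2, ?_⟩
  simp only [Subgroup.coe_mul, Subgroup.coe_inv]
  group

/-- A subnormal subgroup (of `C`) containing a Sylow `p`-subgroup of `A` contains the `p`-element
closure of `A`. -/
theorem pEC_le_of_subnormal_of_sylow [Finite H] {p : ℕ} [Fact p.Prime] (C A S : Subgroup H)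
    (hAC : A ≤ C) (hSA : S ≤ A) (hSp : IsPGroup p S) (hSi : ¬ p ∣ S.relIndex A)
    (J' : Subgroup ↥C) (hJ' : J'.IsSubnormal) (hSJ : S ≤ J'.map C.subtype) :
    pEC p A ≤ J'.map C.subtype := by
  induction hJ' with
  | top =>
    intro x hx
    have := hAC (pEC_le p A hx)
    exact ⟨⟨x, this⟩, Subgroup.mem_top _, rfl⟩
  | step J' J₁' hle hsub hN ih =>
    have h1 : pEC p A ≤ J₁'.map C.subtype := ih (hSJ.trans (Subgroup.map_mono hle))
    have hSP : S ≤ pEC p A := isPGroup_le_pEC hSp hSA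
    have hSiP : ¬ p ∣ S.relIndex (pEC p A) := not_dvd_relIndex_of_le hSP (pEC_le p A) hSi
    show Cfsg.pElementClosure p A ≤ J'.map C.subtype
    unfold Cfsg.pElementClosure
    rw [Subgroup.closure_le]
    rintro x ⟨hxA, k, hk⟩
    obtain ⟨a, ha, s, hs, rfl⟩ :=
      exists_conj_mem_of_pElement (pEC p A) S hSP hSp hSiP x (mem_pEC hxA k hk) k hk
    obtain ⟨a', ha', rfl⟩ := h1 ha
    obtain ⟨s', hs', rfl⟩ := hSJ hs
    have hn : (⟨a', ha'⟩ : ↥J₁') * ⟨s', hle hs'⟩ * (⟨a', ha'⟩ : ↥J₁')⁻¹ ∈ J'.subgroupOf J₁' :=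
      hN.conj_mem ⟨s', hle hs'⟩ (by rw [Subgroup.mem_subgroupOf]; exact hs') ⟨a', ha'⟩
    rw [Subgroup.mem_subgroupOf] at hn
    exact ⟨a' * s' * a'⁻¹, hn, rfl⟩

theorem pEC_subnormal {p : ℕ} (L C : Subgroup H) (hL : L.IsSubnormal) :
    ((pEC p (L ⊓ C)).subgroupOf C).IsSubnormal := by
  have h1 : (L.subgroupOf C).IsSubnormal := hL.subgroupOf
  have hle : (pEC p (L ⊓ C)).subgroupOf C ≤ L.subgroupOf C := by
    intro x hx
    rw [Subgroup.mem_subgroupOf] at hx ⊢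
    exact (Subgroup.mem_inf.mp (pEC_le p _ hx)).1
  refine Subgroup.IsSubnormal.trans hle ?_ h1
  apply Subgroup.Normal.isSubnormal
  constructor
  intro n hn g
  rw [Subgroup.mem_subgroupOf, Subgroup.mem_subgroupOf] at hn ⊢
  have hg : ((g : ↥C) : H) ∈ L ⊓ C :=
    Subgroup.mem_inf.mpr ⟨Subgroup.mem_subgroupOf.mp g.2, (g : ↥C).2⟩
  exact pEC_conj_mem hg hn

theorem pEC_join [Finite H] {p : ℕ} [Fact p.Prime] (T : Sylow p H) (L₁ L₂ : Subgroup H)
    (h₁ : L₁.IsSubnormal) (h₂ : L₂.IsSubnormal) (C : Subgroup H) (hTC : (T : Subgroup H) ≤ C) :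
    pEC p ((L₁ ⊔ L₂) ⊓ C) = pEC p (L₁ ⊓ C) ⊔ pEC p (L₂ ⊓ C) := by
  have hL : (L₁ ⊔ L₂).IsSubnormal := Cfsg.Agent.Lib.Helper91.isSubnormal_sup h₁ h₂
  apply le_antisymm
  · have hP₁C : pEC p (L₁ ⊓ C) ≤ C := (pEC_le p _).trans inf_le_right
    have hP₂C : pEC p (L₂ ⊓ C) ≤ C := (pEC_le p _).trans inf_le_right
    have hsub₁ := pEC_subnormal (p := p) L₁ C h₁
    have hsub₂ := pEC_subnormal (p := p) L₂ C h₂
    have hJ' : ((pEC p (L₁ ⊓ C) ⊔ pEC p (L₂ ⊓ C)).subgroupOf C).IsSubnormal := by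
      rw [Subgroup.subgroupOf_sup hP₁C hP₂C]
      exact Cfsg.Agent.Lib.Helper91.isSubnormal_sup hsub₁ hsub₂
    have hJmap : ((pEC p (L₁ ⊓ C) ⊔ pEC p (L₂ ⊓ C)).subgroupOf C).map C.subtype =
        pEC p (L₁ ⊓ C) ⊔ pEC p (L₂ ⊓ C) := by
      rw [Subgroup.subgroupOf_map_subtype, inf_of_le_left (sup_le hP₁C hP₂C)]
    have hSA : (T : Subgroup H) ⊓ (L₁ ⊔ L₂) ≤ (L₁ ⊔ L₂) ⊓ C :=
      le_inf inf_le_right (inf_le_left.trans hTC)
    have hSi : ¬ p ∣ ((T : Subgroup H) ⊓ (L₁ ⊔ L₂)).relIndex ((L₁ ⊔ L₂) ⊓ C) := by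
      apply not_dvd_relIndex_of_le hSA inf_le_left
      rw [Subgroup.inf_relIndex_right]
      exact Cfsg.Agent.Lib.Helper50.not_dvd_relIndex_of_isSubnormal T hL
    have hSJ : (T : Subgroup H) ⊓ (L₁ ⊔ L₂) ≤
        ((pEC p (L₁ ⊓ C) ⊔ pEC p (L₂ ⊓ C)).subgroupOf C).map C.subtype := by
      rw [hJmap, inf_comm, Cfsg.Agent.S3028.result T L₁ L₂ h₁ h₂]
      apply sup_le_sup
      · exact isPGroup_le_pEC (T.2.to_le inf_le_right) (inf_le_inf_left _ hTC)
      · exact isPGroup_le_pEC (T.2.to_le inf_le_right) (inf_le_inf_left _ hTC)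
    have key := pEC_le_of_subnormal_of_sylow C ((L₁ ⊔ L₂) ⊓ C) ((T : Subgroup H) ⊓ (L₁ ⊔ L₂))
      inf_le_right hSA (T.2.to_le inf_le_left) hSi _ hJ' hSJ
    rw [hJmap] at key
    exact key
  · exact sup_le (pEC_mono (inf_le_inf_right _ le_sup_left)) (pEC_mono (inf_le_inf_right _ le_sup_right))

end Cfsg.Agent.Lib.Helper46.PointStab
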