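import Cfsg.Agent.Lib.Helper46.QdSylow

set_option autoImplicit false

namespace Cfsg.Agent.Lib.Helper46.QdChar

open Cfsg.Agent.Lib.Helper46.SL2 Cfsg.Agent.Lib.Helper46.NatSL2 Cfsg.Agent.Lib.Helper46.QdOver
  Cfsg.Agent.Lib.Helper46.QdSylow

variable {p : ℕ} [Fact p.Prime]

theorem col_pow_val {v : QG (ZMod p)} (hv : v ∈ VV (ZMod p)) (a : ZMod p) :
    col (v ^ a.val) = a • col v := by
  rw [col_pow_of_ker v hv, ← Nat.cast_smul_eq_nsmul (ZMod p), ZMod.natCast_zmod_val]

theorem exists_frame {e : Fin 2 → ZMod p} (he : e ≠ 0) : ∃ f : Fin 2 → ZMod p, dd e f = 1 := by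
  obtain ⟨y, hy⟩ := exists_dd_ne_zero he
  refine ⟨(dd e y)⁻¹ • y, ?_⟩
  rw [dd_smul, inv_mul_cancel₀ hy]

theorem main (e : Fin 2 → ZMod p) (he : e ≠ 0) (P : Subgroup (QG (ZMod p))) (hP : P = Se e)
    (T : Subgroup ↥P) (hT : T ≠ ⊥) (hTc : T.Characteristic) :
    Subgroup.normalizer ((T.map P.subtype : Subgroup (QG (ZMod p))) : Set (QG (ZMod p))) =
      Subgroup.normalizer ((P : Subgroup (QG (ZMod p))) : Set (QG (ZMod p))) ∧
    Subgroup.normalizer ((P : Subgroup (QG (ZMod p))) : Set (QG (ZMod p))) ≠ ⊤ := by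
  subst hP
  obtain ⟨f, hef⟩ := exists_frame he
  have hf0 : f ≠ 0 := by
    rintro rfl
    rw [dd_zero_right] at hef
    exact zero_ne_one hef
  have hNle := normalizer_le_of_char (Se e) T hTc
  constructor
  · apply le_antisymm _ hNle
    intro g hg
    by_contra hgN
    rw [mem_normalizer_Se_iff he] at hgN
    set e' := mv (blk g) e with he'
    have hTS : T.map (Se e).subtype ≤ Se e := by
      rintro _ ⟨x, _, rfl⟩
      exact x.2
    have hgconj : ∀ M, M ∈ T.map (Se e).subtype ↔ g * M * g⁻¹ ∈ T.map (Se e).subtype :=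
      Subgroup.mem_normalizer_iff.mp hg
    -- Step 1
    have hTV : T.map (Se e).subtype ≤ VV (ZMod p) := by
      intro M hM
      have h1 : blk M ∈ stabVec e := hTS hM
      have h2 : g⁻¹ * M * g ∈ T.map (Se e).subtype := by
        rw [hgconj]
        have : g * (g⁻¹ * M * g) * g⁻¹ = M := by group
        rw [this]
        exact hM
      have h3 : blk (g⁻¹ * M * g) ∈ stabVec e := hTS h2
      have h4 : blk g * blk (g⁻¹ * M * g) * (blk g)⁻¹ ∈ stabVec (mv (blk g) e) :=
        conj_mem_stabVec.mpr h3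
      have h5 : blk g * blk (g⁻¹ * M * g) * (blk g)⁻¹ = blk M := by
        rw [map_mul, map_mul, map_inv]
        group
      rw [h5] at h4
      exact eq_one_of_fix (mem_stabVec.mp h1) (mem_stabVec.mp h4) hgN
    -- normality in Se e
    have hnormal : ∀ s ∈ Se e, ∀ M ∈ T.map (Se e).subtype, s * M * s⁻¹ ∈ T.map (Se e).subtype := by
      intro s hs M hM
      have hsN : s ∈ Subgroup.normalizer ((T.map (Se e).subtype : Subgroup (QG (ZMod p))) : Set (QG (ZMod p))) :=
        hNle (Subgroup.le_normalizer hs)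
      exact (Subgroup.mem_normalizer_iff.mp hsN M).mp hM
    -- Lemma D
    have hD : tr e ∈ T.map (Se e).subtype := by
      obtain ⟨x, hx1⟩ := Subgroup.ne_bot_iff_exists_ne_one.mp hT
      have hM : ((x : ↥(Se e)) : QG (ZMod p)) ∈ T.map (Se e).subtype := ⟨x, x.2, rfl⟩
      have hM1 : ((x : ↥(Se e)) : QG (ZMod p)) ≠ 1 := by
        intro h
        apply hx1
        apply Subtype.ext
        apply Subtype.ext
        exact h
      set M : QG (ZMod p) := ((x : ↥(Se e)) : QG (ZMod p)) with hMdef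
      have hMV : M ∈ VV (ZMod p) := hTV hM
      have key : ∃ C ∈ T.map (Se e).subtype, ∃ c : ZMod p, c ≠ 0 ∧ col C = c • e := by
        by_cases hy : dd e (col M) = 0
        · obtain ⟨c, hc⟩ := exists_smul_of_dd_eq_zero he hy
          refine ⟨M, hM, c, ?_, hc⟩
          rintro rfl
          rw [zero_smul] at hc
          exact hM1 (col_eq_zero_of_ker hMV hc)
        · have hN : emb (transv e 1) ∈ Se e := by
            rw [mem_Se, blk_emb]
            exact transv_mem_stabVec e 1
          have hMi : M⁻¹ ∈ T.map (Se e).subtype := Subgroup.inv_mem _ hM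
          have h1 := hnormal _ hN _ hMi
          have hC : M * (emb (transv e 1) * M⁻¹ * (emb (transv e 1))⁻¹) ∈ T.map (Se e).subtype :=
            Subgroup.mul_mem _ hM h1
          refine ⟨_, hC, -(dd e (col M)), neg_ne_zero.mpr hy, ?_⟩
          rw [col_mul_of_ker _ _ hMV, col_conj' _ _ (Subgroup.inv_mem _ hMV), col_inv_of_ker hMV,
            blk_emb, mv_neg, mv_transv, one_mul, neg_smul]
          abel
      obtain ⟨C, hC, c, hc0, hcC⟩ := key
      have hCV : C ∈ VV (ZMod p) := hTV hC
      have h2 : tr e = C ^ (c⁻¹).val := by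
        symm
        apply tr_eq_of_col (Subgroup.pow_mem _ hCV _)
        rw [col_pow_val hCV, hcC, smul_smul, inv_mul_cancel₀ hc0, one_smul]
      rw [h2]
      exact Subgroup.pow_mem _ hC _
    -- Step 3
    have hD' : tr e' ∈ T.map (Se e).subtype := by
      have h1 : g * tr e * g⁻¹ ∈ T.map (Se e).subtype := (hgconj _).mp hD
      have h2 : g * tr e * g⁻¹ = tr e' := by
        apply tr_eq_of_col ((MonoidHom.normal_ker _).conj_mem _ (tr_mem_ker e) g)
        rw [col_conj' _ _ (tr_mem_ker e), col_tr]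
      rw [← h2]
      exact h1
    -- Step 4
    have hVT : VV (ZMod p) ≤ T.map (Se e).subtype := by
      intro v hv
      have hdec : col v = (dd (col v) e' / dd e e') • e + (dd e (col v) / dd e e') • e' := by
        have h1 := dd_decomp e e' (col v)
        have h2 := congrArg (fun z => (dd e e')⁻¹ • z) h1
        simp only [smul_smul, inv_mul_cancel₀ hgN, one_smul, smul_add] at h2
        rw [div_eq_inv_mul, div_eq_inv_mul]
        exact h2
      have h3 : v = (tr e') ^ (dd e (col v) / dd e e').val * (tr e) ^ (dd (col v) e' / dd e e').val := by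
        apply eq_of_ker_col hv
          (Subgroup.mul_mem _ (Subgroup.pow_mem _ (tr_mem_ker e') _) (Subgroup.pow_mem _ (tr_mem_ker e) _))
        rw [col_mul_of_ker _ _ (Subgroup.pow_mem _ (tr_mem_ker e') _), col_pow_val (tr_mem_ker e'),
          col_pow_val (tr_mem_ker e), col_tr, col_tr]
        exact hdec
      rw [h3]
      exact Subgroup.mul_mem _ (Subgroup.pow_mem _ hD' _) (Subgroup.pow_mem _ hD _)
    -- Step 5
    have h5 : tr f ∈ T.map (Se e).subtype := hVT (tr_mem_ker f)
    obtain ⟨x, hxT, hx⟩ := h5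
    have h6 : T.map (sigEquiv hef).toMonoidHom = T :=
      Subgroup.characteristic_iff_map_eq.mp hTc (sigEquiv hef)
    have h7 : (sigEquiv hef) x ∈ T := by
      rw [← h6]
      exact Subgroup.mem_map_of_mem _ hxT
    have h8 : (((sigEquiv hef) x : ↥(Se e)) : QG (ZMod p)) ∈ T.map (Se e).subtype := ⟨_, h7, rfl⟩
    have h9 : (((sigEquiv hef) x : ↥(Se e)) : QG (ZMod p)) = sig e f (tr f) := by
      show sig e f ((x : ↥(Se e)) : QG (ZMod p)) = sig e f (tr f)
      have : ((x : ↥(Se e)) : QG (ZMod p)) = tr f := hx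
      rw [this]
    rw [h9] at h8
    exact sig_tr_not_mem hef (hTV h8)
  · intro htop
    obtain ⟨A, hA⟩ := exists_mv_eq he hf0
    have h1 : emb A ∈ Subgroup.normalizer ((Se e : Subgroup (QG (ZMod p))) : Set (QG (ZMod p))) := by
      rw [htop]
      exact Subgroup.mem_top _
    rw [mem_normalizer_Se_iff he, blk_emb, hA, hef] at h1
    exact one_ne_zero h1

end Cfsg.Agent.Lib.Helper46.QdChar
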