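import Cfsg.Prelude.Def_PLocal
import Mathlib.GroupTheory.Perm.Sign
import Mathlib.GroupTheory.Perm.Fin
import Mathlib.LinearAlgebra.Matrix.SpecialLinearGroup
import Mathlib.GroupTheory.GroupAction.Basic

set_option autoImplicit false

namespace Cfsg.Agent.Lib.Helper46.QdTwo

abbrev SL3 := Matrix.SpecialLinearGroup (Fin 3) (ZMod 2)

def pt : Fin 4 → (Fin 3 → ZMod 2) := ![![0,0,1], ![1,0,1], ![0,1,1], ![1,1,1]]

def dec (v : Fin 3 → ZMod 2) : Fin 4 :=
  if v 0 = 0 then (if v 1 = 0 then 0 else 2) else (if v 1 = 0 then 1 else 3)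

theorem dec_pt (i : Fin 4) : dec (pt i) = i := by
  fin_cases i <;> decide

theorem pt_two (i : Fin 4) : pt i 2 = 1 := by
  fin_cases i <;> decide

theorem pt_dec : ∀ v : Fin 3 → ZMod 2, v 2 = 1 → pt (dec v) = v := by
  decide

def g0 : SL3 := ⟨!![1,1,1;0,1,0;0,0,1], by rw [Matrix.det_fin_three]; decide⟩
def g1 : SL3 := ⟨!![0,1,0;1,0,0;0,0,1], by rw [Matrix.det_fin_three]; decide⟩
def g2 : SL3 := ⟨!![1,1,0;0,1,0;0,0,1], by rw [Matrix.det_fin_three]; decide⟩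

/-- The last-row condition. -/
def RowCond (M : SL3) : Prop :=
  (M : Matrix (Fin 3) (Fin 3) (ZMod 2)) 2 0 = 0 ∧ (M : Matrix (Fin 3) (Fin 3) (ZMod 2)) 2 1 = 0 ∧
    (M : Matrix (Fin 3) (Fin 3) (ZMod 2)) 2 2 = 1

theorem rowCond_iff (M : SL3) :
    RowCond M ↔ Matrix.vecMul (![0,0,1] : Fin 3 → ZMod 2) (M : Matrix (Fin 3) (Fin 3) (ZMod 2)) = ![0,0,1] := by
  unfold RowCond
  constructor
  · rintro ⟨h0, h1, h2⟩
    funext j
    fin_cases j <;> simp [Matrix.vecMul, dotProduct, Fin.sum_univ_three, h0, h1, h2]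
  · intro h
    have e0 := congrFun h 0
    have e1 := congrFun h 1
    have e2 := congrFun h 2
    simp [Matrix.vecMul, dotProduct, Fin.sum_univ_three] at e0 e1 e2
    exact ⟨e0, e1, e2⟩

theorem rowCond_one : RowCond (1 : SL3) := by
  rw [rowCond_iff]; simp

theorem rowCond_mul {M N : SL3} (hM : RowCond M) (hN : RowCond N) : RowCond (M * N) := by
  rw [rowCond_iff] at *
  rw [Matrix.SpecialLinearGroup.coe_mul, ← Matrix.vecMul_vecMul, hM, hN]

theorem rowCond_inv {M : SL3} (hM : RowCond M) : RowCond M⁻¹ := by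
  rw [rowCond_iff] at *
  have h1 : (M : Matrix (Fin 3) (Fin 3) (ZMod 2)) * ((M⁻¹ : SL3) : Matrix (Fin 3) (Fin 3) (ZMod 2)) = 1 := by
    rw [← Matrix.SpecialLinearGroup.coe_mul, mul_inv_cancel, Matrix.SpecialLinearGroup.coe_one]
  calc Matrix.vecMul ![0,0,1] ((M⁻¹ : SL3) : Matrix (Fin 3) (Fin 3) (ZMod 2))
      = Matrix.vecMul (Matrix.vecMul ![0,0,1] (M : Matrix (Fin 3) (Fin 3) (ZMod 2)))
          ((M⁻¹ : SL3) : Matrix (Fin 3) (Fin 3) (ZMod 2)) := by rw [hM]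
    _ = ![0,0,1] := by rw [Matrix.vecMul_vecMul, h1, Matrix.vecMul_one]

theorem rowCond_of_mem {M : SL3} (hM : M ∈ Cfsg.qd 2) : RowCond M := by
  unfold Cfsg.qd at hM
  induction hM using Subgroup.closure_induction with
  | mem x hx => exact hx
  | one => exact rowCond_one
  | mul x y _ _ hx hy => exact rowCond_mul hx hy
  | inv x _ hx => exact rowCond_inv hx

theorem mem_of_rowCond {M : SL3} (hM : RowCond M) : M ∈ Cfsg.qd 2 :=
  Subgroup.subset_closure hM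

theorem mulVec_two {M : SL3} (hM : RowCond M) (v : Fin 3 → ZMod 2) :
    ((M : Matrix (Fin 3) (Fin 3) (ZMod 2)).mulVec v) 2 = v 2 := by
  obtain ⟨h0, h1, h2⟩ := hM
  simp [Matrix.mulVec, dotProduct, Fin.sum_univ_three, h0, h1, h2]

instance : MulAction ↥(Cfsg.qd 2) (Fin 4) where
  smul M i := dec (((M : SL3) : Matrix (Fin 3) (Fin 3) (ZMod 2)).mulVec (pt i))
  one_smul i := by
    show dec (((1 : SL3) : Matrix (Fin 3) (Fin 3) (ZMod 2)).mulVec (pt i)) = i
    rw [Matrix.SpecialLinearGroup.coe_one, Matrix.one_mulVec, dec_pt]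
  mul_smul M N i := by
    show dec ((((M : SL3) * (N : SL3) : SL3) : Matrix (Fin 3) (Fin 3) (ZMod 2)).mulVec (pt i)) =
      dec (((M : SL3) : Matrix (Fin 3) (Fin 3) (ZMod 2)).mulVec
        (pt (dec (((N : SL3) : Matrix (Fin 3) (Fin 3) (ZMod 2)).mulVec (pt i)))))
    rw [pt_dec _ (by rw [mulVec_two (rowCond_of_mem N.2), pt_two]),
      Matrix.SpecialLinearGroup.coe_mul, Matrix.mulVec_mulVec]

theorem smul_def' (M : ↥(Cfsg.qd 2)) (i : Fin 4) :
    M • i = dec (((M : SL3) : Matrix (Fin 3) (Fin 3) (ZMod 2)).mulVec (pt i)) := rfl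

theorem mulVec_pt_of_smul {M : ↥(Cfsg.qd 2)} {i : Fin 4} (h : M • i = i) :
    ((M : SL3) : Matrix (Fin 3) (Fin 3) (ZMod 2)).mulVec (pt i) = pt i := by
  rw [smul_def'] at h
  have := pt_dec _ (show (((M : SL3) : Matrix (Fin 3) (Fin 3) (ZMod 2)).mulVec (pt i)) 2 = 1 by
    rw [mulVec_two (rowCond_of_mem M.2), pt_two])
  rw [h] at this
  exact this.symm

theorem toPermHom_injective : Function.Injective (MulAction.toPermHom ↥(Cfsg.qd 2) (Fin 4)) := by
  rw [injective_iff_map_eq_one]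
  intro M hM
  have hfix : ∀ i : Fin 4, M • i = i := by
    intro i
    have := congrArg (fun σ : Equiv.Perm (Fin 4) => σ i) hM
    simpa using this
  have e0 := mulVec_pt_of_smul (hfix 0)
  have e1 := mulVec_pt_of_smul (hfix 1)
  have e2 := mulVec_pt_of_smul (hfix 2)
  apply Subtype.ext
  apply Subtype.ext
  show ((M : SL3) : Matrix (Fin 3) (Fin 3) (ZMod 2)) = ((1 : SL3) : Matrix (Fin 3) (Fin 3) (ZMod 2))
  rw [Matrix.SpecialLinearGroup.coe_one]
  have a00 := congrFun e0 0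
  have a01 := congrFun e0 1
  have a02 := congrFun e0 2
  have a10 := congrFun e1 0
  have a11 := congrFun e1 1
  have a12 := congrFun e1 2
  have a20 := congrFun e2 0
  have a21 := congrFun e2 1
  have a22 := congrFun e2 2
  simp [Matrix.mulVec, dotProduct, Fin.sum_univ_three, pt] at a00 a01 a02 a10 a11 a12 a20 a21 a22
  ext i j
  fin_cases i <;> fin_cases j <;> simp <;> simp_all


theorem g0_mem : g0 ∈ Cfsg.qd 2 := mem_of_rowCond (by unfold RowCond g0; decide)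
theorem g1_mem : g1 ∈ Cfsg.qd 2 := mem_of_rowCond (by unfold RowCond g1; decide)
theorem g2_mem : g2 ∈ Cfsg.qd 2 := mem_of_rowCond (by unfold RowCond g2; decide)

theorem perm_g0 : MulAction.toPermHom ↥(Cfsg.qd 2) (Fin 4) ⟨g0, g0_mem⟩ = Equiv.swap 0 1 := by
  ext k
  fin_cases k <;> decide

theorem perm_g1 : MulAction.toPermHom ↥(Cfsg.qd 2) (Fin 4) ⟨g1, g1_mem⟩ = Equiv.swap 1 2 := by
  ext k
  fin_cases k <;> decide

theorem perm_g2 : MulAction.toPermHom ↥(Cfsg.qd 2) (Fin 4) ⟨g2, g2_mem⟩ = Equiv.swap 2 3 := by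
  ext k
  fin_cases k <;> decide

theorem toPermHom_surjective : Function.Surjective (MulAction.toPermHom ↥(Cfsg.qd 2) (Fin 4)) := by
  rw [← MonoidHom.range_eq_top, eq_top_iff]
  have h := Equiv.Perm.mclosure_swap_castSucc_succ 3
  have hle : Submonoid.closure (Set.range fun i : Fin 3 => Equiv.swap i.castSucc i.succ) ≤
      (MulAction.toPermHom ↥(Cfsg.qd 2) (Fin 4)).range.toSubmonoid := by
    rw [Submonoid.closure_le]
    rintro _ ⟨i, rfl⟩
    fin_cases i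
    · exact ⟨⟨g0, g0_mem⟩, perm_g0⟩
    · exact ⟨⟨g1, g1_mem⟩, perm_g1⟩
    · exact ⟨⟨g2, g2_mem⟩, perm_g2⟩
  rw [h] at hle
  intro σ _
  exact hle (Submonoid.mem_top σ)

noncomputable def qdTwoEquiv : ↥(Cfsg.qd 2) ≃* Equiv.Perm (Fin 4) :=
  MulEquiv.ofBijective (MulAction.toPermHom ↥(Cfsg.qd 2) (Fin 4))
    ⟨toPermHom_injective, toPermHom_surjective⟩

end Cfsg.Agent.Lib.Helper46.QdTwo
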