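import Cfsg.Agent.Lib.Helper46.TTQ3

set_option autoImplicit false
set_option linter.all false

namespace Cfsg.Agent.Lib.Helper46

open Cfsg

universe u

variable {G : Type u} [Group G] {D : Set G}

/-- in a copy of the symmetric group of degree four generated by `a`, `x` (commuting) and `e` (joined to both), the
square of the Coxeter element swaps `a` and `x` and centralizes `e` -/
theorem s4_conj_a {a x e : G} (ha : a * a = 1) (hx : x * x = 1) (he : e * e = 1)
    (hax : a * x = x * a) (hae : e * a * e = a * e * a) (hxe : e * x * e = x * e * x) :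
    (a * x * e * (a * x * e)) * a * (e * x * a * (e * x * a)) = x := by
  have h1 : a * x * a = x := by rw [hax, mul_assoc, ha, mul_one]
  calc (a * x * e * (a * x * e)) * a * (e * x * a * (e * x * a))
      = a * x * e * a * x * (e * a * e) * x * a * e * x * a := by group
    _ = a * x * e * a * x * (a * e * a) * x * a * e * x * a := by rw [hae]
    _ = a * x * e * (a * x * a) * e * (a * x * a) * e * x * a := by group
    _ = a * x * e * x * e * x * e * x * a := by rw [h1]
    _ = a * (x * e * x) * e * (x * e * x) * a := by group
    _ = a * (e * x * e) * e * (e * x * e) * a := by rw [← hxe]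
    _ = a * e * x * (e * e) * e * x * e * a := by group
    _ = a * e * (x * e * x) * e * a := by rw [he]; group
    _ = a * e * (e * x * e) * e * a := by rw [← hxe]
    _ = a * (e * e) * x * (e * e) * a := by group
    _ = x := by rw [he, mul_one, mul_one, h1]

theorem s4_conj_e {a x e : G} (ha : a * a = 1) (hx : x * x = 1) (he : e * e = 1)
    (hax : a * x = x * a) (hae : e * a * e = a * e * a) (hxe : e * x * e = x * e * x) :
    (a * x * e * (a * x * e)) * e * (e * x * a * (e * x * a)) = e := by
  have h1 : a * x * a = x := by rw [hax, mul_assoc, ha, mul_one]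
  calc (a * x * e * (a * x * e)) * e * (e * x * a * (e * x * a))
      = a * x * e * a * x * (e * e) * e * x * a * e * x * a := by group
    _ = a * x * e * a * (x * e * x) * a * e * x * a := by rw [he]; group
    _ = a * x * e * a * (e * x * e) * a * e * x * a := by rw [← hxe]
    _ = a * x * (e * a * e) * x * (e * a * e) * x * a := by group
    _ = a * x * (a * e * a) * x * (a * e * a) * x * a := by rw [hae]
    _ = (a * x * a) * e * (a * x * a) * e * (a * x * a) := by group
    _ = x * e * x * e * x := by rw [h1]
    _ = x * (e * x * e) * x := by group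
    _ = x * (x * e * x) * x := by rw [hxe]
    _ = (x * x) * e * (x * x) := by group
    _ = e := by rw [hx, one_mul, mul_one]

theorem s4_inv {a x e : G} (ha : a * a = 1) (hx : x * x = 1) (he : e * e = 1) :
    (a * x * e * (a * x * e))⁻¹ = e * x * a * (e * x * a) := by
  apply inv_eq_of_mul_eq_one_right
  calc a * x * e * (a * x * e) * (e * x * a * (e * x * a))
      = a * x * e * a * x * (e * e) * x * a * e * x * a := by group
    _ = a * x * e * a * (x * x) * a * e * x * a := by rw [he]; group
    _ = a * x * e * (a * a) * e * x * a := by rw [hx]; group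
    _ = a * x * (e * e) * x * a := by rw [ha]; group
    _ = a * (x * x) * a := by rw [he]; group
    _ = 1 := by rw [hx, mul_one, ha]

/-- the swapping element -/
theorem s4_swap {a x e : G} (ha : a * a = 1) (hx : x * x = 1) (he : e * e = 1)
    (hax : a * x = x * a) (hae : e * a * e = a * e * a) (hxe : e * x * e = x * e * x) :
    (a * x * e * (a * x * e)) * a * (a * x * e * (a * x * e))⁻¹ = x ∧
    (a * x * e * (a * x * e)) * x * (a * x * e * (a * x * e))⁻¹ = a ∧
    (a * x * e * (a * x * e)) * e * (a * x * e * (a * x * e))⁻¹ = e := by
  rw [s4_inv ha hx he]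
  refine ⟨s4_conj_a ha hx he hax hae hxe, ?_, s4_conj_e ha hx he hax hae hxe⟩
  have := s4_conj_a hx ha he hax.symm hxe hae
  have h2 : e * a * x = e * x * a := by rw [mul_assoc, hax, ← mul_assoc]
  rw [← hax, h2] at this
  exact this

end Cfsg.Agent.Lib.Helper46
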