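import Cfsg.Agent.Lib.Helper46.R3a

set_option autoImplicit false
set_option linter.all false

namespace Cfsg.Agent.Lib.Helper46

open Cfsg

universe u

variable {G : Type u} [Group G] {D : Set G}

/-- a conjugation-equivariant family of sets separates the points of a primitive class, unless it is constant -/
theorem prim_inj (hD : IsThreeTranspositionClass D) (hP : IsPrimitiveUnderConj D) (F : G → Set G)
    (hF : ∀ g p : G, p ∈ D → F (g * p * g⁻¹) = cj g (F p)) {a x : G} (ha : a ∈ D) (hx : x ∈ D)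
    (hne : a ≠ x) (h : F a = F x) : ∀ p ∈ D, F p = F a := by
  have hconj := class_conj hD
  obtain ⟨B, hB⟩ : ∃ B : Set G, B = {p | p ∈ D ∧ F p = F a} := ⟨_, rfl⟩
  have haB : a ∈ B := by rw [hB]; exact ⟨ha, rfl⟩
  have hxB : x ∈ B := by rw [hB]; exact ⟨hx, h.symm⟩
  have hBD : B ⊆ D := by rw [hB]; exact fun p hp => hp.1
  have hblk : ∀ g : G, cj g B = B ∨ Disjoint (cj g B) B := by
    intro g
    by_cases hex : ∃ z, z ∈ cj g B ∧ z ∈ B
    · left
      obtain ⟨z, hz1, hz2⟩ := hex
      rw [mem_cj, hB] at hz1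
      rw [hB] at hz2
      have hfix : cj g (F a) = F a := by
        have h1 := hF g _ hz1.1
        have e : g * (g⁻¹ * z * g) * g⁻¹ = z := by group
        rw [e, hz1.2, hz2.2] at h1
        exact h1.symm
      ext y
      rw [mem_cj, hB]
      constructor
      · rintro ⟨hyD, hyF⟩
        have hyD' : y ∈ D := by
          have := hconj g _ hyD
          have e : g * (g⁻¹ * y * g) * g⁻¹ = y := by group
          rwa [e] at this
        refine ⟨hyD', ?_⟩
        have h1 := hF g _ hyD
        have e : g * (g⁻¹ * y * g) * g⁻¹ = y := by group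
        rw [e, hyF, hfix] at h1
        exact h1
      · rintro ⟨hyD, hyF⟩
        have hyD' : g⁻¹ * y * g ∈ D := by
          have := hconj g⁻¹ _ hyD
          rwa [inv_inv] at this
        refine ⟨hyD', ?_⟩
        have h1 := hF g⁻¹ _ hyD
        rw [inv_inv] at h1
        rw [h1, hyF]
        conv_lhs => rw [← hfix]
        exact cj_inv_cj g (F a)
    · right
      rw [Set.disjoint_left]
      intro z hz1 hz2
      exact hex ⟨z, hz1, hz2⟩
  rcases hP.2.2 B hBD hblk with hs | hs
  · exact absurd (hs haB hxB) hne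
  · intro p hp
    have : p ∈ B := by rw [hs]; exact hp
    rw [hB] at this
    exact this.2

/-- conjugates of finite sets have the same cardinality -/
theorem ncard_cj (g : G) (S : Set G) : (cj g S).ncard = S.ncard := by
  unfold cj
  apply Set.ncard_image_of_injective
  intro x y hxy
  simpa using hxy

/-- equivariant families in a finite group: distinct values are incomparable -/
theorem exists_mem_diff [Finite G] (hD : IsThreeTranspositionClass D) (F : G → Set G)
    (hF : ∀ g p : G, p ∈ D → F (g * p * g⁻¹) = cj g (F p)) {a c : G} (ha : a ∈ D) (hc : c ∈ D)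
    (hne : F a ≠ F c) : ∃ x, x ∈ F a ∧ x ∉ F c := by
  by_contra hcon
  push Not at hcon
  apply hne
  obtain ⟨g, rfl⟩ := class_trans hD ha hc
  apply Set.eq_of_subset_of_ncard_le hcon _ (Set.toFinite _)
  rw [hF g a ha, ncard_cj]

/-- the commuting partners of `p` other than `p` -/
def dSet (D : Set G) (p : G) : Set G := {y | y ∈ D ∧ y ≠ p ∧ Commute p y}

/-- the commuting partners of `p` -/
def cSet (D : Set G) (p : G) : Set G := {y | y ∈ D ∧ Commute p y}

theorem dSet_conj (hD : IsThreeTranspositionClass D) (g p : G) (hp : p ∈ D) :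
    dSet D (g * p * g⁻¹) = cj g (dSet D p) := by
  have hconj := class_conj hD
  ext y
  rw [mem_cj]
  unfold dSet
  simp only [Set.mem_setOf_eq]
  constructor
  · rintro ⟨hy, hne, hc⟩
    refine ⟨?_, ?_, ?_⟩
    · have := hconj g⁻¹ y hy
      rwa [inv_inv] at this
    · intro h
      apply hne
      rw [← h]; group
    · show p * (g⁻¹ * y * g) = g⁻¹ * y * g * p
      have h1 : g * p * g⁻¹ * y = y * (g * p * g⁻¹) := hc.eq
      calc p * (g⁻¹ * y * g) = g⁻¹ * (g * p * g⁻¹ * y) * g := by group
        _ = g⁻¹ * (y * (g * p * g⁻¹)) * g := by rw [h1]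
        _ = g⁻¹ * y * g * p := by group
  · rintro ⟨hy, hne, hc⟩
    refine ⟨?_, ?_, ?_⟩
    · have := hconj g _ hy
      have e : g * (g⁻¹ * y * g) * g⁻¹ = y := by group
      rwa [e] at this
    · intro h
      apply hne
      rw [h]; group
    · show g * p * g⁻¹ * y = y * (g * p * g⁻¹)
      have h1 : p * (g⁻¹ * y * g) = g⁻¹ * y * g * p := hc.eq
      calc g * p * g⁻¹ * y = g * (p * (g⁻¹ * y * g)) * g⁻¹ := by group
        _ = g * (g⁻¹ * y * g * p) * g⁻¹ := by rw [h1]
        _ = y * (g * p * g⁻¹) := by group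

theorem cSet_conj (hD : IsThreeTranspositionClass D) (g p : G) (hp : p ∈ D) :
    cSet D (g * p * g⁻¹) = cj g (cSet D p) := by
  have hconj := class_conj hD
  ext y
  rw [mem_cj]
  unfold cSet
  simp only [Set.mem_setOf_eq]
  constructor
  · rintro ⟨hy, hc⟩
    refine ⟨?_, ?_⟩
    · have := hconj g⁻¹ y hy
      rwa [inv_inv] at this
    · show p * (g⁻¹ * y * g) = g⁻¹ * y * g * p
      have h1 : g * p * g⁻¹ * y = y * (g * p * g⁻¹) := hc.eq
      calc p * (g⁻¹ * y * g) = g⁻¹ * (g * p * g⁻¹ * y) * g := by group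
        _ = g⁻¹ * (y * (g * p * g⁻¹)) * g := by rw [h1]
        _ = g⁻¹ * y * g * p := by group
  · rintro ⟨hy, hc⟩
    refine ⟨?_, ?_⟩
    · have := hconj g _ hy
      have e : g * (g⁻¹ * y * g) * g⁻¹ = y := by group
      rwa [e] at this
    · show g * p * g⁻¹ * y = y * (g * p * g⁻¹)
      have h1 : p * (g⁻¹ * y * g) = g⁻¹ * y * g * p := hc.eq
      calc g * p * g⁻¹ * y = g * (p * (g⁻¹ * y * g)) * g⁻¹ := by group
        _ = g * (g⁻¹ * y * g * p) * g⁻¹ := by rw [h1]
        _ = y * (g * p * g⁻¹) := by group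

/-- theta is trivial: distinct members have distinct sets of proper commuting partners -/
theorem exists_dSet_diff [Finite G] (hD : IsThreeTranspositionClass D) (hP : IsPrimitiveUnderConj D)
    (hw : ∃ a ∈ D, ∃ b ∈ D, a ≠ b ∧ Commute a b) {a c : G} (ha : a ∈ D) (hc : c ∈ D) (hne : a ≠ c) :
    ∃ x, x ∈ dSet D a ∧ x ∉ dSet D c := by
  apply exists_mem_diff hD (dSet D) (dSet_conj hD) ha hc
  intro h
  have hall := prim_inj hD hP (dSet D) (dSet_conj hD) ha hc hne h
  obtain ⟨u, hu, v, hv, huv, hcuv⟩ := hw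
  have h1 : v ∈ dSet D u := ⟨hv, huv.symm, hcuv⟩
  rw [hall u hu, ← hall v hv] at h1
  exact h1.2.1 rfl

/-- tau is trivial: distinct members have distinct sets of commuting partners -/
theorem exists_cSet_diff [Finite G] (hD : IsThreeTranspositionClass D) (hP : IsPrimitiveUnderConj D)
    {a b : G} (ha : a ∈ D) (hb : b ∈ D) (hne : a ≠ b) :
    ∃ x, x ∈ cSet D b ∧ x ∉ cSet D a := by
  apply exists_mem_diff hD (cSet D) (cSet_conj hD) hb ha
  intro h
  have hall := prim_inj hD hP (cSet D) (cSet_conj hD) hb ha hne.symm h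
  have hcen : b ∈ Subgroup.center G := by
    apply mem_center_of_commute_gen hD.2.2
    intro p hp
    have h1 : b ∈ cSet D b := ⟨hb, Commute.refl b⟩
    rw [← hall p hp] at h1
    exact h1.2
  obtain ⟨g, hg⟩ := class_trans hD hb ha
  apply hne
  rw [← hg]
  rw [Subgroup.mem_center_iff] at hcen
  rw [hcen g]; group

end Cfsg.Agent.Lib.Helper46
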