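import Cfsg.Agent.Lib.Helper46.R3b

set_option autoImplicit false
set_option linter.all false

namespace Cfsg.Agent.Lib.Helper46

open Cfsg

universe u

variable {G : Type u} [Group G] {D : Set G}

/-- braid relation for two non-commuting members -/
theorem tt_braid (hT : IsThreeTranspositionSet D) {p q : G} (hp : p ∈ D) (hq : q ∈ D)
    (h : ¬ Commute p q) : q * p * q = p * q * p :=
  braid_of_cube (tt_sq hT hq) (tt_sq hT hp) (tt_cube_of_ncomm hT hp hq h)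

/-- transfer: for commuting `a`, `x` and `e` commuting with neither, some element swaps `a`, `x` and fixes `e` -/
theorem transfer (hT : IsThreeTranspositionSet D) {a x e : G} (ha : a ∈ D) (hx : x ∈ D) (he : e ∈ D)
    (hax : Commute a x) (hae : ¬ Commute a e) (hxe : ¬ Commute x e) :
    ∃ g : G, g * a * g⁻¹ = x ∧ g * x * g⁻¹ = a ∧ g * e * g⁻¹ = e :=
  ⟨a * x * e * (a * x * e), s4_swap (tt_sq hT ha) (tt_sq hT hx) (tt_sq hT he) hax.eq
    (tt_braid hT ha he hae) (tt_braid hT hx he hxe)⟩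

/-- the swap of two non-commuting members -/
theorem swap_ncomm (hT : IsThreeTranspositionSet D) {p q : G} (hp : p ∈ D) (hq : q ∈ D)
    (h : ¬ Commute p q) : ∃ t : G, t * p * t⁻¹ = q ∧ t * q * t⁻¹ = p := by
  have hpp := tt_sq hT hp
  have hqq := tt_sq hT hq
  have hb := tt_braid hT hp hq h
  have hinv : (p * q * p)⁻¹ = p * q * p := by
    rw [mul_inv_rev, mul_inv_rev, tt_inv hT hp, tt_inv hT hq, mul_assoc]
  refine ⟨p * q * p, ?_, ?_⟩
  · rw [hinv]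
    calc p * q * p * p * (p * q * p) = p * q * (p * p) * (p * q * p) := by group
      _ = p * (q * p * q) * p := by rw [hpp]; group
      _ = p * (p * q * p) * p := by rw [hb]
      _ = (p * p) * q * (p * p) := by group
      _ = q := by rw [hpp, one_mul, mul_one]
  · rw [hinv]
    calc p * q * p * q * (p * q * p) = p * (q * p * q) * (p * q * p) := by group
      _ = p * (p * q * p) * (p * q * p) := by rw [hb]
      _ = (p * p) * q * (p * p) * q * p := by group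
      _ = (q * q) * p := by rw [hpp, one_mul, mul_one]
      _ = p := by rw [hqq, one_mul]

/-- two members not commuting with `a` which commute are conjugate under the centralizer of `a` -/
theorem claimA (hT : IsThreeTranspositionSet D) {a b c : G} (ha : a ∈ D) (hb : b ∈ D) (hc : c ∈ D)
    (hab : ¬ Commute a b) (hac : ¬ Commute a c) (hbc : Commute b c) :
    ∃ k : G, Commute k a ∧ k * b * k⁻¹ = c := by
  obtain ⟨g, h1, _, h3⟩ := transfer hT hb hc ha hbc (fun h => hab h.symm) (fun h => hac h.symm)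
  refine ⟨g, ?_, h1⟩
  show g * a = a * g
  calc g * a = (g * a * g⁻¹) * g := by group
    _ = a * g := by rw [h3]

/-- nestedness: the configuration forcing two members of `A_a` into one orbit -/
theorem claimB (hT : IsThreeTranspositionSet D) {a b c x y : G} (ha : a ∈ D) (hb : b ∈ D) (hc : c ∈ D)
    (hx : x ∈ D) (hy : y ∈ D) (hab : ¬ Commute a b) (hac : ¬ Commute a c) (hbc : ¬ Commute b c)
    (hax : Commute a x) (hxb : Commute x b) (hxc : ¬ Commute x c)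
    (hay : Commute a y) (hyc : Commute y c) (hyb : ¬ Commute y b) :
    ∃ k : G, Commute k a ∧ k * c * k⁻¹ = b := by
  obtain ⟨g₁, h1a, _, h1c⟩ := transfer hT ha hx hc hax hac hxc
  obtain ⟨g₂, h2b, _, h2c⟩ := transfer hT hb hx hc hxb.symm hbc hxc
  obtain ⟨g₃, h3a, _, h3b⟩ := transfer hT ha hy hb hay hab hyb
  obtain ⟨g₄, h4c, _, h4b⟩ := transfer hT hc hy hb hyc.symm (fun h => hbc h.symm) hyb
  obtain ⟨t, htb, htc⟩ := swap_ncomm hT hb hc hbc
  -- g = g₁⁻¹ g₂ maps b to a and fixes c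
  have hgb : (g₁⁻¹ * g₂) * b * (g₁⁻¹ * g₂)⁻¹ = a := by
    calc (g₁⁻¹ * g₂) * b * (g₁⁻¹ * g₂)⁻¹ = g₁⁻¹ * (g₂ * b * g₂⁻¹) * g₁ := by group
      _ = g₁⁻¹ * (g₁ * a * g₁⁻¹) * g₁ := by rw [h2b, h1a]
      _ = a := by group
  have hgc : (g₁⁻¹ * g₂) * c * (g₁⁻¹ * g₂)⁻¹ = c := by
    calc (g₁⁻¹ * g₂) * c * (g₁⁻¹ * g₂)⁻¹ = g₁⁻¹ * (g₂ * c * g₂⁻¹) * g₁ := by group
      _ = g₁⁻¹ * (g₁ * c * g₁⁻¹) * g₁ := by rw [h2c, h1c]
      _ = c := by group
  have hg'c : (g₃⁻¹ * g₄) * c * (g₃⁻¹ * g₄)⁻¹ = a := by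
    calc (g₃⁻¹ * g₄) * c * (g₃⁻¹ * g₄)⁻¹ = g₃⁻¹ * (g₄ * c * g₄⁻¹) * g₃ := by group
      _ = g₃⁻¹ * (g₃ * a * g₃⁻¹) * g₃ := by rw [h4c, h3a]
      _ = a := by group
  have hg'b : (g₃⁻¹ * g₄) * b * (g₃⁻¹ * g₄)⁻¹ = b := by
    calc (g₃⁻¹ * g₄) * b * (g₃⁻¹ * g₄)⁻¹ = g₃⁻¹ * (g₄ * b * g₄⁻¹) * g₃ := by group
      _ = g₃⁻¹ * (g₃ * b * g₃⁻¹) * g₃ := by rw [h4b, h3b]
      _ = b := by group
  obtain ⟨g, hg⟩ : ∃ g, g = g₁⁻¹ * g₂ := ⟨_, rfl⟩
  obtain ⟨g', hg'⟩ : ∃ g', g' = g₃⁻¹ * g₄ := ⟨_, rfl⟩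
  rw [← hg] at hgb hgc
  rw [← hg'] at hg'c hg'b
  have hga : g⁻¹ * a * g = b := by rw [← hgb]; group
  have hgc' : g⁻¹ * c * g = c := by
    conv_lhs => rw [← hgc]
    group
  have hka : (g' * t * g⁻¹) * a * (g' * t * g⁻¹)⁻¹ = a := by
    calc (g' * t * g⁻¹) * a * (g' * t * g⁻¹)⁻¹ = g' * (t * (g⁻¹ * a * g) * t⁻¹) * g'⁻¹ := by group
      _ = a := by rw [hga, htb, hg'c]
  have hkc : (g' * t * g⁻¹) * c * (g' * t * g⁻¹)⁻¹ = b := by
    calc (g' * t * g⁻¹) * c * (g' * t * g⁻¹)⁻¹ = g' * (t * (g⁻¹ * c * g) * t⁻¹) * g'⁻¹ := by group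
      _ = b := by rw [hgc', htc, hg'b]
  refine ⟨g' * t * g⁻¹, ?_, hkc⟩
  show (g' * t * g⁻¹) * a = a * (g' * t * g⁻¹)
  calc (g' * t * g⁻¹) * a = ((g' * t * g⁻¹) * a * (g' * t * g⁻¹)⁻¹) * (g' * t * g⁻¹) := by group
    _ = a * (g' * t * g⁻¹) := by rw [hka]

/-- the orbital through `(a, c₀)`, as a family of sets -/
def orb (a c₀ p : G) : Set G := {q | ∃ g : G, g * a * g⁻¹ = p ∧ g * c₀ * g⁻¹ = q}

theorem orb_conj (a c₀ k p : G) : orb a c₀ (k * p * k⁻¹) = cj k (orb a c₀ p) := by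
  ext q
  rw [mem_cj]
  unfold orb
  simp only [Set.mem_setOf_eq]
  constructor
  · rintro ⟨g, h1, h2⟩
    refine ⟨k⁻¹ * g, ?_, ?_⟩
    · calc k⁻¹ * g * a * (k⁻¹ * g)⁻¹ = k⁻¹ * (g * a * g⁻¹) * k := by group
        _ = p := by rw [h1]; group
    · calc k⁻¹ * g * c₀ * (k⁻¹ * g)⁻¹ = k⁻¹ * (g * c₀ * g⁻¹) * k := by group
        _ = k⁻¹ * q * k := by rw [h2]
  · rintro ⟨g, h1, h2⟩
    refine ⟨k * g, ?_, ?_⟩
    · calc k * g * a * (k * g)⁻¹ = k * (g * a * g⁻¹) * k⁻¹ := by group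
        _ = k * p * k⁻¹ := by rw [h1]
    · calc k * g * c₀ * (k * g)⁻¹ = k * (g * c₀ * g⁻¹) * k⁻¹ := by group
        _ = q := by rw [h2]; group

/-- an orbital set at `a` cannot be contained in the orbital set at another point -/
theorem orb_absurd [Finite G] (hD : IsThreeTranspositionClass D) (hP : IsPrimitiveUnderConj D)
    {a c₀ x : G} (ha : a ∈ D) (hc₀ : c₀ ∈ D) (hx : x ∈ D) (hxa : a ≠ x) (hca : c₀ ≠ a)
    (hsub : orb a c₀ a ⊆ orb a c₀ x) : False := by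
  have heq : orb a c₀ a = orb a c₀ x := by
    apply Set.eq_of_subset_of_ncard_le hsub _ (Set.toFinite _)
    obtain ⟨g, rfl⟩ := class_trans hD ha hx
    rw [orb_conj, ncard_cj]
  have hall := prim_inj hD hP (orb a c₀) (fun g p _ => orb_conj a c₀ g p) ha hx hxa heq
  have h1 : c₀ ∈ orb a c₀ a := ⟨1, by simp, by simp⟩
  rw [← hall c₀ hc₀] at h1
  obtain ⟨g, hg1, hg2⟩ := h1
  apply hca
  have e1 : a = g⁻¹ * (g * a * g⁻¹) * g := by group
  have e2 : c₀ = g⁻¹ * (g * c₀ * g⁻¹) * g := by group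
  rw [e2, hg2, ← hg1]
  group

end Cfsg.Agent.Lib.Helper46
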