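import Cfsg.Agent.Lib.Helper46.R3c

set_option autoImplicit false
set_option linter.all false

namespace Cfsg.Agent.Lib.Helper46

open Cfsg

universe u

variable {G : Type u} [Group G] {D : Set G}

/-- conjugation by an element commuting with `a` -/
theorem conj_fix {h a : G} (hh : Commute h a) : h * a * h⁻¹ = a := by
  rw [hh.eq]; group

theorem conj_fix' {h a : G} (hh : Commute h a) : h⁻¹ * a * h = a := by
  rw [mul_assoc, ← hh.eq]; group

theorem commute_conj_left {h a y : G} (hh : Commute h a) : Commute a (h * y * h⁻¹) ↔ Commute a y := by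
  have := Commute.conj_iff (a := a) (b := y) h
  rwa [conj_fix hh] at this

/-- members of `D` commuting with `a` (other than `a`) and with `e` -/
def lam (D : Set G) (a e : G) : Set G := {x | x ∈ D ∧ x ≠ a ∧ Commute a x ∧ Commute x e}

theorem lam_conj (hD : IsThreeTranspositionClass D) {h a : G} (hh : Commute h a) (e : G) :
    lam D a (h * e * h⁻¹) = cj h (lam D a e) := by
  have hconj := class_conj hD
  ext y
  rw [mem_cj]
  unfold lam
  simp only [Set.mem_setOf_eq]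
  have e1 : h * (h⁻¹ * y * h) * h⁻¹ = y := by group
  constructor
  · rintro ⟨hy, hne, hc1, hc2⟩
    refine ⟨?_, ?_, ?_, ?_⟩
    · have := hconj h⁻¹ y hy
      rwa [inv_inv] at this
    · intro h1
      apply hne
      rw [← e1, h1, conj_fix hh]
    · rw [← commute_conj_left hh, e1]; exact hc1
    · rw [← Commute.conj_iff h, e1]; exact hc2
  · rintro ⟨hy, hne, hc1, hc2⟩
    refine ⟨?_, ?_, ?_, ?_⟩
    · have := hconj h _ hy
      rwa [e1] at this
    · intro h1
      apply hne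
      rw [h1, conj_fix' hh]
    · rw [← commute_conj_left hh, e1] at hc1; exact hc1
    · rw [← Commute.conj_iff h, e1] at hc2; exact hc2

/-- core of the transitivity on the non-commuting members -/
theorem transA_core [Finite G] (hD : IsThreeTranspositionClass D) (hP : IsPrimitiveUnderConj D)
    (hw : ∃ a ∈ D, ∃ b ∈ D, a ≠ b ∧ Commute a b) {a b₀ c₀ : G} (ha : a ∈ D) (hb₀ : b₀ ∈ D)
    (hc₀ : c₀ ∈ D) (hab : ¬ Commute a b₀) (hac : ¬ Commute a c₀)
    (hno : ∀ h : G, Commute h a → h * b₀ * h⁻¹ ≠ c₀)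
    (hcard : (lam D a b₀).ncard ≤ (lam D a c₀).ncard) : False := by
  have hT := hD.1
  have hconj := class_conj hD
  have key : ∀ h₁ h₂ : G, Commute h₁ a → Commute h₂ a →
      lam D a (h₁ * b₀ * h₁⁻¹) ⊆ lam D a (h₂ * c₀ * h₂⁻¹) := by
    intro h₁ h₂ hh₁ hh₂
    obtain ⟨b, hbdef⟩ : ∃ b, b = h₁ * b₀ * h₁⁻¹ := ⟨_, rfl⟩
    obtain ⟨c, hcdef⟩ : ∃ c, c = h₂ * c₀ * h₂⁻¹ := ⟨_, rfl⟩
    have hcard' : (lam D a b).ncard ≤ (lam D a c).ncard := by
      rw [hbdef, hcdef, lam_conj hD hh₁, lam_conj hD hh₂, ncard_cj, ncard_cj]; exact hcard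
    rw [← hbdef, ← hcdef]
    have hb : b ∈ D := by rw [hbdef]; exact hconj h₁ b₀ hb₀
    have hc : c ∈ D := by rw [hcdef]; exact hconj h₂ c₀ hc₀
    have hab' : ¬ Commute a b := by rw [hbdef, commute_conj_left hh₁]; exact hab
    have hac' : ¬ Commute a c := by rw [hcdef, commute_conj_left hh₂]; exact hac
    have hno' : ∀ k : G, Commute k a → k * c * k⁻¹ ≠ b := by
      intro k hk hkc
      apply hno (h₂⁻¹ * k⁻¹ * h₁) ((hh₂.inv_left.mul_left hk.inv_left).mul_left hh₁)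
      have e1 : h₂⁻¹ * k⁻¹ * h₁ * b₀ * (h₂⁻¹ * k⁻¹ * h₁)⁻¹
          = h₂⁻¹ * (k⁻¹ * (h₁ * b₀ * h₁⁻¹) * k) * h₂ := by group
      rw [e1, ← hbdef, ← hkc, hcdef]; group
    have hbc : ¬ Commute b c := by
      intro hbc
      obtain ⟨k, hk, hkb⟩ := claimA hT ha hb hc hab' hac' hbc
      apply hno' k⁻¹ hk.inv_left
      rw [← hkb]; group
    have hnest : lam D a b ⊆ lam D a c ∨ lam D a c ⊆ lam D a b := by
      by_contra hcon
      push Not at hcon
      obtain ⟨h1, h2⟩ := hcon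
      rw [Set.not_subset] at h1 h2
      obtain ⟨x, hxb, hxc⟩ := h1
      obtain ⟨y, hyc, hyb⟩ := h2
      obtain ⟨hxD, hxa, hax, hxb'⟩ := hxb
      obtain ⟨hyD, hya, hay, hyc'⟩ := hyc
      have hxc' : ¬ Commute x c := fun h => hxc ⟨hxD, hxa, hax, h⟩
      have hyb' : ¬ Commute y b := fun h => hyb ⟨hyD, hya, hay, h⟩
      obtain ⟨k, hk, hkc⟩ := claimB hT ha hb hc hxD hyD hab' hac' hbc hax hxb' hxc' hay hyc' hyb'
      exact hno' k hk hkc
    rcases hnest with h | h
    · exact h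
    · have := Set.eq_of_subset_of_ncard_le h hcard' (Set.toFinite _)
      rw [this]
  -- theta: a commuting partner of `a` not commuting with `c₀`
  have hac0 : a ≠ c₀ := fun h => hac (h ▸ Commute.refl a)
  obtain ⟨x, hx1, hx2⟩ := exists_dSet_diff hD hP hw ha hc₀ hac0
  obtain ⟨hxD, hxa, hax⟩ := hx1
  have hxc : ¬ Commute x c₀ := by
    intro h
    apply hx2
    refine ⟨hxD, ?_, h.symm⟩
    intro h1
    rw [h1] at hax
    exact hac hax
  have hxb : ∀ h : G, Commute h a → ¬ Commute x (h * b₀ * h⁻¹) := by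
    intro h hh hc
    have h1 : x ∈ lam D a (h * b₀ * h⁻¹) := ⟨hxD, hxa, hax, hc⟩
    have h2 := key h 1 hh (Commute.one_left a) h1
    apply hxc
    have h3 := h2.2.2.2
    simpa using h3
  have hb0a : b₀ ≠ a := fun h => hab (h ▸ Commute.refl a)
  apply orb_absurd hD hP ha hb₀ hxD (Ne.symm hxa) hb0a
  rintro q ⟨g, hg1, hg2⟩
  have hga : Commute g a := by
    show g * a = a * g
    calc g * a = (g * a * g⁻¹) * g := by group
      _ = a * g := by rw [hg1]
  have hqD : q ∈ D := by rw [← hg2]; exact hconj g b₀ hb₀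
  have haq : ¬ Commute a q := by rw [← hg2, commute_conj_left hga]; exact hab
  have hxq : ¬ Commute x q := by rw [← hg2]; exact hxb g hga
  obtain ⟨g₅, h5a, _, h5q⟩ := transfer hT ha hxD hqD hax haq hxq
  refine ⟨g₅ * g, ?_, ?_⟩
  · calc g₅ * g * a * (g₅ * g)⁻¹ = g₅ * (g * a * g⁻¹) * g₅⁻¹ := by group
      _ = x := by rw [hg1, h5a]
  · calc g₅ * g * b₀ * (g₅ * g)⁻¹ = g₅ * (g * b₀ * g⁻¹) * g₅⁻¹ := by group
      _ = q := by rw [hg2, h5q]

/-- Fischer: the centralizer of `a` is transitive on the members of `D` not commuting with `a` -/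
theorem transA [Finite G] (hD : IsThreeTranspositionClass D) (hP : IsPrimitiveUnderConj D)
    (hw : ∃ a ∈ D, ∃ b ∈ D, a ≠ b ∧ Commute a b) {a b₀ c₀ : G} (ha : a ∈ D) (hb₀ : b₀ ∈ D)
    (hc₀ : c₀ ∈ D) (hab : ¬ Commute a b₀) (hac : ¬ Commute a c₀) :
    ∃ h : G, Commute h a ∧ h * b₀ * h⁻¹ = c₀ := by
  by_contra hcon
  push Not at hcon
  rcases le_total (lam D a b₀).ncard (lam D a c₀).ncard with h | h
  · exact transA_core hD hP hw ha hb₀ hc₀ hab hac hcon h
  · apply transA_core hD hP hw ha hc₀ hb₀ hac hab _ h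
    intro k hk hkc
    apply hcon k⁻¹ hk.inv_left
    rw [← hkc]; group

end Cfsg.Agent.Lib.Helper46
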