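import Cfsg.Agent.Lib.Helper46.R3d

set_option autoImplicit false
set_option linter.all false

namespace Cfsg.Agent.Lib.Helper46

open Cfsg

universe u

variable {G : Type u} [Group G] {D : Set G}

/-- explicit swap of two non-commuting members -/
theorem swap_explicit (hT : IsThreeTranspositionSet D) {p q : G} (hp : p ∈ D) (hq : q ∈ D)
    (h : ¬ Commute p q) : (p * q * p) * p * (p * q * p)⁻¹ = q ∧ (p * q * p) * q * (p * q * p)⁻¹ = p := by
  have hpp := tt_sq hT hp
  have hqq := tt_sq hT hq
  have hb := tt_braid hT hp hq h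
  have hinv : (p * q * p)⁻¹ = p * q * p := by
    rw [mul_inv_rev, mul_inv_rev, tt_inv hT hp, tt_inv hT hq, mul_assoc]
  constructor
  · rw [hinv]
    calc p * q * p * p * (p * q * p) = p * q * (p * p) * (p * q * p) := by group
      _ = p * (q * p * q) * p := by rw [hpp]; group
      _ = p * (p * q * p) * p := by rw [hb]
      _ = (p * p) * q * (p * p) := by group
      _ = q := by rw [hpp, one_mul, mul_one]
  · rw [hinv]
    calc p * q * p * q * (p * q * p) = p * (q * p * q) * (p * q * p) := by group
      _ = p * (p * q * p) * (p * q * p) := by rw [hb]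
      _ = (p * p) * q * (p * p) * q * p := by group
      _ = (q * q) * p := by rw [hpp, one_mul, mul_one]
      _ = p := by rw [hqq, one_mul]

/-- elements of the subgroup generated by the commuting partners of `a` commute with `a` -/
theorem closure_dSet_commute {a k : G} (hk : k ∈ Subgroup.closure (dSet D a)) : Commute k a := by
  induction hk using Subgroup.closure_induction with
  | mem y hy => exact hy.2.2.symm
  | one => exact Commute.one_left a
  | mul x y _ _ ihx ihy => exact ihx.mul_left ihy
  | inv x _ ih => exact ih.inv_left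

/-- two non-commuting members of `D_a` are conjugate under the subgroup they generate -/
theorem claimA' (hT : IsThreeTranspositionSet D) {a b c : G} (hb : b ∈ dSet D a) (hc : c ∈ dSet D a)
    (hbc : ¬ Commute b c) : ∃ k ∈ Subgroup.closure (dSet D a), k * b * k⁻¹ = c := by
  refine ⟨b * c * b, ?_, (swap_explicit hT hb.1 hc.1 hbc).1⟩
  exact Subgroup.mul_mem _ (Subgroup.mul_mem _ (Subgroup.subset_closure hb) (Subgroup.subset_closure hc))
    (Subgroup.subset_closure hb)

/-- nestedness configuration for commuting partners -/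
theorem claimB' (hD : IsThreeTranspositionClass D) {a b c e e' : G} (ha : a ∈ D) (hb : b ∈ dSet D a)
    (hc : c ∈ dSet D a) (he : e ∈ D) (he' : e' ∈ D) (hbc : Commute b c)
    (hae : ¬ Commute a e) (heb : Commute e b) (hec : ¬ Commute e c)
    (hae' : ¬ Commute a e') (he'c : Commute e' c) (he'b : ¬ Commute e' b) :
    ∃ k ∈ Subgroup.closure (dSet D a), k * b * k⁻¹ = c := by
  have hT := hD.1
  have hconj := class_conj hD
  obtain ⟨hbD, hba, hab⟩ := hb
  obtain ⟨hcD, hca, hac⟩ := hc
  have haa := tt_sq hT ha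
  have hcc := tt_sq hT hcD
  have hee := tt_sq hT he
  -- the element swapping `a` and `c`
  obtain ⟨g, hgdef⟩ : ∃ g, g = a * c * e * (a * c * e) := ⟨_, rfl⟩
  obtain ⟨hga, hgc, hge⟩ := s4_swap haa hcc hee hac.eq (tt_braid hT ha he hae)
    (tt_braid hT hcD he (fun h => hec h.symm))
  rw [← hgdef] at hga hgc hge
  have hgb : g * b * g⁻¹ = b := by
    have hcomm : Commute g b := by
      rw [hgdef]
      have h1 : Commute (a * c * e) b := (hab.mul_left hbc.symm).mul_left heb
      exact h1.mul_left h1
    rw [hcomm.eq]; group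
  obtain ⟨e'', he''def⟩ : ∃ e'', e'' = g * e' * g⁻¹ := ⟨_, rfl⟩
  have he''D : e'' ∈ D := by rw [he''def]; exact hconj g e' he'
  have hae'' : Commute a e'' := by
    have := (Commute.conj_iff (a := c) (b := e') g).mpr he'c.symm
    rwa [hgc, ← he''def] at this
  have hce'' : ¬ Commute c e'' := by
    intro h
    have h1 : Commute (g * a * g⁻¹) (g * e' * g⁻¹) := by rw [hga, ← he''def]; exact h
    exact hae' ((Commute.conj_iff g).mp h1)
  have hbe'' : ¬ Commute b e'' := by
    intro h
    have h1 : Commute (g * b * g⁻¹) (g * e' * g⁻¹) := by rw [hgb, ← he''def]; exact h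
    exact he'b ((Commute.conj_iff g).mp h1).symm
  have he''a : e'' ≠ a := by
    intro h
    rw [h] at hce''
    exact hce'' hac.symm
  have he''d : e'' ∈ dSet D a := ⟨he''D, he''a, hae''⟩
  have hbd : b ∈ dSet D a := ⟨hbD, hba, hab⟩
  have hcd : c ∈ dSet D a := ⟨hcD, hca, hac⟩
  obtain ⟨h1, h2, _⟩ := s4_swap hcc (tt_sq hT hbD) (tt_sq hT he''D) hbc.symm.eq
    (tt_braid hT hcD he''D hce'') (tt_braid hT hbD he''D hbe'')
  refine ⟨c * b * e'' * (c * b * e''), ?_, h2⟩
  have h3 : c * b * e'' ∈ Subgroup.closure (dSet D a) :=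
    Subgroup.mul_mem _ (Subgroup.mul_mem _ (Subgroup.subset_closure hcd) (Subgroup.subset_closure hbd))
      (Subgroup.subset_closure he''d)
  exact Subgroup.mul_mem _ h3 h3

/-- members of `D` not commuting with `a` and commuting with `p` -/
def eSet (D : Set G) (a p : G) : Set G := {e | e ∈ D ∧ ¬ Commute a e ∧ Commute e p}

theorem eSet_conj (hD : IsThreeTranspositionClass D) {h a : G} (hh : Commute h a) (p : G) :
    eSet D a (h * p * h⁻¹) = cj h (eSet D a p) := by
  have hconj := class_conj hD
  ext y
  rw [mem_cj]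
  unfold eSet
  simp only [Set.mem_setOf_eq]
  have e1 : h * (h⁻¹ * y * h) * h⁻¹ = y := by group
  constructor
  · rintro ⟨hy, hc1, hc2⟩
    refine ⟨?_, ?_, ?_⟩
    · have := hconj h⁻¹ y hy
      rwa [inv_inv] at this
    · rw [← commute_conj_left hh, e1]; exact hc1
    · rw [← Commute.conj_iff h, e1]; exact hc2
  · rintro ⟨hy, hc1, hc2⟩
    refine ⟨?_, ?_, ?_⟩
    · have := hconj h _ hy
      rwa [e1] at this
    · rw [← commute_conj_left hh, e1] at hc1; exact hc1
    · rw [← Commute.conj_iff h, e1] at hc2; exact hc2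

theorem dSet_conj_mem (hD : IsThreeTranspositionClass D) {h a b : G} (hh : Commute h a)
    (hb : b ∈ dSet D a) : h * b * h⁻¹ ∈ dSet D a := by
  refine ⟨class_conj hD h b hb.1, ?_, (commute_conj_left hh).mpr hb.2.2⟩
  intro h1
  apply hb.2.1
  have : b = h⁻¹ * (h * b * h⁻¹) * h := by group
  rw [this, h1, conj_fix' hh]

end Cfsg.Agent.Lib.Helper46
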