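import Cfsg.Agent.Lib.Helper46.R3e

set_option autoImplicit false
set_option linter.all false

namespace Cfsg.Agent.Lib.Helper46

open Cfsg

universe u

variable {G : Type u} [Group G] {D : Set G}

/-- nestedness for two commuting partners of `a` which are not conjugate under a subgroup `K` between the subgroup
generated by the commuting partners of `a` and the centralizer of `a` -/
theorem nested_D (hD : IsThreeTranspositionClass D) {a : G} (ha : a ∈ D) (K : Subgroup G)
    (hK1 : Subgroup.closure (dSet D a) ≤ K) {b c : G} (hb : b ∈ dSet D a) (hc : c ∈ dSet D a)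
    (hno : ∀ k ∈ K, k * b * k⁻¹ ≠ c) :
    Commute b c ∧ (eSet D a b ⊆ eSet D a c ∨ eSet D a c ⊆ eSet D a b) := by
  have hT := hD.1
  have hbc : Commute b c := by
    by_contra hbc
    obtain ⟨k, hk, hkb⟩ := claimA' hT hb hc hbc
    exact hno k (hK1 hk) hkb
  refine ⟨hbc, ?_⟩
  by_contra hcon
  push Not at hcon
  obtain ⟨h1, h2⟩ := hcon
  rw [Set.not_subset] at h1 h2
  obtain ⟨e, heb, hec⟩ := h1
  obtain ⟨e', he'c, he'b⟩ := h2
  obtain ⟨heD, hae, heb'⟩ := heb
  obtain ⟨he'D, hae', he'c'⟩ := he'c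
  have hec' : ¬ Commute e c := fun h => hec ⟨heD, hae, h⟩
  have he'b' : ¬ Commute e' b := fun h => he'b ⟨he'D, hae', h⟩
  obtain ⟨k, hk, hkb⟩ := claimB' hD ha hb hc heD he'D hbc hae heb' hec' hae' he'c' he'b'
  exact hno k (hK1 hk) hkb

/-- core of the transitivity on the commuting partners -/
theorem transD_core [Finite G] (hD : IsThreeTranspositionClass D) (hP : IsPrimitiveUnderConj D)
    {a b₀ c₀ : G} (ha : a ∈ D) (hb₀ : b₀ ∈ dSet D a) (hc₀ : c₀ ∈ dSet D a)
    (hno : ∀ h : G, Commute h a → h * b₀ * h⁻¹ ≠ c₀)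
    (hcard : (eSet D a b₀).ncard ≤ (eSet D a c₀).ncard) : False := by
  have hT := hD.1
  have hconj := class_conj hD
  have hK1 : Subgroup.closure (dSet D a) ≤ Subgroup.centralizer ({a} : Set G) := by
    intro k hk
    rw [Subgroup.mem_centralizer_iff]
    intro s hs
    rw [Set.mem_singleton_iff] at hs
    rw [hs]
    exact (closure_dSet_commute hk).eq.symm
  have hmemK : ∀ k : G, k ∈ Subgroup.centralizer ({a} : Set G) → Commute k a := by
    intro k hk
    rw [Subgroup.mem_centralizer_iff] at hk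
    exact (hk a rfl).symm
  have key : ∀ h₁ h₂ : G, Commute h₁ a → Commute h₂ a →
      eSet D a (h₁ * b₀ * h₁⁻¹) ⊆ eSet D a (h₂ * c₀ * h₂⁻¹) := by
    intro h₁ h₂ hh₁ hh₂
    obtain ⟨b, hbdef⟩ : ∃ b, b = h₁ * b₀ * h₁⁻¹ := ⟨_, rfl⟩
    obtain ⟨c, hcdef⟩ : ∃ c, c = h₂ * c₀ * h₂⁻¹ := ⟨_, rfl⟩
    have hcard' : (eSet D a b).ncard ≤ (eSet D a c).ncard := by
      rw [hbdef, hcdef, eSet_conj hD hh₁, eSet_conj hD hh₂, ncard_cj, ncard_cj]; exact hcard
    rw [← hbdef, ← hcdef]
    have hb : b ∈ dSet D a := by rw [hbdef]; exact dSet_conj_mem hD hh₁ hb₀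
    have hc : c ∈ dSet D a := by rw [hcdef]; exact dSet_conj_mem hD hh₂ hc₀
    have hno' : ∀ k ∈ Subgroup.centralizer ({a} : Set G), k * b * k⁻¹ ≠ c := by
      intro k hkK hkb
      have hk := hmemK k hkK
      apply hno (h₂⁻¹ * k * h₁) ((hh₂.inv_left.mul_left hk).mul_left hh₁)
      have e1 : h₂⁻¹ * k * h₁ * b₀ * (h₂⁻¹ * k * h₁)⁻¹
          = h₂⁻¹ * (k * (h₁ * b₀ * h₁⁻¹) * k⁻¹) * h₂ := by group
      rw [e1, ← hbdef, hkb, hcdef]; group
    obtain ⟨_, hnest⟩ := nested_D hD ha _ hK1 hb hc hno'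
    rcases hnest with h | h
    · exact h
    · have := Set.eq_of_subset_of_ncard_le h hcard' (Set.toFinite _)
      rw [this]
  -- tau: a commuting partner of `b₀` not commuting with `a`
  obtain ⟨e, he1, he2⟩ := exists_cSet_diff hD hP ha hb₀.1 (Ne.symm hb₀.2.1)
  obtain ⟨heD, hb₀e⟩ := he1
  have hae : ¬ Commute a e := fun h => he2 ⟨heD, h⟩
  have hec : ∀ h : G, Commute h a → Commute e (h * c₀ * h⁻¹) := by
    intro h hh
    have h1 : e ∈ eSet D a (1 * b₀ * 1⁻¹) := by
      refine ⟨heD, hae, ?_⟩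
      simpa using hb₀e.symm
    exact (key 1 h (Commute.one_left a) hh h1).2.2
  have hea : a ≠ e := fun h => hae (h ▸ Commute.refl a)
  apply orb_absurd hD hP ha hc₀.1 heD hea hc₀.2.1
  rintro q ⟨g, hg1, hg2⟩
  have hga : Commute g a := by
    show g * a = a * g
    calc g * a = (g * a * g⁻¹) * g := by group
      _ = a * g := by rw [hg1]
  have heq : Commute e q := by rw [← hg2]; exact hec g hga
  have haq : Commute a q := by rw [← hg2]; exact (commute_conj_left hga).mpr hc₀.2.2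
  obtain ⟨ht1, _⟩ := swap_explicit hT ha heD hae
  have htq : (a * e * a) * q * (a * e * a)⁻¹ = q := by
    have hc : Commute (a * e * a) q := (haq.mul_left heq).mul_left haq
    rw [hc.eq]; group
  refine ⟨a * e * a * g, ?_, ?_⟩
  · calc a * e * a * g * a * (a * e * a * g)⁻¹ = (a * e * a) * (g * a * g⁻¹) * (a * e * a)⁻¹ := by group
      _ = e := by rw [hg1, ht1]
  · calc a * e * a * g * c₀ * (a * e * a * g)⁻¹ = (a * e * a) * (g * c₀ * g⁻¹) * (a * e * a)⁻¹ := by group
      _ = q := by rw [hg2, htq]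

/-- Fischer: the centralizer of `a` is transitive on the members of `D` commuting with `a` other than `a` -/
theorem transD [Finite G] (hD : IsThreeTranspositionClass D) (hP : IsPrimitiveUnderConj D)
    {a b₀ c₀ : G} (ha : a ∈ D) (hb₀ : b₀ ∈ dSet D a) (hc₀ : c₀ ∈ dSet D a) :
    ∃ h : G, Commute h a ∧ h * b₀ * h⁻¹ = c₀ := by
  by_contra hcon
  push Not at hcon
  rcases le_total (eSet D a b₀).ncard (eSet D a c₀).ncard with h | h
  · exact transD_core hD hP ha hb₀ hc₀ hcon h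
  · apply transD_core hD hP ha hc₀ hb₀ _ h
    intro k hk hkc
    apply hcon k⁻¹ hk.inv_left
    rw [← hkc]; group

end Cfsg.Agent.Lib.Helper46
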