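import Cfsg.Agent.Lib.Helper46.R3f

set_option autoImplicit false
set_option linter.all false

namespace Cfsg.Agent.Lib.Helper46

open Cfsg
open scoped commutatorElement

universe u

variable {G : Type u} [Group G] {D : Set G}

/-- a normal subgroup of index at most two contains the commutator subgroup -/
theorem commutator_le_of_index_le_two [Finite G] {L : Subgroup G} [L.Normal] (hidx : L.index ≤ 2) :
    commutator G ≤ L := by
  rw [commutator_def, Subgroup.commutator_le]
  intro g _ h _
  rw [← QuotientGroup.eq_one_iff (N := L)]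
  have e : ((⁅g, h⁆ : G) : G ⧸ L) = ⁅(g : G ⧸ L), (h : G ⧸ L)⁆ :=
    map_commutatorElement (QuotientGroup.mk' L) g h
  rw [e, commutatorElement_eq_one_iff_mul_comm]
  apply mul_comm_of_card_le_two
  rw [← Subgroup.index_eq_card]; exact hidx

/-- a class of 3-transpositions with a single member: the group is commutative -/
theorem comm_of_class_singleton (hD : IsThreeTranspositionClass D) (h1 : ¬ ∃ a ∈ D, ∃ b ∈ D, a ≠ b) :
    ∀ g k : G, g * k = k * g := by
  push Not at h1
  have hcen : ∀ d ∈ D, d ∈ Subgroup.center G := by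
    intro d hd
    apply mem_center_of_commute_gen hD.2.2
    intro e he
    rw [h1 e he d hd]
  have htop : Subgroup.center G = ⊤ := by
    rw [eq_top_iff, ← hD.2.2, Subgroup.closure_le]
    exact hcen
  intro g k
  have : g ∈ Subgroup.center G := by rw [htop]; trivial
  rw [Subgroup.mem_center_iff] at this
  exact (this k).symm

/-- non-abelian simple commutator subgroup: width at least two -/
theorem width_ge_two_of_simple_commutator [Finite G] (hD : IsThreeTranspositionClass D)
    (hsimple : IsSimpleGroup (commutator G)) (hnonab : ∃ x y : commutator G, x * y ≠ y * x) :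
    ∃ a ∈ D, ∃ b ∈ D, a ≠ b ∧ Commute a b := by
  haveI : Fact (Nat.Prime 3) := ⟨by norm_num⟩
  by_contra hcon
  push Not at hcon
  have hT := hD.1
  have hD' : IsThreeTranspositionGroup D := ⟨hD.1, class_conj hD, hD.2.2⟩
  have hw : ∀ x ∈ D, ∀ y ∈ D, Commute x y → x = y := by
    intro x hx y hy hc
    by_contra hne
    exact hcon x hx y hy hne hc
  haveI hN : (pCore 3 G).Normal := Cfsg.Agent.Lib.Helper84.pCore_normal 3 G
  have hco : ∀ a ∈ D, ∀ b ∈ D, a⁻¹ * b ∈ pCore 3 G := by
    intro a ha b hb
    rw [tt_inv hT ha]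
    exact mul_mem_pCore_three hD' hw ha hb
  have hidx := index_le_two_of_coset hD hco
  have hle := commutator_le_of_index_le_two hidx
  have hp : IsPGroup 3 (commutator G) := (Cfsg.Agent.Lib.Helper84.pCore_isPGroup 3 G).to_le hle
  haveI : Group.IsNilpotent (commutator G) := hp.isNilpotent
  have hsol : Group.IsSolvable (commutator G) := IsNilpotent.to_isSolvable
  obtain ⟨x, y, hxy⟩ := hnonab
  exact hxy (IsSimpleGroup.comm_iff_isSolvable.mpr hsol x y)

/-- Fischer's rank three property -/
theorem fischer_rank_three [Finite G] (hD : IsThreeTranspositionClass D)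
    (hsimple : IsSimpleGroup (commutator G)) (hnonab : ∃ x y : commutator G, x * y ≠ y * x)
    {a : G} (ha : a ∈ D) :
    (∃ b ∈ D, b ≠ a ∧ Commute a b) ∧ (∃ c ∈ D, ¬ Commute a c) ∧
    (∀ b ∈ D, ∀ b' ∈ D, b ≠ a → b' ≠ a → Commute a b → Commute a b' →
      ∃ g : G, Commute g a ∧ g * b * g⁻¹ = b') ∧
    (∀ c ∈ D, ∀ c' ∈ D, ¬ Commute a c → ¬ Commute a c' → ∃ g : G, Commute g a ∧ g * c * g⁻¹ = c') := by
  have hT := hD.1
  have hD2 : ∃ a ∈ D, ∃ b ∈ D, a ≠ b := by
    by_contra h1
    have hcomm := comm_of_class_singleton hD h1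
    obtain ⟨x, y, hxy⟩ := hnonab
    apply hxy
    apply Subtype.ext
    exact hcomm x.1 y.1
  have hP := primitive_of_simple_commutator hD hD2 hsimple
  have hw := width_ge_two_of_simple_commutator hD hsimple hnonab
  refine ⟨?_, ?_, ?_, ?_⟩
  · obtain ⟨p, hp, q, hq, hne, hc⟩ := hw
    obtain ⟨g, hg⟩ := class_trans hD hp ha
    refine ⟨g * q * g⁻¹, class_conj hD g q hq, ?_, ?_⟩
    · intro h
      apply hne
      have : p = g⁻¹ * (g * p * g⁻¹) * g := by group
      rw [this, hg, ← h]; group
    · rw [← hg]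
      exact (Commute.conj_iff g).mpr hc
  · by_contra hcon
    push Not at hcon
    have hcen : a ∈ Subgroup.center G := by
      apply mem_center_of_commute_gen hD.2.2
      intro d hd
      exact (hcon d hd).symm
    obtain ⟨p, hp, q, hq, hne⟩ := hD2
    obtain ⟨g₁, hg₁⟩ := class_trans hD ha hp
    obtain ⟨g₂, hg₂⟩ := class_trans hD ha hq
    rw [Subgroup.mem_center_iff] at hcen
    apply hne
    rw [← hg₁, ← hg₂, hcen g₁, hcen g₂]; group
  · intro b hb b' hb' hne hne' hc hc'
    exact transD hD hP ha ⟨hb, hne, hc⟩ ⟨hb', hne', hc'⟩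
  · intro c hc c' hc' hnc hnc'
    exact transA hD hP hw ha hc hc' hnc hnc'

end Cfsg.Agent.Lib.Helper46
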