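import Cfsg.Agent.Lib.Helper46.R3g

set_option autoImplicit false
set_option linter.all false

namespace Cfsg.Agent.Lib.Helper46

open Cfsg
open scoped commutatorElement

universe u

variable {G : Type u} [Group G] {D : Set G}

/-- the commuting partners of `a` form a single class of the subgroup they generate -/
theorem dSet_single_class [Finite G] (hD : IsThreeTranspositionClass D) (hP : IsPrimitiveUnderConj D)
    (hw : ∃ a ∈ D, ∃ b ∈ D, a ≠ b ∧ Commute a b) {a b₀ c₀ : G} (ha : a ∈ D) (hb₀ : b₀ ∈ dSet D a)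
    (hc₀ : c₀ ∈ dSet D a) : ∃ k ∈ Subgroup.closure (dSet D a), k * b₀ * k⁻¹ = c₀ := by
  by_contra hno
  push Not at hno
  have stepA : ∀ b ∈ dSet D a, ∀ c ∈ dSet D a,
      (∀ k ∈ Subgroup.closure (dSet D a), k * b * k⁻¹ ≠ c) → eSet D a b = eSet D a c := by
    intro b hb c hc hbc
    obtain ⟨_, hnest⟩ := nested_D hD ha _ le_rfl hb hc hbc
    obtain ⟨h, hh, hhb⟩ := transD hD hP ha hb hc
    have hcard : (eSet D a c).ncard = (eSet D a b).ncard := by
      rw [← hhb, eSet_conj hD hh, ncard_cj]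
    rcases hnest with h1 | h1
    · exact Set.eq_of_subset_of_ncard_le h1 (le_of_eq hcard) (Set.toFinite _)
    · exact (Set.eq_of_subset_of_ncard_le h1 (le_of_eq hcard.symm) (Set.toFinite _)).symm
  have stepB : ∀ p ∈ dSet D a, eSet D a p = eSet D a b₀ := by
    intro p hp
    by_cases hconj : ∃ k ∈ Subgroup.closure (dSet D a), k * b₀ * k⁻¹ = p
    · obtain ⟨k, hk, hkp⟩ := hconj
      have hpc : ∀ k' ∈ Subgroup.closure (dSet D a), k' * p * k'⁻¹ ≠ c₀ := by
        intro k' hk' h1
        apply hno (k' * k) (Subgroup.mul_mem _ hk' hk)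
        rw [← h1, ← hkp]; group
      rw [stepA p hp c₀ hc₀ hpc, stepA b₀ hb₀ c₀ hc₀ hno]
    · push Not at hconj
      exact (stepA b₀ hb₀ p hp hconj).symm
  -- tau
  obtain ⟨e, he1, he2⟩ := exists_cSet_diff hD hP ha hb₀.1 (Ne.symm hb₀.2.1)
  obtain ⟨heD, hb₀e⟩ := he1
  have hae : ¬ Commute a e := fun h => he2 ⟨heD, h⟩
  have hea : a ≠ e := fun h => hae (h ▸ Commute.refl a)
  have he0 : e ∈ eSet D a b₀ := ⟨heD, hae, hb₀e.symm⟩
  -- theta
  obtain ⟨x, hx1, hx2⟩ := exists_dSet_diff hD hP hw ha heD hea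
  apply hx2
  have h1 : e ∈ eSet D a x := by rw [stepB x hx1]; exact he0
  refine ⟨hx1.1, ?_, h1.2.2⟩
  intro h
  rw [h] at hx1
  exact hae hx1.2.2

/-- the image of the class modulo a component generates a subgroup of index at most two: with perfect commutator
subgroup all of `D` lies in one coset of the component -/
theorem class_mul_mem_component_of_perfect [Finite G] (hD : IsThreeTranspositionClass D)
    (hperf : ⁅commutator G, commutator G⁆ = commutator G) {L : Subgroup G} (hL : IsComponent L) :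
    ∀ a ∈ D, ∀ b ∈ D, a⁻¹ * b ∈ L := by
  haveI : Fact (Nat.Prime 3) := ⟨by norm_num⟩
  have hT := hD.1
  haveI hLn : L.Normal := component_normal hD hL
  by_cases hmeet : ∃ a₀ ∈ D, a₀ ∈ L
  · obtain ⟨a₀, ha₀, ha₀L⟩ := hmeet
    have hall : ∀ d ∈ D, d ∈ L := by
      intro d hd
      obtain ⟨g, rfl⟩ := class_trans hD ha₀ hd
      exact hLn.conj_mem a₀ ha₀L g
    intro a ha b hb
    exact Subgroup.mul_mem _ (Subgroup.inv_mem _ (hall a ha)) (hall b hb)
  · push Not at hmeet
    -- the image of `D` in the quotient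
    obtain ⟨Dbar, hDbar⟩ : ∃ Dbar : Set (G ⧸ L), Dbar = {q | ∃ a ∈ D, q = (a : G ⧸ L)} := ⟨_, rfl⟩
    have hord : ∀ q ∈ Dbar, orderOf q = 2 := by
      intro q hq
      rw [hDbar] at hq
      obtain ⟨a, ha, rfl⟩ := hq
      apply orderOf_eq_prime
      · rw [← QuotientGroup.mk_pow, pow_two, tt_sq hT ha]; rfl
      · intro h
        exact hmeet a ha ((QuotientGroup.eq_one_iff a).mp h)
    have hconjbar : ∀ q ∈ Dbar, ∀ r ∈ Dbar, r * q * r⁻¹ ∈ Dbar := by
      intro q hq r hr
      rw [hDbar] at hq hr ⊢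
      obtain ⟨a, ha, rfl⟩ := hq
      obtain ⟨b, hb, rfl⟩ := hr
      exact ⟨b * a * b⁻¹, class_conj hD b a ha, rfl⟩
    have hcube : ∀ q ∈ Dbar, ∀ r ∈ Dbar, (q * r) ^ 3 = 1 := by
      intro q hq r hr
      rw [hDbar] at hq hr
      obtain ⟨a, ha, rfl⟩ := hq
      obtain ⟨b, hb, rfl⟩ := hr
      rcases hT.2 a ha b hb with h | h
      · have hc : Commute a b := commute_of_sq_mul (tt_sq hT ha) (tt_sq hT hb) h
        have h1 := commute_coset hD hL ha hb hc
        have h2 : (a : G ⧸ L) = (b : G ⧸ L) := QuotientGroup.eq.mpr h1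
        rw [h2, ← QuotientGroup.mk_mul, tt_sq hT hb]
        simp
      · rw [← QuotientGroup.mk_mul, ← QuotientGroup.mk_pow, h]; rfl
    obtain ⟨P, hP, hPmem⟩ := exists_isPGroup_three_of_cube Dbar hord hconjbar hcube
    -- the normal subgroup generated by the products
    obtain ⟨S, hS⟩ : ∃ S : Set (G ⧸ L), S = {t | ∃ q ∈ Dbar, ∃ r ∈ Dbar, t = q * r} := ⟨_, rfl⟩
    have hSn : (Subgroup.closure S).Normal := by
      apply closure_normal'
      intro g t ht
      rw [hS] at ht ⊢
      obtain ⟨q, hq, r, hr, rfl⟩ := ht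
      obtain ⟨g₀, rfl⟩ := QuotientGroup.mk_surjective g
      rw [hDbar] at hq hr
      obtain ⟨a, ha, rfl⟩ := hq
      obtain ⟨b, hb, rfl⟩ := hr
      refine ⟨((g₀ * a * g₀⁻¹ : G) : G ⧸ L), ?_, ((g₀ * b * g₀⁻¹ : G) : G ⧸ L), ?_, ?_⟩
      · rw [hDbar]; exact ⟨_, class_conj hD g₀ a ha, rfl⟩
      · rw [hDbar]; exact ⟨_, class_conj hD g₀ b hb, rfl⟩
      · rw [← QuotientGroup.mk_mul, ← QuotientGroup.mk_mul, ← QuotientGroup.mk_inv,
          ← QuotientGroup.mk_mul, ← QuotientGroup.mk_mul]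
        congr 1; group
    have hSP : Subgroup.closure S ≤ P := by
      rw [Subgroup.closure_le]
      intro t ht
      rw [hS] at ht
      obtain ⟨q, hq, r, hr, rfl⟩ := ht
      exact hPmem q hq r hr
    have hS3 : IsPGroup 3 (Subgroup.closure S) := hP.to_le hSP
    obtain ⟨T, hTdef⟩ : ∃ T : Subgroup G, T = (Subgroup.closure S).comap (QuotientGroup.mk' L) := ⟨_, rfl⟩
    haveI hTn : T.Normal := by rw [hTdef]; exact hSn.comap _
    have hco : ∀ a ∈ D, ∀ b ∈ D, a⁻¹ * b ∈ T := by
      intro a ha b hb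
      rw [hTdef, Subgroup.mem_comap, tt_inv hT ha]
      apply Subgroup.subset_closure
      rw [hS]
      refine ⟨(a : G ⧸ L), ?_, (b : G ⧸ L), ?_, rfl⟩
      · rw [hDbar]; exact ⟨a, ha, rfl⟩
      · rw [hDbar]; exact ⟨b, hb, rfl⟩
    have hidx := index_le_two_of_coset hD hco
    have hle : commutator G ≤ T := commutator_le_of_index_le_two hidx
    -- the image of the commutator subgroup is perfect and a 3-group
    have hKle : (commutator G).map (QuotientGroup.mk' L) ≤ Subgroup.closure S := by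
      rw [Subgroup.map_le_iff_le_comap, ← hTdef]; exact hle
    haveI hperf' : Group.IsPerfect (commutator G) := Subgroup.isPerfect_iff.mpr hperf
    haveI hKperf : Group.IsPerfect ((commutator G).map (QuotientGroup.mk' L)) :=
      Group.IsPerfect.map _
    have hK3 : IsPGroup 3 ((commutator G).map (QuotientGroup.mk' L)) := hS3.to_le hKle
    have hKbot : (commutator G).map (QuotientGroup.mk' L) = ⊥ := by
      by_contra hne
      haveI : Nontrivial ((commutator G).map (QuotientGroup.mk' L)) :=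
        (Subgroup.nontrivial_iff_ne_bot _).mpr hne
      haveI : Group.IsNilpotent ((commutator G).map (QuotientGroup.mk' L)) := hK3.isNilpotent
      have hsolK : Group.IsSolvable ((commutator G).map (QuotientGroup.mk' L)) := IsNilpotent.to_isSolvable
      exact Group.IsPerfect.not_isSolvable _ hsolK
    have hGL : commutator G ≤ L := by
      rw [Subgroup.map_eq_bot_iff, QuotientGroup.ker_mk'] at hKbot
      exact hKbot
    intro a ha b hb
    exact hGL (by
      have := class_mul_mem_commutator hD ha hb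
      rwa [← tt_inv hT ha] at this)

end Cfsg.Agent.Lib.Helper46
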