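import Cfsg.Agent.Lib.Helper46.R3h

set_option autoImplicit false
set_option linter.all false

namespace Cfsg.Agent.Lib.Helper46

open Cfsg
open scoped commutatorElement

universe u

variable {G : Type u} [Group G] {D : Set G}

/-- no non-trivial solvable normal subgroup: the largest normal `p`-subgroup is trivial -/
theorem pCore_eq_bot_of_no_solvable [Finite G]
    (hsol : ∀ N : Subgroup G, N.Normal → Group.IsSolvable ↥N → N = ⊥) (p : ℕ) [Fact p.Prime] :
    pCore p G = ⊥ := by
  apply hsol _ (Cfsg.Agent.Lib.Helper84.pCore_normal p G)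
  haveI : Group.IsNilpotent (pCore p G) := (Cfsg.Agent.Lib.Helper84.pCore_isPGroup p G).isNilpotent
  exact IsNilpotent.to_isSolvable

/-- trivial solvable radical and perfect commutator subgroup: primitive -/
theorem primitive_of_perfect [Finite G] (hD : IsThreeTranspositionClass D)
    (hD2 : ∃ a ∈ D, ∃ b ∈ D, a ≠ b)
    (hsol : ∀ N : Subgroup G, N.Normal → Group.IsSolvable ↥N → N = ⊥)
    (hperf : ⁅commutator G, commutator G⁆ = commutator G) : IsPrimitiveUnderConj D := by
  haveI : Fact (Nat.Prime 2) := ⟨Nat.prime_two⟩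
  haveI : Fact (Nat.Prime 3) := ⟨by norm_num⟩
  have h2 : pCore 2 G ≤ Subgroup.center G := by rw [pCore_eq_bot_of_no_solvable hsol 2]; exact bot_le
  have h3 : pCore 3 G ≤ Subgroup.center G := by rw [pCore_eq_bot_of_no_solvable hsol 3]; exact bot_le
  have hE := layer_ne_bot_of_central hD hD2 h2 h3
  obtain ⟨L, hL⟩ := exists_component_of_layer_ne_bot hE
  haveI hLn : L.Normal := component_normal hD hL
  have hidx : L.index ≤ 2 :=
    index_le_two_of_coset hD (class_mul_mem_component_of_perfect hD hperf hL)
  refine ⟨fun a ha b hb => class_trans hD ha hb, hD2, ?_⟩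
  intro B hBD hblk
  by_cases hs : B.Subsingleton
  · exact Or.inl hs
  · right
    rw [Set.not_subsingleton_iff] at hs
    obtain ⟨a, ha, b, hb, hne⟩ := hs
    exact block_eq_of_index_le_two hD hD2 (fitting_eq_center hD h2 h3) hL hidx hBD hblk ha hb hne

end Cfsg.Agent.Lib.Helper46
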