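import Cfsg.Agent.Lib.Helper46.R3i

set_option autoImplicit false
set_option linter.all false

namespace Cfsg.Agent.Lib.Helper46

open Cfsg
open scoped Pointwise

universe u

variable {G : Type u} [Group G] {D : Set G}

/-- two 2-subgroups of `K` can be fused into a common 2-subgroup after conjugation by an element of `K` -/
theorem sylow_fuse [Finite G] (K Q₁ Q₂ : Subgroup G) (h₁ : IsPGroup 2 Q₁) (h₂ : IsPGroup 2 Q₂)
    (hK₁ : Q₁ ≤ K) (hK₂ : Q₂ ≤ K) :
    ∃ c ∈ K, ∃ S : Subgroup G, IsPGroup 2 S ∧ Q₁ ≤ S ∧ ∀ x ∈ Q₂, c⁻¹ * x * c ∈ S := by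
  haveI : Fact (Nat.Prime 2) := ⟨Nat.prime_two⟩
  have h₁' : IsPGroup 2 (Q₁.subgroupOf K) := h₁.comap_subtype
  have h₂' : IsPGroup 2 (Q₂.subgroupOf K) := h₂.comap_subtype
  obtain ⟨P₁, hP₁⟩ := h₁'.exists_le_sylow
  obtain ⟨P₂, hP₂⟩ := h₂'.exists_le_sylow
  obtain ⟨c, hc⟩ := MulAction.exists_smul_eq K P₁ P₂
  refine ⟨c.1, c.2, (P₁ : Subgroup K).map K.subtype, P₁.isPGroup'.map _, ?_, ?_⟩
  · intro x hx
    exact ⟨⟨x, hK₁ hx⟩, hP₁ (Subgroup.mem_subgroupOf.mpr hx), rfl⟩
  · intro x hx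
    have h3 : (⟨x, hK₂ hx⟩ : K) ∈ (P₂ : Subgroup K) := hP₂ (Subgroup.mem_subgroupOf.mpr hx)
    rw [← hc, Sylow.coe_subgroup_smul, Subgroup.mem_pointwise_smul_iff_inv_smul_mem] at h3
    refine ⟨_, h3, ?_⟩
    simp [MulAut.smul_def]

/-- the members of `D` in a 2-subgroup commute pairwise -/
theorem commute_of_mem_two_group (hT : IsThreeTranspositionSet D) {S : Subgroup G} (hS : IsPGroup 2 S)
    {x y : G} (hx : x ∈ D) (hy : y ∈ D) (hxS : x ∈ S) (hyS : y ∈ S) : Commute x y := by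
  rcases hT.2 x hx y hy with h | h
  · exact commute_of_sq_mul (tt_sq hT hx) (tt_sq hT hy) h
  · obtain ⟨k, hk⟩ := hS ⟨x * y, Subgroup.mul_mem _ hxS hyS⟩
    have hk' : (x * y) ^ (2 ^ k) = 1 := by
      have := congrArg Subtype.val hk
      simpa using this
    have h1 : orderOf (x * y) ∣ 2 ^ k := orderOf_dvd_of_pow_eq_one hk'
    have h2 : orderOf (x * y) ∣ 3 := orderOf_dvd_of_pow_eq_one h
    have h3 : orderOf (x * y) ∣ Nat.gcd (2 ^ k) 3 := Nat.dvd_gcd h1 h2
    have h4 : Nat.gcd (2 ^ k) 3 = 1 := by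
      apply Nat.Coprime.pow_left
      norm_num
    rw [h4, Nat.dvd_one, orderOf_eq_one_iff] at h3
    have h5 : x = y⁻¹ := eq_inv_of_mul_eq_one_left h3
    rw [h5]
    exact (Commute.refl y).inv_left

/-- the subgroup generated by a commuting subset of `D` is a 2-group -/
theorem isPGroup_two_closure_commuting (hT : IsThreeTranspositionSet D) {E : Set G} (hE : E ⊆ D)
    (hc : ∀ a ∈ E, ∀ b ∈ E, Commute a b) : IsPGroup 2 (Subgroup.closure E) := by
  haveI := Subgroup.isMulCommutative_closure (k := E) (fun x hx y hy => (hc x hx y hy).eq)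
  have hsq : ∀ z ∈ Subgroup.closure E, z ^ 2 = 1 := by
    intro z hz
    induction hz using Subgroup.closure_induction with
    | mem y hy => rw [pow_two]; exact tt_sq hT (hE hy)
    | one => simp
    | mul x y hx hy ihx ihy =>
      have hxy : Commute x y := by
        have := (IsMulCommutative.is_comm (M := Subgroup.closure E)).comm ⟨x, hx⟩ ⟨y, hy⟩
        exact congrArg Subtype.val this
      rw [hxy.mul_pow, ihx, ihy, one_mul]
    | inv x _ ih => rw [inv_pow, ih, inv_one]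
  intro z
  refine ⟨1, ?_⟩
  apply Subtype.ext
  have := hsq z.1 z.2
  simpa using this

section MaxSet

variable [Finite G] (hD : IsThreeTranspositionClass D) {E : Set G} (hE : E ⊆ D)
  (hc : ∀ a ∈ E, ∀ b ∈ E, Commute a b)
  (hmax : ∀ E' : Set G, E' ⊆ D → (∀ a ∈ E', ∀ b ∈ E', Commute a b) → E'.ncard ≤ E.ncard)

include hD hE hc hmax in
/-- a commuting set of maximal size is the set of members of `D` in any 2-subgroup containing it -/
theorem max_set_eq_inter {S : Subgroup G} (hS : IsPGroup 2 S) (hES : E ⊆ S) :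
    E = {x | x ∈ D ∧ x ∈ S} := by
  have hsub : E ⊆ {x | x ∈ D ∧ x ∈ S} := fun x hx => ⟨hE hx, hES hx⟩
  apply Set.eq_of_subset_of_ncard_le hsub _ (Set.toFinite _)
  apply hmax
  · exact fun x hx => hx.1
  · intro a ha b hb
    exact commute_of_mem_two_group hD.1 hS ha.1 hb.1 ha.2 hb.2

include hD hE hc hmax in
/-- fusion: if `F` lies in `E` and in a conjugate of `E`, the conjugating element can be corrected by an element
centralizing `F` to normalize `E` -/
theorem max_set_fuse (h : G) (F : Set G) (hF1 : F ⊆ E) (hF2 : F ⊆ cj h E) :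
    ∃ c₀ : G, (∀ f ∈ F, Commute c₀ f) ∧ c₀⁻¹ * h ∈ Subgroup.normalizer E := by
  have hT := hD.1
  have hE' : cj h E ⊆ D := by
    intro y hy
    rw [mem_cj] at hy
    have := class_conj hD h _ (hE hy)
    have e : h * (h⁻¹ * y * h) * h⁻¹ = y := by group
    rwa [e] at this
  have hc' : ∀ a ∈ cj h E, ∀ b ∈ cj h E, Commute a b := by
    intro a ha b hb
    rw [mem_cj] at ha hb
    have := hc _ ha _ hb
    have h2 := (Commute.conj_iff h).mpr this
    have e1 : h * (h⁻¹ * a * h) * h⁻¹ = a := by group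
    have e2 : h * (h⁻¹ * b * h) * h⁻¹ = b := by group
    rwa [e1, e2] at h2
  have hK₁ : Subgroup.closure E ≤ Subgroup.centralizer F := by
    rw [Subgroup.closure_le]
    intro e he
    rw [SetLike.mem_coe, Subgroup.mem_centralizer_iff]
    intro f hf
    exact (hc f (hF1 hf) e he).eq
  have hK₂ : Subgroup.closure (cj h E) ≤ Subgroup.centralizer F := by
    rw [Subgroup.closure_le]
    intro e he
    rw [SetLike.mem_coe, Subgroup.mem_centralizer_iff]
    intro f hf
    exact (hc' f (hF2 hf) e he).eq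
  obtain ⟨c₀, hc₀, S, hS, hES, hE'S⟩ := sylow_fuse (Subgroup.centralizer F) _ _
    (isPGroup_two_closure_commuting hT hE hc) (isPGroup_two_closure_commuting hT hE' hc') hK₁ hK₂
  have hEq := max_set_eq_inter hD hE hc hmax hS (fun x hx => hES (Subgroup.subset_closure hx))
  refine ⟨c₀, ?_, ?_⟩
  · intro f hf
    rw [Subgroup.mem_centralizer_iff] at hc₀
    exact (hc₀ f hf).symm
  · -- the conjugate of `E` by `c₀⁻¹ h` lies in `E`, hence equals `E`
    have hsub : cj (c₀⁻¹ * h) E ⊆ E := by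
      intro y hy
      rw [cj_mul, mem_cj, inv_inv] at hy
      have h1 : c₀ * y * c₀⁻¹ ∈ D := hE' hy
      have h2 := hE'S _ (Subgroup.subset_closure hy)
      have e : c₀⁻¹ * (c₀ * y * c₀⁻¹) * c₀ = y := by group
      rw [e] at h2
      rw [hEq]
      refine ⟨?_, h2⟩
      have := class_conj hD c₀⁻¹ _ h1
      rw [inv_inv, e] at this
      exact this
    have heq : cj (c₀⁻¹ * h) E = E :=
      Set.eq_of_subset_of_ncard_le hsub (le_of_eq (ncard_cj _ _).symm) (Set.toFinite _)
    rw [Subgroup.mem_set_normalizer_iff]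
    intro x
    constructor
    · intro hx
      rw [← heq]; exact conj_mem_cj hx
    · intro hx
      rw [← heq, mem_cj] at hx
      have e : (c₀⁻¹ * h)⁻¹ * (c₀⁻¹ * h * x * (c₀⁻¹ * h)⁻¹) * (c₀⁻¹ * h) = x := by group
      rwa [e] at hx

end MaxSet

end Cfsg.Agent.Lib.Helper46
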