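import Cfsg.Agent.Lib.Helper46.R3j

set_option autoImplicit false
set_option linter.all false

namespace Cfsg.Agent.Lib.Helper46

open Cfsg
open scoped commutatorElement

universe u

variable {G : Type u} [Group G] {D : Set G}

/-- Fischer: the normalizer of a commuting set of maximal size contains a Sylow 2-subgroup and is doubly transitive
on the set -/
theorem max_set_normalizer [Finite G]
    (hsol : ∀ N : Subgroup G, N.Normal → Group.IsSolvable ↥N → N = ⊥)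
    (hperf : ⁅commutator G, commutator G⁆ = commutator G)
    (hD : IsThreeTranspositionClass D) {E : Set G} (hE : E ⊆ D)
    (hc : ∀ a ∈ E, ∀ b ∈ E, Commute a b)
    (hmax : ∀ E' : Set G, E' ⊆ D → (∀ a ∈ E', ∀ b ∈ E', Commute a b) → E'.ncard ≤ E.ncard) :
    (∃ P : Sylow 2 G, (P : Subgroup G) ≤ Subgroup.normalizer E) ∧
    ∀ a ∈ E, ∀ b ∈ E, ∀ c ∈ E, ∀ d ∈ E, a ≠ b → c ≠ d →
      ∃ g ∈ Subgroup.normalizer E, g * a * g⁻¹ = c ∧ g * b * g⁻¹ = d := by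
  haveI : Fact (Nat.Prime 2) := ⟨Nat.prime_two⟩
  have hT := hD.1
  constructor
  · obtain ⟨Q, hQ⟩ := (isPGroup_two_closure_commuting hT hE hc).exists_le_sylow
    have hEq := max_set_eq_inter hD hE hc hmax Q.isPGroup' (fun x hx => hQ (Subgroup.subset_closure hx))
    refine ⟨Q, ?_⟩
    intro s hs
    rw [Subgroup.mem_set_normalizer_iff]
    intro x
    rw [hEq]
    constructor
    · rintro ⟨hxD, hxQ⟩
      exact ⟨class_conj hD s x hxD, Subgroup.mul_mem _ (Subgroup.mul_mem _ hs hxQ) (Subgroup.inv_mem _ hs)⟩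
    · rintro ⟨hxD, hxQ⟩
      have e : x = s⁻¹ * (s * x * s⁻¹) * s := by group
      constructor
      · have := class_conj hD s⁻¹ _ hxD
        rw [inv_inv] at this
        rw [e]; exact this
      · rw [e]
        exact Subgroup.mul_mem _ (Subgroup.mul_mem _ (Subgroup.inv_mem _ hs) hxQ) hs
  · intro a ha b hb c hc' d hd hab hcd
    have hD2 : ∃ a ∈ D, ∃ b ∈ D, a ≠ b := ⟨a, hE ha, b, hE hb, hab⟩
    have hP := primitive_of_perfect hD hD2 hsol hperf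
    -- step 1: move `a` to `c`
    obtain ⟨h, hh⟩ := class_trans hD (hE ha) (hE hc')
    obtain ⟨c₀, hc₀, hn₁⟩ := max_set_fuse hD hE hc hmax h {c}
      (by intro f hf; rw [Set.mem_singleton_iff] at hf; rw [hf]; exact hc')
      (by intro f hf; rw [Set.mem_singleton_iff] at hf; rw [hf, ← hh]; exact conj_mem_cj ha)
    have hc₀c : Commute c₀ c := hc₀ c rfl
    have hn₁a : (c₀⁻¹ * h) * a * (c₀⁻¹ * h)⁻¹ = c := by
      calc (c₀⁻¹ * h) * a * (c₀⁻¹ * h)⁻¹ = c₀⁻¹ * (h * a * h⁻¹) * c₀ := by group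
        _ = c := by rw [hh]; exact conj_fix' hc₀c
    obtain ⟨b₁, hb₁def⟩ : ∃ b₁, b₁ = (c₀⁻¹ * h) * b * (c₀⁻¹ * h)⁻¹ := ⟨_, rfl⟩
    have hb₁E : b₁ ∈ E := by
      rw [hb₁def]
      exact (Subgroup.mem_set_normalizer_iff.mp hn₁ b).mp hb
    have hb₁c : b₁ ≠ c := by
      intro h1
      apply hab
      rw [hb₁def, ← hn₁a] at h1
      have e1 : a = (c₀⁻¹ * h)⁻¹ * ((c₀⁻¹ * h) * a * (c₀⁻¹ * h)⁻¹) * (c₀⁻¹ * h) := by group
      have e2 : b = (c₀⁻¹ * h)⁻¹ * ((c₀⁻¹ * h) * b * (c₀⁻¹ * h)⁻¹) * (c₀⁻¹ * h) := by group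
      rw [e1, e2, h1]
    -- step 2: fix `c` and move `b₁` to `d`
    have hw : ∃ a ∈ D, ∃ b ∈ D, a ≠ b ∧ Commute a b := ⟨c, hE hc', d, hE hd, hcd, hc c hc' d hd⟩
    obtain ⟨h₂, hh₂c, hh₂b⟩ := transD hD hP (hE hc')
      (⟨hE hb₁E, hb₁c, hc c hc' b₁ hb₁E⟩ : b₁ ∈ dSet D c)
      (⟨hE hd, Ne.symm hcd, hc c hc' d hd⟩ : d ∈ dSet D c)
    obtain ⟨c₁, hc₁, hn₂⟩ := max_set_fuse hD hE hc hmax h₂ {c, d}
      (by
        intro f hf
        rcases hf with rfl | hf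
        · exact hc'
        · rw [Set.mem_singleton_iff] at hf; rw [hf]; exact hd)
      (by
        intro f hf
        rcases hf with rfl | hf
        · have := conj_mem_cj (g := h₂) hc'
          rwa [conj_fix hh₂c] at this
        · rw [Set.mem_singleton_iff] at hf
          rw [hf, ← hh₂b]; exact conj_mem_cj hb₁E)
    have hc₁c : Commute c₁ c := hc₁ c (by simp)
    have hc₁d : Commute c₁ d := hc₁ d (by simp)
    have hn₂c : (c₁⁻¹ * h₂) * c * (c₁⁻¹ * h₂)⁻¹ = c := by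
      calc (c₁⁻¹ * h₂) * c * (c₁⁻¹ * h₂)⁻¹ = c₁⁻¹ * (h₂ * c * h₂⁻¹) * c₁ := by group
        _ = c := by rw [conj_fix hh₂c]; exact conj_fix' hc₁c
    have hn₂b : (c₁⁻¹ * h₂) * b₁ * (c₁⁻¹ * h₂)⁻¹ = d := by
      calc (c₁⁻¹ * h₂) * b₁ * (c₁⁻¹ * h₂)⁻¹ = c₁⁻¹ * (h₂ * b₁ * h₂⁻¹) * c₁ := by group
        _ = d := by rw [hh₂b]; exact conj_fix' hc₁d
    refine ⟨(c₁⁻¹ * h₂) * (c₀⁻¹ * h), Subgroup.mul_mem _ hn₂ hn₁, ?_, ?_⟩
    · calc (c₁⁻¹ * h₂) * (c₀⁻¹ * h) * a * ((c₁⁻¹ * h₂) * (c₀⁻¹ * h))⁻¹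
          = (c₁⁻¹ * h₂) * ((c₀⁻¹ * h) * a * (c₀⁻¹ * h)⁻¹) * (c₁⁻¹ * h₂)⁻¹ := by group
        _ = c := by rw [hn₁a, hn₂c]
    · calc (c₁⁻¹ * h₂) * (c₀⁻¹ * h) * b * ((c₁⁻¹ * h₂) * (c₀⁻¹ * h))⁻¹
          = (c₁⁻¹ * h₂) * ((c₀⁻¹ * h) * b * (c₀⁻¹ * h)⁻¹) * (c₁⁻¹ * h₂)⁻¹ := by group
        _ = d := by rw [← hb₁def, hn₂b]

end Cfsg.Agent.Lib.Helper46
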