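import Mathlib

set_option autoImplicit false

/-!
# Abstract group-theoretic lemmas for the local form of Sims' theorem
-/

namespace Cfsg.Agent.Lib.Helper46.SimsA

open Subgroup

variable {Γ : Type*} [Group Γ]

/-- extension of a subgroup by a normalizing involution -/
theorem semi (K : Subgroup Γ) (e : Γ) (he2 : e * e = 1) (heK : e ∉ K)
    (hn : ∀ a ∈ K, e * a * e⁻¹ ∈ K) :
    Nat.card ↥(K ⊔ zpowers e) = 2 * Nat.card K ∧
    ∀ u, u ∈ K ⊔ zpowers e ↔ u ∈ K ∨ u * e ∈ K := by
  have hei : e⁻¹ = e := inv_eq_of_mul_eq_one_right he2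
  have hn' : ∀ a ∈ K, e * a * e ∈ K := by
    intro a ha; have := hn a ha; rwa [hei] at this
  obtain ⟨M, hM⟩ : ∃ M : Subgroup Γ, ∀ u, u ∈ M ↔ (u ∈ K ∨ u * e ∈ K) := by
    refine ⟨{ carrier := {u | u ∈ K ∨ u * e ∈ K}
              one_mem' := Or.inl K.one_mem
              mul_mem' := ?_
              inv_mem' := ?_ }, fun u => Iff.rfl⟩
    · rintro u v (hu | hu) (hv | hv)
      · exact Or.inl (K.mul_mem hu hv)
      · right
        show u * v * e ∈ K
        rw [mul_assoc]; exact K.mul_mem hu hv
      · right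
        show u * v * e ∈ K
        have e1 : (u * e) * (e * v * e) = u * (e * e) * v * e := by group
        have e2 : u * v * e = (u * e) * (e * v * e) := by rw [e1, he2, mul_one]
        rw [e2]; exact K.mul_mem hu (hn' v hv)
      · left
        show u * v ∈ K
        have e1 : (u * e) * (e * (v * e) * e) = u * (e * e) * v * (e * e) := by group
        have e2 : u * v = (u * e) * (e * (v * e) * e) := by rw [e1, he2, mul_one, mul_one]
        rw [e2]; exact K.mul_mem hu (hn' _ hv)
    · rintro u (hu | hu)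
      · exact Or.inl (K.inv_mem hu)
      · right
        show u⁻¹ * e ∈ K
        have e1 : e * (u * e)⁻¹ * e = u⁻¹ * e := by group
        rw [← e1]; exact hn' _ (K.inv_mem hu)
  have hsup : K ⊔ zpowers e = M := by
    apply le_antisymm
    · apply sup_le
      · intro u hu; exact (hM u).mpr (Or.inl hu)
      · rw [zpowers_le]; exact (hM e).mpr (Or.inr (by rw [he2]; exact K.one_mem))
    · intro u hu
      rcases (hM u).mp hu with h | h
      · exact mem_sup_left h
      · have : u = u * e * e⁻¹ := (mul_inv_cancel_right u e).symm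
        rw [this]
        exact mul_mem (mem_sup_left h) (mem_sup_right (inv_mem (mem_zpowers e)))
  rw [hsup]
  refine ⟨?_, hM⟩
  have hKM : K ≤ M := fun u hu => (hM u).mpr (Or.inl hu)
  have heM : e ∈ M := (hM e).mpr (Or.inr (by rw [he2]; exact K.one_mem))
  have hidx : (K.subgroupOf M).index = 2 := by
    rw [index_eq_two_iff]
    refine ⟨⟨e, heM⟩, fun b => ?_⟩
    simp only [mem_subgroupOf, Subgroup.coe_mul]
    by_cases hb : (b : Γ) ∈ K
    · right
      refine ⟨hb, fun hbe => heK ?_⟩
      have := K.mul_mem (K.inv_mem hb) hbe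
      rwa [inv_mul_cancel_left] at this
    · left
      refine ⟨?_, hb⟩
      rcases (hM b).mp b.2 with h | h
      · exact absurd h hb
      · exact h
  have h1 := Subgroup.card_mul_index (K.subgroupOf M)
  have h2 : Nat.card (K.subgroupOf M) = Nat.card K :=
    Nat.card_congr (Subgroup.subgroupOfEquivOfLe hKM).toEquiv
  rw [h2, hidx] at h1
  omega

/-- an index two subgroup is the kernel of a homomorphism to the group of order two -/
theorem hom2 {M : Type*} [Group M] (N : Subgroup M) (hN : N.index = 2) :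
    ∃ ϕ : M →* Multiplicative (ZMod 2), ∀ u, ϕ u = 1 ↔ u ∈ N := by
  haveI : N.Normal := normal_of_index_eq_two hN
  haveI : Fact (Nat.Prime 2) := ⟨Nat.prime_two⟩
  have h1 : Nat.card (M ⧸ N) = 2 := by rw [← Subgroup.index_eq_card]; exact hN
  have h2 : Nat.card (Multiplicative (ZMod 2)) = 2 := by
    rw [Nat.card_eq_fintype_card]; rfl
  let e := mulEquivOfPrimeCardEq (p := 2) h1 h2
  refine ⟨e.toMonoidHom.comp (QuotientGroup.mk' N), fun u => ?_⟩
  simp only [MonoidHom.coe_comp, MulEquiv.coe_toMonoidHom, Function.comp_apply,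
    QuotientGroup.mk'_apply]
  rw [MulEquiv.map_eq_one_iff, QuotientGroup.eq_one_iff]

/-- a self-centralizing normal subgroup of order at most two is the whole group -/
theorem cent_small [Finite Γ] (P : Subgroup Γ) [hP : P.Normal]
    (hcent : centralizer (P : Set Γ) ≤ P) (hc : Nat.card P ≤ 2) : Nat.card Γ ≤ 2 := by
  classical
  have hcen : centralizer (P : Set Γ) = ⊤ := by
    rw [eq_top_iff]
    intro g _
    rw [mem_centralizer_iff]
    intro p hp
    by_contra hne
    have h1 : (1 : P) ≠ ⟨p, hp⟩ := by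
      intro h
      have : (1 : Γ) = p := congrArg Subtype.val h
      apply hne; rw [← this]; simp
    have h2 : (1 : P) ≠ ⟨g * p * g⁻¹, hP.conj_mem p hp g⟩ := by
      intro h
      have h' : (1 : Γ) = g * p * g⁻¹ := congrArg Subtype.val h
      have : p = 1 := by
        have := congrArg (fun z => g⁻¹ * z * g) h'
        simp only [mul_one, inv_mul_cancel] at this
        rw [this]; group
      apply hne; rw [this]; simp
    have h3 : (⟨p, hp⟩ : P) ≠ ⟨g * p * g⁻¹, hP.conj_mem p hp g⟩ := by
      intro h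
      have h' : p = g * p * g⁻¹ := congrArg Subtype.val h
      apply hne
      calc p * g = (g * p * g⁻¹) * g := by rw [← h']
        _ = g * p := by group
    haveI := Fintype.ofFinite P
    rw [Nat.card_eq_fintype_card] at hc
    have := Fintype.two_lt_card_iff.mpr ⟨(1 : P), ⟨p, hp⟩, ⟨g * p * g⁻¹, hP.conj_mem p hp g⟩, h1, h2, h3⟩
    omega
  have hPtop : P = ⊤ := top_le_iff.mp (hcen ▸ hcent)
  have := (card_eq_iff_eq_top P).mpr hPtop
  omega

/-- fixed point congruence for conjugation by an element of prime order on a normal subgroup -/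
theorem card_modEq_centralizer [Finite Γ] (Q : Subgroup Γ) [hQn : Q.Normal]
    (ρ : Γ) (q : ℕ) [Fact q.Prime] (hρ : orderOf ρ = q) :
    Nat.card Q ≡ Nat.card ((centralizer ({ρ} : Set Γ)).subgroupOf Q) [MOD q] := by
  letI act : MulAction (zpowers ρ) Q :=
    { smul := fun g x => ⟨(g : Γ) * x * (g : Γ)⁻¹, hQn.conj_mem x x.2 g⟩
      one_smul := fun x => Subtype.ext (by
        show ((1 : zpowers ρ) : Γ) * x * ((1 : zpowers ρ) : Γ)⁻¹ = x
        simp)
      mul_smul := fun g k x => Subtype.ext (by
        show ((g * k : zpowers ρ) : Γ) * x * ((g * k : zpowers ρ) : Γ)⁻¹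
          = (g : Γ) * ((k : Γ) * x * (k : Γ)⁻¹) * (g : Γ)⁻¹
        simp only [Subgroup.coe_mul]; group) }
  have hsmul : ∀ (g : zpowers ρ) (x : Q), ((g • x : Q) : Γ) = (g : Γ) * x * (g : Γ)⁻¹ :=
    fun _ _ => rfl
  have hR : IsPGroup q (zpowers ρ) :=
    IsPGroup.of_card (n := 1) (by rw [pow_one, Nat.card_zpowers, hρ])
  have h1 := hR.card_modEq_card_fixedPoints Q
  have h2 : (MulAction.fixedPoints (zpowers ρ) Q) =
      (((centralizer ({ρ} : Set Γ)).subgroupOf Q : Subgroup Q) : Set Q) := by
    ext x
    rw [MulAction.mem_fixedPoints, SetLike.mem_coe, mem_subgroupOf, mem_centralizer_iff]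
    constructor
    · intro h g hg
      rw [Set.mem_singleton_iff] at hg
      subst hg
      have := congrArg Subtype.val (h ⟨g, mem_zpowers g⟩)
      rw [hsmul] at this
      -- g * x * g⁻¹ = x
      calc g * (x : Γ) = (g * x * g⁻¹) * g := by group
        _ = x * g := by rw [this]
    · intro h g
      apply Subtype.ext
      rw [hsmul]
      have hρx : ρ ∈ centralizer ({(x : Γ)} : Set Γ) := by
        rw [mem_centralizer_iff]
        intro u hu
        rw [Set.mem_singleton_iff] at hu
        subst hu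
        exact (h ρ rfl).symm
      have hg : (g : Γ) ∈ centralizer ({(x : Γ)} : Set Γ) := (zpowers_le.mpr hρx) g.2
      rw [mem_centralizer_iff] at hg
      have := hg x rfl
      -- x * g = g * x
      calc (g : Γ) * x * (g : Γ)⁻¹ = (x * g) * (g : Γ)⁻¹ := by rw [this]
        _ = x := by group
  rw [h2] at h1
  exact h1

end Cfsg.Agent.Lib.Helper46.SimsA
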