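import Cfsg.Agent.Lib.Helper46.SimsA
import Cfsg.Agent.Lib.Helper51.S4Section

set_option autoImplicit false
set_option linter.style.haveILetI false

/-!
# Recognition of `S₄` and `S₄ × 2` from a self-centralizing normal `2`-subgroup
-/

namespace Cfsg.Agent.Lib.Helper46.SimsA

open Subgroup

variable {Γ : Type*} [Group Γ]

/-- an odd prime dividing the order of a group with a small self-centralizing normal
`2`-subgroup is `3` -/
theorem q3 [Finite Γ] (Q : Subgroup Γ) [hQn : Q.Normal]
    (hcent : centralizer (Q : Set Γ) ≤ Q)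
    (hQ : Nat.card Q = 4 ∨ (Nat.card Q = 8 ∧ ∃ z ∈ Q, z ≠ 1 ∧ ∀ g : Γ, g * z = z * g))
    (q : ℕ) (hq : q.Prime) (hq2 : q ≠ 2) (hdvd : q ∣ Nat.card Γ) : q = 3 := by
  haveI : Fact q.Prime := ⟨hq⟩
  obtain ⟨ρ, hρ⟩ := exists_prime_orderOf_dvd_card' (G := Γ) q hdvd
  have hmod := card_modEq_centralizer Q ρ q hρ
  obtain ⟨C, hC⟩ : ∃ C : Subgroup Q, C = (centralizer ({ρ} : Set Γ)).subgroupOf Q := ⟨_, rfl⟩
  rw [← hC] at hmod
  have hdiv : Nat.card C ∣ Nat.card Q := Subgroup.card_subgroup_dvd_card C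
  have hq_not_two : ∀ k : ℕ, ¬ q ∣ 2 ^ k := by
    intro k hk
    exact hq2 ((Nat.prime_dvd_prime_iff_eq hq Nat.prime_two).mp (hq.dvd_of_dvd_pow hk))
  have hne : Nat.card C ≠ Nat.card Q := by
    intro heq
    have htop : C = ⊤ := (card_eq_iff_eq_top C).mp heq
    have hρc : ρ ∈ centralizer (Q : Set Γ) := by
      rw [mem_centralizer_iff]
      intro x hx
      have : (⟨x, hx⟩ : Q) ∈ C := by rw [htop]; exact mem_top _
      rw [hC, mem_subgroupOf, mem_centralizer_iff] at this
      exact (this ρ rfl).symm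
    have hρQ := hcent hρc
    have := Subgroup.orderOf_dvd_natCard Q hρQ
    rw [hρ] at this
    rcases hQ with h4 | ⟨h8, _⟩
    · rw [h4] at this; exact hq_not_two 2 (by norm_num; exact this)
    · rw [h8] at this; exact hq_not_two 3 (by norm_num; exact this)
  have hle : Nat.card C ≤ Nat.card Q := Nat.le_of_dvd Nat.card_pos hdiv
  have hsub : q ∣ Nat.card Q - Nat.card C := (Nat.modEq_iff_dvd' hle).mp hmod.symm
  have three : ∀ m : ℕ, q ∣ m → m = 3 → q = 3 := by
    intro m hm h3; subst h3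
    exact (Nat.prime_dvd_prime_iff_eq hq Nat.prime_three).mp hm
  rcases hQ with h4 | ⟨h8, z, hzQ, hz1, hzc⟩
  · rw [h4] at hdiv hne hsub
    obtain ⟨k, hk, hCk⟩ := (Nat.dvd_prime_pow Nat.prime_two (m := 2)).mp (by norm_num; exact hdiv)
    rw [hCk] at hne hsub
    interval_cases k
    · exact three _ hsub (by norm_num)
    · exact absurd hsub (by
        have : (4 - 2 ^ 1 : ℕ) = 2 ^ 1 := by norm_num
        rw [this]; exact hq_not_two 1)
    · exact absurd rfl hne
  · rw [h8] at hdiv hne hsub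
    obtain ⟨k, hk, hCk⟩ := (Nat.dvd_prime_pow Nat.prime_two (m := 3)).mp (by norm_num; exact hdiv)
    have hC1 : Nat.card C ≠ 1 := by
      intro h1
      have hbot : C = ⊥ := Subgroup.card_eq_one.mp h1
      have : (⟨z, hzQ⟩ : Q) ∈ C := by
        rw [hC, mem_subgroupOf, mem_centralizer_iff]
        intro u hu
        rw [Set.mem_singleton_iff] at hu
        subst hu
        exact hzc u
      rw [hbot, mem_bot] at this
      exact hz1 (congrArg Subtype.val this)
    rw [hCk] at hne hsub hC1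
    interval_cases k
    · exact absurd rfl hC1
    · have h6 : q ∣ 2 * 3 := by
        have : (8 - 2 ^ 1 : ℕ) = 2 * 3 := by norm_num
        rwa [this] at hsub
      rcases (Nat.Prime.dvd_mul hq).mp h6 with h | h
      · exact absurd ((Nat.prime_dvd_prime_iff_eq hq Nat.prime_two).mp h) hq2
      · exact (Nat.prime_dvd_prime_iff_eq hq Nat.prime_three).mp h
    · exact absurd hsub (by
        have : (8 - 2 ^ 2 : ℕ) = 2 ^ 2 := by norm_num
        rw [this]; exact hq_not_two 2)
    · exact absurd rfl hne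

/-- A finite group which is the internal direct product of two normal subgroups is isomorphic
to their product. -/
theorem prod_of_complement [Finite Γ] (P N : Subgroup Γ) [hP : P.Normal] [hN : N.Normal]
    (hc : N.IsComplement' P) : Nonempty (Γ ≃* (P × N)) := by
  let e2 : Γ ⧸ N ≃* P := hc.symm.QuotientMulEquiv
  let e1 : Γ ⧸ P ≃* N := hc.QuotientMulEquiv
  let φ : Γ →* P × N := MonoidHom.prod (e2.toMonoidHom.comp (QuotientGroup.mk' N))
    (e1.toMonoidHom.comp (QuotientGroup.mk' P))
  have hinj : Function.Injective φ := by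
    rw [injective_iff_map_eq_one]
    intro g hg
    have h1 : e2 (QuotientGroup.mk' N g) = 1 := congrArg Prod.fst hg
    have h2 : e1 (QuotientGroup.mk' P g) = 1 := congrArg Prod.snd hg
    have h3 : g ∈ N := by
      have := (MulEquiv.map_eq_one_iff e2).mp h1
      exact (QuotientGroup.eq_one_iff g).mp this
    have h4 : g ∈ P := by
      have := (MulEquiv.map_eq_one_iff e1).mp h2
      exact (QuotientGroup.eq_one_iff g).mp this
    have h5 : g ∈ N ⊓ P := ⟨h3, h4⟩
    rw [hc.disjoint.eq_bot] at h5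
    exact h5
  have hcard : Nat.card (P × N) = Nat.card Γ := by
    rw [Nat.card_prod, mul_comm]
    exact hc.card_mul_card
  have hbij : Function.Bijective φ :=
    (Nat.bijective_iff_injective_and_card φ).mpr ⟨hinj, hcard.symm⟩
  exact ⟨MulEquiv.ofBijective φ hbij⟩

/-- a group of order `24` with a self-centralizing normal four-subgroup is `S₄` -/
theorem i24 [Finite Γ] (hc : Nat.card Γ = 24) (Q : Subgroup Γ) [hQ : Q.Normal]
    (hQ4 : Nat.card Q = 4) (hcent : centralizer (Q : Set Γ) ≤ Q) :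
    Nonempty (Γ ≃* Equiv.Perm (Fin 4)) := by
  classical
  haveI : Fact (Nat.Prime 3) := ⟨Nat.prime_three⟩
  haveI : Fact (Nat.Prime 2) := ⟨Nat.prime_two⟩
  obtain ⟨r, hr⟩ := exists_prime_orderOf_dvd_card' (G := Γ) 3 (by rw [hc]; norm_num)
  have hnorm : normalizer (Q : Set Γ) = ⊤ := normalizer_eq_top_iff.mpr hQ
  have hact : ∀ u : Γ, u ∉ Q → ∃ x ∈ Q, u * x * u⁻¹ ≠ x := by
    intro u hu
    by_contra hcon
    push Not at hcon
    apply hu
    apply hcent
    rw [mem_centralizer_iff]
    intro x hx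
    have := hcon x hx
    calc x * u = (u * x * u⁻¹) * u := by rw [this]
      _ = u * x := by group
  have hrQ : r ∉ Q := by
    intro h
    have := Subgroup.orderOf_dvd_natCard Q h
    rw [hr, hQ4] at this
    norm_num at this
  have hquot : Nat.card (Γ ⧸ Q) = 6 := by
    have := card_eq_card_quotient_mul_card_subgroup Q
    rw [hc, hQ4] at this
    omega
  obtain ⟨tb, htb⟩ := exists_prime_orderOf_dvd_card' (G := Γ ⧸ Q) 2 (by rw [hquot]; norm_num)
  obtain ⟨t, rfl⟩ := QuotientGroup.mk_surjective tb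
  have htQ : t ∉ Q := by
    intro h
    have : (QuotientGroup.mk t : Γ ⧸ Q) = 1 := (QuotientGroup.eq_one_iff t).mpr h
    rw [this, orderOf_one] at htb
    norm_num at htb
  have ht2 : t * t ∈ Q := by
    have h1 : (QuotientGroup.mk t : Γ ⧸ Q) ^ 2 = 1 := by rw [← htb]; exact pow_orderOf_eq_one _
    rw [← QuotientGroup.eq_one_iff]
    rw [QuotientGroup.mk_mul, ← pow_two]; exact h1
  have ht8 : t ^ (2 ^ 3) = 1 := by
    have h4 : (⟨t * t, ht2⟩ : Q) ^ 4 = 1 := by rw [← hQ4]; exact pow_card_eq_one'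
    have := congrArg Subtype.val h4
    simp only [SubmonoidClass.coe_pow, OneMemClass.coe_one] at this
    calc t ^ (2 ^ 3) = (t * t) ^ 4 := by rw [← pow_two, ← pow_mul]; norm_num
      _ = 1 := this
  have hinv := Cfsg.Agent.Lib.Helper51.involves_S4_of_four Q hQ4 r t
    (by rw [hnorm]; exact mem_top _) (by rw [hnorm]; exact mem_top _)
    (by rw [hr]; decide) ⟨3, ht8⟩ (hact r hrQ) (hact t htQ)
  obtain ⟨K, _, i, f, hi, hf⟩ := Cfsg.Agent.Lib.Helper88.spans_of_involves hinv
  haveI : Finite K := Finite.of_injective i hi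
  have hS4 : Nat.card (Equiv.Perm (Fin 4)) = 24 := by
    rw [Nat.card_perm, Nat.card_fin]; rfl
  have h1 : Nat.card K ≤ 24 := hc ▸ Nat.card_le_card_of_injective i hi
  have h2 : 24 ≤ Nat.card K := hS4 ▸ Nat.card_le_card_of_surjective f hf
  have hbi : Function.Bijective i := hi.bijective_of_nat_card_le (by rw [hc]; exact h2)
  have hbf : Function.Bijective f := hf.bijective_of_nat_card_le (by rw [hS4]; exact h1)
  exact ⟨(MulEquiv.ofBijective i hbi).symm.trans (MulEquiv.ofBijective f hbf)⟩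

end Cfsg.Agent.Lib.Helper46.SimsA
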