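import Cfsg.Agent.Lib.Helper46.SimsB

set_option autoImplicit false
set_option linter.style.haveILetI false

/-!
# Recognition of `S₄ × 2`
-/

namespace Cfsg.Agent.Lib.Helper46.SimsA

open Subgroup

variable {Γ : Type*} [Group Γ]

theorem z2_unique : ∀ a b : Multiplicative (ZMod 2), a ≠ 1 → b ≠ 1 → a = b := by decide

/-- a group of order `48` with a self-centralizing normal subgroup `Q` of order `8`, a central
involution `z` in `Q` and an involution outside `Q` normalizing a complement of `z` in `Q`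
is `S₄ × 2` -/
theorem i48 [Finite Γ] (hc : Nat.card Γ = 48) (Q : Subgroup Γ) [hQ : Q.Normal]
    (hQ8 : Nat.card Q = 8) (hcent : centralizer (Q : Set Γ) ≤ Q)
    (z : Γ) (hzQ : z ∈ Q) (hz1 : z ≠ 1) (hz2 : z * z = 1) (hzc : ∀ g : Γ, g * z = z * g)
    (e : Γ) (he2 : e * e = 1) (heQ : e ∉ Q)
    (Q1 : Subgroup Γ) (hQ1 : Q1 ≤ Q) (hQ1c : Nat.card Q1 = 4) (hzQ1 : z ∉ Q1)
    (heQ1 : ∀ a ∈ Q1, e * a * e⁻¹ ∈ Q1) :
    Nonempty (Γ ≃* Equiv.Perm (Fin 4) × Multiplicative (ZMod 2)) := by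
  classical
  haveI : Fact (Nat.Prime 2) := ⟨Nat.prime_two⟩
  have hznorm : ∀ (K : Subgroup Γ), ∀ a ∈ K, z * a * z⁻¹ ∈ K := by
    intro K a ha
    rw [← hzc a, mul_inv_cancel_right]; exact ha
  -- D0
  obtain ⟨hD0c, hD0m⟩ := semi Q1 e he2 (fun h => heQ (hQ1 h)) heQ1
  obtain ⟨D0, hD0⟩ : ∃ D0, D0 = Q1 ⊔ zpowers e := ⟨_, rfl⟩
  rw [← hD0] at hD0c hD0m
  have hzD0 : z ∉ D0 := by
    intro h
    rcases (hD0m z).mp h with h | h
    · exact hzQ1 h
    · apply heQ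
      have := Q.mul_mem (Q.inv_mem hzQ) (hQ1 h)
      rwa [inv_mul_cancel_left] at this
  obtain ⟨hDtc, hDtm⟩ := semi D0 z hz2 hzD0 (hznorm D0)
  obtain ⟨Dt, hDt⟩ : ∃ Dt, Dt = D0 ⊔ zpowers z := ⟨_, rfl⟩
  rw [← hDt] at hDtc hDtm
  have hD0Dt : D0 ≤ Dt := by rw [hDt]; exact le_sup_left
  have hzDt : z ∈ Dt := by rw [hDt]; exact mem_sup_right (mem_zpowers z)
  have hidx : (D0.subgroupOf Dt).index = 2 := by
    have h1 := Subgroup.card_mul_index (D0.subgroupOf Dt)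
    have h2 : Nat.card (D0.subgroupOf Dt) = Nat.card D0 :=
      Nat.card_congr (Subgroup.subgroupOfEquivOfLe hD0Dt).toEquiv
    rw [h2, hDtc, hD0c, hQ1c] at h1
    omega
  obtain ⟨ϕ, hϕ⟩ := hom2 (D0.subgroupOf Dt) hidx
  have hDtidx : Dt.index = 3 := by
    have := Subgroup.card_mul_index Dt
    rw [hc, hDtc, hD0c, hQ1c] at this
    omega
  obtain ⟨χ, hχ⟩ : ∃ χ : Γ →* Multiplicative (ZMod 2), χ = MonoidHom.transfer ϕ := ⟨_, rfl⟩
  have hχz : χ z ≠ 1 := by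
    have key : ∀ (k : ℕ) (g₀ : Γ), g₀⁻¹ * z ^ k * g₀ ∈ Dt → g₀⁻¹ * z ^ k * g₀ = z ^ k := by
      intro k g₀ _
      have : g₀ * z ^ k = z ^ k * g₀ :=
        (Commute.pow_right (show Commute g₀ z from hzc g₀) k).eq
      rw [mul_assoc, ← this, inv_mul_cancel_left]
    have h1 := MonoidHom.transfer_eq_pow ϕ z key
    have hz3 : z ^ Dt.index = z := by
      rw [hDtidx, pow_succ, pow_two, hz2, one_mul]
    have h1' : ∀ (hm : z ^ Dt.index ∈ Dt), ϕ ⟨z ^ Dt.index, hm⟩ = ϕ ⟨z, hzDt⟩ :=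
      fun hm => congrArg ϕ (Subtype.ext hz3)
    rw [hχ, h1, h1' _, Ne, hϕ, mem_subgroupOf]
    exact hzD0
  -- Γ0
  obtain ⟨Γ0, hΓ0⟩ : ∃ Γ0 : Subgroup Γ, Γ0 = χ.ker := ⟨_, rfl⟩
  have hmemΓ0 : ∀ u, u ∈ Γ0 ↔ χ u = 1 := by intro u; rw [hΓ0, MonoidHom.mem_ker]
  have hzΓ0 : z ∉ Γ0 := by rw [hmemΓ0]; exact hχz
  haveI hΓ0n : Γ0.Normal := by rw [hΓ0]; infer_instance
  have hZ2 := z2_unique
  have hxor : ∀ b : Γ, b ∉ Γ0 → b * z ∈ Γ0 := by
    intro b hb
    rw [hmemΓ0] at hb ⊢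
    rw [map_mul, hZ2 _ _ hb hχz, ← map_mul, hz2, map_one]
  have hΓ0idx : Γ0.index = 2 := by
    rw [index_eq_two_iff]
    refine ⟨z, fun b => ?_⟩
    by_cases hb : b ∈ Γ0
    · right; refine ⟨hb, fun hbz => hzΓ0 ?_⟩
      have := Γ0.mul_mem (Γ0.inv_mem hb) hbz
      rwa [inv_mul_cancel_left] at this
    · left; exact ⟨hxor b hb, hb⟩
  have hΓ0c : Nat.card Γ0 = 24 := by
    have := Subgroup.card_mul_index Γ0
    rw [hc, hΓ0idx] at this
    omega
  -- Q ⊓ Γ0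
  obtain ⟨K, hK⟩ : ∃ K : Subgroup Γ, K = Q ⊓ Γ0 := ⟨_, rfl⟩
  have hzK : z ∉ K := by rw [hK]; exact fun h => hzΓ0 h.2
  obtain ⟨hKc, hKm⟩ := semi K z hz2 hzK (hznorm K)
  have hKQ : K ⊔ zpowers z = Q := by
    apply le_antisymm
    · apply sup_le
      · rw [hK]; exact inf_le_left
      · rw [zpowers_le]; exact hzQ
    · intro u hu
      rw [hKm]
      by_cases h : u ∈ Γ0
      · left; rw [hK]; exact ⟨hu, h⟩
      · right; rw [hK]; exact ⟨Q.mul_mem hu hzQ, hxor u h⟩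
  rw [hKQ] at hKm
  rw [hKQ, hQ8] at hKc
  have hKc4 : Nat.card K = 4 := by omega
  -- Q0
  obtain ⟨Q0, hQ0⟩ : ∃ Q0 : Subgroup Γ0, Q0 = Q.subgroupOf Γ0 := ⟨_, rfl⟩
  haveI : Q0.Normal := by rw [hQ0]; infer_instance
  have hQ0c : Nat.card Q0 = 4 := by
    rw [hQ0, ← inf_subgroupOf_right, ← hK, ← hKc4]
    exact Nat.card_congr (Subgroup.subgroupOfEquivOfLe (by rw [hK]; exact inf_le_right)).toEquiv
  have hQ0cent : centralizer (Q0 : Set Γ0) ≤ Q0 := by
    intro u hu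
    rw [mem_centralizer_iff] at hu
    rw [hQ0, mem_subgroupOf]
    apply hcent
    rw [mem_centralizer_iff]
    intro x hx
    rcases (hKm x).mp hx with h | h
    · have hxΓ0 : x ∈ Γ0 := by rw [hK] at h; exact h.2
      have := hu ⟨x, hxΓ0⟩ (by rw [SetLike.mem_coe, hQ0, mem_subgroupOf]; exact hx)
      exact congrArg Subtype.val this
    · have hxΓ0 : x * z ∈ Γ0 := by rw [hK] at h; exact h.2
      have hxzQ : x * z ∈ Q := by rw [hK] at h; exact h.1
      have := hu ⟨x * z, hxΓ0⟩ (by rw [SetLike.mem_coe, hQ0, mem_subgroupOf]; exact hxzQ)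
      have h' : x * z * (u : Γ) = (u : Γ) * (x * z) := congrArg Subtype.val this
      have h1 : x * z * (u : Γ) = x * (u : Γ) * z := by rw [mul_assoc, ← hzc, ← mul_assoc]
      have h2 : (u : Γ) * (x * z) = (u : Γ) * x * z := (mul_assoc _ _ _).symm
      exact mul_right_cancel (h1.symm.trans (h'.trans h2))
  obtain ⟨f⟩ := i24 hΓ0c Q0 hQ0c hQ0cent
  -- product
  have hZcen : zpowers z ≤ center Γ := by
    rw [zpowers_le, mem_center_iff]; exact hzc
  haveI hZn : (zpowers z).Normal := by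
    constructor
    intro n hn g
    have hnc := hZcen hn
    rw [mem_center_iff] at hnc
    rw [hnc g, mul_inv_cancel_right]; exact hn
  have hZc : Nat.card (zpowers z) = 2 := by
    rw [Nat.card_zpowers]; exact orderOf_eq_prime (by rw [pow_two]; exact hz2) hz1
  obtain ⟨_, hZm⟩ := semi (⊥ : Subgroup Γ) z hz2 (by rw [mem_bot]; exact hz1) (hznorm ⊥)
  rw [bot_sup_eq] at hZm
  have hdisj : Disjoint (zpowers z) Γ0 := by
    rw [disjoint_def]
    intro u hu1 hu2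
    rcases (hZm u).mp hu1 with h | h
    · exact mem_bot.mp h
    · rw [mem_bot] at h
      exfalso; apply hzΓ0
      have : u = z := by
        have := congrArg (fun w => w * z) h
        simp only [one_mul] at this
        rw [mul_assoc, hz2, mul_one] at this
        exact this
      rw [← this]; exact hu2
  have hcompl : (zpowers z).IsComplement' Γ0 :=
    isComplement'_of_card_mul_and_disjoint (by rw [hZc, hΓ0c, hc]) hdisj
  obtain ⟨g⟩ := prod_of_complement Γ0 (zpowers z) hcompl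
  have eZ : zpowers z ≃* Multiplicative (ZMod 2) :=
    mulEquivOfPrimeCardEq (p := 2) hZc (by rw [Nat.card_eq_fintype_card]; rfl)
  exact ⟨g.trans (MulEquiv.prodCongr f eZ)⟩

end Cfsg.Agent.Lib.Helper46.SimsA
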