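import Cfsg.Agent.Lib.Helper46.Tutte4

set_option autoImplicit false

namespace Cfsg.Agent.Lib.Helper46.Tutte

open Subgroup

variable {G : Type*} [Group G]

theorem mem_normalizer_of_conj_le [Finite G] (S : Subgroup G) (c : G)
    (hc : ∀ u ∈ S, c * u * c⁻¹ ∈ S) : c ∈ Subgroup.normalizer (S : Set G) := by
  rw [Subgroup.mem_normalizer_iff]
  intro u
  refine ⟨hc u, fun hu => ?_⟩
  let φ : S → S := fun u => ⟨c * u * c⁻¹, hc u u.2⟩
  have hinj : Function.Injective φ := by
    intro a b hab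
    have : c * (a : G) * c⁻¹ = c * (b : G) * c⁻¹ := congrArg Subtype.val hab
    have h2 : (a : G) = b := by
      have := congrArg (fun z => c⁻¹ * z * c) this
      simpa [mul_assoc] using this
    exact Subtype.ext h2
  obtain ⟨u', hu'⟩ := Finite.surjective_of_injective hinj ⟨c * u * c⁻¹, hu⟩
  have : c * (u' : G) * c⁻¹ = c * u * c⁻¹ := congrArg Subtype.val hu'
  have h2 : (u' : G) = u := by
    have := congrArg (fun z => c⁻¹ * z * c) this
    simpa [mul_assoc] using this
  rw [← h2]; exact u'.2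

theorem xs_xs (h y : G) (c i : ℤ) : xs h (xs h y c) i = xs h y (i + c) := by
  unfold xs
  rw [zpow_add]; group

theorem X_xs (h y : G) (c a : ℤ) (n : ℕ) : X h (xs h y c) a n = X h y (a + c) n := by
  apply le_antisymm
  · rw [X_le_iff]
    intro i h1 h2
    rw [xs_xs]
    exact xs_mem h y (by omega) (by omega)
  · rw [X_le_iff]
    intro i h1 h2
    have : xs h y i = xs h (xs h y c) (i - c) := by rw [xs_xs]; congr 1; ring
    rw [this]
    exact xs_mem h _ (by omega) (by omega)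

theorem card_X_eq (h y : G) (a a' : ℤ) (n : ℕ) :
    Nat.card (X h y a n) = Nat.card (X h y a' n) := by
  have := X_shift h y (a' - a) a n
  rw [show a + (a' - a) = a' by ring] at this
  rw [← this, Subgroup.card_map_of_injective (MulEquiv.injective _)]

section setup
variable [Finite G] (A D : Subgroup G) (g x : G)
variable (hDA : D ≤ A) (hidx : D.relIndex A = 3) (hg : ∀ d, d ∈ D ↔ g * d * g⁻¹ ∈ D)
  (hxA : x ∈ A) (hx : ∃ d ∈ D, x⁻¹ * d * x ∉ D)

omit [Finite G] in
theorem Sint_one_eq : Sint D (g * x) 0 1 = D := by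
  ext u
  rw [mem_Sint]
  constructor
  · intro hh
    have := hh 0 (by norm_num)
    simpa [mem_Dk_zero] using this
  · intro hu k hk
    have : k = 0 := by omega
    subst this
    simpa [mem_Dk_zero] using hu

omit [Finite G] in
theorem stab_iff (s : ℕ) : Sint D (g * x) 0 s ≤ Dk D (g * x) s ↔
    Sint D (g * x) 0 s ≤ Sint D (g * x) 0 (s + 1) := by
  constructor
  · intro hh u hu
    rw [mem_Sint_succ]; exact ⟨hu, by rw [zero_add]; exact hh hu⟩
  · intro hh u hu
    have := hh hu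
    rw [mem_Sint_succ, zero_add] at this
    exact this.2

theorem exists_stab : ∃ s : ℕ, 1 ≤ s ∧ Sint D (g * x) 0 s ≤ Dk D (g * x) s := by
  by_contra hcon
  push Not at hcon
  have hlt : ∀ s : ℕ, 1 ≤ s →
      Nat.card (Sint D (g * x) 0 (s + 1)) < Nat.card (Sint D (g * x) 0 s) := by
    intro s hs
    by_contra hge
    push Not at hge
    have hle : Sint D (g * x) 0 (s + 1) ≤ Sint D (g * x) 0 s :=
      Sint_anti D (g * x) le_rfl (by push_cast; omega)
    have := Subgroup.eq_of_le_of_card_ge hle hge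
    apply hcon s hs
    rw [stab_iff, this]
  have hind : ∀ n : ℕ, Nat.card (Sint D (g * x) 0 (1 + n)) + n ≤ Nat.card (Sint D (g * x) 0 1) := by
    intro n
    induction n with
    | zero => simp
    | succ n ih =>
      have := hlt (1 + n) (by omega)
      rw [show 1 + (n + 1) = 1 + n + 1 by ring]
      omega
  have := hind (Nat.card (Sint D (g * x) 0 1) + 1)
  omega

include hg hx in
omit [Finite G] in
theorem not_stab_one : ¬ Sint D (g * x) 0 1 ≤ Dk D (g * x) 1 := by
  intro hh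
  rw [Sint_one_eq] at hh
  obtain ⟨d0, hd0, hd0'⟩ := hx
  have h1 : g * d0 * g⁻¹ ∈ D := (hg d0).1 hd0
  have h2 := hh h1
  rw [mem_Dk_one] at h2
  apply hd0'
  have e : g⁻¹ * (g * d0 * g⁻¹) * g = d0 := by group
  rwa [e] at h2

variable (hgen : A ⊔ A.map (MulAut.conj g).toMonoidHom = ⊤)
  (hcore : ∀ N : Subgroup G, N.Normal → N ≤ A → N = ⊥)

include hDA hidx hg hxA hx hgen hcore in
/-- regularity: once the chain stabilizes, it is trivial -/
theorem stab_bot (s : ℕ) (hs1 : 1 ≤ s) (hstab : Sint D (g * x) 0 s ≤ Dk D (g * x) s)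
    (hmin : ∀ r : ℕ, 1 ≤ r → r < s → ¬ Sint D (g * x) 0 r ≤ Dk D (g * x) r) :
    Sint D (g * x) 0 s = ⊥ := by
  have hs2 : 2 ≤ s := by
    by_contra hlt
    have : s = 1 := by omega
    subst this
    exact not_stab_one D g x hg hx hstab
  -- the element y'
  have hns := hmin (s - 1) (by omega) (by omega)
  rw [SetLike.not_le_iff_exists] at hns
  obtain ⟨y, hy, hy'⟩ := hns
  have hcast : ((s - 1 : ℕ) : ℤ) = (s : ℤ) - 1 := by omega
  rw [hcast] at hy'
  obtain ⟨S, hS⟩ : ∃ S, S = Sint D (g * x) 0 s := ⟨_, rfl⟩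
  obtain ⟨K, hK⟩ : ∃ K, K = Subgroup.normalizer (S : Set G) := ⟨_, rfl⟩
  have hSK : S ≤ K := by rw [hK]; exact Subgroup.le_normalizer
  -- h ∈ K
  have hhK : g * x ∈ K := by
    have : (g * x)⁻¹ ∈ K := by
      rw [hK]
      apply mem_normalizer_of_conj_le
      intro u hu
      rw [hS] at hu ⊢
      have h1 : u ∈ Sint D (g * x) 0 (s + 1) := by
        rw [mem_Sint_succ, zero_add]; exact ⟨hu, hstab hu⟩
      have h2 : (g * x) ^ (-1 : ℤ) * u * ((g * x) ^ (-1 : ℤ))⁻¹ ∈ Sint D (g * x) (0 + -1) (s + 1) := by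
        rw [mem_Sint_conj]; exact h1
      have h3 := Sint_anti D (g * x) (a := 0 + -1) (a' := 0) (s := s + 1) (s' := s) (by omega)
        (by push_cast; omega) h2
      simpa using h3
    simpa using inv_mem this
  -- y ∈ K
  have hyK : y ∈ K := by
    rw [hK]
    apply mem_normalizer_of_conj_le
    intro u hu
    rw [hS] at hu ⊢
    have hu1 : u ∈ Sint D (g * x) 0 (s - 1) :=
      Sint_anti D (g * x) le_rfl (by rw [hcast]; omega) hu
    have hu2 : u ∈ Dk D (g * x) ((s : ℤ) - 1) := by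
      rw [mem_Sint] at hu
      have := hu (s - 1) (by omega)
      rwa [zero_add, hcast] at this
    have h1 : y⁻¹ ∉ Dk D (g * x) ((s - 1 : ℕ) : ℤ) := by
      rw [hcast]; intro hh; exact hy' (by simpa using inv_mem hh)
    have h2 : u * y⁻¹ ∉ Dk D (g * x) ((s - 1 : ℕ) : ℤ) := by
      rw [hcast]; intro hh
      apply hy'
      have : y⁻¹ = u⁻¹ * (u * y⁻¹) := by group
      have h3 : y⁻¹ ∈ Dk D (g * x) ((s : ℤ) - 1) := by
        rw [this]; exact mul_mem (inv_mem hu2) hh
      simpa using inv_mem h3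
    have := chain_two A D g x hDA hidx hg hxA hx (s - 1) (by omega) y⁻¹ (u * y⁻¹)
      (inv_mem hy) (mul_mem hu1 (inv_mem hy)) h1 h2
    have e : s - 1 + 1 = s := by omega
    rw [e] at this
    have e2 : y⁻¹⁻¹ * (u * y⁻¹) = y * u * y⁻¹ := by group
    rwa [e2] at this
  have hYK : ∀ i : ℕ, (g * x) ^ (-(i : ℤ)) * y * ((g * x) ^ (-(i : ℤ)))⁻¹ ∈ K := by
    intro i
    exact mul_mem (mul_mem (zpow_mem hhK _) hyK) (inv_mem (zpow_mem hhK _))
  -- D ≤ K
  have hDK : D ≤ K := by
    have := gen_step A D g x hDA hidx hg hxA hx s y hs2 hy hy' K (by rw [← hS]; exact hSK)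
      (s - 1) (by omega) (fun i _ => hYK i)
    have e : s - (s - 1) = 1 := by omega
    rw [e, Sint_one_eq] at this
    exact this
  -- the last element
  have hlast1 : (g * x) ^ (-((s - 1 : ℕ) : ℤ)) * y * ((g * x) ^ (-((s - 1 : ℕ) : ℤ)))⁻¹ ∈ A := by
    apply Dk_neg_one_le A D g x hDA hg hxA
    rw [mem_Sint] at hy
    have := hy (s - 2) (by omega)
    have c2 : ((s - 2 : ℕ) : ℤ) = (s : ℤ) - 2 := by omega
    rw [c2] at this
    have e : (-1 : ℤ) = (0 + ((s : ℤ) - 2)) + -((s - 1 : ℕ) : ℤ) := by rw [hcast]; ring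
    rw [e, mem_Dk_conj]; exact this
  have hlast2 : (g * x) ^ (-((s - 1 : ℕ) : ℤ)) * y * ((g * x) ^ (-((s - 1 : ℕ) : ℤ)))⁻¹ ∉ D := by
    rw [← mem_Dk_zero D (g * x)]
    have e : (0 : ℤ) = ((s : ℤ) - 1) + -((s - 1 : ℕ) : ℤ) := by rw [hcast]; ring
    rw [e, mem_Dk_conj]; exact hy'
  have hAK : A ≤ K := max_sub A D hDA hidx K hDK _ (hYK (s - 1)) hlast1 hlast2
  have hAgK : A.map (MulAut.conj g).toMonoidHom ≤ K := by
    rintro _ ⟨a, ha, rfl⟩
    have : (MulAut.conj g).toMonoidHom a = (g * x) * (x⁻¹ * a * x) * (g * x)⁻¹ := by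
      simp only [MulEquiv.coe_toMonoidHom, MulAut.conj_apply]; group
    rw [this]
    exact mul_mem (mul_mem hhK (hAK (mul_mem (mul_mem (inv_mem hxA) ha) hxA))) (inv_mem hhK)
  have hKtop : K = ⊤ := by
    rw [eq_top_iff, ← hgen]; exact sup_le hAK hAgK
  have hSn : S.Normal := by
    rw [← Subgroup.normalizer_eq_top_iff, ← hK]; exact hKtop
  have hSA : S ≤ A := by
    rw [hS]
    refine le_trans (Sint_anti D (g * x) (a := 0) (a' := 0) (s := s) (s' := 1) le_rfl
      (by push_cast; omega)) ?_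
    rw [Sint_one_eq]; exact hDA
  rw [← hS]
  exact hcore S hSn hSA

end setup

end Cfsg.Agent.Lib.Helper46.Tutte
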