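import Cfsg.Agent.Lib.Helper46.SimsA
import Cfsg.Agent.Lib.Helper46.Tutte5

set_option autoImplicit false
set_option linter.style.haveILetI false

/-!
# The structure of the Tutte data for `t = 5`
-/

namespace Cfsg.Agent.Lib.Helper46.SimsA

open Subgroup

variable {Γ : Type*} [Group Γ]

theorem mem_zpowers_invol (a : Γ) (ha1 : a ≠ 1) (ha2 : a * a = 1) :
    Nat.card (zpowers a) = 2 ∧ ∀ u, u ∈ zpowers a ↔ (u = 1 ∨ u = a) := by
  obtain ⟨h1, h2⟩ := semi (⊥ : Subgroup Γ) a ha2 (by rw [mem_bot]; exact ha1)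
    (by intro u hu; rw [mem_bot] at hu ⊢; rw [hu]; group)
  rw [bot_sup_eq] at h1 h2
  refine ⟨by rw [h1, Subgroup.card_bot], fun u => ?_⟩
  rw [h2, mem_bot, mem_bot]
  constructor
  · rintro (h | h)
    · exact Or.inl h
    · right
      have := congrArg (fun w => w * a) h
      simp only [one_mul] at this
      rw [mul_assoc, ha2, mul_one] at this
      exact this
  · rintro (h | h)
    · exact Or.inl h
    · right; rw [h]; exact ha2

/-- the four-group generated by two commuting involutions -/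
theorem klein (a b : Γ) (ha1 : a ≠ 1) (ha2 : a * a = 1) (hb2 : b * b = 1) (hab : Commute a b)
    (hb1 : b ≠ 1) (hba : b ≠ a) :
    Nat.card ↥(zpowers a ⊔ zpowers b) = 4 ∧
    (∀ u, u ∈ zpowers a ⊔ zpowers b ↔ (u = 1 ∨ u = a ∨ u = b ∨ u = a * b)) ∧
    (∀ e : Γ, e * a * e⁻¹ ∈ zpowers a ⊔ zpowers b → e * b * e⁻¹ ∈ zpowers a ⊔ zpowers b →
      ∀ u ∈ zpowers a ⊔ zpowers b, e * u * e⁻¹ ∈ zpowers a ⊔ zpowers b) := by
  obtain ⟨hca, hma⟩ := mem_zpowers_invol a ha1 ha2
  have hbi : b⁻¹ = b := inv_eq_of_mul_eq_one_right hb2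
  obtain ⟨h1, h2⟩ := semi (zpowers a) b hb2 (by rw [hma]; rintro (h | h); exact hb1 h; exact hba h)
    (by
      intro u hu
      rw [hma] at hu ⊢
      rcases hu with h | h
      · left; rw [h]; group
      · right; rw [h, ← hab.eq, mul_inv_cancel_right])
  refine ⟨by rw [h1, hca], fun u => ?_, fun e hea heb => ?_⟩
  · rw [h2, hma, hma]
    constructor
    · rintro ((h | h) | (h | h))
      · exact Or.inl h
      · exact Or.inr (Or.inl h)
      · right; right; left
        have := congrArg (fun w => w * b) h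
        simp only [one_mul] at this
        rw [mul_assoc, hb2, mul_one] at this
        exact this
      · right; right; right
        have : u * b * b = a * b := congrArg (fun w => w * b) h
        rw [mul_assoc, hb2, mul_one] at this
        exact this
    · rintro (h | h | h | h)
      · exact Or.inl (Or.inl h)
      · exact Or.inl (Or.inr h)
      · right; left; rw [h]; exact hb2
      · right; right; rw [h, mul_assoc, hb2, mul_one]
  · have : zpowers a ⊔ zpowers b ≤
        (zpowers a ⊔ zpowers b).comap (MulAut.conj e).toMonoidHom := by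
      apply sup_le
      · rw [zpowers_le, mem_comap]; simpa using hea
      · rw [zpowers_le, mem_comap]; simpa using heb
    intro u hu
    have := this hu
    rw [mem_comap] at this
    simpa using this

end Cfsg.Agent.Lib.Helper46.SimsA

namespace Cfsg.Agent.Lib.Helper46.TutteG

open Subgroup Cfsg.Agent.Lib.Helper46.Tutte Cfsg.Agent.Lib.Helper46.SimsA

variable {G : Type*} [Group G] (h y : G)

theorem t5_lam (hcard : ∀ n, n < 5 → Nat.card (X h y 0 n) = 2 ^ n)
    (hnc : ∃ k : ℕ, 1 ≤ k ∧ k < 5 ∧ ¬ Commute (xs h y 0) (xs h y k))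
    (htop : X h y 0 (5 + 1) = ⊤)
    (hcore : ∀ N : Subgroup G, N.Normal → N ≤ X h y 0 5 → N = ⊥) :
    (∀ k : ℕ, k < 3 → Commute (xs h y 0) (xs h y k)) ∧
      ¬ Commute (xs h y 0) (xs h y ((3 : ℕ) : ℤ)) := by
  classical
  have ht1 : 1 < 5 := by norm_num
  have hex : ∃ k : ℕ, 1 ≤ k ∧ ¬ Commute (xs h y 0) (xs h y k) := by
    obtain ⟨k, h1, _, h3⟩ := hnc; exact ⟨k, h1, h3⟩
  obtain ⟨lam, hlam⟩ : ∃ lam, lam = Nat.find hex := ⟨_, rfl⟩
  have hl1 : 1 ≤ lam := by rw [hlam]; exact (Nat.find_spec hex).1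
  have hnc0 : ¬ Commute (xs h y 0) (xs h y lam) := by rw [hlam]; exact (Nat.find_spec hex).2
  have hlt : lam < 5 := by
    obtain ⟨k, h1, h2, h3⟩ := hnc
    rw [hlam]; exact lt_of_le_of_lt (Nat.find_min' hex ⟨h1, h3⟩) h2
  have hcomm0 : ∀ k : ℕ, k < lam → Commute (xs h y 0) (xs h y k) := by
    intro k hk
    by_cases hk0 : k = 0
    · subst hk0; exact Commute.refl _
    · by_contra hc
      rw [hlam] at hk
      exact Nat.find_min hex hk ⟨by omega, hc⟩
  have hB := stepB h y hcard lam hcomm0 ht1 hlt hl1 htop hcore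
  have hl2 : lam + 2 ≤ 5 := by omega
  obtain ⟨μ, hμ1, hμ2, hμ3, _⟩ := stepE_mu h y hcard lam hcomm0 hnc0 ht1 hl1 hl2
  have h3 : lam = 3 := by omega
  subst h3
  exact ⟨hcomm0, hnc0⟩

end Cfsg.Agent.Lib.Helper46.TutteG
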