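import Cfsg.Agent.Lib.Helper46.SimsD

set_option autoImplicit false
set_option linter.style.haveILetI false

/-!
# The structure of the Tutte data for `t = 5`, continued
-/

namespace Cfsg.Agent.Lib.Helper46.TutteG

open Subgroup Cfsg.Agent.Lib.Helper46.Tutte Cfsg.Agent.Lib.Helper46.SimsA

variable {G : Type*} [Group G] (h y : G)

theorem t5_struct [Finite G] (hcard : ∀ n, n < 5 → Nat.card (X h y 0 n) = 2 ^ n)
    (hcomm0 : ∀ k : ℕ, k < 3 → Commute (xs h y 0) (xs h y k))
    (hnc0 : ¬ Commute (xs h y 0) (xs h y ((3 : ℕ) : ℤ))) :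
    (∀ g ∈ X h y 0 5, g * xs h y 2 = xs h y 2 * g) ∧
    (∀ g ∈ X h y 0 5, ∀ u ∈ X h y 1 3, g * u * g⁻¹ ∈ X h y 1 3) ∧
    ∃ (e : G) (Q1 : Subgroup G), e ∈ X h y 0 5 ∧ e * e = 1 ∧ e ∉ X h y 1 3 ∧ Q1 ≤ X h y 1 3 ∧
      Nat.card Q1 = 4 ∧ xs h y 2 ∉ Q1 ∧ ∀ a ∈ Q1, e * a * e⁻¹ ∈ Q1 := by
  have ht1 : 1 < 5 := by norm_num
  have sq : ∀ i, xs h y i * xs h y i = 1 := xs_sq h y hcard ht1
  have inv : ∀ i, (xs h y i)⁻¹ = xs h y i := xs_inv h y hcard ht1
  have ne1 : ∀ i, xs h y i ≠ 1 := xs_ne_one h y hcard ht1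
  have cm : ∀ i j : ℤ, |i - j| < 3 → Commute (xs h y i) (xs h y j) := by
    intro i j hij
    exact comm_of_lt h y 3 hcomm0 i j (by exact_mod_cast hij)
  have hz : ∀ g ∈ X h y 0 5, g * xs h y 2 = xs h y 2 * g := by
    intro g hg
    have := comm_X h y 3 hcomm0 2 0 5 (by
      intro i h1 h2
      rw [abs_lt]; push_cast at h2 ⊢; constructor <;> omega) g hg
    exact this.eq.symm
  have hx13 : ∀ i : ℤ, 1 ≤ i → i < 4 → xs h y i ∈ X h y 1 3 :=
    fun i h1 h2 => xs_mem h y h1 (by push_cast; omega)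
  have hx12 : ∀ i : ℤ, 1 ≤ i → i < 3 → xs h y i ∈ X h y 1 2 :=
    fun i h1 h2 => xs_mem h y h1 (by push_cast; omega)
  have h1213 : X h y 1 2 ≤ X h y 1 3 := X_mono h y le_rfl (by norm_num)
  have hnormal : X h y 0 5 ≤ normalizer (X h y 1 3 : Set G) := by
    rw [X_le_iff]
    intro i h1 h2
    push_cast at h2
    apply mem_normalizer_of_conj_le
    intro u hu
    have hcases : i = 0 ∨ i = 4 ∨ (1 ≤ i ∧ i < 4) := by omega
    rcases hcases with rfl | rfl | ⟨h3, h4⟩
    · have := norm_left h y hcard 0 (n := 3) (by norm_num) (u := u) (by simpa using hu)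
      simpa using this
    · have := norm_right h y hcard 1 (n := 3) (by norm_num) (u := u) hu
      have e : (1 : ℤ) + ((3 : ℕ) : ℤ) = 4 := by norm_num
      rw [e] at this; exact this
    · exact mul_mem (mul_mem (hx13 i h3 h4) hu) (inv_mem (hx13 i h3 h4))
  refine ⟨hz, fun g hg u hu => (mem_normalizer_iff.mp (hnormal hg) u).mp hu, ?_⟩
  have e3 : ((3 : ℕ) : ℤ) = 3 := by norm_num
  obtain ⟨w, hw⟩ : ∃ w, w = xs h y 0 * xs h y 3 * xs h y 0 * xs h y 3 := ⟨_, rfl⟩
  have hwc : wc h y 3 = w := by unfold wc; rw [e3, hw]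
  have hwmem : w ∈ X h y 1 2 := by
    have := wc_mem h y hcard 3 ht1 (by norm_num) (by norm_num)
    rw [hwc] at this; exact this
  have hw1 : w ≠ 1 := by
    have := wc_ne_one h y hcard 3 hnc0 ht1
    rw [hwc] at this; exact this
  have hwsq : w * w = 1 := X_sq h y 3 hcomm0 sq 1 2 (by norm_num) w hwmem
  have hx3 : xs h y 3 ∉ X h y 1 2 := by
    have := xs_notMem_left h y hcard 1 (n := 2) (by norm_num)
    have e : (1 : ℤ) + ((2 : ℕ) : ℤ) = 3 := by norm_num
    rw [e] at this; exact this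
  have hx2 : xs h y 2 ∉ X h y 1 1 := by
    have := xs_notMem_left h y hcard 1 (n := 1) (by norm_num)
    have e : (1 : ℤ) + ((1 : ℕ) : ℤ) = 2 := by norm_num
    rw [e] at this; exact this
  have hx0 : xs h y 0 ∉ X h y 1 3 := by
    have := xs_notMem_right h y hcard 0 (n := 3) (by norm_num)
    simpa using this
  have hx4 : xs h y 4 ∉ X h y 1 3 := by
    have := xs_notMem_left h y hcard 1 (n := 3) (by norm_num)
    have e : (1 : ℤ) + ((3 : ℕ) : ℤ) = 4 := by norm_num
    rw [e] at this; exact this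
  have hc12 : ∀ j : ℤ, 0 ≤ j → j ≤ 3 → ∀ u ∈ X h y 1 2, Commute (xs h y j) u := by
    intro j hj0 hj3
    apply comm_X h y 3 hcomm0 j 1 2
    intro i h1 h2
    rw [abs_lt]; push_cast at h2 ⊢; constructor <;> omega
  by_cases hw2 : w = xs h y 2
  · -- case B: e = x4, a = x1, b = x3
    have hshift : xs h y 1 * xs h y 4 * xs h y 1 * xs h y 4 = xs h y 3 := by
      have s0 := xs_shift h y 1 0
      have s3 := xs_shift h y 1 3
      have s2 := xs_shift h y 1 2
      norm_num at s0 s3 s2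
      have key : (h * xs h y 0 * h⁻¹) * (h * xs h y 3 * h⁻¹) * (h * xs h y 0 * h⁻¹) *
          (h * xs h y 3 * h⁻¹) = h * xs h y 2 * h⁻¹ := by
        rw [← hw2, hw]; group
      rw [s0, s3, s2] at key
      exact key
    have hab : Commute (xs h y 1) (xs h y 3) := cm 1 3 (by norm_num)
    obtain ⟨hK1, hK2, hK3⟩ := klein (xs h y 1) (xs h y 3) (ne1 1) (sq 1) (sq 3) hab (ne1 3)
      (fun heq => hx3 (heq ▸ hx12 1 le_rfl (by norm_num)))
    refine ⟨xs h y 4, zpowers (xs h y 1) ⊔ zpowers (xs h y 3),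
      xs_mem h y (by norm_num) (by norm_num), sq 4, hx4, ?_, hK1, ?_, ?_⟩
    · exact sup_le (zpowers_le.mpr (hx13 1 le_rfl (by norm_num)))
        (zpowers_le.mpr (hx13 3 (by norm_num) (by norm_num)))
    · rw [hK2]
      rintro (h1 | h1 | h1 | h1)
      · exact ne1 2 h1
      · apply hx2; rw [h1]; exact xs_mem h y le_rfl (by norm_num)
      · apply hx3; rw [← h1]; exact hx12 2 (by norm_num) (by norm_num)
      · apply hx3
        have : xs h y 3 = (xs h y 1)⁻¹ * xs h y 2 := by rw [h1]; group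
        rw [this]
        exact mul_mem (inv_mem (hx12 1 le_rfl (by norm_num))) (hx12 2 (by norm_num) (by norm_num))
    · apply hK3
      · -- x4 x1 x4⁻¹ = x1 x3
        have : xs h y 4 * xs h y 1 * (xs h y 4)⁻¹ = xs h y 1 * xs h y 3 := by
          rw [inv, ← hshift]
          have s1 := sq 1
          calc xs h y 4 * xs h y 1 * xs h y 4
              = (xs h y 1 * xs h y 1) * (xs h y 4 * xs h y 1 * xs h y 4) := by rw [s1, one_mul]
            _ = _ := by group
        rw [this, hK2]; right; right; right; rfl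
      · have hc : Commute (xs h y 4) (xs h y 3) := cm 4 3 (by norm_num)
        have : xs h y 4 * xs h y 3 * (xs h y 4)⁻¹ = xs h y 3 := by
          rw [hc.eq, mul_inv_cancel_right]
        rw [this, hK2]; right; right; left; rfl
  · -- case A: e = x0, a = w, b = x3
    have hab : Commute w (xs h y 3) := (hc12 3 (by norm_num) le_rfl w hwmem).symm
    obtain ⟨hK1, hK2, hK3⟩ := klein w (xs h y 3) hw1 hwsq (sq 3) hab (ne1 3)
      (fun heq => hx3 (heq ▸ hwmem))
    refine ⟨xs h y 0, zpowers w ⊔ zpowers (xs h y 3),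
      xs_mem h y le_rfl (by norm_num), sq 0, hx0, ?_, hK1, ?_, ?_⟩
    · exact sup_le (zpowers_le.mpr (h1213 hwmem))
        (zpowers_le.mpr (hx13 3 (by norm_num) (by norm_num)))
    · rw [hK2]
      rintro (h1 | h1 | h1 | h1)
      · exact ne1 2 h1
      · exact hw2 h1.symm
      · apply hx3; rw [← h1]; exact hx12 2 (by norm_num) (by norm_num)
      · apply hx3
        have : xs h y 3 = w⁻¹ * xs h y 2 := by rw [h1]; group
        rw [this]
        exact mul_mem (inv_mem hwmem) (hx12 2 (by norm_num) (by norm_num))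
    · apply hK3
      · have hc : Commute (xs h y 0) w := hc12 0 le_rfl (by norm_num) w hwmem
        have : xs h y 0 * w * (xs h y 0)⁻¹ = w := by
          rw [hc.eq, mul_inv_cancel_right]
        rw [this, hK2]; right; left; rfl
      · have : xs h y 0 * xs h y 3 * (xs h y 0)⁻¹ = w * xs h y 3 := by
          rw [inv, hw, mul_assoc _ (xs h y 3) (xs h y 3), sq 3, mul_one]
        rw [this, hK2]; right; right; right; rfl

end Cfsg.Agent.Lib.Helper46.TutteG
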