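import Cfsg.Agent.Lib.Helper46.TutteG1

set_option autoImplicit false

namespace Cfsg.Agent.Lib.Helper46.TutteG

open Subgroup Cfsg.Agent.Lib.Helper46.Tutte

variable {G : Type*} [Group G]

/-- The Tutte data for a maximal subgroup `D` of `A` with the two-coset property. -/
theorem sims_dataG [Finite G] (A D : Subgroup G) (g x : G) (hDA : D ≤ A)
    (h2c : ∀ u v, u ∈ D → v ∈ D → x⁻¹ * u * x ∉ D → x⁻¹ * v * x ∉ D → x⁻¹ * (u⁻¹ * v) * x ∈ D)
    (hmax : ∀ K : Subgroup G, D ≤ K → ∀ a, a ∈ K → a ∈ A → a ∉ D → A ≤ K)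
    (hg : ∀ d, d ∈ D ↔ g * d * g⁻¹ ∈ D)
    (hxA : x ∈ A) (hx : ∃ d ∈ D, x⁻¹ * d * x ∉ D)
    (hgen : A ⊔ A.map (MulAut.conj g).toMonoidHom = ⊤)
    (hcore : ∀ N : Subgroup G, N.Normal → N ≤ A → N = ⊥) :
    ∃ (t : ℕ) (y : G), 1 ≤ t ∧ t ≤ 5 ∧ Nat.card D = 2 ^ (t - 1) ∧ (2 ≤ t →
      (∀ n, n < t → Nat.card (X (g * x) y 0 n) = 2 ^ n) ∧ X (g * x) y 0 t = A ∧
      (∃ k : ℕ, 1 ≤ k ∧ k < t ∧ ¬ Commute (xs (g * x) y 0) (xs (g * x) y k)) ∧
      X (g * x) y 0 (t + 1) = ⊤) := by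
  obtain ⟨d, hd, hd'⟩ := hx
  have hx : ∃ d ∈ D, x⁻¹ * d * x ∉ D := ⟨d, hd, hd'⟩
  obtain ⟨t, ht1, hcD, hdata⟩ := exists_data A D g x hDA h2c hmax hg hxA hx hgen hcore
  by_cases ht2 : 2 ≤ t
  · obtain ⟨y, hcardX, hXA⟩ := hdata ht2
    obtain ⟨y', hy'⟩ : ∃ y', y' = xs (g * x) y (1 - (t : ℤ)) := ⟨_, rfl⟩
    have hX' : ∀ (a : ℤ) (n : ℕ), X (g * x) y' a n = X (g * x) y (a + (1 - (t : ℤ))) n := by
      intro a n; rw [hy', X_xs]
    have hcard' : ∀ n, n < t → Nat.card (X (g * x) y' 0 n) = 2 ^ n := by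
      intro n hn
      rw [hX', card_X_eq (g * x) y _ 0 n]; exact hcardX n hn
    have hXA' : X (g * x) y' 0 t = A := by rw [hX', zero_add]; exact hXA
    have hnc : ∃ k : ℕ, 1 ≤ k ∧ k < t ∧ ¬ Commute (xs (g * x) y' 0) (xs (g * x) y' k) := by
      by_contra hcon
      push Not at hcon
      have hcomm0 : ∀ k : ℕ, k < t → Commute (xs (g * x) y' 0) (xs (g * x) y' k) := by
        intro k hk
        by_cases hk0 : k = 0
        · subst hk0; exact Commute.refl _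
        · exact hcon k (by omega) hk
      have hc := X_comm (g * x) y' t hcomm0 0 t le_rfl
      rw [hXA'] at hc
      have hcomm : x * d = d * x := hc x hxA d (hDA hd)
      apply hd'
      have : x⁻¹ * d * x = d := by
        calc x⁻¹ * d * x = x⁻¹ * (d * x) := by group
          _ = x⁻¹ * (x * d) := by rw [hcomm]
          _ = d := by group
      rw [this]; exact hd
    have htop : X (g * x) y' 0 (t + 1) = ⊤ := by
      rw [eq_top_iff, ← hgen]
      apply sup_le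
      · rw [← hXA']; exact X_mono (g * x) y' le_rfl (by push_cast; omega)
      · rintro _ ⟨a, ha, rfl⟩
        have e : (MulAut.conj g).toMonoidHom a =
            (g * x) ^ (1 : ℤ) * (x⁻¹ * a * x) * ((g * x) ^ (1 : ℤ))⁻¹ := by
          simp only [MulEquiv.coe_toMonoidHom, MulAut.conj_apply, zpow_one]; group
        rw [e]
        have hm : x⁻¹ * a * x ∈ X (g * x) y' 0 t := by
          rw [hXA']; exact mul_mem (mul_mem (inv_mem hxA) ha) hxA
        exact X_mono (g * x) y' (by omega) (by push_cast; omega) (mem_X_shift (g * x) y' hm)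
    have hcore' : ∀ N : Subgroup G, N.Normal → N ≤ X (g * x) y' 0 t → N = ⊥ := by
      intro N hN hle; rw [hXA'] at hle; exact hcore N hN hle
    have ht5 : t ≤ 5 := by
      by_contra hcon
      exact tutte_false (g * x) y' (by omega) hcard' hnc htop hcore'
    exact ⟨t, y', ht1, ht5, hcD, fun _ => ⟨hcard', hXA', hnc, htop⟩⟩
  · exact ⟨t, 1, ht1, by omega, hcD, fun h => absurd h ht2⟩

end Cfsg.Agent.Lib.Helper46.TutteG
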