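import Cfsg.Prelude.Def_PLocal
import Cfsg.Agent.Lib.Helper46.SimsC
import Cfsg.Agent.Lib.Helper46.SimsE
import Cfsg.Agent.Lib.Helper46.TutteG2
import Cfsg.Agent.Lib.Helper46.PReduced2
import Cfsg.Agent.Lib.Helper46.CharP

set_option autoImplicit false
set_option linter.style.haveILetI false

/-!
# Sims' theorem in local form
-/

namespace Cfsg.Agent.Lib.Helper46.SimsF

open Subgroup Cfsg.Agent.Lib.Helper46.Tutte Cfsg.Agent.Lib.Helper46.TutteG
  Cfsg.Agent.Lib.Helper46.SimsA

variable {H : Type*} [Group H]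

theorem coatom_core [IsSimpleGroup H] (G : Subgroup H) (hG : IsCoatom G) :
    ∀ N : Subgroup H, N.Normal → N ≤ G → N = ⊥ := by
  intro N hN hNG
  rcases hN.eq_bot_or_eq_top with h | h
  · exact h
  · exfalso; apply hG.1; rw [eq_top_iff, ← h]; exact hNG

theorem coatom_self_normalizing [Finite H] [IsSimpleGroup H] (hna : ¬ IsMulCommutative H)
    (G : Subgroup H) (hG : IsCoatom G) :
    ∀ n : H, (∀ a ∈ G, n * a * n⁻¹ ∈ G) → n ∈ G := by
  intro n hn
  by_contra hnG
  have hnN : n ∈ normalizer (G : Set H) := mem_normalizer_of_conj_le G n hn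
  have hlt : G < normalizer (G : Set H) :=
    lt_of_le_of_ne le_normalizer (fun heq => hnG (heq ▸ hnN))
  have htop := hG.2 _ hlt
  have hGn : G.Normal := normalizer_eq_top_iff.mp htop
  have hGbot : G = ⊥ := coatom_core G hG G hGn le_rfl
  apply hna
  refine ⟨⟨fun a b => ?_⟩⟩
  by_cases ha : a = 1
  · subst ha; simp
  · have hlt : G < zpowers a := by
      rw [hGbot, bot_lt_iff_ne_bot]
      intro h0; apply ha; rwa [zpowers_eq_bot] at h0
    have hat := hG.2 _ hlt
    have hb : b ∈ zpowers a := by rw [hat]; exact mem_top b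
    obtain ⟨k, rfl⟩ := mem_zpowers_iff.mp hb
    exact (Commute.zpow_right (Commute.refl a) k).eq

end Cfsg.Agent.Lib.Helper46.SimsF
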