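import Cfsg.Agent.Lib.Helper46.SimsF

set_option autoImplicit false
set_option linter.style.haveILetI false

/-!
# Sims' theorem in local form: the main argument
-/

namespace Cfsg.Agent.Lib.Helper46.SimsF

open Subgroup Cfsg.Agent.Lib.Helper46.Tutte Cfsg.Agent.Lib.Helper46.TutteG
  Cfsg.Agent.Lib.Helper46.SimsA

theorem sims_local_aux {H : Type*} [Group H] [Finite H] [IsSimpleGroup H]
    (hna : ¬ IsMulCommutative H) (G : Subgroup H) (hG : IsCoatom G)
    (P : Subgroup ↥G) [hPn : P.Normal] (hP2 : IsPGroup 2 P)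
    (hPmax : ∀ N : Subgroup ↥G, N.Normal → IsPGroup 2 N → N ≤ P)
    (S : Sylow 2 ↥G) (hPS : P ≤ (S : Subgroup ↥G))
    (hchar : centralizer (P : Set ↥G) ≤ P)
    (hN : ¬ normalizer (((S : Subgroup ↥G).map G.subtype : Subgroup H) : Set H) ≤ G)
    (q : ℕ) (hq : q.Prime) (hcard : Nat.card ↥G = 2 * q * Nat.card P) :
    Nonempty (↥G ≃* Equiv.Perm (Fin 4)) ∨
      Nonempty (↥G ≃* Equiv.Perm (Fin 4) × Multiplicative (ZMod 2)) := by
  classical
  haveI : Fact (Nat.Prime 2) := ⟨Nat.prime_two⟩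
  obtain ⟨a, ha⟩ := (IsPGroup.iff_card).mp hP2
  have hcG : Nat.card ↥G = 2 * q * 2 ^ a := by rw [hcard, ha]
  obtain ⟨D, hDdef⟩ : ∃ D : Subgroup H, D = (S : Subgroup ↥G).map G.subtype := ⟨_, rfl⟩
  rw [← hDdef] at hN
  have hDG : D ≤ G := by rw [hDdef]; exact map_subtype_le _
  have hDc : Nat.card D = Nat.card (S : Subgroup ↥G) := by
    rw [hDdef]; exact card_map_of_injective G.subtype_injective
  obtain ⟨n, hnN, hnG⟩ := SetLike.not_le_iff_exists.mp hN
  have hcore := coatom_core G hG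
  have hself := coatom_self_normalizing hna G hG
  have hSc := S.card_eq_multiplicity
  have hq2 : q ≠ 2 := by
    rintro rfl
    have h1 : Nat.card ↥G = 2 ^ (a + 2) := by rw [hcG]; ring
    rw [h1, Nat.Prime.factorization_pow Nat.prime_two, Finsupp.single_eq_same] at hSc
    have hStop : (S : Subgroup ↥G) = ⊤ := (card_eq_iff_eq_top _).mp (by rw [hSc, h1])
    have hDG' : D = G := by
      rw [hDdef, hStop, ← MonoidHom.range_eq_map, G.range_subtype]
    apply hnG
    apply hself n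
    intro u hu
    rw [← hDG'] at hu ⊢
    exact (mem_normalizer_iff.mp hnN u).mp hu
  have hqodd : ¬ 2 ∣ q := fun h => hq2 ((Nat.prime_dvd_prime_iff_eq Nat.prime_two hq).mp h).symm
  have hSc' : Nat.card (S : Subgroup ↥G) = 2 ^ (a + 1) := by
    have h1 : Nat.card ↥G = 2 ^ (a + 1) * q := by rw [hcG]; ring
    rw [h1, Nat.factorization_mul (by positivity) hq.ne_zero, Finsupp.add_apply,
      Nat.Prime.factorization_pow Nat.prime_two, Finsupp.single_eq_same,
      Nat.factorization_eq_zero_of_not_dvd hqodd, add_zero] at hSc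
    exact hSc
  have hDc' : Nat.card D = 2 ^ (a + 1) := by rw [hDc, hSc']
  obtain ⟨PH, hPH⟩ : ∃ PH : Subgroup H, PH = P.map G.subtype := ⟨_, rfl⟩
  have hPHD : PH ≤ D := by rw [hPH, hDdef]; exact map_mono hPS
  have hPHc : Nat.card PH = 2 ^ a := by
    rw [hPH, card_map_of_injective G.subtype_injective, ha]
  have hPHn : ∀ x ∈ G, ∀ p ∈ PH, x⁻¹ * p * x ∈ PH := by
    intro x hx p hp
    rw [hPH] at hp ⊢
    obtain ⟨p', hp', rfl⟩ := hp
    refine ⟨(⟨x, hx⟩ : ↥G)⁻¹ * p' * ⟨x, hx⟩, ?_, ?_⟩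
    · have := hPn.conj_mem p' hp' (⟨x, hx⟩ : ↥G)⁻¹
      simpa using this
    · simp
  have hDG_card : Nat.card ↥G = Nat.card D * q := by rw [hcG, hDc']; ring
  have h2pow : 2 ≤ 2 ^ (a + 1) := by
    calc 2 = 2 ^ 1 := rfl
      _ ≤ 2 ^ (a + 1) := Nat.pow_le_pow_right (by norm_num) (by omega)
  have hex : ∃ x ∈ G, ∃ d ∈ D, x⁻¹ * d * x ∉ D := by
    by_contra hcon
    push Not at hcon
    have hGN : G ≤ normalizer (D : Set H) := by
      intro x hx
      apply mem_normalizer_of_conj_le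
      intro u hu
      have := hcon x⁻¹ (G.inv_mem hx) u hu
      simpa using this
    have hlt : G < normalizer (D : Set H) :=
      lt_of_le_of_ne hGN (fun heq => hnG (heq ▸ hnN))
    have hDn : D.Normal := normalizer_eq_top_iff.mp (hG.2 _ hlt)
    have := hcore D hDn hDG
    rw [this, Subgroup.card_bot] at hDc'
    omega
  obtain ⟨x, hxG, hxd⟩ := hex
  have h2c : ∀ u v, u ∈ D → v ∈ D → x⁻¹ * u * x ∉ D → x⁻¹ * v * x ∉ D →
      x⁻¹ * (u⁻¹ * v) * x ∈ D := by
    intro u v hu hv hu' hv'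
    have huP : u ∉ PH := fun h => hu' (hPHD (hPHn x hxG u h))
    have hvP : v ∉ PH := fun h => hv' (hPHD (hPHn x hxG v h))
    have := (mul_inv_mem_of_card hPHD (by rw [hPHc]; positivity)
      (by rw [hDc', hPHc]; ring) hu huP hv hvP).2
    exact hPHD (hPHn x hxG _ this)
  have hmax : ∀ K : Subgroup H, D ≤ K → ∀ b, b ∈ K → b ∈ G → b ∉ D → G ≤ K := by
    intro K hDK b hbK hbG hbD
    obtain ⟨K', hK'⟩ : ∃ K' : Subgroup H, K' = K ⊓ G := ⟨_, rfl⟩
    have h1 : D ≤ K' := by rw [hK']; exact le_inf hDK hDG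
    have h2 : K' ≤ G := by rw [hK']; exact inf_le_right
    obtain ⟨m, hm⟩ := card_dvd_of_le h1
    have hdvd := card_dvd_of_le h2
    rw [hDG_card, hm] at hdvd
    have hDpos : 0 < Nat.card D := Nat.card_pos
    have hmq : m ∣ q := Nat.dvd_of_mul_dvd_mul_left hDpos hdvd
    rcases (Nat.dvd_prime hq).mp hmq with rfl | rfl
    · exfalso; apply hbD
      have : D = K' := eq_of_le_of_card_ge h1 (by rw [hm, mul_one])
      rw [this, hK']; exact ⟨hbK, hbG⟩
    · have : K' = G := eq_of_le_of_card_ge h2 (by rw [hm, hDG_card])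
      rw [← this, hK']; exact inf_le_left
  have hg : ∀ d, d ∈ D ↔ n * d * n⁻¹ ∈ D := mem_normalizer_iff.mp hnN
  have hgen : G ⊔ G.map (MulAut.conj n).toMonoidHom = ⊤ := by
    by_contra hne
    have hle : G ≤ G ⊔ G.map (MulAut.conj n).toMonoidHom := le_sup_left
    have heq : G ⊔ G.map (MulAut.conj n).toMonoidHom = G := by
      rcases eq_or_lt_of_le hle with h | h
      · exact h.symm
      · exact absurd (hG.2 _ h) hne
    apply hnG
    apply hself n
    intro u hu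
    have h1 : (MulAut.conj n).toMonoidHom u ∈ G.map (MulAut.conj n).toMonoidHom :=
      mem_map_of_mem _ hu
    have h2 := (le_sup_right : _ ≤ G ⊔ G.map (MulAut.conj n).toMonoidHom) h1
    rw [heq] at h2
    simpa using h2
  obtain ⟨t, y, ht1, ht5, hcD, hdata⟩ :=
    sims_dataG G D n x hDG h2c hmax hg hxG hxd hgen hcore
  have hta : t - 1 = a + 1 := Nat.pow_right_injective le_rfl (by
    show 2 ^ (t - 1) = 2 ^ (a + 1)
    rw [← hcD, hDc'])
  have ht2 : 2 ≤ t := by omega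
  obtain ⟨hcardX, hXA, hnc, htop⟩ := hdata ht2
  have hq3 : 3 ≤ q := by
    have := hq.two_le
    omega
  have hqdvd : q ∣ Nat.card ↥G := by rw [hcG]; exact Dvd.intro_left (2 ^ a * 2) (by ring)
  rcases (by omega : a ≤ 1 ∨ a = 2 ∨ a = 3) with h | rfl | rfl
  · exfalso
    have h1 : 2 ^ a ≤ 2 := by
      calc 2 ^ a ≤ 2 ^ 1 := Nat.pow_le_pow_right (by norm_num) h
        _ = 2 := rfl
    have := cent_small P hchar (by rw [ha]; exact h1)
    rw [hcG] at this
    have h2 : 1 ≤ 2 ^ a := Nat.one_le_two_pow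
    nlinarith
  · left
    have hq3' : q = 3 := q3 P hchar (Or.inl (by rw [ha]; norm_num)) q hq hq2 hqdvd
    subst hq3'
    exact i24 (by rw [hcG]; norm_num) P (by rw [ha]; norm_num) hchar
  · right
    have ht : t = 5 := by omega
    subst ht
    obtain ⟨hcomm0, hnc0⟩ := t5_lam (n * x) y hcardX hnc htop (by rw [hXA]; exact hcore)
    obtain ⟨hzc, hQn, e, Q1, heG, he2, heQ, hQ1le, hQ1c, hzQ1, heQ1⟩ :=
      t5_struct (n * x) y hcardX hcomm0 hnc0
    rw [hXA] at hzc hQn heG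
    have ht1' : 1 < 5 := by norm_num
    obtain ⟨XQ, hXQ⟩ : ∃ XQ : Subgroup H, XQ = X (n * x) y 1 3 := ⟨_, rfl⟩
    rw [← hXQ] at hQn heQ hQ1le
    have hXQcard : Nat.card XQ = 8 := by
      rw [hXQ, card_X (n * x) y hcardX 1 (n := 3) (by norm_num)]; norm_num
    have hXQG : XQ ≤ G := by
      rw [hXQ, ← hXA]; exact X_mono (n * x) y (by norm_num) (by norm_num)
    have hz2mem : xs (n * x) y 2 ∈ XQ := by
      rw [hXQ]; exact xs_mem (n * x) y (by norm_num) (by norm_num)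
    have hzG : xs (n * x) y 2 ∈ G := hXQG hz2mem
    have hXQn : (XQ.subgroupOf G).Normal := by
      constructor
      intro u hu g
      rw [mem_subgroupOf] at hu ⊢
      simpa using hQn g g.2 u hu
    have hXQc : Nat.card (XQ.subgroupOf G) = 8 := by
      rw [Nat.card_congr (subgroupOfEquivOfLe hXQG).toEquiv]; exact hXQcard
    have hXQ2 : IsPGroup 2 (XQ.subgroupOf G) :=
      IsPGroup.of_card (n := 3) (by rw [hXQc]; norm_num)
    have hle := hPmax _ hXQn hXQ2
    have hPeq : XQ.subgroupOf G = P := eq_of_le_of_card_ge hle (by rw [ha, hXQc]; norm_num)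
    have hzP : (⟨xs (n * x) y 2, hzG⟩ : ↥G) ∈ P := by
      rw [← hPeq, mem_subgroupOf]; exact hz2mem
    have hz1 : (⟨xs (n * x) y 2, hzG⟩ : ↥G) ≠ 1 := fun h =>
      xs_ne_one (n * x) y hcardX ht1' 2 (congrArg Subtype.val h)
    have hzcen : ∀ g : ↥G, g * ⟨xs (n * x) y 2, hzG⟩ = ⟨xs (n * x) y 2, hzG⟩ * g :=
      fun g => Subtype.ext (hzc g g.2)
    have hq3' : q = 3 := q3 P hchar
      (Or.inr ⟨by rw [ha]; norm_num, ⟨xs (n * x) y 2, hzG⟩, hzP, hz1, hzcen⟩) q hq hq2 hqdvd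
    subst hq3'
    exact i48 (by rw [hcG]; norm_num) P (by rw [ha]; norm_num) hchar
      ⟨xs (n * x) y 2, hzG⟩ hzP hz1 (Subtype.ext (xs_sq (n * x) y hcardX ht1' 2)) hzcen
      ⟨e, heG⟩ (Subtype.ext he2) (by rw [← hPeq, mem_subgroupOf]; exact heQ)
      (Q1.subgroupOf G)
      (by
        rw [← hPeq]; intro u hu
        rw [mem_subgroupOf] at hu ⊢; exact hQ1le hu)
      (by rw [Nat.card_congr (subgroupOfEquivOfLe (hQ1le.trans hXQG)).toEquiv]; exact hQ1c)
      (by rw [mem_subgroupOf]; exact hzQ1)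
      (fun u hu => by
        rw [mem_subgroupOf] at hu ⊢
        simpa using heQ1 u hu)

end Cfsg.Agent.Lib.Helper46.SimsF
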