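import Cfsg.Agent.Lib.Helper46.SimsA
import Cfsg.Agent.Lib.Helper46.Tutte5
import Cfsg.Agent.Lib.Helper61.DihedralLift

set_option autoImplicit false
set_option linter.style.haveILetI false

/-!
# More abstract lemmas for the Sims--Wong theorem
-/

namespace Cfsg.Agent.Lib.Helper46.SimsA

open Subgroup

variable {Γ : Type*} [Group Γ]

/-- a normal abelian subgroup `Q` of index `6` which is not centralized by an involution `s`,
an element `t` and their product is self-centralizing -/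
theorem centq [Finite Γ] (Q : Subgroup Γ) [hQn : Q.Normal]
    (hab : ∀ u ∈ Q, ∀ v ∈ Q, u * v = v * u)
    (hc : Nat.card Γ = 6 * Nat.card Q) (s t : Γ) (hs2 : s * s = 1)
    (hs : s ∉ centralizer (Q : Set Γ)) (ht : t ∉ centralizer (Q : Set Γ))
    (hst : s * t ∉ centralizer (Q : Set Γ)) : centralizer (Q : Set Γ) ≤ Q := by
  obtain ⟨C, hC⟩ : ∃ C, C = centralizer (Q : Set Γ) := ⟨_, rfl⟩
  haveI hCn : C.Normal := by rw [hC]; infer_instance
  rw [← hC] at hs ht hst ⊢
  have hQC : Q ≤ C := by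
    intro u hu
    rw [hC, mem_centralizer_iff]
    intro v hv
    exact hab v hv u hu
  obtain ⟨k, hk⟩ := card_dvd_of_le hQC
  have h1 := Subgroup.card_mul_index C
  rw [hc, hk] at h1
  have hQpos : 0 < Nat.card Q := Nat.card_pos
  have h2 : k * C.index = 6 := by
    have : Nat.card Q * (k * C.index) = Nat.card Q * 6 := by rw [← mul_assoc, h1]; ring
    exact Nat.eq_of_mul_eq_mul_left hQpos this
  obtain ⟨i, hi⟩ : ∃ i, i = C.index := ⟨_, rfl⟩
  rw [← hi] at h2
  have hi6 : i ∣ 6 := ⟨k, by rw [← h2]; ring⟩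
  have hile : i ≤ 6 := Nat.le_of_dvd (by norm_num) hi6
  interval_cases i
  · omega
  · exfalso; apply hs
    have : C = ⊤ := Subgroup.index_eq_one.mp hi.symm
    rw [this]; exact mem_top s
  · exfalso; apply hst
    rw [mul_mem_iff_of_index_two hi.symm]
    exact ⟨fun h => absurd h hs, fun h => absurd h ht⟩
  · exfalso; apply hs
    have hq3 : Nat.card (Γ ⧸ C) = 3 := by rw [← Subgroup.index_eq_card, ← hi]
    have e3 : (QuotientGroup.mk s : Γ ⧸ C) ^ 3 = 1 := by rw [← hq3]; exact pow_card_eq_one'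
    have e2 : (QuotientGroup.mk s : Γ ⧸ C) ^ 2 = 1 := by
      rw [pow_two, ← QuotientGroup.mk_mul, hs2]; rfl
    have e1 : (QuotientGroup.mk s : Γ ⧸ C) = 1 := by
      have : (QuotientGroup.mk s : Γ ⧸ C) ^ 3 = (QuotientGroup.mk s : Γ ⧸ C) ^ 2 * QuotientGroup.mk s :=
        pow_succ _ 2
      rw [this, e2, one_mul] at e3
      exact e3
    exact (QuotientGroup.eq_one_iff s).mp e1
  · omega
  · omega
  · have hk1 : k = 1 := by omega
    rw [hk1, mul_one] at hk
    have : Q = C := eq_of_le_of_card_ge hQC (by rw [hk])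
    rw [← this]

/-- two non-commuting involutions generate a dihedral group -/
theorem dih_two_invol {G : Type*} [Group G] (a b : G) (ha : a * a = 1) (hb : b * b = 1)
    (hnc : a * b ≠ b * a) :
    Nonempty (↥(closure ({a, b} : Set G)) ≃* DihedralGroup (orderOf (a * b))) := by
  obtain ⟨K, hK⟩ : ∃ K, K = closure ({a, b} : Set G) := ⟨_, rfl⟩
  have haK : a ∈ K := hK ▸ subset_closure (Set.mem_insert _ _)
  have hbK : b ∈ K := hK ▸ subset_closure (Set.mem_insert_of_mem _ rfl)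
  have hKle : ∀ L : Subgroup G, a ∈ L → b ∈ L → K ≤ L := by
    intro L h1 h2
    rw [hK, closure_le]
    rintro u (rfl | rfl)
    · exact h1
    · exact h2
  rw [← hK]
  obtain ⟨s, hsdef⟩ : ∃ s : K, s = ⟨a, haK⟩ := ⟨_, rfl⟩
  obtain ⟨x, hxdef⟩ : ∃ x : K, x = ⟨a * b, K.mul_mem haK hbK⟩ := ⟨_, rfl⟩
  have hsv : (s : G) = a := by rw [hsdef]
  have hxv : (x : G) = a * b := by rw [hxdef]
  have hs : s * s = 1 := Subtype.ext (by rw [Subgroup.coe_mul, hsv, ha]; rfl)
  have hsx : s * x * s = x⁻¹ := by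
    apply Subtype.ext
    rw [Subgroup.coe_mul, Subgroup.coe_mul, Subgroup.coe_inv, hsv, hxv, mul_inv_rev,
      inv_eq_of_mul_eq_one_right ha, inv_eq_of_mul_eq_one_right hb, ← mul_assoc, ha, one_mul]
  have hns : s ∉ zpowers x := by
    intro hmem
    have hcomm : s * x = x * s := by
      obtain ⟨k, hk⟩ := mem_zpowers_iff.mp hmem
      rw [← hk]; exact ((Commute.refl x).zpow_left k).eq
    have h1 : a * (a * b) = (a * b) * a := by
      have := congrArg Subtype.val hcomm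
      rwa [Subgroup.coe_mul, Subgroup.coe_mul, hsv, hxv] at this
    apply hnc
    rw [← mul_assoc, ha, one_mul] at h1
    calc a * b = a * (a * b * a) := by rw [← h1]
      _ = b * a := by rw [← mul_assoc, ← mul_assoc, ha, one_mul]
  have hgen : closure ({s, x} : Set K) = ⊤ := by
    rw [eq_top_iff]
    intro u _
    have h1 := hKle ((closure ({s, x} : Set K)).map K.subtype)
      ⟨s, subset_closure (Set.mem_insert _ _), hsv⟩
      ⟨s⁻¹ * x, mul_mem (inv_mem (subset_closure (Set.mem_insert _ _)))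
        (subset_closure (Set.mem_insert_of_mem _ rfl)), by
          show ((s⁻¹ * x : K) : G) = b
          rw [Subgroup.coe_mul, Subgroup.coe_inv, hsv, hxv, inv_mul_cancel_left]⟩ u.2
    obtain ⟨v, hv, hvu⟩ := h1
    have : v = u := Subtype.ext hvu
    rw [← this]; exact hv
  have e := Cfsg.Agent.Lib.Helper61.dihedralEquiv s x hs hsx hns hgen
  have ho : orderOf x = orderOf (a * b) := by rw [← hxv]; exact (Subgroup.orderOf_coe x).symm
  rw [ho] at e
  exact ⟨e.symm⟩

/-- a subgroup of prime index is maximal -/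
theorem hmax_of_card {G : Type*} [Group G] [Finite G] (A D : Subgroup G) (hDA : D ≤ A) (q : ℕ)
    (hq : q.Prime) (hc : Nat.card A = Nat.card D * q) :
    ∀ K : Subgroup G, D ≤ K → ∀ b, b ∈ K → b ∈ A → b ∉ D → A ≤ K := by
  intro K hDK b hbK hbG hbD
  obtain ⟨K', hK'⟩ : ∃ K' : Subgroup G, K' = K ⊓ A := ⟨_, rfl⟩
  have h1 : D ≤ K' := by rw [hK']; exact le_inf hDK hDA
  have h2 : K' ≤ A := by rw [hK']; exact inf_le_right
  obtain ⟨m, hm⟩ := card_dvd_of_le h1
  have hdvd := card_dvd_of_le h2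
  rw [hc, hm] at hdvd
  have hDpos : 0 < Nat.card D := Nat.card_pos
  have hmq : m ∣ q := Nat.dvd_of_mul_dvd_mul_left hDpos hdvd
  rcases (Nat.dvd_prime hq).mp hmq with rfl | rfl
  · exfalso; apply hbD
    have : D = K' := eq_of_le_of_card_ge h1 (by rw [hm, mul_one])
    rw [this, hK']; exact ⟨hbK, hbG⟩
  · have : K' = A := eq_of_le_of_card_ge h2 (by rw [hm, hc])
    rw [← this, hK']; exact inf_le_left

end Cfsg.Agent.Lib.Helper46.SimsA

namespace Cfsg.Agent.Lib.Helper46.TutteG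

open Subgroup Cfsg.Agent.Lib.Helper46.Tutte

variable {G : Type*} [Group G] (h y : G) {t : ℕ}

theorem exists_lam (hnc : ∃ k : ℕ, 1 ≤ k ∧ k < t ∧ ¬ Commute (xs h y 0) (xs h y k)) :
    ∃ lam : ℕ, 1 ≤ lam ∧ lam < t ∧ (∀ k : ℕ, k < lam → Commute (xs h y 0) (xs h y k)) ∧
      ¬ Commute (xs h y 0) (xs h y lam) := by
  classical
  have hex : ∃ k : ℕ, 1 ≤ k ∧ ¬ Commute (xs h y 0) (xs h y k) := by
    obtain ⟨k, h1, _, h3⟩ := hnc; exact ⟨k, h1, h3⟩
  obtain ⟨lam, hlam⟩ : ∃ lam, lam = Nat.find hex := ⟨_, rfl⟩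
  have hl1 : 1 ≤ lam := by rw [hlam]; exact (Nat.find_spec hex).1
  have hnc0 : ¬ Commute (xs h y 0) (xs h y lam) := by rw [hlam]; exact (Nat.find_spec hex).2
  have hlt : lam < t := by
    obtain ⟨k, h1, h2, h3⟩ := hnc
    rw [hlam]; exact lt_of_le_of_lt (Nat.find_min' hex ⟨h1, h3⟩) h2
  have hcomm0 : ∀ k : ℕ, k < lam → Commute (xs h y 0) (xs h y k) := by
    intro k hk
    by_cases hk0 : k = 0
    · subst hk0; exact Commute.refl _
    · by_contra hc
      rw [hlam] at hk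
      exact Nat.find_min hex hk ⟨by omega, hc⟩
  exact ⟨lam, hl1, hlt, hcomm0, hnc0⟩

end Cfsg.Agent.Lib.Helper46.TutteG
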