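import Cfsg.Agent.Lib.Helper46.SimsH
import Cfsg.Agent.Lib.Helper46.SimsC
import Cfsg.Agent.Lib.Helper46.SimsE
import Cfsg.Agent.Lib.Helper46.TutteG2
import Cfsg.Agent.Lib.Helper66.OCGroup

set_option autoImplicit false
set_option linter.style.haveILetI false

/-!
# The Sims--Wong theorem: structure of the point stabilizer, by cases on the Tutte parameter
-/

namespace Cfsg.Agent.Lib.Helper46.TutteG

open Subgroup Cfsg.Agent.Lib.Helper46.Tutte Cfsg.Agent.Lib.Helper46.SimsA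

variable {G : Type*} [Group G]

theorem dvd_six_cases (m : ℕ) (h6 : m ∣ 6) (h1 : m ≠ 1) (h2 : m ≠ 2) : m = 3 ∨ m = 6 := by
  have hle : m ≤ 6 := Nat.le_of_dvd (by norm_num) h6
  interval_cases m <;> omega

theorem struct_t2 [Finite G] (A : Subgroup G) (h y : G) (hcA : Nat.card A = 6)
    (hXA : X h y 0 2 = A) (hnc : ∃ k : ℕ, 1 ≤ k ∧ k < 2 ∧ ¬ Commute (xs h y 0) (xs h y k)) :
    Nonempty (A ≃* Equiv.Perm (Fin 3)) := by
  obtain ⟨k, hk1, hk2, hk⟩ := hnc
  have : k = 1 := by omega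
  subst this
  apply Cfsg.Agent.Lib.Helper66.OC.equiv_perm_of_card_six hcA
  intro hcomm
  apply hk
  have h0 : xs h y 0 ∈ A := by rw [← hXA]; exact xs_mem h y le_rfl (by norm_num)
  have h1 : xs h y ((1 : ℕ) : ℤ) ∈ A := by
    rw [← hXA]; exact xs_mem h y (by norm_num) (by norm_num)
  exact congrArg Subtype.val (hcomm ⟨_, h0⟩ ⟨_, h1⟩)

theorem struct_t3 [Finite G] (A : Subgroup G) (h y : G) (hcA : Nat.card A = 12)
    (hcard : ∀ n, n < 3 → Nat.card (X h y 0 n) = 2 ^ n)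
    (hXA : X h y 0 3 = A)
    (hnc : ∃ k : ℕ, 1 ≤ k ∧ k < 3 ∧ ¬ Commute (xs h y 0) (xs h y k)) :
    Nonempty (A ≃* DihedralGroup 6) := by
  haveI : Fact (Nat.Prime 2) := ⟨Nat.prime_two⟩
  have ht1 : 1 < 3 := by norm_num
  obtain ⟨lam, hl1, hlt, hcomm0, hnc0⟩ := exists_lam h y hnc
  have hl2 : lam = 2 := by
    by_contra hne
    have hl : lam = 1 := by omega
    subst hl
    obtain ⟨μ, hμ1, hμ2, _⟩ := stepE_mu h y hcard 1 hcomm0 hnc0 ht1 le_rfl (by norm_num)
    omega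
  subst hl2
  have sq := xs_sq h y hcard ht1
  have e2 : ((2 : ℕ) : ℤ) = 2 := by norm_num
  rw [e2] at hnc0
  have hz : ∀ u ∈ X h y 0 3, Commute (xs h y 1) u :=
    comm_X h y 2 hcomm0 1 0 3 (by
      intro i h1 h2; rw [abs_lt]; push_cast at h2 ⊢; constructor <;> omega)
  have hmemA : ∀ i : ℤ, 0 ≤ i → i < 3 → xs h y i ∈ A := by
    intro i h1 h2; rw [← hXA]; exact xs_mem h y h1 (by push_cast; omega)
  have hmemX : ∀ i : ℤ, 0 ≤ i → i < 3 → xs h y i ∈ X h y 0 3 := by
    intro i h1 h2; exact xs_mem h y h1 (by push_cast; omega)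
  obtain ⟨x0, hx0⟩ : ∃ x0, x0 = xs h y 0 := ⟨_, rfl⟩
  obtain ⟨x1, hx1⟩ : ∃ x1, x1 = xs h y 1 := ⟨_, rfl⟩
  obtain ⟨x2, hx2⟩ : ∃ x2, x2 = xs h y 2 := ⟨_, rfl⟩
  have hx0A : x0 ∈ A := by rw [hx0]; exact hmemA 0 le_rfl (by norm_num)
  have hx1A : x1 ∈ A := by rw [hx1]; exact hmemA 1 (by norm_num) (by norm_num)
  have hx2A : x2 ∈ A := by rw [hx2]; exact hmemA 2 (by norm_num) (by norm_num)
  have s0 : x0 * x0 = 1 := by rw [hx0]; exact sq 0
  have s1 : x1 * x1 = 1 := by rw [hx1]; exact sq 1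
  have s2 : x2 * x2 = 1 := by rw [hx2]; exact sq 2
  have hx1ne : x1 ≠ 1 := by rw [hx1]; exact xs_ne_one h y hcard ht1 1
  have hnc02 : x0 * x2 ≠ x2 * x0 := by rw [hx0, hx2]; exact fun hh => hnc0 hh
  have c10 : x1 * x0 = x0 * x1 := by
    rw [hx0, hx1]; exact (hz _ (hmemX 0 le_rfl (by norm_num))).eq
  have c12 : x1 * x2 = x2 * x1 := by
    rw [hx1, hx2]; exact (hz _ (hmemX 2 (by norm_num) (by norm_num))).eq
  obtain ⟨e⟩ := dih_two_invol x0 x2 s0 s2 hnc02
  obtain ⟨m, hm⟩ : ∃ m, m = orderOf (x0 * x2) := ⟨_, rfl⟩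
  rw [← hm] at e
  have hB : closure ({x0, x2} : Set G) ≤ A := by
    rw [closure_le]; rintro u (rfl | rfl)
    · exact hx0A
    · exact hx2A
  have hcB : Nat.card (closure ({x0, x2} : Set G)) = 2 * m := by
    rw [Nat.card_congr e.toEquiv, DihedralGroup.nat_card]
  have hdvd : 2 * m ∣ 12 := by
    rw [← hcB, ← hcA]; exact card_dvd_of_le hB
  have hm1 : m ≠ 1 := by
    intro h1
    rw [h1] at hm
    have : x0 * x2 = 1 := orderOf_eq_one_iff.mp hm.symm
    apply hnc02
    have h2 : x2 = x0 := by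
      have := congrArg (fun w => x0 * w) this
      simp only [mul_one] at this
      rw [← mul_assoc, s0, one_mul] at this
      exact this
    rw [h2]
  have hm2 : m ≠ 2 := by
    intro h2
    apply hnc02
    have : (x0 * x2) * (x0 * x2) = 1 := by
      rw [← pow_two, ← h2, hm]; exact pow_orderOf_eq_one _
    exact (commute_of_sq s0 s2 this).eq
  have hm36 : m = 3 ∨ m = 6 := by
    have h6 : m ∣ 6 := by
      have : 2 * m ∣ 2 * 6 := hdvd
      exact Nat.dvd_of_mul_dvd_mul_left (by norm_num) this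
    exact dvd_six_cases m h6 hm1 hm2
  rcases hm36 with h3 | h6
  · have hb' : (x2 * x1) * (x2 * x1) = 1 := by
      have : (x2 * x1) * (x2 * x1) = x2 * (x1 * x2) * x1 := by group
      rw [this, c12, ← mul_assoc, s2, one_mul, s1]
    have hnc' : x0 * (x2 * x1) ≠ (x2 * x1) * x0 := by
      intro hh; apply hnc02
      have : x0 * x2 * x1 = x2 * x0 * x1 := by
        rw [mul_assoc, hh, mul_assoc, c10, ← mul_assoc]
      exact mul_right_cancel this
    obtain ⟨e'⟩ := dih_two_invol x0 (x2 * x1) s0 hb' hnc'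
    have o1 : orderOf x1 = 2 := orderOf_eq_prime (by rw [pow_two]; exact s1) hx1ne
    have ho : orderOf (x0 * (x2 * x1)) = 6 := by
      have e1 : x0 * (x2 * x1) = (x0 * x2) * x1 := (mul_assoc _ _ _).symm
      rw [e1]
      have hc : Commute (x0 * x2) x1 :=
        Commute.mul_left (show Commute x0 x1 from c10.symm) (show Commute x2 x1 from c12.symm)
      rw [hc.orderOf_mul_eq_mul_orderOf_of_coprime (by rw [← hm, h3, o1]; norm_num), ← hm, h3, o1]
    rw [ho] at e'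
    have hB' : closure ({x0, x2 * x1} : Set G) ≤ A := by
      rw [closure_le]; rintro u (rfl | rfl)
      · exact hx0A
      · exact A.mul_mem hx2A hx1A
    have hcB' : Nat.card (closure ({x0, x2 * x1} : Set G)) = 12 := by
      rw [Nat.card_congr e'.toEquiv, DihedralGroup.nat_card]
    have hEq : closure ({x0, x2 * x1} : Set G) = A :=
      eq_of_le_of_card_ge hB' (by rw [hcB', hcA])
    exact ⟨(MulEquiv.subgroupCongr hEq).symm.trans e'⟩
  · rw [h6] at e hcB
    have hEq : closure ({x0, x2} : Set G) = A := eq_of_le_of_card_ge hB (by rw [hcB, hcA])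
    exact ⟨(MulEquiv.subgroupCongr hEq).symm.trans e⟩

/-- the self-centralizing property of the normal subgroup `XQ` in `A` -/
theorem struct_centq [Finite G] (A XQ : Subgroup G) (hXQA : XQ ≤ A)
    (hQnorm : ∀ g ∈ A, ∀ u ∈ XQ, g * u * g⁻¹ ∈ XQ)
    (hab : ∀ u ∈ XQ, ∀ v ∈ XQ, u * v = v * u) (hc : Nat.card A = 6 * Nat.card XQ)
    (s t u v : G) (hsA : s ∈ A) (htA : t ∈ A) (hs2 : s * s = 1) (hu : u ∈ XQ) (hv : v ∈ XQ)
    (hsu : s * u ≠ u * s) (htv : t * v ≠ v * t) (htu : t * u = u * t) :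
    (XQ.subgroupOf A).Normal ∧
      centralizer ((XQ.subgroupOf A : Subgroup A) : Set A) ≤ XQ.subgroupOf A := by
  have hn : (XQ.subgroupOf A).Normal := by
    constructor
    intro w hw g
    rw [mem_subgroupOf] at hw ⊢
    simpa using hQnorm g g.2 w hw
  refine ⟨hn, ?_⟩
  haveI := hn
  have hcQ : Nat.card (XQ.subgroupOf A) = Nat.card XQ :=
    Nat.card_congr (subgroupOfEquivOfLe hXQA).toEquiv
  apply centq (XQ.subgroupOf A) _ (by rw [hcQ]; exact hc) ⟨s, hsA⟩ ⟨t, htA⟩ (Subtype.ext hs2)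
  · intro hmem
    rw [mem_centralizer_iff] at hmem
    have := hmem ⟨u, hXQA hu⟩ (by rw [SetLike.mem_coe, mem_subgroupOf]; exact hu)
    exact hsu (congrArg Subtype.val this).symm
  · intro hmem
    rw [mem_centralizer_iff] at hmem
    have := hmem ⟨v, hXQA hv⟩ (by rw [SetLike.mem_coe, mem_subgroupOf]; exact hv)
    exact htv (congrArg Subtype.val this).symm
  · intro hmem
    rw [mem_centralizer_iff] at hmem
    have := hmem ⟨u, hXQA hu⟩ (by rw [SetLike.mem_coe, mem_subgroupOf]; exact hu)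
    have h1 : u * (s * t) = (s * t) * u := congrArg Subtype.val this
    apply hsu
    have h2 : (s * t) * u = (s * u) * t := by rw [mul_assoc, htu, ← mul_assoc]
    have h3 : u * (s * t) = (u * s) * t := (mul_assoc _ _ _).symm
    exact (mul_right_cancel (h3.symm.trans (h1.trans h2))).symm
  · intro a ha b hb
    rw [mem_subgroupOf] at ha hb
    exact Subtype.ext (hab a ha b hb)

end Cfsg.Agent.Lib.Helper46.TutteG
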