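import Cfsg.Agent.Lib.Helper46.Tutte8

set_option autoImplicit false

namespace Cfsg.Agent.Lib.Helper46.Tutte

open Subgroup MulAction

variable {G : Type*} [Group G] {Ω : Type*} [MulAction G Ω]

theorem card_mul_relIndex' {H K : Subgroup G} (hHK : H ≤ K) :
    Nat.card H * H.relIndex K = Nat.card K := by
  have h1 := Subgroup.card_mul_index (H.subgroupOf K)
  have h2 : Nat.card (H.subgroupOf K) = Nat.card H :=
    Nat.card_congr (Subgroup.subgroupOfEquivOfLe hHK).toEquiv
  rw [h2] at h1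
  exact h1

theorem subgroupOf_stabilizer (H : Subgroup G) (b : Ω) :
    (stabilizer G b).subgroupOf H = stabilizer H b := by
  ext s
  rw [Subgroup.mem_subgroupOf, mem_stabilizer_iff, mem_stabilizer_iff]
  rfl

theorem core_free [FaithfulSMul G Ω] [IsPretransitive G Ω] (a : Ω) (N : Subgroup G) (hN : N.Normal)
    (hle : N ≤ stabilizer G a) : N = ⊥ := by
  rw [eq_bot_iff]
  intro n hn
  rw [Subgroup.mem_bot]
  apply FaithfulSMul.eq_of_smul_eq_smul (α := Ω)
  intro ω
  obtain ⟨v, rfl⟩ := exists_smul_eq G a ω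
  have h1 : v⁻¹ * n * v ∈ N := by
    have := hN.conj_mem n hn v⁻¹
    simpa using this
  have h2 : (v⁻¹ * n * v) • a = a := hle h1
  rw [one_smul]
  calc n • v • a = v • (v⁻¹ * n * v) • a := by
        rw [← mul_smul, ← mul_smul]; congr 1; group
    _ = v • a := by rw [h2]

/-- `D = G_a ∩ G_b` is a `2`-group -/
theorem isPGroup_two_of_orbit_three [Finite G]
    (a b : Ω) (h3 : Nat.card (orbit (stabilizer G a) b) = 3)
    (h3' : Nat.card (orbit (stabilizer G b) a) = 3)
    (htop : stabilizer G a ⊔ stabilizer G b = ⊤)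
    (hcore : ∀ N : Subgroup G, N.Normal → N ≤ stabilizer G a → N = ⊥) :
    IsPGroup 2 (stabilizer G a ⊓ stabilizer G b : Subgroup G) := by
  obtain ⟨T, hT⟩ : ∃ T, T = Subgroup.closure
      {d : G | d ∈ stabilizer G a ⊓ stabilizer G b ∧ Odd (orderOf d)} := ⟨_, rfl⟩
  have hconj : ∀ c : G, (∀ d : G, d ∈ stabilizer G a ⊓ stabilizer G b → Odd (orderOf d) →
      c * d * c⁻¹ ∈ stabilizer G a ⊓ stabilizer G b) → ∀ u ∈ T, c * u * c⁻¹ ∈ T := by
    intro c hc
    have : T ≤ T.comap (MulAut.conj c).toMonoidHom := by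
      rw [hT, Subgroup.closure_le]
      rintro d ⟨hd, hodd⟩
      rw [SetLike.mem_coe, Subgroup.mem_comap]
      apply Subgroup.subset_closure
      refine ⟨hc d hd hodd, ?_⟩
      have := MulEquiv.orderOf_eq (MulAut.conj c) d
      rw [MulAut.conj_apply] at this
      simp only [MulEquiv.coe_toMonoidHom, MulAut.conj_apply]
      rw [this]; exact hodd
    intro u hu
    exact this hu
  have hTA : stabilizer G a ≤ Subgroup.normalizer (T : Set G) := by
    intro c hc
    apply mem_normalizer_of_conj_le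
    apply hconj
    intro d hd hodd
    exact odd_conj a b h3 d (Subgroup.mem_inf.1 hd).1 (Subgroup.mem_inf.1 hd).2 hodd c hc
  have hTB : stabilizer G b ≤ Subgroup.normalizer (T : Set G) := by
    intro c hc
    apply mem_normalizer_of_conj_le
    apply hconj
    intro d hd hodd
    have := odd_conj b a h3' d (Subgroup.mem_inf.1 hd).2 (Subgroup.mem_inf.1 hd).1 hodd c hc
    rwa [inf_comm] at this
  have hTn : T.Normal := by
    rw [← Subgroup.normalizer_eq_top_iff, eq_top_iff, ← htop]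
    exact sup_le hTA hTB
  have hTle : T ≤ stabilizer G a := by
    rw [hT, Subgroup.closure_le]
    rintro d ⟨hd, _⟩
    exact (Subgroup.mem_inf.1 hd).1
  have hTbot := hcore T hTn hTle
  intro d
  have hn : orderOf (d : G) ≠ 0 := (orderOf_pos (d : G)).ne'
  obtain ⟨k, m, hm, hkm⟩ := Nat.exists_eq_two_pow_mul_odd hn
  refine ⟨k, ?_⟩
  have h1 : ((d : G) ^ 2 ^ k) ^ m = 1 := by
    rw [← pow_mul, ← hkm, pow_orderOf_eq_one]
  have h2 : Odd (orderOf ((d : G) ^ 2 ^ k)) := Odd.of_dvd_nat hm (orderOf_dvd_of_pow_eq_one h1)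
  have h4 : (d : G) ^ 2 ^ k ∈ T := by
    rw [hT]
    exact Subgroup.subset_closure ⟨pow_mem d.2 _, h2⟩
  rw [hTbot, Subgroup.mem_bot] at h4
  apply Subtype.ext
  simpa using h4

end Cfsg.Agent.Lib.Helper46.Tutte
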