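import Cfsg.Agent.Lib.Helper46.SimsI
import Cfsg.Agent.Lib.Helper46.Tutte9

set_option autoImplicit false
set_option linter.style.haveILetI false

/-!
# The Sims--Wong theorem: the cases `t = 4`, `t = 5` and the assembly
-/

namespace Cfsg.Agent.Lib.Helper46.TutteG

open Subgroup Cfsg.Agent.Lib.Helper46.Tutte Cfsg.Agent.Lib.Helper46.SimsA

variable {G : Type*} [Group G]

theorem struct_t4 [Finite G] (A : Subgroup G) (h y : G) (hcA : Nat.card A = 24)
    (hcard : ∀ n, n < 4 → Nat.card (X h y 0 n) = 2 ^ n)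
    (hXA : X h y 0 4 = A)
    (hnc : ∃ k : ℕ, 1 ≤ k ∧ k < 4 ∧ ¬ Commute (xs h y 0) (xs h y k))
    (htop : X h y 0 (4 + 1) = ⊤)
    (hcore : ∀ N : Subgroup G, N.Normal → N ≤ X h y 0 4 → N = ⊥) :
    Nonempty (A ≃* Equiv.Perm (Fin 4)) := by
  have ht1 : 1 < 4 := by norm_num
  obtain ⟨lam, hl1, hlt, hcomm0, hnc0⟩ := exists_lam h y hnc
  have hB := stepB h y hcard lam hcomm0 ht1 hlt hl1 htop hcore
  have hl2 : lam = 2 := by
    by_contra hne
    have hl : lam = 1 := by omega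
    subst hl
    obtain ⟨μ, hμ1, hμ2, _⟩ := stepE_mu h y hcard 1 hcomm0 hnc0 ht1 le_rfl (by norm_num)
    omega
  subst hl2
  have sq := xs_sq h y hcard ht1
  have e2 : ((2 : ℕ) : ℤ) = 2 := by norm_num
  have hnc13 := not_comm h y 2 hnc0 1
  have e13 : (1 : ℤ) + ((2 : ℕ) : ℤ) = 3 := by norm_num
  rw [e13] at hnc13
  rw [e2] at hnc0
  have cm : ∀ i j : ℤ, |i - j| < 2 → Commute (xs h y i) (xs h y j) := by
    intro i j hij
    exact comm_of_lt h y 2 hcomm0 i j (by exact_mod_cast hij)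
  obtain ⟨XQ, hXQ⟩ : ∃ XQ : Subgroup G, XQ = X h y 1 2 := ⟨_, rfl⟩
  have hx12 : ∀ i : ℤ, 1 ≤ i → i < 3 → xs h y i ∈ XQ :=
    fun i h1 h2 => by rw [hXQ]; exact xs_mem h y h1 (by push_cast; omega)
  have hmemA : ∀ i : ℤ, 0 ≤ i → i < 4 → xs h y i ∈ A := by
    intro i h1 h2; rw [← hXA]; exact xs_mem h y h1 (by push_cast; omega)
  have hXQA : XQ ≤ A := by
    rw [hXQ, ← hXA]; exact X_mono h y (by norm_num) (by norm_num)
  have hXQcard : Nat.card XQ = 4 := by
    rw [hXQ, card_X h y hcard 1 (n := 2) (by norm_num)]; norm_num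
  have hnormal : X h y 0 4 ≤ normalizer (XQ : Set G) := by
    rw [X_le_iff]
    intro i h1 h2
    push_cast at h2
    apply mem_normalizer_of_conj_le
    intro u hu
    have hcases : i = 0 ∨ i = 3 ∨ (1 ≤ i ∧ i < 3) := by omega
    rcases hcases with rfl | rfl | ⟨h3, h4⟩
    · rw [hXQ] at hu ⊢
      have := norm_left h y hcard 0 (n := 2) (by norm_num) (u := u) (by simpa using hu)
      simpa using this
    · rw [hXQ] at hu ⊢
      have := norm_right h y hcard 1 (n := 2) (by norm_num) (u := u) hu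
      rw [e13] at this; exact this
    · exact mul_mem (mul_mem (hx12 i h3 h4) hu) (inv_mem (hx12 i h3 h4))
  have hQnorm : ∀ g ∈ A, ∀ u ∈ XQ, g * u * g⁻¹ ∈ XQ := by
    intro g hg u hu
    rw [← hXA] at hg
    exact (mem_normalizer_iff.mp (hnormal hg) u).mp hu
  have hab : ∀ u ∈ XQ, ∀ v ∈ XQ, u * v = v * u := by
    intro u hu v hv
    rw [hXQ] at hu hv
    exact (X_comm h y 2 hcomm0 1 2 le_rfl u hu v hv).eq
  obtain ⟨hn, hcent⟩ := struct_centq A XQ hXQA hQnorm hab (by rw [hcA, hXQcard])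
    (xs h y 0) (xs h y 3) (xs h y 2) (xs h y 1)
    (hmemA 0 le_rfl (by norm_num)) (hmemA 3 (by norm_num) (by norm_num)) (sq 0)
    (hx12 2 (by norm_num) (by norm_num)) (hx12 1 le_rfl (by norm_num))
    (fun hh => hnc0 hh) (fun hh => hnc13 (show Commute (xs h y 1) (xs h y 3) from hh.symm))
    (cm 3 2 (by norm_num)).eq
  haveI := hn
  have hcQ : Nat.card (XQ.subgroupOf A) = 4 := by
    rw [Nat.card_congr (subgroupOfEquivOfLe hXQA).toEquiv]; exact hXQcard
  exact i24 hcA (XQ.subgroupOf A) hcQ hcent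

theorem struct_t5 [Finite G] (A : Subgroup G) (h y : G) (hcA : Nat.card A = 48)
    (hcard : ∀ n, n < 5 → Nat.card (X h y 0 n) = 2 ^ n)
    (hXA : X h y 0 5 = A)
    (hnc : ∃ k : ℕ, 1 ≤ k ∧ k < 5 ∧ ¬ Commute (xs h y 0) (xs h y k))
    (htop : X h y 0 (5 + 1) = ⊤)
    (hcore : ∀ N : Subgroup G, N.Normal → N ≤ X h y 0 5 → N = ⊥) :
    Nonempty (A ≃* Equiv.Perm (Fin 4) × Multiplicative (ZMod 2)) := by
  have ht1 : 1 < 5 := by norm_num
  obtain ⟨hcomm0, hnc0⟩ := t5_lam h y hcard hnc htop hcore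
  obtain ⟨hzc, hQn, e, Q1, heG, he2, heQ, hQ1le, hQ1c, hzQ1, heQ1⟩ :=
    t5_struct h y hcard hcomm0 hnc0
  rw [hXA] at hzc hQn heG
  have sq := xs_sq h y hcard ht1
  have hnc14 := not_comm h y 3 hnc0 1
  have e14 : (1 : ℤ) + ((3 : ℕ) : ℤ) = 4 := by norm_num
  have e3 : ((3 : ℕ) : ℤ) = 3 := by norm_num
  rw [e14] at hnc14
  rw [e3] at hnc0
  have cm : ∀ i j : ℤ, |i - j| < 3 → Commute (xs h y i) (xs h y j) := by
    intro i j hij
    exact comm_of_lt h y 3 hcomm0 i j (by exact_mod_cast hij)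
  obtain ⟨XQ, hXQ⟩ : ∃ XQ : Subgroup G, XQ = X h y 1 3 := ⟨_, rfl⟩
  rw [← hXQ] at hQn heQ hQ1le
  have hx13 : ∀ i : ℤ, 1 ≤ i → i < 4 → xs h y i ∈ XQ :=
    fun i h1 h2 => by rw [hXQ]; exact xs_mem h y h1 (by push_cast; omega)
  have hmemA : ∀ i : ℤ, 0 ≤ i → i < 5 → xs h y i ∈ A := by
    intro i h1 h2; rw [← hXA]; exact xs_mem h y h1 (by push_cast; omega)
  have hXQcard : Nat.card XQ = 8 := by
    rw [hXQ, card_X h y hcard 1 (n := 3) (by norm_num)]; norm_num
  have hXQA : XQ ≤ A := by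
    rw [hXQ, ← hXA]; exact X_mono h y (by norm_num) (by norm_num)
  have hab : ∀ u ∈ XQ, ∀ v ∈ XQ, u * v = v * u := by
    intro u hu v hv
    rw [hXQ] at hu hv
    exact (X_comm h y 3 hcomm0 1 3 le_rfl u hu v hv).eq
  obtain ⟨hn, hcent⟩ := struct_centq A XQ hXQA hQn hab (by rw [hcA, hXQcard])
    (xs h y 0) (xs h y 4) (xs h y 3) (xs h y 1)
    (hmemA 0 le_rfl (by norm_num)) (hmemA 4 (by norm_num) (by norm_num)) (sq 0)
    (hx13 3 (by norm_num) (by norm_num)) (hx13 1 le_rfl (by norm_num))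
    (fun hh => hnc0 hh) (fun hh => hnc14 (show Commute (xs h y 1) (xs h y 4) from hh.symm))
    (cm 4 3 (by norm_num)).eq
  haveI := hn
  have hcQ : Nat.card (XQ.subgroupOf A) = 8 := by
    rw [Nat.card_congr (subgroupOfEquivOfLe hXQA).toEquiv]; exact hXQcard
  have hz2mem : xs h y 2 ∈ XQ := hx13 2 (by norm_num) (by norm_num)
  have hzG : xs h y 2 ∈ A := hXQA hz2mem
  exact i48 hcA (XQ.subgroupOf A) hcQ hcent
    ⟨xs h y 2, hzG⟩ (by rw [mem_subgroupOf]; exact hz2mem)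
    (fun hh => xs_ne_one h y hcard ht1 2 (congrArg Subtype.val hh))
    (Subtype.ext (sq 2)) (fun g => Subtype.ext (hzc g g.2))
    ⟨e, heG⟩ (Subtype.ext he2) (by rw [mem_subgroupOf]; exact heQ)
    (Q1.subgroupOf A)
    (by
      intro u hu
      rw [mem_subgroupOf] at hu ⊢; exact hQ1le hu)
    (by rw [Nat.card_congr (subgroupOfEquivOfLe (hQ1le.trans hXQA)).toEquiv]; exact hQ1c)
    (by rw [mem_subgroupOf]; exact hzQ1)
    (fun u hu => by
      rw [mem_subgroupOf] at hu ⊢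
      simpa using heQ1 u hu)

/-- The Sims--Wong theorem in group form: `D` of index `3` in `A`, normalized by `g`, with
`⟨A, gAg⁻¹⟩ = G` and `A` core-free. -/
theorem sims_struct [Finite G] (A D : Subgroup G) (g : G) (hDA : D ≤ A)
    (hidx : D.relIndex A = 3)
    (hg : ∀ d, d ∈ D ↔ g * d * g⁻¹ ∈ D)
    (hgen : A ⊔ A.map (MulAut.conj g).toMonoidHom = ⊤)
    (hcore : ∀ N : Subgroup G, N.Normal → N ≤ A → N = ⊥) :
    Nonempty (A ≃* Multiplicative (ZMod 3)) ∨ Nonempty (A ≃* Equiv.Perm (Fin 3)) ∨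
      Nonempty (A ≃* DihedralGroup 6) ∨ Nonempty (A ≃* Equiv.Perm (Fin 4)) ∨
      Nonempty (A ≃* Equiv.Perm (Fin 4) × Multiplicative (ZMod 2)) := by
  haveI : Fact (Nat.Prime 3) := ⟨Nat.prime_three⟩
  have hcA : Nat.card A = Nat.card D * 3 := by
    have := card_mul_relIndex' hDA
    rw [hidx] at this; exact this.symm
  by_cases hnorm : ∀ x ∈ A, ∀ d ∈ D, x⁻¹ * d * x ∈ D
  · left
    have hAN : A ≤ Subgroup.normalizer (D : Set G) := by
      intro a ha
      apply mem_normalizer_of_conj_le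
      intro u hu
      have := hnorm a⁻¹ (inv_mem ha) u hu
      simpa using this
    have hgN : g ∈ Subgroup.normalizer (D : Set G) := by
      rw [Subgroup.mem_normalizer_iff]; exact hg
    have hAgN : A.map (MulAut.conj g).toMonoidHom ≤ Subgroup.normalizer (D : Set G) := by
      rintro _ ⟨a, ha, rfl⟩
      simp only [MulEquiv.coe_toMonoidHom, MulAut.conj_apply]
      exact mul_mem (mul_mem hgN (hAN ha)) (inv_mem hgN)
    have htop : Subgroup.normalizer (D : Set G) = ⊤ := by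
      rw [eq_top_iff, ← hgen]; exact sup_le hAN hAgN
    have hDn : D.Normal := by rw [← Subgroup.normalizer_eq_top_iff]; exact htop
    have hD := hcore D hDn hDA
    rw [hD, Subgroup.card_bot, one_mul] at hcA
    exact ⟨mulEquivOfPrimeCardEq (p := 3) hcA (by rw [Nat.card_eq_fintype_card]; rfl)⟩
  · right
    push Not at hnorm
    obtain ⟨x, hxA, d, hd, hd'⟩ := hnorm
    have hxD : x ∉ D := fun hx => hd' (D.mul_mem (D.mul_mem (D.inv_mem hx) hd) hx)
    have h2c := two_coset_base A D hDA hidx x hxA hxD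
    have hmax := hmax_of_card A D hDA 3 Nat.prime_three hcA
    obtain ⟨t, y, ht1, ht5, hcD, hdata⟩ :=
      sims_dataG A D g x hDA h2c hmax hg hxA ⟨d, hd, hd'⟩ hgen hcore
    have ht2 : 2 ≤ t := by
      by_contra hlt
      have : t = 1 := by omega
      subst this
      have h1 : Nat.card D = 1 := by rw [hcD]; rfl
      have hbot : D = ⊥ := Subgroup.card_eq_one.mp h1
      apply hd'
      rw [hbot, mem_bot] at hd
      rw [hd]; simp
    obtain ⟨hcardX, hXA, hnc, htop⟩ := hdata ht2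
    rw [hcD] at hcA
    have hcore' : ∀ N : Subgroup G, N.Normal → N ≤ X (g * x) y 0 t → N = ⊥ := by
      rw [hXA]; exact hcore
    interval_cases t
    · left
      exact struct_t2 A (g * x) y (by rw [hcA]; norm_num) hXA hnc
    · right; left
      exact struct_t3 A (g * x) y (by rw [hcA]; norm_num) hcardX hXA hnc
    · right; right; left
      exact struct_t4 A (g * x) y (by rw [hcA]; norm_num) hcardX hXA hnc htop hcore'
    · right; right; right
      exact struct_t5 A (g * x) y (by rw [hcA]; norm_num) hcardX hXA hnc htop hcore'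

end Cfsg.Agent.Lib.Helper46.TutteG
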