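import Cfsg.Agent.Lib.Helper46.Tutte9

set_option autoImplicit false

namespace Cfsg.Agent.Lib.Helper46.Tutte

open Subgroup MulAction
open scoped Pointwise

variable {G : Type*} [Group G] {Ω : Type*} [MulAction G Ω]

/-- The group-theoretic data of a primitive group with a suborbit of length `3`. -/
theorem sims_setup [Finite G] [FaithfulSMul G Ω] (hprim : IsPreprimitive G Ω) (a b : Ω)
    (h3 : Nat.card (orbit (stabilizer G a) b) = 3) :
    ∃ (D : Subgroup G) (g : G), D ≤ stabilizer G a ∧ D.relIndex (stabilizer G a) = 3 ∧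
      (∀ d, d ∈ D ↔ g * d * g⁻¹ ∈ D) ∧
      stabilizer G a ⊔ (stabilizer G a).map (MulAut.conj g).toMonoidHom = ⊤ ∧
      (∀ N : Subgroup G, N.Normal → N ≤ stabilizer G a → N = ⊥) := by
  haveI := hprim.toIsPretransitive
  have hab : b ≠ a := by
    rintro rfl
    have : orbit (stabilizer G b) b = {b} := by
      ext c
      constructor
      · rintro ⟨s, rfl⟩
        exact s.2
      · rintro rfl
        exact mem_orbit_self _
    rw [this] at h3
    simp at h3
  haveI : Nontrivial Ω := ⟨⟨b, a, hab⟩⟩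
  have hcoatom : IsCoatom (stabilizer G a) := (isCoatom_stabilizer_iff_preprimitive G a).2 hprim
  have hDA : stabilizer G a ⊓ stabilizer G b ≤ stabilizer G a := inf_le_left
  have hDB : stabilizer G a ⊓ stabilizer G b ≤ stabilizer G b := inf_le_right
  have hidx : (stabilizer G a ⊓ stabilizer G b).relIndex (stabilizer G a) = 3 := by
    rw [Subgroup.inf_relIndex_left, Subgroup.relIndex, subgroupOf_stabilizer, index_stabilizer,
      ← Nat.card_coe_set_eq]
    exact h3
  obtain ⟨u, hu⟩ := exists_smul_eq G a b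
  have hB : stabilizer G b = (stabilizer G a).map (MulAut.conj u).toMonoidHom := by
    rw [← hu]; exact stabilizer_smul_eq_stabilizer_map_conj u a
  have hcardB : Nat.card (stabilizer G b) = Nat.card (stabilizer G a) := by
    rw [hB, Subgroup.card_map_of_injective (MulEquiv.injective _)]
  have hcD : Nat.card (stabilizer G a ⊓ stabilizer G b : Subgroup G) ≠ 0 := Nat.card_pos.ne'
  have hidxB : (stabilizer G a ⊓ stabilizer G b).relIndex (stabilizer G b) = 3 := by
    have h1 := card_mul_relIndex' hDA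
    have h2 := card_mul_relIndex' hDB
    rw [hidx] at h1
    rw [hcardB, ← h1] at h2
    exact Nat.eq_of_mul_eq_mul_left (Nat.pos_of_ne_zero hcD) h2
  have h3' : Nat.card (orbit (stabilizer G b) a) = 3 := by
    rw [Nat.card_coe_set_eq, ← index_stabilizer, ← subgroupOf_stabilizer, ← Subgroup.relIndex,
      ← Subgroup.inf_relIndex_right]
    exact hidxB
  have hcore : ∀ N : Subgroup G, N.Normal → N ≤ stabilizer G a → N = ⊥ :=
    fun N hN hle => core_free a N hN hle
  have htop : stabilizer G a ⊔ stabilizer G b = ⊤ := by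
    by_contra hne
    have h1 : stabilizer G a ⊔ stabilizer G b = stabilizer G a := by
      by_contra h2
      exact hne (hcoatom.2 _ (lt_of_le_of_ne le_sup_left (Ne.symm h2)))
    have h2 : stabilizer G b ≤ stabilizer G a := by rw [← h1]; exact le_sup_right
    have h4 : stabilizer G a ⊓ stabilizer G b = stabilizer G b := inf_eq_right.2 h2
    rw [h4, Subgroup.relIndex_self] at hidxB
    norm_num at hidxB
  have hP := isPGroup_two_of_orbit_three a b h3 h3' htop hcore
  -- Sylow argument inside `stabilizer G b`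
  obtain ⟨D, hD⟩ : ∃ D, D = (stabilizer G a ⊓ stabilizer G b : Subgroup G) := ⟨_, rfl⟩
  rw [← hD] at hP hDA hDB hidx hidxB hcD
  obtain ⟨Du, hDu⟩ : ∃ Du, Du = D.map (MulAut.conj u).toMonoidHom := ⟨_, rfl⟩
  have hDuB : Du ≤ stabilizer G b := by
    rw [hDu, hB]; exact Subgroup.map_mono hDA
  have hcardDu : Nat.card Du = Nat.card D := by
    rw [hDu, Subgroup.card_map_of_injective (MulEquiv.injective _)]
  have hidxDu : Du.relIndex (stabilizer G b) = 3 := by
    have h1 := card_mul_relIndex' hDB
    have h2 := card_mul_relIndex' hDuB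
    rw [hidxB] at h1
    rw [hcardDu, ← h1] at h2
    exact Nat.eq_of_mul_eq_mul_left (Nat.pos_of_ne_zero hcD) h2
  have hPu : IsPGroup 2 Du := by rw [hDu]; exact hP.map _
  have hP1 : IsPGroup 2 (D.subgroupOf (stabilizer G b)) := hP.comap_subtype
  have hP2 : IsPGroup 2 (Du.subgroupOf (stabilizer G b)) := hPu.comap_subtype
  have hi1 : ¬ 2 ∣ (D.subgroupOf (stabilizer G b)).index := by
    show ¬ 2 ∣ D.relIndex (stabilizer G b)
    rw [hidxB]; norm_num
  have hi2 : ¬ 2 ∣ (Du.subgroupOf (stabilizer G b)).index := by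
    show ¬ 2 ∣ Du.relIndex (stabilizer G b)
    rw [hidxDu]; norm_num
  obtain ⟨v, hv⟩ := MulAction.exists_smul_eq (stabilizer G b) (hP2.toSylow hi2) (hP1.toSylow hi1)
  -- the element g
  obtain ⟨g, hgdef⟩ : ∃ g, g = (v : G) * u := ⟨_, rfl⟩
  have hconj : ∀ d ∈ D, g⁻¹ * d * g ∈ D := by
    intro d hd
    have h1 : (⟨d, hDB hd⟩ : stabilizer G b) ∈
        ((hP1.toSylow hi1 : Sylow 2 (stabilizer G b)) : Subgroup (stabilizer G b)) := by
      rw [IsPGroup.toSylow_coe, Subgroup.mem_subgroupOf]; exact hd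
    have hv' : ((hP1.toSylow hi1 : Sylow 2 (stabilizer G b)) : Subgroup (stabilizer G b)) =
        MulAut.conj v • ((hP2.toSylow hi2 : Sylow 2 (stabilizer G b)) : Subgroup (stabilizer G b)) := by
      rw [← hv, Sylow.coe_subgroup_smul]
    rw [hv', IsPGroup.toSylow_coe, Subgroup.mem_smul_pointwise_iff_exists] at h1
    obtain ⟨s, hs, hs'⟩ := h1
    rw [Subgroup.mem_subgroupOf, hDu] at hs
    obtain ⟨d0, hd0, hd0'⟩ := hs
    have h2 : (v : G) * (s : G) * (v : G)⁻¹ = d := by
      have := congrArg Subtype.val hs'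
      simpa [MulAut.smul_def, MulAut.conj_apply] using this
    have h4 : u * d0 * u⁻¹ = (s : G) := by
      simpa [MulAut.conj_apply] using hd0'
    have : g⁻¹ * d * g = d0 := by
      rw [← h2, ← h4, hgdef]; group
    rw [this]; exact hd0
  have hgN : g ∈ Subgroup.normalizer (D : Set G) := by
    have : g⁻¹ ∈ Subgroup.normalizer (D : Set G) := by
      apply mem_normalizer_of_conj_le
      intro d hd
      simpa using hconj d hd
    simpa using inv_mem this
  have hg : ∀ d, d ∈ D ↔ g * d * g⁻¹ ∈ D := Subgroup.mem_normalizer_iff.1 hgN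
  have hga : g • a = b := by
    rw [hgdef, mul_smul, hu]
    exact v.2
  have hgen : stabilizer G a ⊔ (stabilizer G a).map (MulAut.conj g).toMonoidHom = ⊤ := by
    rw [← stabilizer_smul_eq_stabilizer_map_conj, hga]; exact htop
  exact ⟨D, g, hDA, hidx, hg, hgen, hcore⟩

end Cfsg.Agent.Lib.Helper46.Tutte
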