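import Cfsg.Agent.Lib.Helper46.SylowAux
import Cfsg.Agent.Lib.Helper46.CharP

set_option autoImplicit false

namespace Cfsg.Agent.Lib.Helper46

variable {N : Type*} [Group N]

/-- The stability group of the chain `T ≥ D ≥ 1` (for normal subgroups `T`, `D`). -/
def stabGroup (T D : Subgroup N) [hT : T.Normal] : Subgroup N where
  carrier := {b | (∀ t ∈ T, b * t * b⁻¹ * t⁻¹ ∈ D) ∧ (∀ d ∈ D, b * d * b⁻¹ = d)}
  one_mem' := by
    refine ⟨fun t _ => ?_, fun d _ => ?_⟩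
    · simp
    · simp
  mul_mem' := by
    rintro a b ⟨ha1, ha2⟩ ⟨hb1, hb2⟩
    refine ⟨fun t ht => ?_, fun d hd => ?_⟩
    · have h1 := hb1 t ht
      have h2 := ha1 t ht
      have h3 := ha2 _ h1
      have e : a * b * t * (a * b)⁻¹ * t⁻¹ = (a * (b * t * b⁻¹ * t⁻¹) * a⁻¹) * (a * t * a⁻¹ * t⁻¹) := by
        group
      rw [e, h3]
      exact D.mul_mem h1 h2
    · have e : a * b * d * (a * b)⁻¹ = a * (b * d * b⁻¹) * a⁻¹ := by group
      rw [e, hb2 d hd, ha2 d hd]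
  inv_mem' := by
    rintro a ⟨ha1, ha2⟩
    refine ⟨fun t ht => ?_, fun d hd => ?_⟩
    · have ht' : a⁻¹ * t * a ∈ T := by
        have := hT.conj_mem t ht a⁻¹
        simpa using this
      have h1 := ha1 _ ht'
      have e : a * (a⁻¹ * t * a) * a⁻¹ * (a⁻¹ * t * a)⁻¹ = (a⁻¹ * t * a⁻¹⁻¹ * t⁻¹)⁻¹ := by group
      rw [e] at h1
      exact (D.inv_mem_iff).mp h1
    · have := ha2 d hd
      calc a⁻¹ * d * a⁻¹⁻¹ = a⁻¹ * (a * d * a⁻¹) * a := by rw [this]; group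
        _ = d := by group

theorem mem_stabGroup {T D : Subgroup N} [T.Normal] {b : N} :
    b ∈ stabGroup T D ↔ (∀ t ∈ T, b * t * b⁻¹ * t⁻¹ ∈ D) ∧ (∀ d ∈ D, b * d * b⁻¹ = d) := Iff.rfl

theorem stabGroup_normal (T D : Subgroup N) [hT : T.Normal] [hD : D.Normal] :
    (stabGroup T D).Normal := by
  constructor
  rintro b ⟨hb1, hb2⟩ m
  refine ⟨fun t ht => ?_, fun d hd => ?_⟩
  · have ht' : m⁻¹ * t * m ∈ T := by
      have := hT.conj_mem t ht m⁻¹
      simpa using this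
    have h1 := hb1 _ ht'
    have h2 := hD.conj_mem _ h1 m
    have e : m * b * m⁻¹ * t * (m * b * m⁻¹)⁻¹ * t⁻¹ =
        m * (b * (m⁻¹ * t * m) * b⁻¹ * (m⁻¹ * t * m)⁻¹) * m⁻¹ := by group
    rw [e]; exact h2
  · have hd' : m⁻¹ * d * m ∈ D := by
      have := hD.conj_mem d hd m⁻¹
      simpa using this
    have h1 := hb2 _ hd'
    calc m * b * m⁻¹ * d * (m * b * m⁻¹)⁻¹ = m * (b * (m⁻¹ * d * m) * b⁻¹) * m⁻¹ := by group
      _ = m * (m⁻¹ * d * m) * m⁻¹ := by rw [h1]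
      _ = d := by group

/-- A `p'`-element of the stability group of `T ≥ D ≥ 1` centralizes the `p`-group `T`. -/
theorem stabGroup_coprime_centralizes {p : ℕ} {T D : Subgroup N} [T.Normal] (hDT : D ≤ T)
    (hT : IsPGroup p T) {b : N} (hb : b ∈ stabGroup T D) {m : ℕ} (hm : m.Coprime p)
    (hbm : b ^ m = 1) : b ∈ Subgroup.centralizer (T : Set N) := by
  obtain ⟨hb1, hb2⟩ := hb
  rw [Subgroup.mem_centralizer_iff]
  intro t ht
  set d := b * t * b⁻¹ * t⁻¹ with hd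
  have hdD : d ∈ D := hb1 t ht
  have hpow : ∀ j : ℕ, b ^ j * t * (b ^ j)⁻¹ = d ^ j * t := by
    intro j
    induction j with
    | zero => simp
    | succ j ih =>
      have hdj : b * d ^ j * b⁻¹ = d ^ j := hb2 _ (D.pow_mem hdD j)
      calc b ^ (j + 1) * t * (b ^ (j + 1))⁻¹ = b * (b ^ j * t * (b ^ j)⁻¹) * b⁻¹ := by
            rw [pow_succ']; group
        _ = b * (d ^ j * t) * b⁻¹ := by rw [ih]
        _ = (b * d ^ j * b⁻¹) * (b * t * b⁻¹ * t⁻¹) * t := by group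
        _ = d ^ j * d * t := by rw [hdj]
        _ = d ^ (j + 1) * t := by rw [pow_succ]
  have h1 := hpow m
  rw [hbm] at h1
  have h2 : d ^ m = 1 := by
    have : t = d ^ m * t := by simpa using h1
    exact (mul_eq_right.mp this.symm)
  obtain ⟨k, hk⟩ := hT ⟨d, hDT hdD⟩
  have hk' : d ^ (p ^ k) = 1 := by
    have := congrArg Subtype.val hk
    simpa using this
  have hd1 : d = 1 := eq_one_of_pow_eq_one_of_coprime (Nat.Coprime.pow_right k hm) h2 hk'
  have : b * t * b⁻¹ * t⁻¹ = 1 := hd1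
  calc t * b = (b * t * b⁻¹ * t⁻¹)⁻¹ * (b * t) := by group
    _ = b * t := by rw [this]; simp

/-- Frattini-type factorization: with `T ⊴ N` a `p`-group, `D ⊴ N`, `D ≤ T`, and `A₁ ≤ S₁` stabilizing the
chain `T ≥ D ≥ 1`, there is `R` with `T A₁ ≤ R ≤ S₁` such that `N = C_N(T) N_N(R)`. -/
theorem exists_factorization [Finite N] {p : ℕ} [Fact p.Prime] (T D : Subgroup N) [hTn : T.Normal]
    [hDn : D.Normal] (hDT : D ≤ T) (hT : IsPGroup p T) (S₁ : Sylow p N) (A₁ : Subgroup N)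
    (hA₁S : A₁ ≤ (S₁ : Subgroup N))
    (h1 : ∀ a ∈ A₁, ∀ t ∈ T, a * t * a⁻¹ * t⁻¹ ∈ D) (h2 : ∀ a ∈ A₁, ∀ d ∈ D, a * d * a⁻¹ = d) :
    ∃ R : Subgroup N, R ≤ (S₁ : Subgroup N) ∧ T ≤ R ∧ A₁ ≤ R ∧
      ∀ x : N, ∃ c ∈ Subgroup.centralizer (T : Set N), ∃ y ∈ Subgroup.normalizer (R : Set N),
        x = c * y := by
  classical
  set C : Subgroup N := Subgroup.centralizer (T : Set N) with hC
  haveI hCn : C.Normal := Subgroup.normal_centralizer
  set St : Subgroup N := stabGroup T D with hSt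
  haveI hStn : St.Normal := stabGroup_normal T D
  have hA₁St : A₁ ≤ St := fun a ha => ⟨h1 a ha, h2 a ha⟩
  have hsurj : Function.Surjective (QuotientGroup.mk' C) := QuotientGroup.mk'_surjective C
  -- image of St is a p-group
  have hStp : IsPGroup p (St.map (QuotientGroup.mk' C)) := by
    rintro ⟨_, b, hb, rfl⟩
    have ho : orderOf b ≠ 0 := (orderOf_pos b).ne'
    obtain ⟨e, m, hm, hem⟩ := Nat.exists_eq_pow_mul_and_not_dvd ho p (Fact.out : p.Prime).ne_one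
    refine ⟨e, ?_⟩
    have hx : (b ^ (p ^ e)) ^ m = 1 := by
      rw [← pow_mul, ← hem, pow_orderOf_eq_one]
    have hcop : m.Coprime p := ((Nat.Prime.coprime_iff_not_dvd (Fact.out : p.Prime)).mpr hm).symm
    have hmem : b ^ (p ^ e) ∈ C := stabGroup_coprime_centralizes hDT hT (St.pow_mem hb _) hcop hx
    apply Subtype.ext
    show ((QuotientGroup.mk' C) b) ^ (p ^ e) = 1
    rw [← map_pow, QuotientGroup.mk'_apply, QuotientGroup.eq_one_iff]
    exact hmem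
  haveI : (St.map (QuotientGroup.mk' C)).Normal := hStn.map _ hsurj
  haveI : (T.map (QuotientGroup.mk' C)).Normal := hTn.map _ hsurj
  have hTp : IsPGroup p (T.map (QuotientGroup.mk' C)) := hT.map _
  have hcomap : ((S₁ : Subgroup N).map (QuotientGroup.mk' C)).comap (QuotientGroup.mk' C) =
      (S₁ : Subgroup N) ⊔ C := by
    rw [Subgroup.comap_map_eq, QuotientGroup.ker_mk']
  have hle1 : St ≤ (S₁ : Subgroup N) ⊔ C := by
    rw [← hcomap, ← Subgroup.map_le_iff_le_comap]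
    exact hStp.le_sylow_of_normal (S₁.mapSurjective hsurj)
  have hle2 : T ≤ (S₁ : Subgroup N) ⊔ C := by
    rw [← hcomap, ← Subgroup.map_le_iff_le_comap]
    exact hTp.le_sylow_of_normal (S₁.mapSurjective hsurj)
  set K : Subgroup N := St ⊔ T ⊔ C with hK
  haveI hKn : K.Normal := inferInstance
  have hKle : K ≤ (S₁ : Subgroup N) ⊔ C := sup_le (sup_le hle1 hle2) le_sup_right
  have hCK : C ≤ K := le_sup_right
  have hTS : T ≤ (S₁ : Subgroup N) := hT.le_sylow_of_normal S₁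
  refine ⟨(S₁ : Subgroup N) ⊓ K, inf_le_left, le_inf hTS (le_sup_of_le_left le_sup_right),
    le_inf hA₁S (le_sup_of_le_left (le_sup_of_le_left hA₁St)), ?_⟩
  intro x
  obtain ⟨a, ha, k, hk, rfl⟩ := frattini_inf_normal S₁ K x
  have hk' : k ∈ (((S₁ : Subgroup N) ⊔ C : Subgroup N) : Set N) := hKle hk
  rw [Subgroup.mul_normal] at hk'
  obtain ⟨s, hs, c, hc, rfl⟩ := Set.mem_mul.mp hk'
  have hsK : s ∈ K := by
    have : s = (s * c) * c⁻¹ := by group
    rw [this]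
    exact K.mul_mem hk (K.inv_mem (hCK hc))
  have hsR : s ∈ (S₁ : Subgroup N) ⊓ K := Subgroup.mem_inf.mpr ⟨hs, hsK⟩
  refine ⟨(a * s) * c * (a * s)⁻¹, hCn.conj_mem c hc _, a * s, ?_, by group⟩
  exact Subgroup.mul_mem _ ha (Subgroup.le_normalizer hsR)

end Cfsg.Agent.Lib.Helper46
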