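import Cfsg.Agent.Lib.Helper46.StabFrattini
import Cfsg.Agent.Lib.Helper46.Subnormal
import Cfsg.Agent.Lib.Helper33.Alperin
import Cfsg.Agent.Lib.Helper33.WellPlaced
import Cfsg.Prelude.Def_TwoFusion

set_option autoImplicit false

namespace Cfsg.Agent.Lib.Helper46

open Cfsg.Agent.Lib.Helper33

variable {G : Type*} [Group G]

theorem card_closure_rc' (g : G) (X : Set G) :
    Nat.card (Subgroup.closure (rc g X)) = Nat.card (Subgroup.closure X) := by
  rw [closure_rc, card_cj]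

/-- Composition along an Alperin chain. -/
theorem reach_good [Finite G] (𝓕 : Set (Subgroup G)) (A : Subgroup G) (m : ℕ)
    (hKL : ∀ T' ∈ 𝓕, m ≤ Nat.card T' → ∀ x ∈ Subgroup.normalizer (T' : Set G),
      ∃ n ∈ Subgroup.normalizer (A : Set G), ∀ t ∈ T', n⁻¹ * t * n = x⁻¹ * t * x) :
    ∀ (X : Set G) (h : G), Reach 𝓕 X h → m ≤ Nat.card (Subgroup.closure X) →
      ∃ n ∈ Subgroup.normalizer (A : Set G), ∀ a ∈ X, n⁻¹ * a * n = h⁻¹ * a * h := by
  intro X h hr
  induction hr with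
  | nil X =>
    intro _
    exact ⟨1, Subgroup.one_mem _, fun a _ => by simp⟩
  | cons X T' x g hT' hx hXT' _ ih =>
    intro hm
    have hc : m ≤ Nat.card T' :=
      le_trans hm (Subgroup.card_le_of_le ((Subgroup.closure_le _).mpr hXT'))
    obtain ⟨n₁, hn₁, h₁⟩ := hKL T' hT' hc x hx
    obtain ⟨n₂, hn₂, h₂⟩ := ih (by rw [card_closure_rc']; exact hm)
    refine ⟨n₁ * n₂, Subgroup.mul_mem _ hn₁ hn₂, ?_⟩
    intro a ha
    have e1 := h₁ a (hXT' ha)
    have e2 := h₂ (x⁻¹ * a * x) (conj_mem_rc ha)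
    calc (n₁ * n₂)⁻¹ * a * (n₁ * n₂) = n₂⁻¹ * (n₁⁻¹ * a * n₁) * n₂ := by group
      _ = n₂⁻¹ * (x⁻¹ * a * x) * n₂ := by rw [e1]
      _ = g⁻¹ * (x⁻¹ * a * x) * g := e2
      _ = (x * g)⁻¹ * a * (x * g) := by group


theorem sc_conj_mem {A S : Subgroup G} (hsc : Cfsg.IsStronglyClosed A S) {s a : G} (hs : s ∈ S)
    (ha : a ∈ A) : s * a * s⁻¹ ∈ A :=
  hsc.2 a ha s (S.mul_mem (S.mul_mem hs (hsc.1 ha)) (S.inv_mem hs))

theorem sc_mem_normalizer [Finite G] {A S : Subgroup G} (hsc : Cfsg.IsStronglyClosed A S) {x : G}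
    (hx : ∀ a ∈ A, x * a * x⁻¹ ∈ S) : x ∈ Subgroup.normalizer (A : Set G) := by
  rw [← cj_eq_self_iff]
  apply Subgroup.eq_of_le_of_card_ge
  · intro y hy
    obtain ⟨a, ha, rfl⟩ := mem_cj'.mp hy
    exact hsc.2 a ha x (hx a ha)
  · rw [card_cj]

/-- Key lemma: the action of `N_G(T)` on a fully normalized `T ≤ S` is induced by `N_G(A)`. -/
theorem sc_key [Finite G] {p : ℕ} [Fact p.Prime] (S : Sylow p G) (A : Subgroup G)
    (hab : ∀ a ∈ A, ∀ b ∈ A, a * b = b * a) (hsc : Cfsg.IsStronglyClosed A (S : Subgroup G)) :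
    ∀ k : ℕ, ∀ T : Subgroup G, T ≤ (S : Subgroup G) → FN p (S : Subgroup G) T →
      Nat.card (S : Subgroup G) - Nat.card T = k → ∀ x ∈ Subgroup.normalizer (T : Set G),
      ∃ n ∈ Subgroup.normalizer (A : Set G), ∀ t ∈ T, n⁻¹ * t * n = x⁻¹ * t * x := by
  classical
  intro k
  induction k using Nat.strong_induction_on with
  | _ k ih =>
  intro T hTS hFN hk x hx
  set NT := Subgroup.normalizer (T : Set G) with hNT
  have hSNA : (S : Subgroup G) ≤ Subgroup.normalizer (A : Set G) := fun s hs =>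
    sc_mem_normalizer hsc (fun a ha => hsc.1 (sc_conj_mem hsc hs ha))
  by_cases hA₁ : A ⊓ NT ≤ T
  · -- Case 1: A ≤ T
    have hAT : A ≤ T := by
      by_contra hnot
      have hlt : T < T ⊔ A := by
        refine lt_of_le_of_ne le_sup_left (fun h => hnot ?_)
        rw [h]; exact le_sup_right
      have hTA_S : T ⊔ A ≤ (S : Subgroup G) := sup_le hTS hsc.1
      have hgrow := normalizer_growth (S.2.to_le hTA_S) hlt
      obtain ⟨y, hy, hyT⟩ := SetLike.exists_of_lt hgrow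
      obtain ⟨hy1, hy2⟩ := Subgroup.mem_inf.mp hy
      have hy1' : y ∈ ((T ⊔ A : Subgroup G) : Set G) := hy1
      rw [Subgroup.coe_mul_of_left_le_normalizer_right T A (hTS.trans hSNA)] at hy1'
      obtain ⟨t, ht, a, ha, rfl⟩ := Set.mem_mul.mp hy1'
      apply hyT
      have haN : a ∈ NT := by
        have e : a = t⁻¹ * (t * a) := by group
        rw [e]
        exact Subgroup.mul_mem _ (Subgroup.inv_mem _ (Subgroup.le_normalizer ht)) hy2
      exact T.mul_mem ht (hA₁ (Subgroup.mem_inf.mpr ⟨ha, haN⟩))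
    refine ⟨x, ?_, fun t _ => rfl⟩
    apply sc_mem_normalizer hsc
    intro a ha
    exact hTS ((Subgroup.mem_normalizer_iff.mp hx a).mp (hAT ha))
  · -- Case 2
    have hDn : ∀ m ∈ NT, ∀ d ∈ A ⊓ T, m * d * m⁻¹ ∈ A ⊓ T := by
      intro m hm d hd
      obtain ⟨hd1, hd2⟩ := Subgroup.mem_inf.mp hd
      have h1 : m * d * m⁻¹ ∈ T := (Subgroup.mem_normalizer_iff.mp hm d).mp hd2
      exact Subgroup.mem_inf.mpr ⟨hsc.2 d hd1 m (hTS h1), h1⟩
    haveI hT'n : (T.subgroupOf NT).Normal := Subgroup.normal_in_normalizer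
    haveI hD'n : ((A ⊓ T).subgroupOf NT).Normal := by
      constructor
      intro d hd m
      rw [Subgroup.mem_subgroupOf] at hd ⊢
      simpa using hDn m m.2 d hd
    have hS₁p : IsPGroup p (((S : Subgroup G) ⊓ NT).subgroupOf NT) :=
      (S.2.to_le inf_le_left).comap_subtype
    have hS₁i : ¬ p ∣ (((S : Subgroup G) ⊓ NT).subgroupOf NT).index := hFN
    let S₁ : Sylow p ↥NT := hS₁p.toSylow hS₁i
    have hS₁c : (S₁ : Subgroup ↥NT) = ((S : Subgroup G) ⊓ NT).subgroupOf NT := rfl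
    have hDT' : (A ⊓ T).subgroupOf NT ≤ T.subgroupOf NT := by
      intro d hd
      rw [Subgroup.mem_subgroupOf] at hd ⊢
      exact (Subgroup.mem_inf.mp hd).2
    have hT'p : IsPGroup p (T.subgroupOf NT) := (S.2.to_le hTS).comap_subtype
    have hA₁S : A.subgroupOf NT ≤ (S₁ : Subgroup ↥NT) := by
      intro a ha
      rw [hS₁c, Subgroup.mem_subgroupOf]
      exact Subgroup.mem_inf.mpr ⟨hsc.1 (Subgroup.mem_subgroupOf.mp ha), a.2⟩
    have h1 : ∀ a ∈ A.subgroupOf NT, ∀ t ∈ T.subgroupOf NT,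
        a * t * a⁻¹ * t⁻¹ ∈ (A ⊓ T).subgroupOf NT := by
      intro a ha t ht
      rw [Subgroup.mem_subgroupOf] at ha ht ⊢
      have e : ((a * t * a⁻¹ * t⁻¹ : ↥NT) : G) = (a : G) * t * (a : G)⁻¹ * (t : G)⁻¹ := by simp
      rw [e]
      refine Subgroup.mem_inf.mpr ⟨?_, ?_⟩
      · have h3 : (t : G) * (a : G)⁻¹ * (t : G)⁻¹ ∈ A := sc_conj_mem hsc (hTS ht) (A.inv_mem ha)
        have e2 : (a : G) * t * (a : G)⁻¹ * (t : G)⁻¹ = (a : G) * ((t : G) * (a : G)⁻¹ * (t : G)⁻¹) := by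
          group
        rw [e2]; exact A.mul_mem ha h3
      · have h3 : (a : G) * t * (a : G)⁻¹ ∈ T := (Subgroup.mem_normalizer_iff.mp a.2 t).mp ht
        exact T.mul_mem h3 (T.inv_mem ht)
    have h2 : ∀ a ∈ A.subgroupOf NT, ∀ d ∈ (A ⊓ T).subgroupOf NT, a * d * a⁻¹ = d := by
      intro a ha d hd
      rw [Subgroup.mem_subgroupOf] at ha hd
      apply Subtype.ext
      have e : ((a * d * a⁻¹ : ↥NT) : G) = (a : G) * d * (a : G)⁻¹ := by simp
      rw [e, hab _ ha _ (Subgroup.mem_inf.mp hd).1]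
      group
    obtain ⟨R', hR'S, hTR', hAR', hfac⟩ := exists_factorization (T.subgroupOf NT)
      ((A ⊓ T).subgroupOf NT) hDT' hT'p S₁ (A.subgroupOf NT) hA₁S h1 h2
    set R : Subgroup G := R'.map NT.subtype with hR
    have hRS : R ≤ (S : Subgroup G) := by
      rintro _ ⟨r, hr, rfl⟩
      have := hR'S hr
      rw [hS₁c, Subgroup.mem_subgroupOf] at this
      exact (Subgroup.mem_inf.mp this).1
    have hTR : T ≤ R := by
      intro t ht
      have htN : t ∈ NT := Subgroup.le_normalizer ht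
      exact ⟨⟨t, htN⟩, hTR' (Subgroup.mem_subgroupOf.mpr ht), rfl⟩
    have hAR : A ⊓ NT ≤ R := by
      intro a ha
      obtain ⟨ha1, ha2⟩ := Subgroup.mem_inf.mp ha
      exact ⟨⟨a, ha2⟩, hAR' (Subgroup.mem_subgroupOf.mpr ha1), rfl⟩
    have hTltR : Nat.card T < Nat.card R := by
      have hlt : T < R := by
        refine lt_of_le_of_ne hTR (fun h => hA₁ ?_)
        rw [h]; exact hAR
      exact Set.Finite.card_lt_card (Set.toFinite _) hlt
    obtain ⟨c, hc, y, hy, hxy⟩ := hfac ⟨x, hx⟩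
    have hxy' : x = (c : G) * (y : G) := by
      have := congrArg Subtype.val hxy
      simpa using this
    have hcT : ∀ t ∈ T, (c : G)⁻¹ * t * (c : G) = t := by
      intro t ht
      have htN : t ∈ NT := Subgroup.le_normalizer ht
      have h3 := Subgroup.mem_centralizer_iff.mp hc ⟨t, htN⟩ (Subgroup.mem_subgroupOf.mpr ht)
      have h4 : t * (c : G) = (c : G) * t := by
        have := congrArg Subtype.val h3
        simpa using this
      calc (c : G)⁻¹ * t * (c : G) = (c : G)⁻¹ * (t * (c : G)) := by group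
        _ = (c : G)⁻¹ * ((c : G) * t) := by rw [h4]
        _ = t := by group
    have hyR : (y : G) ∈ Subgroup.normalizer (R : Set G) := by
      have hle : (Subgroup.normalizer (R' : Set ↥NT)).map NT.subtype ≤
          Subgroup.normalizer (R : Set G) := by
        apply le_normalizer_of_conj_mem
        rintro _ ⟨m, hm, rfl⟩ _ ⟨a, ha, rfl⟩
        refine ⟨m * a * m⁻¹, (Subgroup.mem_normalizer_iff.mp hm a).mp ha, ?_⟩
        simp
      exact hle ⟨y, hy, rfl⟩
    -- the Alperin chain for (R, y)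
    set 𝓕 : Set (Subgroup G) := {U : Subgroup G | U ≤ (S : Subgroup G) ∧ FN p (S : Subgroup G) U} with h𝓕
    have hRy : rc (y : G) (R : Set G) ⊆ ((S : Subgroup G) : Set G) := by
      rw [rc_coe]
      have : cj (y : G)⁻¹ R = R := cj_eq_self_iff.mpr (Subgroup.inv_mem _ hyR)
      rw [this]
      exact hRS
    have hreach : Reach 𝓕 (R : Set G) (y : G) := reach_of_fullyNormalized S 𝓕 (fun U hU => hU.1) (by
        intro T' hT'
        obtain ⟨c', h1', h2', -⟩ := exists_fn_conj S T' hT'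
        exact ⟨cj c' T', ⟨h1', h2'⟩, ⟨c', rfl⟩, h2'⟩) (R : Set G) (y : G) hRS hRy
    have hKL' : ∀ T' ∈ 𝓕, Nat.card T + 1 ≤ Nat.card T' → ∀ x' ∈ Subgroup.normalizer (T' : Set G),
        ∃ n ∈ Subgroup.normalizer (A : Set G), ∀ t ∈ T', n⁻¹ * t * n = x'⁻¹ * t * x' := by
      intro T' hT' hcard
      have hle : Nat.card T' ≤ Nat.card (S : Subgroup G) := Subgroup.card_le_of_le hT'.1
      exact ih (Nat.card (S : Subgroup G) - Nat.card T') (by omega) T' hT'.1 hT'.2 rfl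
    obtain ⟨n, hn, hnR⟩ := reach_good 𝓕 A (Nat.card T + 1) hKL' (R : Set G) (y : G) hreach (by
      rw [Subgroup.closure_eq]; omega)
    refine ⟨n, hn, ?_⟩
    intro t ht
    rw [hnR t (hTR ht), hxy']
    calc (y : G)⁻¹ * t * (y : G) = (y : G)⁻¹ * ((c : G)⁻¹ * t * (c : G)) * (y : G) := by rw [hcT t ht]
      _ = ((c : G) * (y : G))⁻¹ * t * ((c : G) * (y : G)) := by group

/-- An abelian strongly closed subgroup controls strong fusion. -/
theorem sc_controls [Finite G] {p : ℕ} [Fact p.Prime] (S : Sylow p G) (A : Subgroup G)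
    (hab : ∀ a ∈ A, ∀ b ∈ A, a * b = b * a) (hsc : Cfsg.IsStronglyClosed A (S : Subgroup G))
    (X : Set G) (g : G) (hX : X ⊆ ((S : Subgroup G) : Set G))
    (hXg : (fun a => g * a * g⁻¹) '' X ⊆ ((S : Subgroup G) : Set G)) :
    ∃ x ∈ Subgroup.normalizer (A : Set G), ∀ a ∈ X, g * a * g⁻¹ = x * a * x⁻¹ := by
  set 𝓕 : Set (Subgroup G) := {U : Subgroup G | U ≤ (S : Subgroup G) ∧ FN p (S : Subgroup G) U} with h𝓕
  have hrc : rc g⁻¹ X ⊆ ((S : Subgroup G) : Set G) := by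
    rw [rc_def]
    simpa using hXg
  have hreach : Reach 𝓕 X g⁻¹ := reach_of_fullyNormalized S 𝓕 (fun U hU => hU.1) (by
      intro T' hT'
      obtain ⟨c', h1', h2', -⟩ := exists_fn_conj S T' hT'
      exact ⟨cj c' T', ⟨h1', h2'⟩, ⟨c', rfl⟩, h2'⟩) X g⁻¹ hX hrc
  have hKL : ∀ T' ∈ 𝓕, 0 ≤ Nat.card T' → ∀ x' ∈ Subgroup.normalizer (T' : Set G),
      ∃ n ∈ Subgroup.normalizer (A : Set G), ∀ t ∈ T', n⁻¹ * t * n = x'⁻¹ * t * x' := by
    intro T' hT' _
    exact sc_key S A hab hsc _ T' hT'.1 hT'.2 rfl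
  obtain ⟨n, hn, hnX⟩ := reach_good 𝓕 A 0 hKL X g⁻¹ hreach (Nat.zero_le _)
  refine ⟨n⁻¹, Subgroup.inv_mem _ hn, ?_⟩
  intro a ha
  have := hnX a ha
  rw [inv_inv] at this ⊢
  exact this.symm

end Cfsg.Agent.Lib.Helper46
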