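import Mathlib
import Cfsg.Agent.Lib.Helper49.TwoPPlusOne
import Cfsg.Agent.Lib.Helper66.Orbits
import Cfsg.Agent.Lib.Helper17.ActionCounts

set_option autoImplicit false
set_option linter.style.haveILetI false
set_option linter.unusedSectionVars false

/-!
# Basic facts on the conjugation action on Sylow subgroups (towards `n_3 ≠ 22`)
-/

namespace Cfsg.Agent.Lib.Helper46.Syl22

open MulAction Subgroup Cfsg.Agent.Lib.Helper49.TwoPPlusOne

universe u

section general

variable {G : Type u} [Group G] [Finite G] {p : ℕ} [hp : Fact p.Prime]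

/-- A `p`-subgroup normalizing a Sylow `p`-subgroup is contained in it. -/
theorem le_sylow_of_le_normalizer {H : Subgroup G} (hH : IsPGroup p H) (Q : Sylow p G)
    (h : H ≤ normalizer ((Q : Subgroup G) : Set G)) : H ≤ Q := by
  have h1 : H ⊓ normalizer ((Q : Subgroup G) : Set G) = H ⊓ Q := hH.inf_normalizer_sylow Q
  rw [inf_eq_left.mpr h] at h1
  exact inf_eq_left.mp h1.symm

/-- An element of a Sylow subgroup `A` fixes the Sylow subgroup `B` iff it lies in `B`. -/
theorem smul_eq_iff_mem (A B : Sylow p G) {a : G} (ha : a ∈ A) : a • B = B ↔ a ∈ B := by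
  rw [Sylow.smul_eq_iff_mem_normalizer]
  constructor
  · intro h
    have h1 : a ∈ (A : Subgroup G) ⊓ normalizer ((B : Subgroup G) : Set G) := ⟨ha, h⟩
    have h2 : (A : Subgroup G) ⊓ normalizer ((B : Subgroup G) : Set G) = (A : Subgroup G) ⊓ B :=
      A.2.inf_normalizer_sylow B
    rw [h2] at h1
    exact h1.2
  · intro h
    exact le_normalizer h

/-- All Sylow subgroups have the same order. -/
theorem card_sylow_eq (A B : Sylow p G) :
    Nat.card ↥(A : Subgroup G) = Nat.card ↥(B : Subgroup G) := by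
  rw [A.card_eq_multiplicity, B.card_eq_multiplicity]

/-- A Sylow subgroup contained in another is equal to it. -/
theorem sylow_eq_of_le {A B : Sylow p G} (h : (A : Subgroup G) ≤ B) : A = B :=
  Sylow.ext (A.is_maximal' B.2 h).symm

/-- The stabilizer in `A` of the point `B`. -/
theorem stabilizer_sylow (A B : Sylow p G) :
    stabilizer ↥(A : Subgroup G) B = ((A : Subgroup G) ⊓ B).subgroupOf A := by
  ext a
  rw [mem_stabilizer_iff, mem_subgroupOf, Subgroup.mem_inf]
  have : a • B = (a : G) • B := rfl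
  rw [this, smul_eq_iff_mem A B a.2]
  exact ⟨fun h => ⟨a.2, h⟩, fun h => h.2⟩

/-- Orbit–stabilizer for the action of a Sylow subgroup on the set of Sylow subgroups. -/
theorem ncard_orbit_mul (A B : Sylow p G) :
    (orbit ↥(A : Subgroup G) B).ncard * Nat.card ↥((A : Subgroup G) ⊓ B) =
      Nat.card ↥(A : Subgroup G) := by
  rw [← index_stabilizer, stabilizer_sylow, mul_comm]
  have h1 : Nat.card ↥(((A : Subgroup G) ⊓ B).subgroupOf A) = Nat.card ↥((A : Subgroup G) ⊓ B) :=
    Nat.card_congr (Subgroup.subgroupOfEquivOfLe inf_le_left).toEquiv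
  rw [← h1]
  exact Subgroup.card_mul_index _

/-- Adjacency of Sylow subgroups: the intersection has index `p`. -/
def Adj (A B : Sylow p G) : Prop :=
  A ≠ B ∧ Nat.card ↥((A : Subgroup G) ⊓ B) * p = Nat.card ↥(A : Subgroup G)

theorem Adj.symm {A B : Sylow p G} (h : Adj A B) : Adj B A := by
  refine ⟨h.1.symm, ?_⟩
  rw [inf_comm, h.2, card_sylow_eq A B]

theorem Adj.ne {A B : Sylow p G} (h : Adj A B) : A ≠ B := h.1

/-- If `Adj A B`, `Q ≠ A` and `A ⊓ B ≤ Q`, then `A ⊓ Q = A ⊓ B`. -/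
theorem Adj.inf_eq {A B : Sylow p G} (h : Adj A B) {Q : Sylow p G} (hQA : Q ≠ A)
    (hQ : (A : Subgroup G) ⊓ B ≤ Q) : (A : Subgroup G) ⊓ Q = (A : Subgroup G) ⊓ B := by
  have hle : (A : Subgroup G) ⊓ B ≤ (A : Subgroup G) ⊓ Q := le_inf inf_le_left hQ
  have hd1 : Nat.card ↥((A : Subgroup G) ⊓ B) ∣ Nat.card ↥((A : Subgroup G) ⊓ Q) :=
    Subgroup.card_dvd_of_le hle
  have hd2 : Nat.card ↥((A : Subgroup G) ⊓ Q) ∣ Nat.card ↥(A : Subgroup G) :=
    Subgroup.card_dvd_of_le inf_le_left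
  obtain ⟨j, hj⟩ := hd1
  have hpos : 0 < Nat.card ↥((A : Subgroup G) ⊓ B) := Nat.card_pos
  rw [hj, ← h.2] at hd2
  have hjp : j ∣ p := Nat.dvd_of_mul_dvd_mul_left hpos hd2
  rcases (Nat.dvd_prime hp.out).mp hjp with h1 | h1
  · symm
    apply Subgroup.eq_of_le_of_card_ge hle
    rw [hj, h1, mul_one]
  · exfalso
    apply hQA
    symm
    apply sylow_eq_of_le
    have : (A : Subgroup G) ⊓ Q = A := by
      apply Subgroup.eq_of_le_of_card_ge inf_le_left
      rw [hj, h1, h.2]
    rw [← this]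
    exact inf_le_right

theorem Adj.adj_of_le {A B : Sylow p G} (h : Adj A B) {Q : Sylow p G} (hQA : Q ≠ A)
    (hQ : (A : Subgroup G) ⊓ B ≤ Q) : Adj A Q :=
  ⟨hQA.symm, by rw [h.inf_eq hQA hQ]; exact h.2⟩

/-- Two distinct points on the line of `A`, `B` intersect in `A ⊓ B`. -/
theorem Adj.inf_eq_of_mem {A B : Sylow p G} (h : Adj A B) {Q Q' : Sylow p G} (hne : Q ≠ Q')
    (hQ : (A : Subgroup G) ⊓ B ≤ Q) (hQ' : (A : Subgroup G) ⊓ B ≤ Q') :
    (Q : Subgroup G) ⊓ Q' = (A : Subgroup G) ⊓ B := by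
  by_cases hQA : Q = A
  · subst hQA
    exact h.inf_eq hne.symm hQ'
  · have h1 : (A : Subgroup G) ⊓ Q = (A : Subgroup G) ⊓ B := h.inf_eq hQA hQ
    have h2 : Adj Q A := (h.adj_of_le hQA hQ).symm
    have h3 : (Q : Subgroup G) ⊓ A = (A : Subgroup G) ⊓ B := by rw [inf_comm, h1]
    have h4 := h2.inf_eq (Q := Q') hne.symm (by rw [h3]; exact hQ')
    rw [h4, h3]

/-- If `Adj A B` then `A` normalizes `A ⊓ B`. -/
theorem Adj.le_normalizer {A B : Sylow p G} (h : Adj A B) :
    (A : Subgroup G) ≤ normalizer ((((A : Subgroup G) ⊓ B : Subgroup G)) : Set G) := by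
  rw [← Subgroup.normal_subgroupOf_iff_le_normalizer inf_le_left]
  apply Subgroup.normal_of_index_eq_minFac_card
  have h1 : Nat.card ↥(((A : Subgroup G) ⊓ B).subgroupOf A) = Nat.card ↥((A : Subgroup G) ⊓ B) :=
    Nat.card_congr (Subgroup.subgroupOfEquivOfLe inf_le_left).toEquiv
  have h2 := Subgroup.card_mul_index (((A : Subgroup G) ⊓ B).subgroupOf A)
  rw [h1, ← h.2] at h2
  have hpos : 0 < Nat.card ↥((A : Subgroup G) ⊓ B) := Nat.card_pos
  have h3 : (((A : Subgroup G) ⊓ B).subgroupOf A).index = p := Nat.eq_of_mul_eq_mul_left hpos h2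
  rw [h3]
  obtain ⟨n, hn⟩ := IsPGroup.iff_card.mp A.2
  have hn0 : n ≠ 0 := by
    rintro rfl
    rw [pow_zero] at hn
    have := h.2
    rw [hn] at this
    have hp2 := hp.out.two_le
    have : p ∣ 1 := Dvd.intro_left _ this
    have := Nat.le_of_dvd one_pos this
    omega
  rw [hn, Nat.Prime.pow_minFac hp.out hn0]

/-- Conjugation by an element of `A ⊓ B`... more generally an element of `A` preserves the line
of `A`, `B`. -/
theorem Adj.smul_le {A B : Sylow p G} (h : Adj A B) {a : G} (ha : a ∈ A) {Q : Sylow p G}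
    (hQ : (A : Subgroup G) ⊓ B ≤ Q) : (A : Subgroup G) ⊓ B ≤ (a • Q : Sylow p G) := by
  intro d hd
  have hn := h.le_normalizer ha
  rw [Sylow.smul_def, Sylow.pointwise_smul_def, Subgroup.mem_pointwise_smul_iff_inv_smul_mem,
    MulAut.smul_def, ← map_inv, MulAut.conj_apply, inv_inv]
  apply hQ
  have h1 := (Subgroup.mem_normalizer_iff.mp (inv_mem hn) d).mp hd
  rwa [inv_inv] at h1

/-- The orbit of `B` under `A` has `p` elements iff `A` and `B` are adjacent. -/
theorem adj_iff_ncard_orbit {A B : Sylow p G} (hne : A ≠ B) :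
    Adj A B ↔ (orbit ↥(A : Subgroup G) B).ncard = p := by
  have h1 := ncard_orbit_mul A B
  have hpos : 0 < Nat.card ↥((A : Subgroup G) ⊓ B) := Nat.card_pos
  constructor
  · intro h
    rw [← h.2, mul_comm] at h1
    exact Nat.eq_of_mul_eq_mul_left hpos h1
  · intro h
    refine ⟨hne, ?_⟩
    rw [← h1, h, mul_comm]

/-- If `A ≠ B` are not adjacent, the orbit of `B` under `A` has size divisible by `p ^ 2`. -/
theorem sq_dvd_ncard_orbit {A B : Sylow p G} (hne : A ≠ B) (hadj : ¬ Adj A B) :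
    p ^ 2 ∣ (orbit ↥(A : Subgroup G) B).ncard := by
  obtain ⟨n, hn⟩ := A.2.card_orbit B
  rw [Nat.card_coe_set_eq] at hn
  rw [hn]
  apply pow_dvd_pow
  by_contra hlt
  have hn' : n = 0 ∨ n = 1 := by omega
  rcases hn' with rfl | rfl
  · rw [pow_zero] at hn
    apply hne
    apply sylow_eq_of_le
    have h1 := ncard_orbit_mul A B
    rw [hn, one_mul] at h1
    have : (A : Subgroup G) ⊓ B = A := Subgroup.eq_of_le_of_card_ge inf_le_left h1.ge
    rw [← this]
    exact inf_le_right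
  · rw [pow_one] at hn
    exact hadj ((adj_iff_ncard_orbit hne).mpr hn)

/-- Three pairwise adjacent Sylow subgroups are collinear. -/
theorem collinear_of_triangle {A B C : Sylow p G} (hAB : Adj A B) (hAC : Adj A C)
    (hBC : Adj B C) : (A : Subgroup G) ⊓ B ≤ C := by
  by_contra hC
  have hcard : Nat.card ↥((A : Subgroup G) ⊓ C) = Nat.card ↥((A : Subgroup G) ⊓ B) := by
    have h1 := hAB.2
    have h2 := hAC.2
    have hp0 : 0 < p := hp.out.pos
    exact Nat.eq_of_mul_eq_mul_right hp0 (h2.trans h1.symm)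
  have hnle : ¬ (A : Subgroup G) ⊓ B ≤ (A : Subgroup G) ⊓ C := by
    intro hle
    exact hC (hle.trans inf_le_right)
  obtain ⟨d, hd1, hd2⟩ := SetLike.not_le_iff_exists.mp hnle
  have hdA : d ∈ A := hd1.1
  have hdB : d ∈ B := hd1.2
  have hdC : d ∉ C := fun h => hd2 ⟨hdA, h⟩
  have hne : C ≠ d • C := by
    intro h
    exact hdC ((smul_eq_iff_mem A C hdA).mp h.symm)
  have h2 : (A : Subgroup G) ⊓ C ≤ (d • C : Sylow p G) := hAC.smul_le hdA inf_le_right
  have h3 : (B : Subgroup G) ⊓ C ≤ (d • C : Sylow p G) := hBC.smul_le hdB inf_le_right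
  have e2 := hAC.inf_eq_of_mem hne inf_le_right h2
  have e3 := hBC.inf_eq_of_mem hne inf_le_right h3
  have e : (A : Subgroup G) ⊓ C = (B : Subgroup G) ⊓ C := e2.symm.trans e3
  have hle : (A : Subgroup G) ⊓ C ≤ (A : Subgroup G) ⊓ B :=
    le_inf inf_le_left (e ▸ inf_le_left)
  have : (A : Subgroup G) ⊓ C = (A : Subgroup G) ⊓ B :=
    Subgroup.eq_of_le_of_card_ge hle hcard.ge
  apply hC
  rw [← this]
  exact inf_le_right

end general

end Cfsg.Agent.Lib.Helper46.Syl22
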