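import Cfsg.Agent.Lib.Helper46.Syl22A
import Cfsg.Agent.Lib.Helper46.FlagCount

set_option autoImplicit false
set_option linter.style.haveILetI false
set_option linter.unusedSectionVars false

/-!
# The line geometry on the set of Sylow subgroups
-/

namespace Cfsg.Agent.Lib.Helper46.Syl22

open MulAction Subgroup Pointwise Classical

universe u

section lines

variable {G : Type u} [Group G] [Finite G] {p : ℕ} [hp : Fact p.Prime]

/-- A classical `Fintype` structure on the set of Sylow subgroups. -/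
noncomputable local instance instFintypeSylow : Fintype (Sylow p G) := Fintype.ofFinite _

/-- The points of the line determined by the subgroup `D`. -/
noncomputable def lineOf (D : Subgroup G) : Finset (Sylow p G) :=
  Finset.univ.filter fun Q => D ≤ (Q : Subgroup G)

theorem mem_lineOf {D : Subgroup G} {Q : Sylow p G} :
    Q ∈ lineOf D ↔ D ≤ (Q : Subgroup G) := by
  simp [lineOf]

/-- The neighbours of a point. -/
noncomputable def nbr (A : Sylow p G) : Finset (Sylow p G) :=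
  Finset.univ.filter fun B => Adj A B

theorem mem_nbr {A B : Sylow p G} : B ∈ nbr A ↔ Adj A B := by
  simp [nbr]

/-- The set of all lines. -/
noncomputable def lines (p : ℕ) [Fact p.Prime] (G : Type u) [Group G] [Finite G] :
    Finset (Finset (Sylow p G)) :=
  (Finset.univ.filter fun AB : Sylow p G × Sylow p G => Adj AB.1 AB.2).image
    fun AB => lineOf ((AB.1 : Subgroup G) ⊓ AB.2)

theorem mem_lines {ℓ : Finset (Sylow p G)} :
    ℓ ∈ lines p G ↔ ∃ A B : Sylow p G, Adj A B ∧ ℓ = lineOf ((A : Subgroup G) ⊓ B) := by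
  unfold lines
  rw [Finset.mem_image]
  constructor
  · rintro ⟨⟨A, B⟩, hAB, rfl⟩
    rw [Finset.mem_filter] at hAB
    exact ⟨A, B, hAB.2, rfl⟩
  · rintro ⟨A, B, hAB, rfl⟩
    exact ⟨(A, B), by rw [Finset.mem_filter]; exact ⟨Finset.mem_univ _, hAB⟩, rfl⟩

theorem Adj.left_mem {A B : Sylow p G} (_h : Adj A B) : A ∈ lineOf ((A : Subgroup G) ⊓ B) :=
  mem_lineOf.mpr inf_le_left

theorem Adj.right_mem {A B : Sylow p G} (_h : Adj A B) : B ∈ lineOf ((A : Subgroup G) ⊓ B) :=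
  mem_lineOf.mpr inf_le_right

theorem Adj.lineOf_mem_lines {A B : Sylow p G} (h : Adj A B) :
    lineOf ((A : Subgroup G) ⊓ B) ∈ lines p G :=
  mem_lines.mpr ⟨A, B, h, rfl⟩

/-- Two distinct points of a line are adjacent and determine the line. -/
theorem Adj.of_mem_lineOf {A B : Sylow p G} (h : Adj A B) {Q Q' : Sylow p G} (hne : Q ≠ Q')
    (hQ : Q ∈ lineOf ((A : Subgroup G) ⊓ B)) (hQ' : Q' ∈ lineOf ((A : Subgroup G) ⊓ B)) :
    Adj Q Q' ∧ (Q : Subgroup G) ⊓ Q' = (A : Subgroup G) ⊓ B := by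
  have e := h.inf_eq_of_mem hne (mem_lineOf.mp hQ) (mem_lineOf.mp hQ')
  refine ⟨⟨hne, ?_⟩, e⟩
  rw [e, h.2, card_sylow_eq A Q]

/-- A line is determined by any two of its points. -/
theorem line_eq_of_mem {ℓ : Finset (Sylow p G)} (hℓ : ℓ ∈ lines p G) {Q Q' : Sylow p G}
    (hne : Q ≠ Q') (hQ : Q ∈ ℓ) (hQ' : Q' ∈ ℓ) :
    Adj Q Q' ∧ ℓ = lineOf ((Q : Subgroup G) ⊓ Q') := by
  obtain ⟨A, B, hAB, rfl⟩ := mem_lines.mp hℓ
  obtain ⟨h1, h2⟩ := hAB.of_mem_lineOf hne hQ hQ'
  exact ⟨h1, by rw [h2]⟩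

/-- Two lines through two common distinct points coincide. -/
theorem line_unique {ℓ ℓ' : Finset (Sylow p G)} (hℓ : ℓ ∈ lines p G) (hℓ' : ℓ' ∈ lines p G)
    {Q Q' : Sylow p G} (hne : Q ≠ Q') (hQ : Q ∈ ℓ) (hQ' : Q' ∈ ℓ) (hQ2 : Q ∈ ℓ')
    (hQ2' : Q' ∈ ℓ') : ℓ = ℓ' := by
  rw [(line_eq_of_mem hℓ hne hQ hQ').2, (line_eq_of_mem hℓ' hne hQ2 hQ2').2]

/-- Conjugation maps lines to lines. -/
theorem smul_lineOf (g : G) (D : Subgroup G) :
    g • (lineOf D : Finset (Sylow p G)) = lineOf (MulAut.conj g • D) := by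
  ext Q
  rw [← Finset.inv_smul_mem_iff, mem_lineOf, mem_lineOf, Sylow.coe_subgroup_smul, map_inv,
    Subgroup.subset_pointwise_smul_iff, inv_inv]

theorem card_inf_smul (g : G) (A B : Sylow p G) :
    Nat.card ↥(((g • A : Sylow p G) : Subgroup G) ⊓ (g • B : Sylow p G)) =
      Nat.card ↥((A : Subgroup G) ⊓ B) := by
  rw [Sylow.coe_subgroup_smul, Sylow.coe_subgroup_smul, ← Subgroup.smul_inf]
  exact (Nat.card_congr (Subgroup.equivSMul (MulAut.conj g) _).toEquiv).symm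

theorem Adj.smul {A B : Sylow p G} (h : Adj A B) (g : G) : Adj (g • A) (g • B) := by
  refine ⟨fun e => h.1 (smul_left_cancel g e), ?_⟩
  rw [card_inf_smul, h.2, card_sylow_eq A (g • A)]

theorem smul_mem_lines (g : G) {ℓ : Finset (Sylow p G)} (hℓ : ℓ ∈ lines p G) :
    g • ℓ ∈ lines p G := by
  obtain ⟨A, B, hAB, rfl⟩ := mem_lines.mp hℓ
  rw [smul_lineOf, Subgroup.smul_inf]
  exact mem_lines.mpr ⟨g • A, g • B, hAB.smul g, rfl⟩

/-- The number of points of a line is `1` modulo `p`. -/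
theorem card_line_mod {ℓ : Finset (Sylow p G)} (hℓ : ℓ ∈ lines p G) : ℓ.card % p = 1 := by
  obtain ⟨A, B, hAB, rfl⟩ := mem_lines.mp hℓ
  have hinv : ∀ a : ↥(A : Subgroup G), ∀ Q ∈ ((lineOf ((A : Subgroup G) ⊓ B) : Finset (Sylow p G)) :
      Set (Sylow p G)), a • Q ∈ ((lineOf ((A : Subgroup G) ⊓ B) : Finset (Sylow p G)) :
      Set (Sylow p G)) := by
    intro a Q hQ
    rw [Finset.mem_coe, mem_lineOf] at hQ ⊢
    exact hAB.smul_le a.2 hQ
  have h := Cfsg.Agent.Lib.Helper17.card_invariant_modEq (A := ↥(A : Subgroup G))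
    (X := Sylow p G) A.2 _ hinv
  have hset : (((lineOf ((A : Subgroup G) ⊓ B) : Finset (Sylow p G)) : Set (Sylow p G)) ∩
      fixedPoints ↥(A : Subgroup G) (Sylow p G)) = {A} := by
    ext Q
    rw [Set.mem_inter_iff, Set.mem_singleton_iff]
    constructor
    · rintro ⟨-, hQ⟩
      have hle : (A : Subgroup G) ≤ (Q : Subgroup G) :=
        (IsPGroup.sylow_mem_fixedPoints_iff A.2).mp hQ
      exact (sylow_eq_of_le hle).symm
    · rintro rfl
      exact ⟨by rw [Finset.mem_coe]; exact hAB.left_mem,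
        (IsPGroup.sylow_mem_fixedPoints_iff Q.2).mpr le_rfl⟩
  rw [hset, Nat.card_coe_set_eq, Set.ncard_coe_finset, Nat.card_coe_set_eq,
    Set.ncard_singleton] at h
  have h1 : (lineOf ((A : Subgroup G) ⊓ B) : Finset (Sylow p G)).card % p = 1 % p := h
  rwa [Nat.mod_eq_of_lt hp.out.one_lt] at h1

theorem two_le_card_line {ℓ : Finset (Sylow p G)} (hℓ : ℓ ∈ lines p G) : 2 ≤ ℓ.card := by
  obtain ⟨A, B, hAB, rfl⟩ := mem_lines.mp hℓ
  exact Finset.one_lt_card.mpr ⟨A, hAB.left_mem, B, hAB.right_mem, hAB.1⟩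

/-- The non-neighbours of `A` other than `A` form a set of size divisible by `p ^ 2`. -/
theorem sq_dvd_card_nonNbr (A : Sylow p G) :
    p ^ 2 ∣ (Finset.univ.filter fun B : Sylow p G => B ≠ A ∧ ¬ Adj A B).card := by
  apply Cfsg.Agent.Lib.Helper66.dvd_card_of_invariant (G := ↥(A : Subgroup G)) (p ^ 2)
  · intro a B hB
    rw [Finset.mem_filter] at hB ⊢
    have hfix : a • A = A := by
      have : a • A = (a : G) • A := rfl
      rw [this, smul_eq_iff_mem A A a.2]
      exact a.2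
    have hne : a • B ≠ A := by
      intro h
      apply hB.2.1
      exact smul_left_cancel a (h.trans hfix.symm)
    refine ⟨Finset.mem_univ _, hne, ?_⟩
    intro hadj
    apply hB.2.2
    rw [adj_iff_ncard_orbit hne.symm, MulAction.orbit_smul a B] at hadj
    rw [adj_iff_ncard_orbit hB.2.1.symm]
    exact hadj
  · intro B hB
    rw [Finset.mem_filter] at hB
    exact sq_dvd_ncard_orbit hB.2.1.symm hB.2.2

/-- Partition of the points. -/
theorem card_univ_eq (A : Sylow p G) :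
    Nat.card (Sylow p G) =
      1 + (nbr A).card + (Finset.univ.filter fun B : Sylow p G => B ≠ A ∧ ¬ Adj A B).card := by
  obtain ⟨W, hW⟩ : ∃ W : Finset (Sylow p G),
      W = Finset.univ.filter fun B : Sylow p G => B ≠ A ∧ ¬ Adj A B := ⟨_, rfl⟩
  have hmemW : ∀ B, B ∈ W ↔ B ≠ A ∧ ¬ Adj A B := by
    intro B
    rw [hW, Finset.mem_filter]
    simp
  rw [← hW]
  have h1 : (Finset.univ : Finset (Sylow p G)) = insert A (nbr A ∪ W) := by
    ext B
    simp only [Finset.mem_univ, Finset.mem_insert, Finset.mem_union, mem_nbr, hmemW, true_iff]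
    by_cases h : B = A
    · exact Or.inl h
    · by_cases h2 : Adj A B
      · exact Or.inr (Or.inl h2)
      · exact Or.inr (Or.inr ⟨h, h2⟩)
  have hA : A ∉ nbr A ∪ W := by
    simp only [Finset.mem_union, mem_nbr, hmemW, not_or]
    exact ⟨fun h => h.1 rfl, fun h => h.1 rfl⟩
  have hd : Disjoint (nbr A) W := by
    rw [Finset.disjoint_left]
    intro B hB hB'
    rw [mem_nbr] at hB
    rw [hmemW] at hB'
    exact hB'.2 hB
  rw [Nat.card_eq_fintype_card, ← Finset.card_univ, h1, Finset.card_insert_of_notMem hA,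
    Finset.card_union_of_disjoint hd]
  omega

/-- The neighbours of `A` are partitioned by the lines through `A`. -/
theorem card_nbr_eq_sum (A : Sylow p G) :
    (nbr A).card = ∑ ℓ ∈ (lines p G).filter (fun ℓ => A ∈ ℓ), (ℓ.card - 1) := by
  have h1 : nbr A = ((lines p G).filter (fun ℓ => A ∈ ℓ)).biUnion (fun ℓ => ℓ.erase A) := by
    ext B
    rw [mem_nbr, Finset.mem_biUnion]
    constructor
    · intro hAB
      refine ⟨lineOf ((A : Subgroup G) ⊓ B), ?_, ?_⟩
      · rw [Finset.mem_filter]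
        exact ⟨hAB.lineOf_mem_lines, hAB.left_mem⟩
      · rw [Finset.mem_erase]
        exact ⟨hAB.1.symm, hAB.right_mem⟩
    · rintro ⟨ℓ, hℓ, hB⟩
      rw [Finset.mem_filter] at hℓ
      rw [Finset.mem_erase] at hB
      exact (line_eq_of_mem hℓ.1 hB.1.symm hℓ.2 hB.2).1
  rw [h1, Finset.card_biUnion]
  · apply Finset.sum_congr rfl
    intro ℓ hℓ
    rw [Finset.mem_filter] at hℓ
    rw [Finset.card_erase_of_mem hℓ.2]
  · intro ℓ hℓ ℓ' hℓ' hne
    rw [Finset.mem_coe, Finset.mem_filter] at hℓ hℓ'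
    rw [Function.onFun, Finset.disjoint_left]
    intro B hB hB'
    rw [Finset.mem_erase] at hB hB'
    exact hne (line_unique hℓ.1 hℓ'.1 hB.1.symm hℓ.2 hB.2 hℓ'.2 hB'.2)

theorem card_through_mul_le (A : Sylow p G) (k : ℕ) :
    ((lines p G).filter (fun ℓ => ℓ.card = k ∧ A ∈ ℓ)).card * (k - 1) ≤ (nbr A).card := by
  rw [card_nbr_eq_sum]
  have hsub : (lines p G).filter (fun ℓ => ℓ.card = k ∧ A ∈ ℓ) ⊆
      (lines p G).filter (fun ℓ => A ∈ ℓ) := by
    intro ℓ hℓ
    rw [Finset.mem_filter] at hℓ ⊢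
    exact ⟨hℓ.1, hℓ.2.2⟩
  have h1 := Finset.sum_le_sum_of_subset (f := fun ℓ : Finset (Sylow p G) => ℓ.card - 1) hsub
  refine le_trans (le_of_eq ?_) h1
  rw [← smul_eq_mul, ← Finset.sum_const]
  apply Finset.sum_congr rfl
  intro ℓ hℓ
  rw [Finset.mem_filter] at hℓ
  rw [hℓ.2.1]

end lines

section twentytwo

variable {G : Type u} [Group G] [Finite G]

attribute [local instance] instFintypeSylow

/-- The dichotomy given by the line geometry when there are `22` Sylow `3`-subgroups. -/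
theorem geometry_dichotomy (hcard : Nat.card (Sylow 3 G) = 22) :
    (∃ ℓ ∈ lines 3 G, ℓ.card = 22) ∨
      ((∀ ℓ ∈ lines 3 G, ℓ.card = 4) ∧ ∀ A : Sylow 3 G, (nbr A).card = 12) := by
  have hcard' : Fintype.card (Sylow 3 G) = 22 := by rw [← Nat.card_eq_fintype_card, hcard]
  have hflag : ∀ (k : ℕ) (A : Sylow 3 G),
      22 * ((lines 3 G).filter fun ℓ => ℓ.card = k ∧ A ∈ ℓ).card =
        k * ((lines 3 G).filter fun ℓ => ℓ.card = k).card := by
    intro k A
    rw [← hcard']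
    exact Cfsg.Agent.Lib.Helper46.FlagCount.flag_count (Γ := G) (lines 3 G)
      (fun g ℓ hℓ => smul_mem_lines g hℓ) k A
  have hnbr : ∀ A : Sylow 3 G, (nbr A).card ≤ 21 := by
    intro A
    have := card_univ_eq A
    rw [hcard] at this
    omega
  have hsize : ∀ ℓ ∈ lines 3 G, ℓ.card = 4 ∨ ℓ.card = 22 := by
    intro ℓ hℓ
    have h1 := card_line_mod hℓ
    have h2 := two_le_card_line hℓ
    have h3 : ℓ.card ≤ 22 := by
      rw [← hcard']; exact Finset.card_le_univ ℓ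
    obtain ⟨A, hA⟩ : ∃ A, A ∈ ℓ := by
      apply Finset.card_pos.mp; omega
    have hf := hflag ℓ.card A
    have hb : 1 ≤ ((lines 3 G).filter fun ℓ' => ℓ'.card = ℓ.card).card := by
      apply Finset.card_pos.mpr
      exact ⟨ℓ, by rw [Finset.mem_filter]; exact ⟨hℓ, rfl⟩⟩
    have hr := card_through_mul_le A ℓ.card
    have hn := hnbr A
    obtain ⟨k, hk⟩ : ∃ k, k = ℓ.card := ⟨_, rfl⟩
    obtain ⟨r, hr'⟩ : ∃ r, r = ((lines 3 G).filter fun ℓ' => ℓ'.card = ℓ.card ∧ A ∈ ℓ').card :=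
      ⟨_, rfl⟩
    obtain ⟨b, hb'⟩ : ∃ b, b = ((lines 3 G).filter fun ℓ' => ℓ'.card = ℓ.card).card := ⟨_, rfl⟩
    rw [← hr', ← hb', ← hk] at hf
    rw [← hr', ← hk] at hr
    rw [← hb'] at hb
    rw [← hk] at h1 h2 h3 ⊢
    have hk' : k = 4 ∨ k = 7 ∨ k = 10 ∨ k = 13 ∨ k = 16 ∨ k = 19 ∨ k = 22 := by omega
    rcases hk' with rfl | rfl | rfl | rfl | rfl | rfl | rfl
    · exact Or.inl rfl
    · exfalso; omega
    · exfalso; omega
    · exfalso; omega
    · exfalso; omega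
    · exfalso; omega
    · exact Or.inr rfl
  by_cases h22 : ∃ ℓ ∈ lines 3 G, ℓ.card = 22
  · exact Or.inl h22
  · right
    have h4 : ∀ ℓ ∈ lines 3 G, ℓ.card = 4 := by
      intro ℓ hℓ
      rcases hsize ℓ hℓ with h | h
      · exact h
      · exact absurd ⟨ℓ, hℓ, h⟩ h22
    refine ⟨h4, fun A => ?_⟩
    have hf := hflag 4 A
    have hsum := card_nbr_eq_sum A
    have hfil : (lines 3 G).filter (fun ℓ => A ∈ ℓ) =
        (lines 3 G).filter (fun ℓ => ℓ.card = 4 ∧ A ∈ ℓ) := by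
      ext ℓ
      rw [Finset.mem_filter, Finset.mem_filter]
      constructor
      · rintro ⟨h1, h2⟩
        exact ⟨h1, h4 ℓ h1, h2⟩
      · rintro ⟨h1, -, h2⟩
        exact ⟨h1, h2⟩
    have hsum2 : (nbr A).card =
        ((lines 3 G).filter (fun ℓ => ℓ.card = 4 ∧ A ∈ ℓ)).card * 3 := by
      rw [hsum, hfil, ← smul_eq_mul, ← Finset.sum_const]
      apply Finset.sum_congr rfl
      intro ℓ hℓ
      rw [Finset.mem_filter] at hℓ
      rw [hℓ.2.1]
    have h9 := sq_dvd_card_nonNbr A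
    have hu := card_univ_eq A
    rw [hcard] at hu
    obtain ⟨w, hw⟩ := h9
    omega

end twentytwo

end Cfsg.Agent.Lib.Helper46.Syl22
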