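import Cfsg.Agent.Lib.Helper46.Syl22B

set_option autoImplicit false
set_option linter.style.haveILetI false
set_option linter.unusedSectionVars false

/-!
# The configuration with all lines of size four is impossible
-/

namespace Cfsg.Agent.Lib.Helper46.Syl22

open MulAction Subgroup Pointwise Classical

universe u

section four

variable {G : Type u} [Group G] [Finite G]

attribute [local instance] instFintypeSylow

theorem Adj.irrefl (A : Sylow 3 G) : ¬ Adj A A := fun h => h.1 rfl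

/-- Common neighbours of two adjacent points lie on their line. -/
theorem card_common_nbr_le (h4 : ∀ ℓ ∈ lines 3 G, ℓ.card = 4) {A B : Sylow 3 G} (hAB : Adj A B) :
    (nbr A ∩ nbr B).card ≤ 2 := by
  have hsub : nbr A ∩ nbr B ⊆ ((lineOf ((A : Subgroup G) ⊓ B)).erase A).erase B := by
    intro C hC
    rw [Finset.mem_inter, mem_nbr, mem_nbr] at hC
    rw [Finset.mem_erase, Finset.mem_erase, mem_lineOf]
    exact ⟨hC.2.1.symm, hC.1.1.symm, collinear_of_triangle hAB hC.1 hC.2⟩
  have h1 := Finset.card_le_card hsub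
  have h2 : (lineOf ((A : Subgroup G) ⊓ B) : Finset (Sylow 3 G)).card = 4 :=
    h4 _ hAB.lineOf_mem_lines
  have h3 : B ∈ (lineOf ((A : Subgroup G) ⊓ B)).erase A :=
    Finset.mem_erase.mpr ⟨hAB.1.symm, hAB.right_mem⟩
  rw [Finset.card_erase_of_mem h3, Finset.card_erase_of_mem hAB.left_mem, h2] at h1
  exact h1

/-- Non-neighbours of `A` are adjacent to all neighbours of `A`. -/
theorem adj_of_nonNbr (hcard : Nat.card (Sylow 3 G) = 22) (h4 : ∀ ℓ ∈ lines 3 G, ℓ.card = 4)
    (h12 : ∀ A : Sylow 3 G, (nbr A).card = 12) {A B C : Sylow 3 G} (hAB : Adj A B)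
    (hCA : C ≠ A) (hC : ¬ Adj A C) : Adj B C := by
  obtain ⟨W, hW⟩ : ∃ W : Finset (Sylow 3 G),
      W = Finset.univ.filter fun B : Sylow 3 G => B ≠ A ∧ ¬ Adj A B := ⟨_, rfl⟩
  have hmemW : ∀ B, B ∈ W ↔ B ≠ A ∧ ¬ Adj A B := by
    intro B
    rw [hW, Finset.mem_filter]
    simp
  have hWcard : W.card = 9 := by
    have := card_univ_eq A
    rw [hcard, ← hW, h12 A] at this
    omega
  have hsub : nbr B ⊆ insert A ((nbr A ∩ nbr B) ∪ (nbr B ∩ W)) := by
    intro x hx
    rw [Finset.mem_insert, Finset.mem_union, Finset.mem_inter, Finset.mem_inter, hmemW]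
    by_cases h1 : x = A
    · exact Or.inl h1
    · by_cases h2 : Adj A x
      · exact Or.inr (Or.inl ⟨mem_nbr.mpr h2, hx⟩)
      · exact Or.inr (Or.inr ⟨hx, h1, h2⟩)
  have h1 := Finset.card_le_card hsub
  have h2 := Finset.card_insert_le A ((nbr A ∩ nbr B) ∪ (nbr B ∩ W))
  have h3 := Finset.card_union_le (nbr A ∩ nbr B) (nbr B ∩ W)
  have h5 := card_common_nbr_le h4 hAB
  have h6 : (nbr B ∩ W).card ≤ W.card := Finset.card_le_card Finset.inter_subset_right
  rw [h12 B] at h1
  have h7 : nbr B ∩ W = W :=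
    Finset.eq_of_subset_of_card_le Finset.inter_subset_right (by omega)
  have h8 : C ∈ nbr B ∩ W := by
    rw [h7, hmemW]; exact ⟨hCA, hC⟩
  exact mem_nbr.mp (Finset.mem_inter.mp h8).1

/-- A point outside `nbr A` has the same neighbours as `A`. -/
theorem nbr_eq_of_not_adj (hcard : Nat.card (Sylow 3 G) = 22)
    (h4 : ∀ ℓ ∈ lines 3 G, ℓ.card = 4) (h12 : ∀ A : Sylow 3 G, (nbr A).card = 12)
    {A C : Sylow 3 G} (hC : ¬ Adj A C) : nbr C = nbr A := by
  by_cases hCA : C = A
  · rw [hCA]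
  · symm
    apply Finset.eq_of_subset_of_card_le
    · intro B hB
      rw [mem_nbr] at hB ⊢
      exact (adj_of_nonNbr hcard h4 h12 hB hCA hC).symm
    · rw [h12, h12]

/-- The configuration with all lines of size four does not exist. -/
theorem false_of_all_four (hcard : Nat.card (Sylow 3 G) = 22)
    (h4 : ∀ ℓ ∈ lines 3 G, ℓ.card = 4) (h12 : ∀ A : Sylow 3 G, (nbr A).card = 12) : False := by
  have hcard' : Fintype.card (Sylow 3 G) = 22 := by rw [← Nat.card_eq_fintype_card, hcard]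
  obtain ⟨A₀⟩ : Nonempty (Sylow 3 G) := inferInstance
  obtain ⟨B₀, hB₀⟩ : (nbr A₀).Nonempty := by
    apply Finset.card_pos.mp; rw [h12]; norm_num
  rw [mem_nbr] at hB₀
  have hℓ := hB₀.lineOf_mem_lines
  have hc := h4 _ hℓ
  obtain ⟨P1, P2, P3, hP1, hP2, hP3, h12', h13, h23⟩ :=
    Finset.two_lt_card_iff.mp (by rw [hc]; norm_num :
      2 < (lineOf ((A₀ : Subgroup G) ⊓ B₀) : Finset (Sylow 3 G)).card)
  have a12 := (line_eq_of_mem hℓ h12' hP1 hP2).1
  have a13 := (line_eq_of_mem hℓ h13 hP1 hP3).1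
  have a23 := (line_eq_of_mem hℓ h23 hP2 hP3).1
  -- the complements of the neighbourhoods are pairwise disjoint
  have hdisj : ∀ {A B : Sylow 3 G}, Adj A B → Disjoint (Finset.univ \ nbr A) (Finset.univ \ nbr B) := by
    intro A B hAB
    rw [Finset.disjoint_left]
    intro x hxA hxB
    rw [Finset.mem_sdiff, mem_nbr] at hxA hxB
    have e1 := nbr_eq_of_not_adj hcard h4 h12 hxA.2
    have e2 := nbr_eq_of_not_adj hcard h4 h12 hxB.2
    have : B ∈ nbr B := by
      rw [← e2, e1, mem_nbr]; exact hAB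
    exact Adj.irrefl B (mem_nbr.mp this)
  have hT : ∀ A : Sylow 3 G, (Finset.univ \ nbr A).card = 10 := by
    intro A
    rw [Finset.card_sdiff_of_subset (Finset.subset_univ _), Finset.card_univ, hcard', h12]
  have hu : ((Finset.univ \ nbr P1) ∪ (Finset.univ \ nbr P2) ∪ (Finset.univ \ nbr P3)).card = 30 := by
    rw [Finset.card_union_of_disjoint, Finset.card_union_of_disjoint (hdisj a12), hT, hT, hT]
    rw [Finset.disjoint_union_left]
    exact ⟨hdisj a13, hdisj a23⟩
  have hle := Finset.card_le_univ ((Finset.univ \ nbr P1) ∪ (Finset.univ \ nbr P2) ∪ (Finset.univ \ nbr P3))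
  rw [hu, hcard'] at hle
  omega

end four

end Cfsg.Agent.Lib.Helper46.Syl22
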