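import Cfsg.Agent.Lib.Helper46.Syl22A
import Cfsg.Agent.Lib.Helper46.OrbSpace
import Cfsg.Agent.Lib.Helper7.TwoOrbit
import Cfsg.Agent.Lib.Helper17.Orbits

set_option autoImplicit false
set_option linter.style.haveILetI false
set_option linter.unusedSectionVars false

/-!
# Twenty-two Sylow `3`-subgroups of order three: basic facts
-/

namespace Cfsg.Agent.Lib.Helper46.Syl22

open MulAction Subgroup Cfsg.Agent.Lib.Helper49.TwoPPlusOne

universe u

/-- The standing hypotheses: `G` is reduced, has `22` Sylow `3`-subgroups, of order `3`. -/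
structure Hyp3 (G : Type u) [Group G] : Prop where
  card : Nat.card (Sylow 3 G) = 22
  red : Reduced 3 G
  three : ∀ P : Sylow 3 G, Nat.card ↥(P : Subgroup G) = 3

section basic

variable {G : Type u} [Group G] [Finite G]

theorem Hyp3.eq_one_of_forall_smul (h : Hyp3 G) {g : G} (hg : ∀ Q : Sylow 3 G, g • Q = Q) :
    g = 1 := by
  have : g ∈ sylKer 3 G := mem_sylKer.mpr hg
  rwa [h.red.ker_eq_bot, Subgroup.mem_bot] at this

theorem Hyp3.faithful (h : Hyp3 G) : FaithfulSMul G (Sylow 3 G) := by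
  constructor
  intro g₁ g₂ hg
  have h1 : g₂⁻¹ * g₁ = 1 := by
    apply h.eq_one_of_forall_smul
    intro Q
    rw [mul_smul, hg Q, inv_smul_smul]
  have := congrArg (fun z => g₂ * z) h1
  simpa using this

/-- All elements act as even permutations of the Sylow 3-subgroups. -/
theorem Hyp3.sign_eq_one (h : Hyp3 G) [Fintype (Sylow 3 G)] [DecidableEq (Sylow 3 G)] (g : G) :
    Equiv.Perm.sign (MulAction.toPermHom G (Sylow 3 G) g) = 1 := by
  have hker : (Equiv.Perm.sign.comp (MulAction.toPermHom G (Sylow 3 G))).ker = ⊤ := by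
    apply h.red.no_normal _ (MonoidHom.normal_ker _)
    rw [Subgroup.index_ker]
    intro hdvd
    have h3 : Nat.card ↥(Equiv.Perm.sign.comp (MulAction.toPermHom G (Sylow 3 G))).range ∣
        Nat.card ℤˣ := Subgroup.card_subgroup_dvd_card _
    have h4 : Nat.card ℤˣ = 2 := by
      rw [Nat.card_eq_fintype_card]; rfl
    rw [h4] at h3
    have := Nat.le_of_dvd (by norm_num) (hdvd.trans h3)
    omega
  have hmem : g ∈ (Equiv.Perm.sign.comp (MulAction.toPermHom G (Sylow 3 G))).ker := by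
    rw [hker]; exact Subgroup.mem_top _
  exact MonoidHom.mem_ker.mp hmem

/-- Number of fixed points of a nontrivial element is less than 22; an involution has
support of size divisible by 4. -/
theorem Hyp3.fixedBy_facts (h : Hyp3 G) (c : G) (hc1 : c ≠ 1) :
    Nat.card ↥(fixedBy (Sylow 3 G) c) < 22 ∧
      (c * c = 1 → 4 ∣ 22 - Nat.card ↥(fixedBy (Sylow 3 G) c)) := by
  classical
  haveI : Fintype (Sylow 3 G) := Fintype.ofFinite _
  obtain ⟨σ, hσ⟩ : ∃ σ : Equiv.Perm (Sylow 3 G),
      σ = MulAction.toPermHom G (Sylow 3 G) c := ⟨_, rfl⟩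
  have hσapp : ∀ R : Sylow 3 G, σ R = c • R := by
    intro R; rw [hσ]; rfl
  have hσ1 : σ ≠ 1 := by
    intro h1'
    apply hc1
    apply h.eq_one_of_forall_smul
    intro Q
    rw [← hσapp, h1']; rfl
  have hF : Nat.card ↥(fixedBy (Sylow 3 G) c) + σ.support.card = 22 := by
    have h1 : Nat.card ↥(fixedBy (Sylow 3 G) c) =
        (Finset.univ.filter fun Q : Sylow 3 G => c • Q = Q).card := by
      rw [Nat.card_eq_fintype_card, ← Fintype.card_subtype]
      exact Fintype.card_congr (Equiv.subtypeEquivRight (fun _ => Iff.rfl))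
    have h2 : σ.support = Finset.univ.filter fun Q : Sylow 3 G => ¬ c • Q = Q := by
      ext R
      rw [Equiv.Perm.mem_support, Finset.mem_filter, hσapp]
      simp
    rw [h1, h2, Finset.card_filter_add_card_filter_not, Finset.card_univ,
      ← Nat.card_eq_fintype_card, h.card]
  have hs0 : σ.support.card ≠ 0 := by
    intro h0
    rw [Finset.card_eq_zero, Equiv.Perm.support_eq_empty_iff] at h0
    exact hσ1 h0
  refine ⟨by omega, fun hcc => ?_⟩
  have hσ2 : σ ^ 2 = 1 := by
    rw [hσ, ← map_pow, pow_two, hcc, map_one]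
  have hσo : orderOf σ = 2 := orderOf_eq_prime hσ2 hσ1
  obtain ⟨n, hn⟩ := Equiv.Perm.cycleType_prime_order (σ := σ)
    (by rw [hσo]; exact Nat.prime_two)
  have hsum := Equiv.Perm.sum_cycleType σ
  rw [hn, hσo, Multiset.sum_replicate, smul_eq_mul] at hsum
  have hsign : Equiv.Perm.sign σ = 1 := by
    rw [hσ]; exact h.sign_eq_one c
  rw [Equiv.Perm.sign_of_cycleType, hn, hσo, Multiset.sum_replicate,
    Multiset.card_replicate, smul_eq_mul] at hsign
  have heven : Even (n + 1) := by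
    by_contra hodd
    rw [Nat.not_even_iff_odd] at hodd
    have hodd' : Odd ((n + 1) * 2 + (n + 1)) := by
      obtain ⟨k, hk⟩ := hodd
      exact ⟨3 * k + 1, by omega⟩
    rw [hodd'.neg_one_pow] at hsign
    exact absurd hsign (by decide)
  obtain ⟨k, hk⟩ := heven
  have : 22 - Nat.card ↥(fixedBy (Sylow 3 G) c) = σ.support.card := by omega
  rw [this, ← hsum]
  exact ⟨k, by omega⟩

/-- Distinct Sylow `3`-subgroups intersect trivially. -/
theorem Hyp3.inf_eq_bot (h : Hyp3 G) {P Q : Sylow 3 G} (hne : P ≠ Q) :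
    (P : Subgroup G) ⊓ Q = ⊥ := by
  have h1 : Nat.card ↥((P : Subgroup G) ⊓ Q) ∣ 3 := by
    have h0 := Subgroup.card_dvd_of_le (inf_le_left : (P : Subgroup G) ⊓ Q ≤ P)
    rwa [h.three P] at h0
  rcases (Nat.dvd_prime Nat.prime_three).mp h1 with h2 | h2
  · exact Subgroup.card_eq_one.mp h2
  · exfalso
    apply hne
    apply sylow_eq_of_le
    have : (P : Subgroup G) ⊓ Q = P :=
      Subgroup.eq_of_le_of_card_ge inf_le_left (by rw [h2, h.three P])
    rw [← this]
    exact inf_le_right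

/-- A Sylow `3`-subgroup acts freely on the other Sylow `3`-subgroups. -/
theorem Hyp3.free (h : Hyp3 G) {P Q : Sylow 3 G} (hne : Q ≠ P) {a : G} (ha : a ∈ P)
    (hfix : a • Q = Q) : a = 1 := by
  have h1 : a ∈ Q := (smul_eq_iff_mem P Q ha).mp hfix
  have h2 : a ∈ (P : Subgroup G) ⊓ Q := ⟨ha, h1⟩
  rwa [h.inf_eq_bot hne.symm, Subgroup.mem_bot] at h2

/-- Fixed points of an element of `C_G(P)`: congruent to 1 mod 3. -/
theorem Hyp3.card_fixedBy_mod_three (P : Sylow 3 G) {c : G}
    (hc : c ∈ centralizer ((P : Subgroup G) : Set G)) :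
    Nat.card ↥(fixedBy (Sylow 3 G) c) % 3 = 1 := by
  have hinv : ∀ a : ↥(P : Subgroup G), ∀ Q ∈ fixedBy (Sylow 3 G) c,
      a • Q ∈ fixedBy (Sylow 3 G) c := by
    intro a Q hQ
    rw [MulAction.mem_fixedBy] at hQ ⊢
    have hcomm : c * (a : G) = (a : G) * c :=
      (Subgroup.mem_centralizer_iff.mp hc (a : G) a.2).symm
    calc c • (a • Q) = (c * (a : G)) • Q := by rw [mul_smul]; rfl
      _ = ((a : G) * c) • Q := by rw [hcomm]
      _ = a • (c • Q) := by rw [mul_smul]; rfl
      _ = a • Q := by rw [hQ]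
  have h1 := Cfsg.Agent.Lib.Helper17.card_invariant_modEq (A := ↥(P : Subgroup G))
    (X := Sylow 3 G) P.2 (fixedBy (Sylow 3 G) c) hinv
  have hset : (fixedBy (Sylow 3 G) c ∩ fixedPoints ↥(P : Subgroup G) (Sylow 3 G) :
      Set (Sylow 3 G)) = {P} := by
    ext Q
    rw [Set.mem_inter_iff, Set.mem_singleton_iff]
    constructor
    · rintro ⟨-, hQ⟩
      have hle : (P : Subgroup G) ≤ (Q : Subgroup G) :=
        (IsPGroup.sylow_mem_fixedPoints_iff P.2).mp hQ
      exact (sylow_eq_of_le hle).symm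
    · rintro rfl
      refine ⟨?_, ?_⟩
      · rw [MulAction.mem_fixedBy]
        exact Sylow.smul_eq_iff_mem_normalizer.mpr (Subgroup.centralizer_le_normalizer _ hc)
      · exact (IsPGroup.sylow_mem_fixedPoints_iff Q.2).mpr le_rfl
  rw [hset] at h1
  have h2 : Nat.card ↥(fixedBy (Sylow 3 G) c) % 3 = Nat.card ↥({P} : Set (Sylow 3 G)) % 3 := h1
  rw [h2]
  simp

omit [Finite G] in
/-- An element normalizing a subgroup `H` of prime order `q`, of order prime to `q - 1`,
centralizes `H`. -/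
theorem mem_centralizer_of_coprime {H : Subgroup G} [Finite H] {q : ℕ} (hq : q.Prime)
    (hH : Nat.card H = q) {g : G} (hg : g ∈ normalizer (H : Set G))
    (hco : (orderOf g).Coprime (q - 1)) : g ∈ centralizer (H : Set G) := by
  haveI : IsCyclic H := isCyclic_of_prime_card (hp := ⟨hq⟩) hH
  have h1 : orderOf (H.normalizerMonoidHom ⟨g, hg⟩) ∣ orderOf g := by
    have := orderOf_map_dvd H.normalizerMonoidHom (⟨g, hg⟩ : ↥(normalizer (H : Set G)))
    rwa [Subgroup.orderOf_mk] at this
  have h2 : orderOf (H.normalizerMonoidHom ⟨g, hg⟩) ∣ q - 1 := by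
    have := orderOf_dvd_natCard (H.normalizerMonoidHom ⟨g, hg⟩)
    rwa [IsCyclic.card_mulAut, hH, Nat.totient_prime hq] at this
  have h3 : orderOf (H.normalizerMonoidHom ⟨g, hg⟩) = 1 :=
    Nat.eq_one_of_dvd_coprimes hco h1 h2
  rw [orderOf_eq_one_iff] at h3
  have h4 : (⟨g, hg⟩ : ↥(normalizer (H : Set G))) ∈ H.normalizerMonoidHom.ker :=
    MonoidHom.mem_ker.mpr h3
  rw [normalizerMonoidHom_ker, mem_subgroupOf] at h4
  exact h4

/-- The square of an element normalizing a Sylow `3`-subgroup (of order `3`) centralizes it. -/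
theorem Hyp3.sq_mem_centralizer (h : Hyp3 G) (P : Sylow 3 G) {g : G}
    (hg : g ∈ normalizer ((P : Subgroup G) : Set G)) :
    g ^ 2 ∈ centralizer ((P : Subgroup G) : Set G) := by
  haveI : IsCyclic ↥(P : Subgroup G) := isCyclic_of_prime_card (hp := ⟨Nat.prime_three⟩) (h.three P)
  have h2 : (P : Subgroup G).normalizerMonoidHom ⟨g, hg⟩ ^ 2 = 1 := by
    have hc : Nat.card (MulAut ↥(P : Subgroup G)) = 2 := by
      rw [IsCyclic.card_mulAut, h.three P, Nat.totient_prime Nat.prime_three]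
    rw [← hc]
    exact pow_card_eq_one'
  have h4 : (⟨g, hg⟩ ^ 2 : ↥(normalizer ((P : Subgroup G) : Set G))) ∈
      (P : Subgroup G).normalizerMonoidHom.ker := by
    rw [MonoidHom.mem_ker, map_pow]; exact h2
  rw [normalizerMonoidHom_ker, mem_subgroupOf] at h4
  exact h4

/-- An element of a Sylow `3`-subgroup (of order 3) has cube one. -/
theorem Hyp3.pow_three (h : Hyp3 G) (P : Sylow 3 G) {a : G} (ha : a ∈ P) : a ^ 3 = 1 := by
  have h1 : (⟨a, ha⟩ : ↥(P : Subgroup G)) ^ Nat.card ↥(P : Subgroup G) = 1 := pow_card_eq_one'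
  rw [h.three P] at h1
  exact congrArg Subtype.val h1

/-- An element of cube one normalizing a Sylow `3`-subgroup lies in it. -/
theorem mem_sylow_of_pow_three (P : Sylow 3 G) {g : G}
    (hg : g ∈ normalizer ((P : Subgroup G) : Set G)) (h3 : g ^ 3 = 1) : g ∈ P := by
  have hz : IsPGroup 3 ↥(Subgroup.zpowers g) := by
    rw [IsPGroup.iff_card]
    have h1 : orderOf g ∣ 3 := orderOf_dvd_of_pow_eq_one h3
    rcases (Nat.dvd_prime Nat.prime_three).mp h1 with h2 | h2
    · exact ⟨0, by rw [Nat.card_zpowers, h2, pow_zero]⟩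
    · exact ⟨1, by rw [Nat.card_zpowers, h2, pow_one]⟩
  have hle : Subgroup.zpowers g ≤ normalizer ((P : Subgroup G) : Set G) :=
    Subgroup.zpowers_le.mpr hg
  exact le_sylow_of_le_normalizer hz P hle (Subgroup.mem_zpowers g)

end basic

end Cfsg.Agent.Lib.Helper46.Syl22
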