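import Cfsg.Agent.Lib.Helper46.Syl22D

set_option autoImplicit false
set_option linter.style.haveILetI false
set_option linter.unusedSectionVars false

/-!
# Twenty-two Sylow `3`-subgroups of order three: the normalizer acts on seven orbits
-/

namespace Cfsg.Agent.Lib.Helper46.Syl22

open MulAction Subgroup Cfsg.Agent.Lib.Helper49.TwoPPlusOne

universe u

section orbits

variable {G : Type u} [Group G] [Finite G]

/-- A generator of a Sylow `3`-subgroup of order three. -/
theorem Hyp3.exists_gen (h : Hyp3 G) (P : Sylow 3 G) :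
    ∃ z : G, z ∈ P ∧ z ≠ 1 ∧ z ^ 3 = 1 ∧ ∀ a ∈ P, a = 1 ∨ a = z ∨ a = z⁻¹ := by
  have hne : (P : Subgroup G) ≠ ⊥ := by
    intro hb
    have := h.three P
    rw [hb, Subgroup.card_bot] at this
    omega
  obtain ⟨⟨z, hzP⟩, hz⟩ := (Subgroup.ne_bot_iff_exists_ne_one).mp hne
  have hz1 : z ≠ 1 := fun e => hz (Subtype.ext e)
  have hz3 : z ^ 3 = 1 := h.pow_three P hzP
  have ho : orderOf z = 3 := orderOf_eq_prime hz3 hz1
  have hzp : Subgroup.zpowers z = (P : Subgroup G) := by
    apply Subgroup.eq_of_le_of_card_ge (Subgroup.zpowers_le.mpr hzP)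
    rw [Nat.card_zpowers, ho, h.three P]
  refine ⟨z, hzP, hz1, hz3, ?_⟩
  intro a ha
  have ha' : a ∈ Subgroup.zpowers z := by rw [hzp]; exact ha
  obtain ⟨k, rfl⟩ := Subgroup.mem_zpowers_iff.mp ha'
  have hk := zpow_mod_orderOf z k
  rw [ho] at hk
  push_cast at hk
  have h0 : 0 ≤ k % (3 : ℤ) := Int.emod_nonneg k (by norm_num)
  have h3 : k % (3 : ℤ) < 3 := Int.emod_lt_of_pos k (by norm_num)
  have hcases : k % (3 : ℤ) = 0 ∨ k % (3 : ℤ) = 1 ∨ k % (3 : ℤ) = 2 := by omega
  rcases hcases with e | e | e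
  · left; rw [← hk, e, zpow_zero]
  · right; left; rw [← hk, e, zpow_one]
  · right; right
    rw [← hk, e]
    have : z ^ (2 : ℤ) * z = 1 := by
      rw [← zpow_add_one]; norm_num; exact_mod_cast hz3
    exact eq_inv_of_mul_eq_one_left this

/-- An element of the normalizer not centralizing `P` inverts `P`. -/
theorem Hyp3.inverts (h : Hyp3 G) (P : Sylow 3 G) {g : G}
    (hg : g ∈ normalizer ((P : Subgroup G) : Set G))
    (hgc : g ∉ centralizer ((P : Subgroup G) : Set G)) :
    ∀ a ∈ P, g * a * g⁻¹ = a⁻¹ := by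
  obtain ⟨z, hzP, hz1, hz3, hall⟩ := h.exists_gen P
  have hconj : g * z * g⁻¹ ∈ P := (Subgroup.mem_normalizer_iff.mp hg z).mp hzP
  have hz : g * z * g⁻¹ = z⁻¹ := by
    rcases hall _ hconj with e | e | e
    · exfalso
      apply hz1
      have := congrArg (fun w => g⁻¹ * w * g) e
      simpa [mul_assoc] using this
    · exfalso
      apply hgc
      have hcomm : g * z = z * g := by
        have := congrArg (fun w => w * g) e
        simpa [mul_assoc] using this
      rw [Subgroup.mem_centralizer_iff]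
      intro a ha
      rcases hall a ha with rfl | rfl | rfl
      · simp
      · exact hcomm.symm
      · have := congrArg (fun w => z⁻¹ * w * z⁻¹) hcomm
        simp only [mul_assoc, mul_inv_cancel, mul_one, inv_mul_cancel_left] at this
        exact this
    · exact e
  intro a ha
  rcases hall a ha with rfl | rfl | rfl
  · simp
  · exact hz
  · rw [inv_inv]
    have := congrArg (fun w => w⁻¹) hz
    simp only [mul_inv_rev, inv_inv] at this
    rw [← mul_assoc] at this
    exact this

/-- The orbit space of `P` on the set of Sylow `3`-subgroups. -/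
abbrev OrbQ (P : Sylow 3 G) : Type u := orbitRel.Quotient ↥(P : Subgroup G) (Sylow 3 G)

/-- An element of `C_G(P)` preserving every `P`-orbit has cube one. -/
theorem Hyp3.pow_three_of_orbit (h : Hyp3 G) (P : Sylow 3 G) {g : G}
    (hgc : g ∈ centralizer ((P : Subgroup G) : Set G))
    (horb : ∀ Q : Sylow 3 G, g • Q ∈ orbit ↥(P : Subgroup G) Q) : g ^ 3 = 1 := by
  apply h.eq_one_of_forall_smul
  intro Q
  obtain ⟨a, ha⟩ := horb Q
  have ha' : (a : G) • Q = g • Q := ha
  have hcomm : (a : G) * g = g * (a : G) := Subgroup.mem_centralizer_iff.mp hgc a a.2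
  have h1 : g • (a : G) • Q = (a : G) • (a : G) • Q := by
    rw [← mul_smul, ← hcomm, mul_smul, ← ha']
  have h2 : g • (a : G) • (a : G) • Q = (a : G) • (a : G) • (a : G) • Q := by
    rw [← mul_smul g, ← hcomm, mul_smul, h1]
  calc g ^ 3 • Q = g • g • g • Q := by rw [pow_succ, pow_two, mul_smul, mul_smul]
    _ = g • g • (a : G) • Q := by rw [ha']
    _ = g • (a : G) • (a : G) • Q := by rw [h1]
    _ = (a : G) • (a : G) • (a : G) • Q := h2
    _ = ((a : G) ^ 3) • Q := by rw [pow_succ, pow_two, mul_smul, mul_smul]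
    _ = Q := by rw [h.pow_three P a.2, one_smul]

/-- The map from fixed points of an element inverting `P` to `P`-orbits is injective. -/
theorem Hyp3.fixedBy_injective_of_inverts (h : Hyp3 G) (P : Sylow 3 G) {g : G}
    (hinv : ∀ a ∈ P, g * a * g⁻¹ = a⁻¹) :
    Function.Injective
      (fun Q : ↥(fixedBy (Sylow 3 G) g) => (Quotient.mk'' (Q : Sylow 3 G) : OrbQ P)) := by
  have hga : ∀ a ∈ P, ∀ Q : Sylow 3 G, g • a • Q = a⁻¹ • g • Q := by
    intro a ha Q
    rw [← mul_smul, ← mul_smul]
    congr 1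
    have := hinv a ha
    have h2 := congrArg (fun w => w * g) this
    simpa [mul_assoc] using h2
  rintro ⟨Q, hQ⟩ ⟨Q', hQ'⟩ hqq
  rw [MulAction.mem_fixedBy] at hQ hQ'
  have hrel := Quotient.exact' hqq
  rw [orbitRel_apply] at hrel
  obtain ⟨a, ha⟩ := hrel
  have ha' : (a : G) • Q' = Q := ha
  apply Subtype.ext
  show Q = Q'
  by_cases hQP : Q' = P
  · rw [← ha', hQP]
    exact (smul_eq_iff_mem P P a.2).mpr a.2
  · have h1 : g • (a : G) • Q' = (a : G)⁻¹ • g • Q' := hga a a.2 Q'
    rw [ha', hQ, hQ', ← ha'] at h1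
    have h2 : ((a : G) * (a : G)) • Q' = Q' := by
      rw [mul_smul, h1, smul_inv_smul]
    have h3 : (a : G) * (a : G) = 1 := h.free hQP (Subgroup.mul_mem _ a.2 a.2) h2
    have h4 : (a : G) = 1 := by
      have h5 := h.pow_three P a.2
      rw [pow_succ, pow_two, h3, one_mul] at h5
      exact h5
    rw [← ha', h4, one_smul]

/-- An element inverting `P` has at most as many fixed points as there are `P`-orbits. -/
theorem Hyp3.card_fixedBy_le_of_inverts (h : Hyp3 G) (P : Sylow 3 G) {g : G}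
    (hinv : ∀ a ∈ P, g * a * g⁻¹ = a⁻¹) :
    Nat.card ↥(fixedBy (Sylow 3 G) g) ≤ Nat.card (OrbQ P) :=
  Nat.card_le_card_of_injective _ (h.fixedBy_injective_of_inverts P hinv)

/-- An involution of the normalizer inverting `P` and preserving every `P`-orbit has as many
fixed points as there are `P`-orbits. -/
theorem Hyp3.card_fixedBy_of_inverts (h : Hyp3 G) (P : Sylow 3 G) {g : G}
    (hinv : ∀ a ∈ P, g * a * g⁻¹ = a⁻¹)
    (horb : ∀ Q : Sylow 3 G, g • Q ∈ orbit ↥(P : Subgroup G) Q) :
    Nat.card ↥(fixedBy (Sylow 3 G) g) = Nat.card (OrbQ P) := by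
  have hga : ∀ a ∈ P, ∀ Q : Sylow 3 G, g • a • Q = a⁻¹ • g • Q := by
    intro a ha Q
    rw [← mul_smul, ← mul_smul]
    congr 1
    have := hinv a ha
    have h2 := congrArg (fun w => w * g) this
    simpa [mul_assoc] using h2
  apply Nat.card_eq_of_bijective
    (fun Q : ↥(fixedBy (Sylow 3 G) g) => (Quotient.mk'' (Q : Sylow 3 G) : OrbQ P))
  refine ⟨h.fixedBy_injective_of_inverts P hinv, ?_⟩
  · intro q
    induction q using Quotient.inductionOn' with
    | h Q =>
      obtain ⟨a, ha⟩ := horb Q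
      have ha' : (a : G) • Q = g • Q := ha
      have ha3 := h.pow_three P a.2
      have hainv : (a : G)⁻¹ = (a : G) * (a : G) := by
        have : (a : G) * (a : G) * (a : G) = 1 := by rw [← pow_two, ← pow_succ]; exact ha3
        exact inv_eq_of_mul_eq_one_left this
      refine ⟨⟨((a : G) * (a : G)) • Q, ?_⟩, ?_⟩
      · rw [MulAction.mem_fixedBy]
        have hmem : (a : G) * (a : G) ∈ P := Subgroup.mul_mem _ a.2 a.2
        rw [hga _ hmem Q, ← ha', ← mul_smul]
        congr 1
        rw [mul_inv_rev, hainv]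
        have : (a : G) * (a : G) * (a : G) = 1 := by rw [← pow_two, ← pow_succ]; exact ha3
        calc (a : G) * (a : G) * ((a : G) * (a : G)) * (a : G)
            = ((a : G) * (a : G) * (a : G)) * ((a : G) * (a : G)) := by group
          _ = (a : G) * (a : G) := by rw [this, one_mul]
      · apply Quotient.sound'
        rw [orbitRel_apply]
        exact ⟨⟨(a : G) * (a : G), Subgroup.mul_mem _ a.2 a.2⟩, rfl⟩

/-- There are eight `P`-orbits. -/
theorem Hyp3.card_orbQ (h : Hyp3 G) (P : Sylow 3 G) : Nat.card (OrbQ P) = 8 := by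
  classical
  letI : Fintype (OrbQ P) := Fintype.ofFinite _
  have hsum := Cfsg.Agent.Lib.Helper17.card_eq_sum_card_orbits ↥(P : Subgroup G) (Sylow 3 G)
  rw [h.card] at hsum
  set ω₀ : OrbQ P := Quotient.mk'' P with hω₀
  rw [← Finset.add_sum_erase Finset.univ _ (Finset.mem_univ ω₀)] at hsum
  have h1 : Nat.card ω₀.orbit = 1 := by
    have : ω₀.orbit = {P} := by
      rw [hω₀, orbitRel.Quotient.orbit_mk]
      ext y
      simp only [mem_orbit_iff, Set.mem_singleton_iff]
      constructor
      · rintro ⟨a, rfl⟩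
        exact (smul_eq_iff_mem P P a.2).mpr a.2
      · rintro rfl; exact ⟨1, one_smul _ _⟩
    rw [this]; simp
  have h2 : ∀ ω ∈ Finset.univ.erase ω₀, Nat.card ω.orbit = 3 := by
    intro ω hω
    rw [Finset.mem_erase] at hω
    have hne : ω.out ≠ P := by
      intro he
      apply hω.1
      rw [hω₀]
      have h5 := (Quotient.out_eq' ω).symm
      rw [he] at h5
      exact h5
    rw [orbitRel.Quotient.orbit_eq_orbit_out ω Quotient.out_eq', Nat.card_coe_set_eq]
    have h3 := ncard_orbit_mul P ω.out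
    rw [h.inf_eq_bot hne.symm, Subgroup.card_bot, mul_one, h.three P] at h3
    exact h3
  rw [h1, Finset.sum_congr rfl h2, Finset.sum_const, smul_eq_mul,
    Finset.card_erase_of_mem (Finset.mem_univ _), Finset.card_univ] at hsum
  rw [Nat.card_eq_fintype_card]
  omega

/-- The kernel of the action of `N_G(P)` on the `P`-orbits is `P`. -/
theorem Hyp3.mem_of_orbit (h : Hyp3 G) (P : Sylow 3 G) {g : G}
    (hg : g ∈ normalizer ((P : Subgroup G) : Set G))
    (horb : ∀ Q : Sylow 3 G, g • Q ∈ orbit ↥(P : Subgroup G) Q) : g ∈ P := by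
  by_cases hgc : g ∈ centralizer ((P : Subgroup G) : Set G)
  · exact mem_sylow_of_pow_three P hg (h.pow_three_of_orbit P hgc horb)
  · exfalso
    have hsq := h.sq_mem_centralizer P hg
    have horb2 : ∀ Q : Sylow 3 G, g ^ 2 • Q ∈ orbit ↥(P : Subgroup G) Q := by
      intro Q
      rw [pow_two, mul_smul]
      have h1 := horb (g • Q)
      have h2 := horb Q
      rw [← orbit_eq_iff.mpr h2]
      exact h1
    have h6 := h.pow_three_of_orbit P hsq horb2
    have hsqP : g ^ 2 ∈ P :=
      mem_sylow_of_pow_three P (Subgroup.pow_mem _ hg 2) h6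
    have hinv := h.inverts P hg hgc
    have h1 := hinv _ hsqP
    have h2 : g * g ^ 2 * g⁻¹ = g ^ 2 := by group
    rw [h2] at h1
    have h4 : g ^ 4 = 1 := by
      have : g ^ 2 * g ^ 2 = 1 := by
        nth_rewrite 1 [h1]
        exact inv_mul_cancel _
      rw [← pow_add] at this
      exact this
    have h6' : g ^ 6 = 1 := by
      rw [← h6, ← pow_mul]
    have hgg : g * g = 1 := by
      have : g ^ 6 = g ^ 4 * g ^ 2 := by rw [← pow_add]
      rw [h6', h4, one_mul, pow_two] at this
      exact this.symm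
    have hg1 : g ≠ 1 := by
      rintro rfl
      exact hgc (Subgroup.one_mem _)
    obtain ⟨-, hpar⟩ := h.fixedBy_facts g hg1
    have hp := hpar hgg
    rw [h.card_fixedBy_of_inverts P hinv horb, h.card_orbQ P] at hp
    omega

/-- The order of `N_G(P)` is `3 u` with `u ∣ 560`: `N_G(P) / P` embeds in the symmetric group
on the seven nontrivial `P`-orbits. -/
theorem Hyp3.exists_hom (h : Hyp3 G) (P : Sylow 3 G) :
    ∃ φ : ↥(normalizer ((P : Subgroup G) : Set G)) →* Equiv.Perm (OrbQ P),
      φ.ker = (P : Subgroup G).subgroupOf (normalizer ((P : Subgroup G) : Set G)) ∧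
      Nat.card ↥(normalizer ((P : Subgroup G) : Set G)) = 3 * Nat.card ↥φ.range ∧
      Nat.card ↥φ.range ∣ 560 := by
  obtain ⟨φ, hφ⟩ : ∃ φ : ↥(normalizer ((P : Subgroup G) : Set G)) →* Equiv.Perm (OrbQ P),
      φ = Cfsg.Agent.Lib.Helper46.OrbSpace.orbHom (Ω := Sylow 3 G) (P : Subgroup G) := ⟨_, rfl⟩
  refine ⟨φ, ?_⟩
  have hker : φ.ker = (P : Subgroup G).subgroupOf (normalizer ((P : Subgroup G) : Set G)) := by
    ext g
    rw [hφ, Cfsg.Agent.Lib.Helper46.OrbSpace.mem_ker_orbHom_iff, mem_subgroupOf]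
    constructor
    · intro hg
      exact h.mem_of_orbit P g.2 hg
    · intro hg Q
      exact ⟨⟨(g : G), hg⟩, rfl⟩
  have hkc : Nat.card ↥φ.ker = 3 := by
    rw [hker]
    exact (Nat.card_congr (Subgroup.subgroupOfEquivOfLe le_normalizer).toEquiv).trans (h.three P)
  have hN : Nat.card ↥(normalizer ((P : Subgroup G) : Set G)) = 3 * Nat.card ↥φ.range := by
    rw [← Subgroup.card_mul_index φ.ker, hkc, Subgroup.index_ker]
  set ω₀ : OrbQ P := Quotient.mk'' P with hω₀
  have hle : φ.range ≤ stabilizer (Equiv.Perm (OrbQ P)) ω₀ := by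
    rintro _ ⟨g, rfl⟩
    rw [mem_stabilizer_iff, Equiv.Perm.smul_def, hφ, hω₀,
      Cfsg.Agent.Lib.Helper46.OrbSpace.orbHom_mk]
    congr 1
    exact Sylow.smul_eq_iff_mem_normalizer.mpr g.2
  have hstab : Nat.card ↥(stabilizer (Equiv.Perm (OrbQ P)) ω₀) = 5040 := by
    have h1 := Subgroup.card_mul_index (stabilizer (Equiv.Perm (OrbQ P)) ω₀)
    rw [index_stabilizer_of_transitive, Nat.card_perm, h.card_orbQ P] at h1
    have : (8 : ℕ).factorial = 40320 := by decide
    rw [this] at h1
    omega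
  have hdvd : Nat.card ↥φ.range ∣ 5040 := by
    rw [← hstab]; exact Subgroup.card_dvd_of_le hle
  refine ⟨hker, hN, ?_⟩
  have hnot : ¬ 3 ∣ Nat.card ↥φ.range := by
    intro h3
    have h9 : 9 ∣ Nat.card G := by
      have h1 : 9 ∣ Nat.card ↥(normalizer ((P : Subgroup G) : Set G)) := by
        rw [hN]; obtain ⟨c, hc⟩ := h3; exact ⟨c, by rw [hc]; ring⟩
      exact h1.trans (Subgroup.card_subgroup_dvd_card _)
    have h2 := P.card_eq_multiplicity
    rw [h.three P] at h2
    have hfac : (Nat.card G).factorization 3 = 1 := by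
      have : (3 : ℕ) ^ 1 = 3 ^ (Nat.card G).factorization 3 := by rw [pow_one]; exact h2
      exact (Nat.pow_right_injective (by norm_num : 2 ≤ 3) this).symm
    have h92 : (3 : ℕ) ^ 2 ∣ Nat.card G := h9
    have := (Nat.Prime.pow_dvd_iff_le_factorization Nat.prime_three Nat.card_pos.ne').mp h92
    omega
  have hco : Nat.Coprime (Nat.card ↥φ.range) 9 := by
    have : Nat.Coprime (Nat.card ↥φ.range) 3 :=
      (Nat.Prime.coprime_iff_not_dvd Nat.prime_three).mpr hnot |>.symm
    exact Nat.Coprime.pow_right 2 this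
  have h5040 : (5040 : ℕ) = 9 * 560 := by norm_num
  rw [h5040] at hdvd
  exact hco.dvd_of_dvd_mul_left hdvd

end orbits

end Cfsg.Agent.Lib.Helper46.Syl22
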