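import Cfsg.Agent.Lib.Helper46.Syl22E
import Cfsg.Agent.Lib.Helper46.Perm70

set_option autoImplicit false
set_option linter.style.haveILetI false
set_option linter.unusedSectionVars false

/-!
# Twenty-two Sylow `3`-subgroups of order three: the Sylow `11`-subgroup
-/

namespace Cfsg.Agent.Lib.Helper46.Syl22

open MulAction Subgroup Cfsg.Agent.Lib.Helper49.TwoPPlusOne

universe u

section eleven

variable {G : Type u} [Group G] [Finite G]

/-- `N_G(P)` is a maximal subgroup. -/
theorem Hyp3.normalizer_maximal (h : Hyp3 G) (P : Sylow 3 G) (Y : Subgroup G)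
    (hNY : normalizer ((P : Subgroup G) : Set G) ≤ Y) :
    Y = normalizer ((P : Subgroup G) : Set G) ∨ Y = ⊤ := by
  have hidx : (normalizer ((P : Subgroup G) : Set G)).index = 22 := by
    rw [← h.card]; exact (P.card_eq_index_normalizer).symm
  have hmul := Subgroup.relIndex_mul_index hNY
  rw [hidx] at hmul
  have hd : (normalizer ((P : Subgroup G) : Set G)).relIndex Y ∈ Nat.divisors 22 :=
    Nat.mem_divisors.mpr ⟨Dvd.intro _ hmul, by norm_num⟩
  have hdiv : Nat.divisors 22 = {1, 2, 11, 22} := by decide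
  rw [hdiv] at hd
  simp only [Finset.mem_insert, Finset.mem_singleton] at hd
  rcases hd with h1 | h1 | h1 | h1
  · left
    exact le_antisymm (Subgroup.relIndex_eq_one.mp h1) hNY
  · left
    apply le_antisymm _ hNY
    have hnorm : ((normalizer ((P : Subgroup G) : Set G)).subgroupOf Y).Normal :=
      Subgroup.normal_of_index_eq_two h1
    rw [Subgroup.normal_subgroupOf_iff_le_normalizer hNY] at hnorm
    have hnn : normalizer ((normalizer ((P : Subgroup G) : Set G) : Subgroup G) : Set G) =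
        normalizer ((P : Subgroup G) : Set G) := P.normalizer_normalizer
    rw [hnn] at hnorm
    exact hnorm
  · right
    rw [h1] at hmul
    have h2 : Y.index = 2 := by omega
    haveI : Y.Normal := Subgroup.normal_of_index_eq_two h2
    exact h.red.no_normal Y inferInstance (by rw [h2]; norm_num)
  · right
    rw [h1] at hmul
    have h2 : Y.index = 1 := by omega
    exact Subgroup.index_eq_one.mp h2

/-- The order of `G`. -/
theorem Hyp3.card_eq (h : Hyp3 G) (P : Sylow 3 G) :
    Nat.card G = 22 * Nat.card ↥(normalizer ((P : Subgroup G) : Set G)) := by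
  have hidx : (normalizer ((P : Subgroup G) : Set G)).index = 22 := by
    rw [← h.card]; exact (P.card_eq_index_normalizer).symm
  rw [← Subgroup.card_mul_index (normalizer ((P : Subgroup G) : Set G)), hidx, mul_comm]

/-- The order of `N_G(P)` divides `1680`. -/
theorem Hyp3.card_normalizer_dvd (h : Hyp3 G) (P : Sylow 3 G) :
    Nat.card ↥(normalizer ((P : Subgroup G) : Set G)) ∣ 1680 := by
  obtain ⟨φ, -, h1, h2⟩ := h.exists_hom P
  rw [h1]
  have : (1680 : ℕ) = 3 * 560 := by norm_num
  rw [this]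
  exact Nat.mul_dvd_mul_left 3 h2

/-- Elements of order `11` act freely. -/
theorem Hyp3.free_eleven (h : Hyp3 G) (g : G) (hg : orderOf g = 11) (Q : Sylow 3 G) :
    g • Q ≠ Q := by
  intro hfix
  have h1 : g ∈ normalizer ((Q : Subgroup G) : Set G) := Sylow.smul_eq_iff_mem_normalizer.mp hfix
  have h2 : orderOf g ∣ Nat.card ↥(normalizer ((Q : Subgroup G) : Set G)) := by
    have := orderOf_dvd_natCard (⟨g, h1⟩ : ↥(normalizer ((Q : Subgroup G) : Set G)))
    rwa [Subgroup.orderOf_mk] at this
  have h3 := h2.trans (h.card_normalizer_dvd Q)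
  rw [hg] at h3
  omega

theorem fact_prime_eleven : Fact (Nat.Prime 11) := ⟨by norm_num⟩

/-- The Sylow `11`-subgroups have order `11`. -/
theorem Hyp3.card_sylow_eleven (h : Hyp3 G) (R : @Sylow 11 G _) :
    Nat.card ↥(R : Subgroup G) = 11 := by
  haveI := fact_prime_eleven
  obtain ⟨P⟩ : Nonempty (Sylow 3 G) := inferInstance
  have hG := h.card_eq P
  obtain ⟨c, hc⟩ := h.card_normalizer_dvd P
  have hGdvd : Nat.card G ∣ 36960 := by
    refine ⟨c, ?_⟩
    rw [hG, mul_assoc, ← hc]
    norm_num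
  have h11 : 11 ∣ Nat.card G := by
    rw [hG]; exact Dvd.dvd.mul_right (by norm_num) _
  have h1 : 11 ∣ Nat.card ↥(R : Subgroup G) := R.dvd_card_of_dvd_card h11
  obtain ⟨k, hk⟩ := IsPGroup.iff_card.mp R.2
  rw [hk] at h1 ⊢
  rcases k with _ | _ | k
  · rw [pow_zero] at h1; omega
  · rw [zero_add, pow_one]
  · exfalso
    have h2 : 11 ^ (k + 1 + 1) ∣ Nat.card G := by
      rw [← hk]; exact Subgroup.card_subgroup_dvd_card _
    have h3 : (121 : ℕ) ∣ 11 ^ (k + 1 + 1) := by
      rw [pow_succ, pow_succ, mul_assoc]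
      exact Dvd.intro_left _ rfl
    have h4 := (h3.trans h2).trans hGdvd
    omega

/-- A generator of a Sylow `11`-subgroup. -/
theorem Hyp3.exists_gen_eleven (h : Hyp3 G) (R : @Sylow 11 G _) :
    ∃ x : G, x ∈ R ∧ orderOf x = 11 ∧ Subgroup.zpowers x = (R : Subgroup G) := by
  haveI := fact_prime_eleven
  have hR := h.card_sylow_eleven R
  obtain ⟨x, hx⟩ := exists_prime_orderOf_dvd_card' (G := ↥(R : Subgroup G)) 11 (by rw [hR])
  refine ⟨(x : G), x.2, by rw [Subgroup.orderOf_coe]; exact hx, ?_⟩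
  apply Subgroup.eq_of_le_of_card_ge (Subgroup.zpowers_le.mpr x.2)
  rw [Nat.card_zpowers, Subgroup.orderOf_coe, hx, hR]

/-- A Sylow `11`-subgroup is self-centralizing. -/
theorem Hyp3.card_centralizer_eleven (h : Hyp3 G) (R : @Sylow 11 G _) :
    Nat.card ↥(centralizer ((R : Subgroup G) : Set G)) = 11 := by
  classical
  haveI := fact_prime_eleven
  haveI : Fintype (Sylow 3 G) := Fintype.ofFinite _
  haveI := h.faithful
  have hΩ : Fintype.card (Sylow 3 G) = 2 * 11 := by
    rw [← Nat.card_eq_fintype_card, h.card]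
  have hR := h.card_sylow_eleven R
  obtain ⟨c, hc, hcard⟩ := Cfsg.Agent.Lib.Helper7.card_centralizer_of_two_orbits
    (G := G) (Ω := Sylow 3 G) (p := 11) (by norm_num) hΩ h.free_eleven (R : Subgroup G) hR
  rcases hc with rfl | rfl
  · rw [hcard]
  · exfalso
    haveI : Fact (Nat.Prime 2) := ⟨Nat.prime_two⟩
    obtain ⟨τ, hτ⟩ := exists_prime_orderOf_dvd_card'
      (G := ↥(centralizer ((R : Subgroup G) : Set G))) 2 (by rw [hcard]; norm_num)
    have hτ2 : (τ : G) * (τ : G) = 1 := by
      have := pow_orderOf_eq_one τ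
      rw [hτ, pow_two] at this
      exact congrArg Subtype.val this
    have hτ1 : (τ : G) ≠ 1 := by
      intro e
      have : τ = 1 := Subtype.ext e
      rw [this, orderOf_one] at hτ
      omega
    obtain ⟨hlt, hpar⟩ := h.fixedBy_facts (τ : G) hτ1
    have h4 := hpar hτ2
    have hpos : 0 < Nat.card ↥(fixedBy (Sylow 3 G) (τ : G)) := by
      obtain ⟨m, hm⟩ := h4
      omega
    obtain ⟨⟨Q, hQ⟩⟩ := (Nat.card_pos_iff.mp hpos).1
    obtain ⟨x, hxR, hx, -⟩ := h.exists_gen_eleven R
    have hcomm : Commute (τ : G) x := (Subgroup.mem_centralizer_iff.mp τ.2 x hxR).symm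
    exact hτ1 (Cfsg.Agent.Lib.Helper7.eq_one_of_commute_of_fixed (G := G) (Ω := Sylow 3 G)
      (p := 11) (by norm_num) hΩ h.free_eleven x hx (τ : G) hcomm Q hQ)

/-- The order of the normalizer of a Sylow `11`-subgroup is `11 d` with `d ∣ 10`. -/
theorem Hyp3.card_normalizer_eleven_aux (h : Hyp3 G) (R : @Sylow 11 G _) :
    ∃ d, d ∣ 10 ∧ Nat.card ↥(normalizer ((R : Subgroup G) : Set G)) = 11 * d := by
  have hR := h.card_sylow_eleven R
  haveI : IsCyclic ↥(R : Subgroup G) :=
    isCyclic_of_prime_card (hp := fact_prime_eleven) hR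
  have h1 := Subgroup.card_mul_index (R : Subgroup G).normalizerMonoidHom.ker
  rw [Subgroup.index_ker, normalizerMonoidHom_ker] at h1
  have h2 : Nat.card ((centralizer ((R : Subgroup G) : Set G)).subgroupOf
      (normalizer ((R : Subgroup G) : Set G))) = 11 := by
    exact (Nat.card_congr (Subgroup.subgroupOfEquivOfLe
      (centralizer_le_normalizer ((R : Subgroup G) : Set G))).toEquiv).trans
      (h.card_centralizer_eleven R)
  have h3 : Nat.card (R : Subgroup G).normalizerMonoidHom.range ∣ 10 := by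
    have := Subgroup.card_subgroup_dvd_card (R : Subgroup G).normalizerMonoidHom.range
    rwa [IsCyclic.card_mulAut, hR, Nat.totient_prime (by norm_num : Nat.Prime 11)] at this
  exact ⟨_, h3, by rw [← h1, h2]⟩

/-- Burnside: the normalizer of a Sylow `11`-subgroup is larger than its centralizer. -/
theorem Hyp3.card_normalizer_eleven_ne (h : Hyp3 G) (R : @Sylow 11 G _) :
    Nat.card ↥(normalizer ((R : Subgroup G) : Set G)) ≠ 11 := by
  haveI := fact_prime_eleven
  intro hN
  have hle : normalizer ((R : Subgroup G) : Set G) ≤ centralizer ((R : Subgroup G) : Set G) := by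
    have hcn : centralizer ((R : Subgroup G) : Set G) ≤ normalizer ((R : Subgroup G) : Set G) :=
      centralizer_le_normalizer _
    have : centralizer ((R : Subgroup G) : Set G) = normalizer ((R : Subgroup G) : Set G) :=
      Subgroup.eq_of_le_of_card_ge hcn (by rw [hN, h.card_centralizer_eleven R])
    rw [this]
  have hcomp := MonoidHom.ker_transferSylow_isComplement' R hle
  have hidx : (MonoidHom.transferSylow R hle).ker.index = 11 := by
    rw [hcomp.symm.index_eq_card, h.card_sylow_eleven R]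
  have htop := h.red.no_normal _ (MonoidHom.normal_ker (MonoidHom.transferSylow R hle))
    (by rw [hidx]; norm_num)
  rw [htop, Subgroup.index_top] at hidx
  omega

/-- No element of order `5` normalizes a Sylow `11`-subgroup. -/
theorem Hyp3.not_five (h : Hyp3 G) (R : @Sylow 11 G _) (y : G)
    (hyN : y ∈ normalizer ((R : Subgroup G) : Set G)) (hy : orderOf y = 5) : False := by
  classical
  haveI := fact_prime_eleven
  haveI : Fact (Nat.Prime 5) := ⟨by norm_num⟩
  have hy1 : y ≠ 1 := by
    rintro rfl; rw [orderOf_one] at hy; omega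
  have hy5 : y ^ 5 = 1 := by rw [← hy]; exact pow_orderOf_eq_one y
  -- (a) `y` does not centralize `R`
  have hyC : y ∉ centralizer ((R : Subgroup G) : Set G) := by
    intro hc
    have := orderOf_dvd_natCard (⟨y, hc⟩ : ↥(centralizer ((R : Subgroup G) : Set G)))
    rw [Subgroup.orderOf_mk, hy, h.card_centralizer_eleven R] at this
    omega
  -- (b), (c) the number of fixed points is seven
  have hF5 : Nat.card ↥(fixedBy (Sylow 3 G) y) % 5 = 2 := by
    have h1 := Cfsg.Agent.Lib.Helper46.Perm70.card_inter_fixedBy_modEq (M := G)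
      (X := Sylow 3 G) (q := 5) y hy5 Set.univ (fun x _ => Set.mem_univ _)
    rw [Set.univ_inter, Nat.card_coe_set_eq, Set.ncard_univ, h.card] at h1
    have h2 : 22 % 5 = Nat.card ↥(fixedBy (Sylow 3 G) y) % 5 := h1
    omega
  have hpos : 0 < Nat.card ↥(fixedBy (Sylow 3 G) y) := by omega
  obtain ⟨⟨Q₀, hQ₀⟩⟩ := (Nat.card_pos_iff.mp hpos).1
  have hyNQ : y ∈ normalizer ((Q₀ : Subgroup G) : Set G) :=
    Sylow.smul_eq_iff_mem_normalizer.mp hQ₀
  have hyCQ : y ∈ centralizer ((Q₀ : Subgroup G) : Set G) :=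
    mem_centralizer_of_coprime Nat.prime_three (h.three Q₀) hyNQ (by rw [hy]; norm_num)
  have hF3 := Hyp3.card_fixedBy_mod_three Q₀ hyCQ
  obtain ⟨hlt, -⟩ := h.fixedBy_facts y hy1
  have hF : 2 < (fixedBy (Sylow 3 G) y).ncard := by
    rw [← Nat.card_coe_set_eq]; omega
  obtain ⟨Q1, Q2, Q3, hQ1, hQ2, hQ3, h12, h13, h23⟩ := (Set.two_lt_ncard_iff (Set.toFinite _)).mp hF
  rw [MulAction.mem_fixedBy] at hQ1 hQ2 hQ3
  obtain ⟨x, hxR, hx, hzp⟩ := h.exists_gen_eleven R
  -- (f) at most one fixed point on every orbit of `R`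
  have hone : ∀ (Q : Sylow 3 G) (r : G), r ∈ R → y • Q = Q → y • (r • Q) = r • Q → r = 1 := by
    intro Q r hr hQ hrQ
    by_contra hr1
    have hconj : y * r * y⁻¹ ∈ R := (Subgroup.mem_normalizer_iff.mp hyN r).mp hr
    have hyinv : y⁻¹ • Q = Q := by
      rw [inv_smul_eq_iff, hQ]
    have h1 : (y * r * y⁻¹) • Q = r • Q := by
      rw [mul_smul, mul_smul, hyinv, hrQ]
    have h2 : (r⁻¹ * (y * r * y⁻¹)) • Q = Q := by
      rw [mul_smul, h1, inv_smul_smul]
    have hmem : r⁻¹ * (y * r * y⁻¹) ∈ R := Subgroup.mul_mem _ (Subgroup.inv_mem _ hr) hconj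
    have h3 : r⁻¹ * (y * r * y⁻¹) = 1 := by
      by_contra hne
      have ho : orderOf (r⁻¹ * (y * r * y⁻¹)) = 11 := by
        have hd := orderOf_dvd_natCard (⟨_, hmem⟩ : ↥(R : Subgroup G))
        rw [Subgroup.orderOf_mk, h.card_sylow_eleven R] at hd
        rcases (Nat.dvd_prime (by norm_num : Nat.Prime 11)).mp hd with h4 | h4
        · exact absurd (orderOf_eq_one_iff.mp h4) hne
        · exact h4
      exact h.free_eleven _ ho Q h2
    have hcomm : y * r = r * y := by
      have := congrArg (fun w => r * w * y) h3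
      simp only [mul_assoc, mul_inv_cancel_left, inv_mul_cancel, mul_one] at this
      exact this
    -- `r` generates `R`
    have hor : orderOf r = 11 := by
      have hd := orderOf_dvd_natCard (⟨r, hr⟩ : ↥(R : Subgroup G))
      rw [Subgroup.orderOf_mk, h.card_sylow_eleven R] at hd
      rcases (Nat.dvd_prime (by norm_num : Nat.Prime 11)).mp hd with h4 | h4
      · exact absurd (orderOf_eq_one_iff.mp h4) hr1
      · exact h4
    have hzr : Subgroup.zpowers r = (R : Subgroup G) := by
      apply Subgroup.eq_of_le_of_card_ge (Subgroup.zpowers_le.mpr hr)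
      rw [Nat.card_zpowers, hor, h.card_sylow_eleven R]
    apply hyC
    rw [Subgroup.mem_centralizer_iff]
    intro a ha
    have ha' : a ∈ Subgroup.zpowers r := by rw [hzr]; exact ha
    obtain ⟨k, rfl⟩ := Subgroup.mem_zpowers_iff.mp ha'
    exact ((Commute.zpow_right (show Commute y r from hcomm) k).eq).symm
  -- (g) three pairwise disjoint orbits of size eleven
  haveI : Fintype (Sylow 3 G) := Fintype.ofFinite _
  have hO : ∀ Q : Sylow 3 G, (orbit ↥(Subgroup.zpowers x) Q).ncard = 11 :=
    fun Q => Cfsg.Agent.Lib.Helper7.ncard_orbit_zpowers (G := G) (Ω := Sylow 3 G)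
      (by norm_num : Nat.Prime 11) h.free_eleven x hx Q
  have hdisj : ∀ Q Q' : Sylow 3 G, y • Q = Q → y • Q' = Q' → Q ≠ Q' →
      Disjoint (orbit ↥(Subgroup.zpowers x) Q) (orbit ↥(Subgroup.zpowers x) Q') := by
    intro Q Q' hQ hQ' hne
    rw [Set.disjoint_left]
    intro c hc1 hc2
    have e1 := orbit_eq_iff.2 hc1
    have e2 := orbit_eq_iff.2 hc2
    have hmem : Q' ∈ orbit ↥(Subgroup.zpowers x) Q := by
      rw [← e1, e2]; exact mem_orbit_self Q'
    obtain ⟨r, hr⟩ := hmem
    have hr' : (r : G) • Q = Q' := hr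
    have hrR : (r : G) ∈ R := by
      have h0 : (r : G) ∈ Subgroup.zpowers x := r.2
      have h1 : Subgroup.zpowers x ≤ (R : Subgroup G) := hzp.le
      exact h1 h0
    have := hone Q (r : G) hrR hQ (by rw [hr']; exact hQ')
    apply hne
    rw [← hr', this, one_smul]
  have hd12 := hdisj Q1 Q2 hQ1 hQ2 h12
  have hd13 := hdisj Q1 Q3 hQ1 hQ3 h13
  have hd23 := hdisj Q2 Q3 hQ2 hQ3 h23
  have hunion : ((orbit ↥(Subgroup.zpowers x) Q1 ∪ orbit ↥(Subgroup.zpowers x) Q2) ∪
      orbit ↥(Subgroup.zpowers x) Q3).ncard = 33 := by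
    rw [Set.ncard_union_eq (Set.disjoint_union_left.mpr ⟨hd13, hd23⟩),
      Set.ncard_union_eq hd12, hO, hO, hO]
  have hle := Set.ncard_le_card ((orbit ↥(Subgroup.zpowers x) Q1 ∪
    orbit ↥(Subgroup.zpowers x) Q2) ∪ orbit ↥(Subgroup.zpowers x) Q3)
  rw [hunion, h.card] at hle
  omega

/-- The normalizer of a Sylow `11`-subgroup has order `22`. -/
theorem Hyp3.card_normalizer_eleven (h : Hyp3 G) (R : @Sylow 11 G _) :
    Nat.card ↥(normalizer ((R : Subgroup G) : Set G)) = 22 := by
  haveI : Fact (Nat.Prime 5) := ⟨by norm_num⟩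
  obtain ⟨d, hd, hN⟩ := h.card_normalizer_eleven_aux R
  have hne := h.card_normalizer_eleven_ne R
  have h5 : ¬ 5 ∣ d := by
    intro h5
    have h5N : 5 ∣ Nat.card ↥(normalizer ((R : Subgroup G) : Set G)) := by
      rw [hN]; exact Dvd.dvd.mul_left h5 11
    obtain ⟨y, hy⟩ := exists_prime_orderOf_dvd_card'
      (G := ↥(normalizer ((R : Subgroup G) : Set G))) 5 h5N
    exact h.not_five R (y : G) y.2 (by rw [Subgroup.orderOf_coe]; exact hy)
  have hdm : d ∈ Nat.divisors 10 := Nat.mem_divisors.mpr ⟨hd, by norm_num⟩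
  have hdiv : Nat.divisors 10 = {1, 2, 5, 10} := by decide
  rw [hdiv] at hdm
  simp only [Finset.mem_insert, Finset.mem_singleton] at hdm
  rcases hdm with rfl | rfl | rfl | rfl
  · exact absurd hN hne
  · exact hN
  · exact absurd (dvd_refl 5) h5
  · exact absurd (by norm_num : 5 ∣ 10) h5

end eleven

end Cfsg.Agent.Lib.Helper46.Syl22
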