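import Cfsg.Agent.Lib.Helper46.Syl22F

set_option autoImplicit false
set_option linter.style.haveILetI false
set_option linter.unusedSectionVars false

/-!
# Twenty-two Sylow `3`-subgroups of order three: the final contradiction
-/

namespace Cfsg.Agent.Lib.Helper46.Syl22

open MulAction Subgroup Cfsg.Agent.Lib.Helper49.TwoPPlusOne

universe u

section final

variable {G : Type u} [Group G] [Finite G]

/-- The possible orders of `N_G(P) / P`. -/
theorem Hyp3.card_range_cases (h : Hyp3 G) (P : Sylow 3 G)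
    (φ : ↥(normalizer ((P : Subgroup G) : Set G)) →* Equiv.Perm (OrbQ P))
    (hN : Nat.card ↥(normalizer ((P : Subgroup G) : Set G)) = 3 * Nat.card ↥φ.range)
    (hdvd : Nat.card ↥φ.range ∣ 560) :
    Nat.card ↥φ.range = 4 ∨ Nat.card ↥φ.range = 70 := by
  haveI := fact_prime_eleven
  obtain ⟨R⟩ : Nonempty (@Sylow 11 G _) := inferInstance
  have h1 : Nat.card (@Sylow 11 G _) ≡ 1 [MOD 11] := card_sylow_modEq_one 11 G
  rw [R.card_eq_index_normalizer] at h1
  have h2 := Subgroup.card_mul_index (normalizer ((R : Subgroup G) : Set G))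
  rw [h.card_normalizer_eleven R, h.card_eq P, hN] at h2
  have h3 : (normalizer ((R : Subgroup G) : Set G)).index = 3 * Nat.card ↥φ.range := by omega
  have h1' : (normalizer ((R : Subgroup G) : Set G)).index ≡ 1 [MOD 11] := h1
  rw [h3] at h1'
  have h4 : (3 * Nat.card ↥φ.range) % 11 = 1 := h1'
  have hm : Nat.card ↥φ.range ∈ Nat.divisors 560 := Nat.mem_divisors.mpr ⟨hdvd, by norm_num⟩
  have key : ∀ u ∈ Nat.divisors 560, (3 * u) % 11 = 1 → u = 4 ∨ u = 70 := by decide
  exact key _ hm h4

/-- Conjugate elements have the same number of fixed points. -/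
theorem card_fixedBy_conj {Ω : Type*} [MulAction G Ω] (g k : G) :
    Nat.card ↥(fixedBy Ω (g⁻¹ * k * g)) = Nat.card ↥(fixedBy Ω k) := by
  apply Nat.card_congr
  refine ⟨fun Q => ⟨g • (Q : Ω), ?_⟩, fun Q => ⟨g⁻¹ • (Q : Ω), ?_⟩, ?_, ?_⟩
  · have hQ := Q.2
    rw [MulAction.mem_fixedBy] at hQ ⊢
    have : k • g • (Q : Ω) = g • (g⁻¹ * k * g) • (Q : Ω) := by
      rw [← mul_smul, ← mul_smul]; congr 1; group
    rw [this, hQ]
  · have hQ := Q.2
    rw [MulAction.mem_fixedBy] at hQ ⊢
    rw [mul_smul, mul_smul, smul_inv_smul, hQ]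
  · intro Q
    apply Subtype.ext
    simp
  · intro Q
    apply Subtype.ext
    simp

/-- The case `|N_G(P)| = 12` is impossible. -/
theorem Hyp3.false_of_four (h : Hyp3 G) (P : Sylow 3 G)
    (φ : ↥(normalizer ((P : Subgroup G) : Set G)) →* Equiv.Perm (OrbQ P))
    (hker : φ.ker = (P : Subgroup G).subgroupOf (normalizer ((P : Subgroup G) : Set G)))
    (hN : Nat.card ↥(normalizer ((P : Subgroup G) : Set G)) = 3 * Nat.card ↥φ.range)
    (h4 : Nat.card ↥φ.range = 4) : False := by
  haveI : Fact (Nat.Prime 2) := ⟨Nat.prime_two⟩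
  rw [h4] at hN
  -- (i) commutators of `N` lie in `P`
  have hcomm : ∀ n m : G, n ∈ normalizer ((P : Subgroup G) : Set G) →
      m ∈ normalizer ((P : Subgroup G) : Set G) → n * m * n⁻¹ * m⁻¹ ∈ P := by
    intro n m hn hm
    haveI : Finite ↥φ.range := Nat.finite_of_card_ne_zero (by rw [h4]; norm_num)
    have hab := IsPGroup.commutative_of_card_eq_prime_sq (p := 2) (G := ↥φ.range) (by rw [h4]; norm_num)
    have h1 : φ ⟨n, hn⟩ * φ ⟨m, hm⟩ = φ ⟨m, hm⟩ * φ ⟨n, hn⟩ := by
      have := hab ⟨φ ⟨n, hn⟩, ⟨_, rfl⟩⟩ ⟨φ ⟨m, hm⟩, ⟨_, rfl⟩⟩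
      exact congrArg Subtype.val this
    have h2 : (⟨n, hn⟩ * ⟨m, hm⟩ * ⟨n, hn⟩⁻¹ * ⟨m, hm⟩⁻¹ :
        ↥(normalizer ((P : Subgroup G) : Set G))) ∈ φ.ker := by
      rw [MonoidHom.mem_ker, map_mul, map_mul, map_mul, map_inv, map_inv, h1]
      group
    rw [hker, mem_subgroupOf] at h2
    exact h2
  -- (ii) the centralizer of `P` has even order
  have hCN : centralizer ((P : Subgroup G) : Set G) ≤ normalizer ((P : Subgroup G) : Set G) :=
    centralizer_le_normalizer _
  have hCeven : 2 ∣ Nat.card ↥(centralizer ((P : Subgroup G) : Set G)) := by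
    haveI : IsCyclic ↥(P : Subgroup G) :=
      isCyclic_of_prime_card (hp := ⟨Nat.prime_three⟩) (h.three P)
    have h1 := Subgroup.card_mul_index (P : Subgroup G).normalizerMonoidHom.ker
    rw [Subgroup.index_ker, normalizerMonoidHom_ker, hN] at h1
    have h2 : Nat.card ((centralizer ((P : Subgroup G) : Set G)).subgroupOf
        (normalizer ((P : Subgroup G) : Set G))) =
        Nat.card ↥(centralizer ((P : Subgroup G) : Set G)) :=
      Nat.card_congr (Subgroup.subgroupOfEquivOfLe hCN).toEquiv
    have h3 : Nat.card (P : Subgroup G).normalizerMonoidHom.range ∣ 2 := by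
      have := Subgroup.card_subgroup_dvd_card (P : Subgroup G).normalizerMonoidHom.range
      rwa [IsCyclic.card_mulAut, h.three P, Nat.totient_prime Nat.prime_three] at this
    rw [h2] at h1
    rcases (Nat.dvd_prime Nat.prime_two).mp h3 with h5 | h5
    · rw [h5, mul_one] at h1
      rw [h1]; norm_num
    · rw [h5] at h1
      have : Nat.card ↥(centralizer ((P : Subgroup G) : Set G)) = 6 := by omega
      rw [this]; norm_num
  -- (iii) involutions of `C_G(P)` are centralized by `N_G(P)`
  have hcent : ∀ k' : G, k' ∈ centralizer ((P : Subgroup G) : Set G) → k' * k' = 1 →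
      ∀ n ∈ normalizer ((P : Subgroup G) : Set G), n * k' = k' * n := by
    intro k' hk' hk2 n hn
    have hc := hcomm n k' hn (hCN hk')
    obtain ⟨c, hcdef⟩ : ∃ c, c = n * k' * n⁻¹ * k'⁻¹ := ⟨_, rfl⟩
    rw [← hcdef] at hc
    have hkc : c * k' = k' * c := Subgroup.mem_centralizer_iff.mp hk' c hc
    have hconj : n * k' * n⁻¹ = c * k' := by rw [hcdef]; group
    have hsq : (c * k') * (c * k') = 1 := by
      rw [← hconj]
      calc n * k' * n⁻¹ * (n * k' * n⁻¹) = n * (k' * k') * n⁻¹ := by group
        _ = 1 := by rw [hk2]; group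
    have hc2 : c * c = 1 := by
      have : (c * k') * (c * k') = (c * c) * (k' * k') := by
        calc (c * k') * (c * k') = c * (k' * c) * k' := by group
          _ = c * (c * k') * k' := by rw [hkc]
          _ = (c * c) * (k' * k') := by group
      rw [this, hk2, mul_one] at hsq
      exact hsq
    have hc1 : c = 1 := by
      have h3 := h.pow_three P hc
      rw [pow_succ, pow_two, hc2, one_mul] at h3
      exact h3
    rw [hc1, one_mul] at hconj
    have := congrArg (fun w => w * n) hconj
    simpa [mul_assoc] using this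
  -- (iv) the centralizer of such an involution is `N_G(P)`
  have hcentEq : ∀ k' : G, k' ∈ centralizer ((P : Subgroup G) : Set G) → k' * k' = 1 → k' ≠ 1 →
      centralizer ({k'} : Set G) = normalizer ((P : Subgroup G) : Set G) := by
    intro k' hk' hk2 hk1
    have hle : normalizer ((P : Subgroup G) : Set G) ≤ centralizer ({k'} : Set G) := by
      intro n hn
      rw [Subgroup.mem_centralizer_iff]
      intro x hx
      rw [Set.mem_singleton_iff] at hx
      rw [hx]
      exact (hcent k' hk' hk2 n hn).symm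
    rcases h.normalizer_maximal P _ hle with h1 | h1
    · exact h1
    · exfalso
      apply hk1
      apply h.eq_one_of_forall_smul
      intro Q
      obtain ⟨g, rfl⟩ := MulAction.exists_smul_eq G P Q
      have hg : g ∈ centralizer ({k'} : Set G) := by rw [h1]; exact Subgroup.mem_top g
      have hgk : k' * g = g * k' := Subgroup.mem_centralizer_iff.mp hg k' (Set.mem_singleton k')
      have hkP : k' • P = P := Sylow.smul_eq_iff_mem_normalizer.mpr (hCN hk')
      rw [← mul_smul, hgk, mul_smul, hkP]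
  -- (v) an involution of `C_G(P)` and its fixed points
  obtain ⟨k, hk⟩ := exists_prime_orderOf_dvd_card'
    (G := ↥(centralizer ((P : Subgroup G) : Set G))) 2 hCeven
  have hk2 : (k : G) * (k : G) = 1 := by
    have := pow_orderOf_eq_one k
    rw [hk, pow_two] at this
    exact congrArg Subtype.val this
  have hk1 : (k : G) ≠ 1 := by
    intro e
    have : k = 1 := Subtype.ext e
    rw [this, orderOf_one] at hk
    omega
  obtain ⟨hlt, hpar⟩ := h.fixedBy_facts (k : G) hk1
  have hpar' := hpar hk2
  have hmod := Hyp3.card_fixedBy_mod_three P k.2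
  have hF : Nat.card ↥(fixedBy (Sylow 3 G) (k : G)) = 10 := by
    obtain ⟨m, hm⟩ := hpar'
    omega
  obtain ⟨Q, hQfix, hQP⟩ : ∃ Q : Sylow 3 G, (k : G) • Q = Q ∧ Q ≠ P := by
    by_contra hno
    push Not at hno
    have hsub : fixedBy (Sylow 3 G) (k : G) ⊆ {P} := by
      intro Q hQ
      rw [MulAction.mem_fixedBy] at hQ
      exact hno Q hQ
    have := Set.ncard_le_ncard hsub (Set.finite_singleton P)
    rw [Set.ncard_singleton, ← Nat.card_coe_set_eq, hF] at this
    omega
  obtain ⟨g, rfl⟩ := MulAction.exists_smul_eq G P Q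
  obtain ⟨k', hk'def⟩ : ∃ k', k' = g⁻¹ * (k : G) * g := ⟨_, rfl⟩
  have hk'P : k' • P = P := by
    rw [hk'def, mul_smul, mul_smul, hQfix, inv_smul_smul]
  have hk'N : k' ∈ normalizer ((P : Subgroup G) : Set G) :=
    Sylow.smul_eq_iff_mem_normalizer.mp hk'P
  have hk'2 : k' * k' = 1 := by
    rw [hk'def]
    calc g⁻¹ * (k : G) * g * (g⁻¹ * (k : G) * g) = g⁻¹ * ((k : G) * (k : G)) * g := by group
      _ = 1 := by rw [hk2]; group
  have hk'1 : k' ≠ 1 := by
    intro e
    apply hk1
    rw [hk'def] at e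
    have := congrArg (fun w => g * w * g⁻¹) e
    simpa [mul_assoc] using this
  by_cases hk'C : k' ∈ centralizer ((P : Subgroup G) : Set G)
  · -- (vii)
    have e1 := hcentEq (k : G) k.2 hk2 hk1
    have e2 := hcentEq k' hk'C hk'2 hk'1
    have hconjN : ∀ n ∈ normalizer ((P : Subgroup G) : Set G),
        g * n * g⁻¹ ∈ normalizer ((P : Subgroup G) : Set G) := by
      intro n hn
      rw [← e1, Subgroup.mem_centralizer_iff]
      intro x hx
      rw [Set.mem_singleton_iff] at hx
      rw [hx]
      have hn' : n ∈ centralizer ({k'} : Set G) := by rw [e2]; exact hn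
      have hnk : k' * n = n * k' := Subgroup.mem_centralizer_iff.mp hn' k' (Set.mem_singleton k')
      rw [hk'def] at hnk
      calc (k : G) * (g * n * g⁻¹) = g * ((g⁻¹ * (k : G) * g) * n) * g⁻¹ := by group
        _ = g * (n * (g⁻¹ * (k : G) * g)) * g⁻¹ := by rw [hnk]
        _ = g * n * g⁻¹ * (k : G) := by group
    have hle : ((g • P : Sylow 3 G) : Subgroup G) ≤ normalizer ((P : Subgroup G) : Set G) := by
      intro x hx
      rw [Sylow.smul_def, Sylow.pointwise_smul_def, Subgroup.mem_pointwise_smul_iff_inv_smul_mem,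
        MulAut.smul_def, ← map_inv, MulAut.conj_apply, inv_inv] at hx
      have := hconjN _ (le_normalizer hx)
      have e : g * (g⁻¹ * x * g) * g⁻¹ = x := by group
      rwa [e] at this
    have hle2 := le_sylow_of_le_normalizer (g • P : Sylow 3 G).2 P hle
    exact hQP (sylow_eq_of_le hle2)
  · -- (viii)
    have hinv := h.inverts P hk'N hk'C
    have hle := h.card_fixedBy_le_of_inverts P hinv
    rw [h.card_orbQ P, hk'def, card_fixedBy_conj, hF] at hle
    omega

/-- There is no reduced group with `22` Sylow `3`-subgroups, all of order `3`. -/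
theorem Hyp3.false (h : Hyp3 G) : False := by
  obtain ⟨P⟩ : Nonempty (Sylow 3 G) := inferInstance
  obtain ⟨φ, hker, hN, hdvd⟩ := h.exists_hom P
  rcases h.card_range_cases P φ hN hdvd with h4 | h70
  · exact h.false_of_four P φ hker hN h4
  · exact Cfsg.Agent.Lib.Helper46.Perm70.false_of_card_seventy (h.card_orbQ P) φ.range h70

end final

end Cfsg.Agent.Lib.Helper46.Syl22
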