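import Cfsg.Agent.Lib.Helper46.Syl22C
import Cfsg.Agent.Lib.Helper46.Syl22G

set_option autoImplicit false
set_option linter.style.haveILetI false
set_option linter.unusedSectionVars false

/-!
# No finite group has exactly twenty-two Sylow `3`-subgroups
-/

namespace Cfsg.Agent.Lib.Helper46.Syl22

open MulAction Subgroup Pointwise Classical Cfsg.Agent.Lib.Helper49.TwoPPlusOne

universe u

section main

variable {G : Type u} [Group G] [Finite G]

attribute [local instance] instFintypeSylow

/-- A reduced group does not have exactly `22` Sylow `3`-subgroups. -/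
theorem false_of_reduced (hcard : Nat.card (Sylow 3 G) = 22) (hred : Reduced 3 G) : False := by
  rcases geometry_dichotomy hcard with ⟨ℓ, hℓ, h22⟩ | ⟨h4, h12⟩
  · obtain ⟨A, B, hAB, rfl⟩ := mem_lines.mp hℓ
    have huniv : (lineOf ((A : Subgroup G) ⊓ B) : Finset (Sylow 3 G)) = Finset.univ := by
      apply Finset.eq_univ_of_card
      rw [h22, ← hcard, Nat.card_eq_fintype_card]
    have hall : ∀ Q : Sylow 3 G, (A : Subgroup G) ⊓ B ≤ (Q : Subgroup G) := by
      intro Q
      have : Q ∈ (lineOf ((A : Subgroup G) ⊓ B) : Finset (Sylow 3 G)) := by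
        rw [huniv]; exact Finset.mem_univ _
      exact mem_lineOf.mp this
    have hbot : (A : Subgroup G) ⊓ B = ⊥ := by
      rw [eq_bot_iff, ← hred.ker_eq_bot]
      intro d hd
      rw [mem_sylKer]
      intro Q
      rw [Sylow.smul_eq_iff_mem_normalizer]
      exact le_normalizer (hall Q hd)
    have hA : Nat.card ↥(A : Subgroup G) = 3 := by
      have := hAB.2
      rw [hbot, Subgroup.card_bot] at this
      omega
    have h : Hyp3 G := ⟨hcard, hred, fun P => (card_sylow_eq P A).trans hA⟩
    exact h.false
  · exact false_of_all_four hcard h4 h12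

/-- No finite group has exactly `22` Sylow `3`-subgroups. -/
theorem card_sylow_three_ne_twentytwo : Nat.card (Sylow 3 G) ≠ 22 := by
  intro hcard
  obtain ⟨H, _, _, hH, hred⟩ := exists_reduced 3 22 (Nat.card G) G rfl hcard
  exact false_of_reduced hH hred

end main

end Cfsg.Agent.Lib.Helper46.Syl22
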