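import Mathlib

set_option autoImplicit false

/-! A small kernel-checkable coset enumeration certificate checker for groups generated by
involutions (upper bound / divisibility of the index only). -/

namespace Cfsg.Agent.Lib.Helper46.TCa

/-- packed fixed-width field extraction -/
def fget (leaf w e : Nat) : Nat := (leaf >>> (w * e)) % 2 ^ w

def allBelow (f : Nat → Bool) : Nat → Bool
  | 0 => true
  | n + 1 => cond (f n) (allBelow f n) false

def allRange (f : Nat → Bool) (lo : Nat) : Nat → Bool
  | 0 => true
  | n + 1 => cond (f (lo + n)) (allRange f lo n) false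

structure Cert where
  k : Nat
  n : Nat
  m : Nat
  nsub : Nat
  EI : Nat → Nat
  EU : Nat → Nat
  EG : Nat → Nat
  EV : Nat → Nat
  JK : Nat → Nat
  JR : Nat → Nat
  JC : Nat → Nat
  JT : Nat → Nat
  DE : Nat → Nat
  rels : List (List Nat)

/-- other end of edge `e` seen from `p` via generator `g`, if consistent -/
def other (C : Cert) (e p g : Nat) : Option Nat :=
  cond (Nat.beq (C.EG e) g)
    (cond (Nat.beq (C.EU e) p) (some (C.EV e))
      (cond (Nat.beq (C.EV e) p) (some (C.EU e)) none))
    none

def walkC (C : Cert) (lim : Nat) : Nat → List Nat → Option Nat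
  | p, [] => some p
  | p, g :: w =>
    cond (Nat.blt g C.k && Nat.blt (C.EI (p * C.k + g)) lim)
      (match other C (C.EI (p * C.k + g)) p g with
        | some q => walkC C lim q w
        | none => none)
      none

def checkRel (C : Cert) (e u g v : Nat) : Bool :=
  match (C.rels.getD (C.JR e) []).drop (C.JT e) with
  | [] => false
  | g' :: post =>
    Nat.beq g' g &&
    (match walkC C e (C.JC e) ((C.rels.getD (C.JR e) []).take (C.JT e)),
           walkC C e (C.JC e) post.reverse with
     | some i, some j => (Nat.beq i u && Nat.beq j v) || (Nat.beq i v && Nat.beq j u)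
     | _, _ => false)

def checkEdge (C : Cert) (e : Nat) : Bool :=
  Nat.blt (C.EG e) C.k &&
  cond (Nat.beq (C.JK e) 0)
    (Nat.blt (C.EU e) (C.EV e) && Nat.beq (C.DE (C.EV e)) e)
    (cond (Nat.beq (C.JK e) 1)
      (Nat.beq (C.EU e) 0 && (Nat.beq (C.EV e) 0 && Nat.blt (C.EG e) C.nsub))
      (checkRel C e (C.EU e) (C.EG e) (C.EV e)))

def stepC (C : Cert) (p g : Nat) : Nat :=
  cond (Nat.beq (C.EU (C.EI (p * C.k + g))) p) (C.EV (C.EI (p * C.k + g)))
    (C.EU (C.EI (p * C.k + g)))

def checkPoint (C : Cert) (p : Nat) : Bool :=
  allBelow (fun g =>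
    Nat.blt (C.EI (p * C.k + g)) C.m && (Nat.beq (C.EG (C.EI (p * C.k + g))) g &&
    ((Nat.beq (C.EU (C.EI (p * C.k + g))) p || Nat.beq (C.EV (C.EI (p * C.k + g))) p) &&
    (Nat.blt (stepC C p g) C.n &&
    Nat.beq (C.EI (stepC C p g * C.k + g)) (C.EI (p * C.k + g)))))) C.k

theorem allBelow_sound (f : Nat → Bool) : ∀ n, allBelow f n = true → ∀ i, i < n → f i = true := by
  intro n
  induction n with
  | zero => intro _ i hi; omega
  | succ n ih =>
    intro h i hi
    simp only [allBelow] at h
    by_cases hf : f n = true
    · rw [hf] at h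
      simp only [cond_true] at h
      by_cases hin : i = n
      · rw [hin]; exact hf
      · exact ih h i (by omega)
    · have : f n = false := Bool.eq_false_iff.mpr hf
      rw [this] at h
      simp at h

theorem allRange_sound (f : Nat → Bool) (lo : Nat) :
    ∀ n, allRange f lo n = true → ∀ i, lo ≤ i → i < lo + n → f i = true := by
  intro n
  induction n with
  | zero => intro _ i h1 h2; omega
  | succ n ih =>
    intro h i h1 h2
    simp only [allRange] at h
    by_cases hf : f (lo + n) = true
    · rw [hf] at h
      simp only [cond_true] at h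
      by_cases hin : i = lo + n
      · rw [hin]; exact hf
      · exact ih h i h1 (by omega)
    · have : f (lo + n) = false := Bool.eq_false_iff.mpr hf
      rw [this] at h
      simp at h

section Sound

variable {G : Type*} [Group G] {X : Type*} [MulAction G X]

/-- right action derived from the left action -/
def ract (x : X) (g : G) : X := g⁻¹ • x

theorem ract_one (x : X) : ract x (1 : G) = x := by simp [ract]

theorem ract_mul (x : X) (g h : G) : ract x (g * h) = ract (ract x g) h := by
  simp [ract, mul_smul]

theorem ract_inj (x y : X) (g : G) (h : ract x g = ract y g) : x = y := by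
  simpa [ract] using h

def evw (gam : Nat → G) : List Nat → G
  | [] => 1
  | g :: w => gam g * evw gam w

theorem evw_append (gam : Nat → G) (a b : List Nat) :
    evw gam (a ++ b) = evw gam a * evw gam b := by
  induction a with
  | nil => simp [evw]
  | cons l w ih => simp [evw, ih, mul_assoc]

variable (C : Cert) (gam : Nat → G) (x0 : X)

noncomputable def psi : Nat → X
  | 0 => x0
  | v + 1 =>
    if h : C.EU (C.DE (v + 1)) < v + 1 then
      ract (psi (C.EU (C.DE (v + 1)))) (gam (C.EG (C.DE (v + 1))))
    else x0
termination_by v => v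

theorem psi_zero : psi C gam x0 0 = x0 := by
  rw [psi]

theorem psi_def (v : Nat) (h : C.EU (C.DE v) < v) :
    psi C gam x0 v = ract (psi C gam x0 (C.EU (C.DE v))) (gam (C.EG (C.DE v))) := by
  cases v with
  | zero => omega
  | succ v =>
    rw [psi]
    simp only [h, dif_pos]

def factHolds (e : Nat) : Prop :=
  ract (psi C gam x0 (C.EU e)) (gam (C.EG e)) = psi C gam x0 (C.EV e)

variable (hinv : ∀ g, g < C.k → gam g * gam g = 1)

include hinv in
theorem fact_back (e : Nat) (hg : C.EG e < C.k) (h : factHolds C gam x0 e) :
    ract (psi C gam x0 (C.EV e)) (gam (C.EG e)) = psi C gam x0 (C.EU e) := by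
  unfold factHolds at h
  rw [← h, ← ract_mul, hinv _ hg, ract_one]

include hinv in
theorem other_sound (e p g q : Nat) (hg : g < C.k) (hf : factHolds C gam x0 e)
    (h : other C e p g = some q) : ract (psi C gam x0 p) (gam g) = psi C gam x0 q := by
  unfold other at h
  by_cases h1 : Nat.beq (C.EG e) g = true
  · have hg1 : C.EG e = g := Nat.eq_of_beq_eq_true h1
    rw [h1] at h
    simp only [cond_true] at h
    by_cases h2 : Nat.beq (C.EU e) p = true
    · have hu : C.EU e = p := Nat.eq_of_beq_eq_true h2
      rw [h2] at h
      simp only [cond_true, Option.some.injEq] at h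
      unfold factHolds at hf
      rw [hg1, hu, h] at hf
      exact hf
    · have h2' : Nat.beq (C.EU e) p = false := Bool.eq_false_iff.mpr h2
      rw [h2'] at h
      simp only [cond_false] at h
      by_cases h3 : Nat.beq (C.EV e) p = true
      · have hv : C.EV e = p := Nat.eq_of_beq_eq_true h3
        rw [h3] at h
        simp only [cond_true, Option.some.injEq] at h
        have := fact_back C gam x0 hinv e (by rw [hg1]; exact hg) hf
        rw [hg1, hv, h] at this
        exact this
      · have h3' : Nat.beq (C.EV e) p = false := Bool.eq_false_iff.mpr h3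
        rw [h3'] at h
        simp at h
  · have h1' : Nat.beq (C.EG e) g = false := Bool.eq_false_iff.mpr h1
    rw [h1'] at h
    simp at h

include hinv in
theorem walkC_sound (lim : Nat) (hlim : ∀ e, e < lim → factHolds C gam x0 e) :
    ∀ (w : List Nat) (p q : Nat), walkC C lim p w = some q →
      psi C gam x0 q = ract (psi C gam x0 p) (evw gam w) ∧
      psi C gam x0 p = ract (psi C gam x0 q) (evw gam w.reverse) := by
  intro w
  induction w with
  | nil =>
    intro p q h
    simp only [walkC, Option.some.injEq] at h
    subst h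
    simp [evw, ract_one]
  | cons g w ih =>
    intro p q h
    simp only [walkC] at h
    by_cases hc : (Nat.blt g C.k && Nat.blt (C.EI (p * C.k + g)) lim) = true
    · rw [hc] at h
      simp only [cond_true] at h
      simp only [Bool.and_eq_true] at hc
      have hgk : g < C.k := by simpa [Nat.blt] using hc.1
      have hel : C.EI (p * C.k + g) < lim := by simpa [Nat.blt] using hc.2
      cases ho : other C (C.EI (p * C.k + g)) p g with
      | none => rw [ho] at h; simp at h
      | some r =>
        rw [ho] at h
        simp only at h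
        have hstep := other_sound C gam x0 hinv _ p g r hgk (hlim _ hel) ho
        obtain ⟨h1, h2⟩ := ih r q h
        constructor
        · rw [h1, ← hstep, evw, ract_mul]
        · rw [List.reverse_cons, evw_append, ract_mul, ← h2]
          simp only [evw, mul_one]
          rw [← hstep, ← ract_mul, hinv g hgk, ract_one]
    · have : (Nat.blt g C.k && Nat.blt (C.EI (p * C.k + g)) lim) = false :=
        Bool.eq_false_iff.mpr hc
      rw [this] at h
      simp at h

include hinv in
theorem checkRel_sound (e : Nat) (hlim : ∀ e', e' < e → factHolds C gam x0 e')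
    (hrels : ∀ w ∈ C.rels, ∀ x : X, ract x (evw gam w) = x)
    (h : checkRel C e (C.EU e) (C.EG e) (C.EV e) = true) (hg : C.EG e < C.k) :
    factHolds C gam x0 e := by
  unfold checkRel at h
  set w := C.rels.getD (C.JR e) [] with hw
  have hwrel : ∀ x : X, ract x (evw gam w) = x := by
    intro x
    by_cases hm : C.JR e < C.rels.length
    · have : w ∈ C.rels := by
        rw [hw, List.getD_eq_getElem _ _ hm]
        exact List.getElem_mem _
      exact hrels w this x
    · have : w = [] := by
        rw [hw]
        exact List.getD_eq_default _ _ (by omega)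
      rw [this]
      simp [evw, ract_one]
  cases hd : w.drop (C.JT e) with
  | nil => rw [hd] at h; simp at h
  | cons g' post =>
    rw [hd] at h
    simp only [Bool.and_eq_true] at h
    obtain ⟨hg', h⟩ := h
    have hgg : g' = C.EG e := Nat.eq_of_beq_eq_true hg'
    have hsplit : w = w.take (C.JT e) ++ g' :: post := by
      rw [← hd, List.take_append_drop]
    cases hw1 : walkC C e (C.JC e) (w.take (C.JT e)) with
    | none => rw [hw1] at h; simp at h
    | some i =>
      cases hw2 : walkC C e (C.JC e) post.reverse with
      | none => rw [hw1, hw2] at h; simp at h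
      | some j =>
        rw [hw1, hw2] at h
        simp only [Bool.or_eq_true, Bool.and_eq_true] at h
        have h1 := (walkC_sound C gam x0 hinv e hlim _ _ _ hw1).1
        have h2 := (walkC_sound C gam x0 hinv e hlim _ _ _ hw2).2
        rw [List.reverse_reverse] at h2
        -- key: ract (psi i) (gam g') = psi j
        have key : ract (psi C gam x0 i) (gam g') = psi C gam x0 j := by
          apply ract_inj _ _ (evw gam post)
          rw [← ract_mul, h1, ← ract_mul, ← h2]
          have : evw gam (w.take (C.JT e)) * (gam g' * evw gam post) = evw gam w := by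
            conv_rhs => rw [hsplit]
            rw [evw_append, evw]
          rw [this, hwrel]
        rcases h with ⟨hi, hj⟩ | ⟨hi, hj⟩
        · have hi' : i = C.EU e := Nat.eq_of_beq_eq_true hi
          have hj' : j = C.EV e := Nat.eq_of_beq_eq_true hj
          unfold factHolds
          rw [← hi', ← hj', ← hgg]
          exact key
        · have hi' : i = C.EV e := Nat.eq_of_beq_eq_true hi
          have hj' : j = C.EU e := Nat.eq_of_beq_eq_true hj
          unfold factHolds
          rw [← hi', ← hj', ← hgg, ← key, ← ract_mul, hinv g' (by rw [hgg]; exact hg), ract_one]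

include hinv in
theorem checkEdge_sound (e : Nat) (hlim : ∀ e', e' < e → factHolds C gam x0 e')
    (hrels : ∀ w ∈ C.rels, ∀ x : X, ract x (evw gam w) = x)
    (hsubs : ∀ g, g < C.nsub → ract x0 (gam g) = x0)
    (h : checkEdge C e = true) : factHolds C gam x0 e := by
  unfold checkEdge at h
  simp only [Bool.and_eq_true] at h
  obtain ⟨hgk, h⟩ := h
  have hgk' : C.EG e < C.k := by simpa [Nat.blt] using hgk
  by_cases hk0 : Nat.beq (C.JK e) 0 = true
  · rw [hk0] at h
    simp only [cond_true, Bool.and_eq_true] at h
    obtain ⟨huv, hde⟩ := h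
    have huv' : C.EU e < C.EV e := by simpa [Nat.blt] using huv
    have hde' : C.DE (C.EV e) = e := Nat.eq_of_beq_eq_true hde
    unfold factHolds
    rw [psi_def C gam x0 (C.EV e) (by rw [hde']; exact huv'), hde']
  · have hk0' : Nat.beq (C.JK e) 0 = false := Bool.eq_false_iff.mpr hk0
    rw [hk0'] at h
    simp only [cond_false] at h
    by_cases hk1 : Nat.beq (C.JK e) 1 = true
    · rw [hk1] at h
      simp only [cond_true, Bool.and_eq_true] at h
      obtain ⟨hu, hv, hg⟩ := h
      have hu' : C.EU e = 0 := Nat.eq_of_beq_eq_true hu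
      have hv' : C.EV e = 0 := Nat.eq_of_beq_eq_true hv
      have hg' : C.EG e < C.nsub := by simpa [Nat.blt] using hg
      unfold factHolds
      rw [hu', hv', psi_zero]
      exact hsubs _ hg'
    · have hk1' : Nat.beq (C.JK e) 1 = false := Bool.eq_false_iff.mpr hk1
      rw [hk1'] at h
      simp only [cond_false] at h
      exact checkRel_sound C gam x0 hinv e hlim hrels h hgk'

include hinv in
theorem all_facts
    (hrels : ∀ w ∈ C.rels, ∀ x : X, ract x (evw gam w) = x)
    (hsubs : ∀ g, g < C.nsub → ract x0 (gam g) = x0)
    (hE : ∀ e, e < C.m → checkEdge C e = true) :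
    ∀ e, e < C.m → factHolds C gam x0 e := by
  intro e
  induction e using Nat.strong_induction_on with
  | _ e ih =>
    intro he
    exact checkEdge_sound C gam x0 hinv e (fun e' he' => ih e' he' (by omega)) hrels hsubs (hE e he)

/-- consequences of the per-point check -/
theorem point_facts (p g : Nat) (hg : g < C.k) (hP : checkPoint C p = true) :
    C.EI (p * C.k + g) < C.m ∧ C.EG (C.EI (p * C.k + g)) = g ∧
    (C.EU (C.EI (p * C.k + g)) = p ∨ C.EV (C.EI (p * C.k + g)) = p) ∧
    stepC C p g < C.n ∧ C.EI (stepC C p g * C.k + g) = C.EI (p * C.k + g) := by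
  have h := allBelow_sound _ _ hP g hg
  simp only [Bool.and_eq_true, Bool.or_eq_true] at h
  obtain ⟨h1, h2, h3, h4, h5⟩ := h
  refine ⟨by simpa [Nat.blt] using h1, Nat.eq_of_beq_eq_true h2, ?_, by simpa [Nat.blt] using h4,
    Nat.eq_of_beq_eq_true h5⟩
  rcases h3 with h3 | h3
  · exact Or.inl (Nat.eq_of_beq_eq_true h3)
  · exact Or.inr (Nat.eq_of_beq_eq_true h3)

include hinv in
theorem step_equiv (hF : ∀ e, e < C.m → factHolds C gam x0 e)
    (p g : Nat) (hg : g < C.k) (hP : checkPoint C p = true) :
    ract (psi C gam x0 p) (gam g) = psi C gam x0 (stepC C p g) := by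
  obtain ⟨h1, h2, h3, -, -⟩ := point_facts C p g hg hP
  have hf := hF _ h1
  unfold stepC
  by_cases hu : Nat.beq (C.EU (C.EI (p * C.k + g))) p = true
  · rw [hu]
    simp only [cond_true]
    have hu' := Nat.eq_of_beq_eq_true hu
    unfold factHolds at hf
    rw [h2, hu'] at hf
    exact hf
  · have hu' : Nat.beq (C.EU (C.EI (p * C.k + g))) p = false := Bool.eq_false_iff.mpr hu
    rw [hu']
    simp only [cond_false]
    have hv : C.EV (C.EI (p * C.k + g)) = p := by
      rcases h3 with h3 | h3
      · exfalso; apply hu; rw [h3]; exact Nat.beq_refl p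
      · exact h3
    have := fact_back C gam x0 hinv _ (by rw [h2]; exact hg) hf
    rw [h2, hv] at this
    exact this

theorem step_invol (p g : Nat) (hg : g < C.k) (hP : checkPoint C p = true) :
    stepC C (stepC C p g) g = p := by
  obtain ⟨-, -, h3, -, h5⟩ := point_facts C p g hg hP
  have hs : stepC C (stepC C p g) g =
      cond (Nat.beq (C.EU (C.EI (p * C.k + g))) (stepC C p g)) (C.EV (C.EI (p * C.k + g)))
        (C.EU (C.EI (p * C.k + g))) := by
    have hgen : ∀ q, stepC C q g = cond (Nat.beq (C.EU (C.EI (q * C.k + g))) q)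
        (C.EV (C.EI (q * C.k + g))) (C.EU (C.EI (q * C.k + g))) := fun _ => rfl
    rw [hgen (stepC C p g), h5]
  rw [hs]
  by_cases hu : Nat.beq (C.EU (C.EI (p * C.k + g))) p = true
  · have hu' := Nat.eq_of_beq_eq_true hu
    have hq : stepC C p g = C.EV (C.EI (p * C.k + g)) := by
      unfold stepC; rw [hu]; rfl
    rw [hq]
    by_cases hv : Nat.beq (C.EU (C.EI (p * C.k + g))) (C.EV (C.EI (p * C.k + g))) = true
    · rw [hv]
      simp only [cond_true]
      rw [← Nat.eq_of_beq_eq_true hv, hu']
    · have hv' : Nat.beq (C.EU (C.EI (p * C.k + g))) (C.EV (C.EI (p * C.k + g))) = false :=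
        Bool.eq_false_iff.mpr hv
      rw [hv']
      simp only [cond_false]
      exact hu'
  · have hu' : Nat.beq (C.EU (C.EI (p * C.k + g))) p = false := Bool.eq_false_iff.mpr hu
    have hq : stepC C p g = C.EU (C.EI (p * C.k + g)) := by
      unfold stepC; rw [hu']; rfl
    rw [hq, Nat.beq_refl]
    simp only [cond_true]
    rcases h3 with h3 | h3
    · exfalso; apply hu; rw [h3]; exact Nat.beq_refl p
    · exact h3

end Sound

end Cfsg.Agent.Lib.Helper46.TCa
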