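import Cfsg.Agent.Lib.Helper46.TCb

set_option autoImplicit false

namespace Cfsg.Agent.Lib.Helper46.TCa

/-- a word whose walk in a checked table returns to the base row lies in the subgroup -/
theorem word_mem (C : Cert) {G : Type*} [Group G] (H : Subgroup G) (gam : Nat → G)
    (hinv : ∀ g, g < C.k → gam g * gam g = 1)
    (hrels : ∀ w ∈ C.rels, evw gam w = 1)
    (hsubs : ∀ g, g < C.nsub → gam g ∈ H)
    (hE : ∀ e, e < C.m → checkEdge C e = true)
    (w : List Nat) (hw : walkC C C.m 0 w = some 0) : evw gam w ∈ H := by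
  set x0 : G ⧸ H := ((1 : G) : G ⧸ H) with hx0
  have hrels' : ∀ w ∈ C.rels, ∀ x : G ⧸ H, ract x (evw gam w) = x := by
    intro w hw x
    rw [hrels w hw, ract_one]
  have hsubs' : ∀ g, g < C.nsub → ract x0 (gam g) = x0 := by
    intro g hg
    unfold ract
    show (((gam g)⁻¹ * 1 : G) : G ⧸ H) = ((1 : G) : G ⧸ H)
    rw [QuotientGroup.eq]
    simpa using hsubs g hg
  have hF := all_facts C gam x0 hinv hrels' hsubs' hE
  have h := (walkC_sound C gam x0 hinv C.m hF w 0 0 hw).1
  rw [psi_zero] at h
  unfold ract at h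
  have h2 : (((evw gam w)⁻¹ * 1 : G) : G ⧸ H) = ((1 : G) : G ⧸ H) := h.symm
  rw [QuotientGroup.eq] at h2
  simpa using h2

/-- a word whose walk in a checked table over the trivial subgroup returns to the base row is trivial -/
theorem word_eq_one (C : Cert) {G : Type*} [Group G] (gam : Nat → G)
    (hinv : ∀ g, g < C.k → gam g * gam g = 1)
    (hrels : ∀ w ∈ C.rels, evw gam w = 1)
    (hns : C.nsub = 0)
    (hE : ∀ e, e < C.m → checkEdge C e = true)
    (w : List Nat) (hw : walkC C C.m 0 w = some 0) : evw gam w = 1 := by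
  have := word_mem C (⊥ : Subgroup G) gam hinv hrels (by intro g hg; omega) hE w hw
  exact Subgroup.mem_bot.mp this

end Cfsg.Agent.Lib.Helper46.TCa
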