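import Cfsg.Agent.Lib.Helper46.Theta4
import Cfsg.Agent.Lib.Helper22.FStar
import Cfsg.Agent.Lib.Helper91.Components
import Cfsg.Agent.Lib.Helper21.BenderLemma

set_option autoImplicit false
set_option linter.all false

namespace Cfsg.Agent.Lib.Helper46

open Cfsg
open scoped commutatorElement

universe u

variable {G : Type u} [Group G] {D : Set G}

/-- an element commuting with a generating set is central -/
theorem mem_center_of_commute_gen (hgen : Subgroup.closure D = ⊤) {x : G}
    (h : ∀ d ∈ D, Commute d x) : x ∈ Subgroup.center G := by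
  rw [Subgroup.mem_center_iff]
  intro g
  have hg : g ∈ Subgroup.closure D := by rw [hgen]; trivial
  induction hg using Subgroup.closure_induction with
  | mem y hy => exact (h y hy).eq
  | one => simp
  | mul a b _ _ iha ihb => rw [mul_assoc, ihb, ← mul_assoc, iha, mul_assoc]
  | inv a _ iha =>
    have : Commute a x := iha
    exact (this.inv_left).eq

/-- the commutators `[d, l]`, `l ∈ E(G)`, generate a subgroup `N`; if `d` centralizes `N` or `N` is solvable, then `d`
centralizes `E(G)` -/
theorem layer_centralized [Finite G] {d : G} (hd2 : d * d = 1) (N : Subgroup G)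
    (hNE : N ≤ layer G) (hNnorm : layer G ≤ Subgroup.normalizer (N : Set G))
    (hgenN : ∀ l ∈ layer G, d * l * d⁻¹ * l⁻¹ ∈ N)
    (hcase : (∀ n ∈ N, Commute d n) ∨ Group.IsSolvable N) : ∀ l ∈ layer G, Commute d l := by
  have hdinv : d⁻¹ = d := inv_eq_of_mul_eq_one_right hd2
  have hEn : (layer G).Normal := Cfsg.Agent.Lib.Helper22.layer_normal G
  have hNsub : N.IsSubnormal := by
    apply Subgroup.IsSubnormal.step N (layer G) hNE hEn.isSubnormal
    rw [Subgroup.normal_subgroupOf_iff_le_normalizer hNE]
    exact hNnorm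
  have hzp : ∀ z ∈ Subgroup.zpowers d, z = 1 ∨ z = d := by
    intro z hz
    obtain ⟨k, rfl⟩ := Subgroup.mem_zpowers_iff.mp hz
    have hd2' : d ^ (2 : ℤ) = 1 := by rw [zpow_ofNat, pow_two]; exact hd2
    rcases Int.emod_two_eq_zero_or_one k with h | h
    · left
      rw [← Int.mul_ediv_add_emod k 2, h, add_zero, zpow_mul, hd2', one_zpow]
    · right
      rw [← Int.mul_ediv_add_emod k 2, h, zpow_add, zpow_mul, hd2', one_zpow, one_mul, zpow_one]
  have key : ∀ L : Subgroup G, IsComponent L → ⁅L, Subgroup.zpowers d⁆ = ⊥ := by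
    intro L hL
    have hLE : L ≤ layer G := Cfsg.Agent.Lib.Helper22.component_le_layer hL
    have hcomm_le : ⁅L, Subgroup.zpowers d⁆ ≤ N := by
      rw [Subgroup.commutator_le]
      intro l hl z hz
      rcases hzp z hz with rfl | rfl
      · simp
      · have := hgenN l (hLE hl)
        have h2 : ⁅l, z⁆ = (z * l * z⁻¹ * l⁻¹)⁻¹ := by
          rw [commutatorElement_def]; group
        rw [h2]
        exact Subgroup.inv_mem _ this
    have hcase2 : (L ≤ N ∧ ∀ n ∈ N, Commute d n) ∨ ⁅L, N⁆ = ⊥ := by
      rcases Cfsg.Agent.Lib.Helper91.component_le_or_commutator_eq_bot hL hNsub with h | h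
      · rcases hcase with hc | hs
        · exact Or.inl ⟨h, hc⟩
        · exfalso
          apply Cfsg.Agent.Lib.Helper91.not_isSolvable_of_isQuasisimple hL.2
          exact Group.isSolvable_of_isSolvable_injective (f := Subgroup.inclusion h)
            (Subgroup.inclusion_injective h)
      · exact Or.inr h
    rcases hcase2 with ⟨hLN, hc⟩ | hLN
    · rw [Subgroup.commutator_eq_bot_iff_le_centralizer]
      intro l hl
      rw [Subgroup.mem_centralizer_iff]
      intro z hz
      rcases hzp z hz with rfl | rfl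
      · simp
      · exact (hc l (hLN hl)).eq
    · have h1 : ⁅⁅L, Subgroup.zpowers d⁆, L⁆ = ⊥ := by
        rw [eq_bot_iff, ← hLN, Subgroup.commutator_comm L N]
        exact Subgroup.commutator_mono hcomm_le le_rfl
      have h2 : ⁅⁅Subgroup.zpowers d, L⁆, L⁆ = ⊥ := by
        rw [Subgroup.commutator_comm (Subgroup.zpowers d) L]; exact h1
      have h3 := Subgroup.commutator_commutator_eq_bot_of_rotate h1 h2
      rwa [Cfsg.Agent.Lib.Helper22.component_perfect hL] at h3
  have hle : layer G ≤ Subgroup.centralizer (Subgroup.zpowers d : Set G) := by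
    unfold layer
    apply sSup_le
    intro L hL
    rw [← Subgroup.commutator_eq_bot_iff_le_centralizer]
    exact key L hL
  intro l hl
  have := hle hl
  rw [Subgroup.mem_centralizer_iff] at this
  exact this d (Subgroup.mem_zpowers d)

/-- the subgroup generated by the commutators `[d, l]` with `l` in the layer -/
def layerComm (d : G) : Subgroup G :=
  Subgroup.closure {t : G | ∃ l ∈ layer G, t = d * l * d⁻¹ * l⁻¹}

theorem layerComm_le (d : G) : layerComm d ≤ layer G := by
  have hEn : (layer G).Normal := Cfsg.Agent.Lib.Helper22.layer_normal G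
  unfold layerComm
  rw [Subgroup.closure_le]
  rintro t ⟨l, hl, rfl⟩
  exact Subgroup.mul_mem _ (hEn.conj_mem l hl d) (Subgroup.inv_mem _ hl)

theorem layerComm_norm (d : G) : layer G ≤ Subgroup.normalizer (layerComm d : Set G) := by
  have hstep : ∀ m ∈ layer G, ∀ h ∈ layerComm d, m * h * m⁻¹ ∈ layerComm d := by
    intro m hm h hh
    unfold layerComm at hh ⊢
    induction hh using Subgroup.closure_induction with
    | mem x hx =>
      obtain ⟨l, hl, rfl⟩ := hx
      have : m * (d * l * d⁻¹ * l⁻¹) * m⁻¹ = (d * m * d⁻¹ * m⁻¹)⁻¹ * (d * (m * l) * d⁻¹ * (m * l)⁻¹) := by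
        group
      rw [this]
      apply Subgroup.mul_mem
      · exact Subgroup.inv_mem _ (Subgroup.subset_closure ⟨m, hm, rfl⟩)
      · exact Subgroup.subset_closure ⟨m * l, Subgroup.mul_mem _ hm hl, rfl⟩
    | one => simp
    | mul x y _ _ ihx ihy =>
      have : m * (x * y) * m⁻¹ = (m * x * m⁻¹) * (m * y * m⁻¹) := by group
      rw [this]; exact mul_mem ihx ihy
    | inv x _ ih =>
      have : m * x⁻¹ * m⁻¹ = (m * x * m⁻¹)⁻¹ := by group
      rw [this]; exact inv_mem ih
  intro m hm
  rw [Subgroup.mem_normalizer_iff]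
  intro h
  constructor
  · exact hstep m hm h
  · intro hh
    have := hstep m⁻¹ (Subgroup.inv_mem _ hm) _ hh
    rw [inv_inv] at this
    have h2 : m⁻¹ * (m * h * m⁻¹) * m = h := by group
    rwa [h2] at this

end Cfsg.Agent.Lib.Helper46
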