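import Cfsg.Agent.Lib.Helper46.TTF1
import Cfsg.Agent.S5349

set_option autoImplicit false
set_option linter.all false

namespace Cfsg.Agent.Lib.Helper46

open Cfsg
open scoped commutatorElement

universe u

variable {G : Type u} [Group G] {D : Set G}

theorem class_conj (hD : IsThreeTranspositionClass D) : ∀ g : G, ∀ x ∈ D, g * x * g⁻¹ ∈ D := by
  obtain ⟨hT, ⟨d0, hd0, hcls⟩, hgen⟩ := hD
  intro g x hx
  rw [hcls] at hx ⊢
  have hx' : IsConj d0 x := hx
  exact hx'.trans (isConj_iff.mpr ⟨g, rfl⟩)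

theorem class_trans (hD : IsThreeTranspositionClass D) {a b : G} (ha : a ∈ D) (hb : b ∈ D) :
    ∃ g : G, g * a * g⁻¹ = b := by
  obtain ⟨hT, ⟨d0, hd0, hcls⟩, hgen⟩ := hD
  rw [hcls] at ha hb
  have ha' : IsConj d0 a := ha
  have hb' : IsConj d0 b := hb
  exact isConj_iff.mp (ha'.symm.trans hb')

/-- the largest normal `p`-subgroup is central for `p > 3` -/
theorem pCore_le_center_of_gt_three [Finite G] (hD : IsThreeTranspositionClass D) {p : ℕ} (hp : p.Prime)
    (h3 : 3 < p) : pCore p G ≤ Subgroup.center G := by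
  haveI : Fact p.Prime := ⟨hp⟩
  have hT := hD.1
  have hconj := class_conj hD
  have hON : (pCore p G).Normal := Cfsg.Agent.Lib.Helper84.pCore_normal p G
  have hOp := Cfsg.Agent.Lib.Helper84.pCore_isPGroup p G
  intro x hx
  apply mem_center_of_commute_gen hD.2.2
  intro d hd
  have hf : x * d * x⁻¹ ∈ D := hconj x d hd
  have ht : d * (x * d * x⁻¹) ∈ pCore p G := by
    have h1 : d * x * d⁻¹ ∈ pCore p G := hON.conj_mem x hx d
    have : d * (x * d * x⁻¹) = (d * x * d⁻¹) * x⁻¹ := by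
      rw [tt_inv hT hd]; group
    rw [this]
    exact Subgroup.mul_mem _ h1 (Subgroup.inv_mem _ hx)
  obtain ⟨k, hk⟩ := hOp ⟨_, ht⟩
  have hk' : (d * (x * d * x⁻¹)) ^ (p ^ k) = 1 := by
    have := congrArg Subtype.val hk
    simpa using this
  have h1 : orderOf (d * (x * d * x⁻¹)) ∣ p ^ k := orderOf_dvd_of_pow_eq_one hk'
  have h6 : orderOf (d * (x * d * x⁻¹)) ∣ 6 := by
    rcases hT.2 d hd _ hf with h | h
    · exact (orderOf_dvd_of_pow_eq_one h).trans (by norm_num)
    · exact (orderOf_dvd_of_pow_eq_one h).trans (by norm_num)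
  have hcop : Nat.Coprime (p ^ k) 6 := by
    apply Nat.Coprime.pow_left
    rw [Nat.Prime.coprime_iff_not_dvd hp]
    intro hdvd
    have : p ∣ 2 * 3 := by simpa using hdvd
    rcases (Nat.Prime.dvd_mul hp).mp this with h | h
    · have := Nat.le_of_dvd (by norm_num) h; omega
    · have := Nat.le_of_dvd (by norm_num) h; omega
  have h7 : orderOf (d * (x * d * x⁻¹)) ∣ Nat.gcd (p ^ k) 6 := Nat.dvd_gcd h1 h6
  rw [hcop, Nat.dvd_one, orderOf_eq_one_iff] at h7
  -- d = (x d x⁻¹)⁻¹ = x d x⁻¹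
  have h8 : d = (x * d * x⁻¹)⁻¹ := eq_inv_of_mul_eq_one_left h7
  rw [tt_inv hT hf] at h8
  show d * x = x * d
  calc d * x = (x * d * x⁻¹) * x := by rw [← h8]
    _ = x * d := by group

/-- not both of `O_2(G)` and `O_3(G)` are non-central -/
theorem not_both_noncentral [Finite G] (hD : IsThreeTranspositionClass D) (hD2 : ∃ a ∈ D, ∃ b ∈ D, a ≠ b)
    (h2 : ¬ pCore 2 G ≤ Subgroup.center G) (h3 : ¬ pCore 3 G ≤ Subgroup.center G) : False := by
  have hT := hD.1
  have hconj := class_conj hD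
  have hgen := hD.2.2
  -- a member d and v ≠ d conjugate under O_2
  obtain ⟨x, hx, hxc⟩ := SetLike.not_le_iff_exists.mp h2
  have : ∃ d ∈ D, ¬ Commute d x := by
    by_contra hcon
    push Not at hcon
    exact hxc (mem_center_of_commute_gen hgen hcon)
  obtain ⟨d, hd, hdx⟩ := this
  obtain ⟨y, hy, hyc⟩ := SetLike.not_le_iff_exists.mp h3
  have : ∃ d' ∈ D, ¬ Commute d' y := by
    by_contra hcon
    push Not at hcon
    exact hyc (mem_center_of_commute_gen hgen hcon)
  obtain ⟨d', hd', hdy⟩ := this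
  obtain ⟨g, hg⟩ := class_trans hD hd' hd
  have hON3 : (pCore 3 G).Normal := Cfsg.Agent.Lib.Helper84.pCore_normal 3 G
  -- v
  have hv := (Cfsg.Agent.S5349.result hD hD2 hd).2
  have hvmem : x * d * x⁻¹ ∈ {v : G | ∃ g ∈ pCore 2 G, v = g * d * g⁻¹} := ⟨x, hx, rfl⟩
  rw [← hv] at hvmem
  obtain ⟨hvD, hvC⟩ := hvmem
  have hvne : x * d * x⁻¹ ≠ d := by
    intro h
    apply hdx
    show d * x = x * d
    calc d * x = (x * d * x⁻¹) * x := by rw [h]
      _ = x * d := by group
  -- w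
  set y' := g * y * g⁻¹ with hy'
  have hy'O : y' ∈ pCore 3 G := hON3.conj_mem y hy g
  have hdy' : ¬ Commute d y' := by
    intro hc
    apply hdy
    rw [← hg, hy'] at hc
    exact (Commute.conj_iff g).mp hc
  have hwne : y' * d * y'⁻¹ ≠ d := by
    intro h
    apply hdy'
    show d * y' = y' * d
    calc d * y' = (y' * d * y'⁻¹) * y' := by rw [h]
      _ = y' * d := by group
  have hw := (pCore_coset_iff_orbit hT hconj (w := y' * d * y'⁻¹) hd).mpr ⟨y', hy'O, rfl⟩
  have hth : Th D d (y' * d * y'⁻¹) := (th_iff_pCore hT hconj hd hw.1).mpr hw.2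
  -- contradiction
  have hcdv : Commute d (x * d * x⁻¹) := ((hvC d hd).mpr (Commute.refl d)).symm
  have h1 := (hth _ hvD).mp ⟨hvne, hcdv⟩
  have h2' : Commute d (y' * d * y'⁻¹) := (hvC _ hw.1).mp h1.2.symm
  exact th_ncomm hth hw.1 hwne.symm h2'

end Cfsg.Agent.Lib.Helper46
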