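import Cfsg.Agent.Lib.Helper46.TTF2

set_option autoImplicit false
set_option linter.all false

namespace Cfsg.Agent.Lib.Helper46

open Cfsg
open scoped commutatorElement

universe u

variable {G : Type u} [Group G] {D : Set G}

/-- if `O_2(G)` and `O_3(G)` are central then the layer is nontrivial -/
theorem layer_ne_bot_of_central [Finite G] (hD : IsThreeTranspositionClass D) (hD2 : ∃ a ∈ D, ∃ b ∈ D, a ≠ b)
    (h2 : pCore 2 G ≤ Subgroup.center G) (h3 : pCore 3 G ≤ Subgroup.center G) : layer G ≠ ⊥ := by
  intro hE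
  have hF : fittingSubgroup G ≤ Subgroup.center G := by
    rw [Cfsg.Agent.Lib.Helper22.fittingSubgroup_eq_iSup_pCore]
    apply iSup_le
    intro p
    by_cases hp2 : (p : ℕ) = 2
    · rw [hp2]; exact h2
    by_cases hp3 : (p : ℕ) = 3
    · rw [hp3]; exact h3
    · apply pCore_le_center_of_gt_three hD p.2
      have := p.2.two_le
      omega
  have hFs : generalizedFittingSubgroup G ≤ Subgroup.center G := by
    unfold generalizedFittingSubgroup
    rw [hE, bot_sup_eq]
    exact hF
  have hcent : Subgroup.centralizer (generalizedFittingSubgroup G : Set G) = ⊤ := by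
    rw [eq_top_iff]
    intro g _
    rw [Subgroup.mem_centralizer_iff]
    intro z hz
    have := hFs hz
    rw [Subgroup.mem_center_iff] at this
    exact (this g).symm
  have hall : ∀ g : G, g ∈ Subgroup.center G := by
    intro g
    apply hFs
    apply Cfsg.Agent.Lib.Helper22.centralizer_generalizedFitting_le G
    rw [hcent]; trivial
  obtain ⟨a, ha, b, hb, hab⟩ := hD2
  obtain ⟨g, hg⟩ := class_trans hD ha hb
  apply hab
  rw [← hg]
  have := hall g
  rw [Subgroup.mem_center_iff] at this
  rw [← this a]; group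

/-- if the layer is nontrivial, some member of `D` fails to centralize it -/
theorem exists_not_commute_layer (hD : IsThreeTranspositionClass D) (hE : layer G ≠ ⊥) :
    ∃ d ∈ D, ∃ l ∈ layer G, ¬ Commute d l := by
  by_contra hcon
  push Not at hcon
  apply hE
  have hperf := Cfsg.Agent.Lib.Helper22.layer_perfect G
  rw [← hperf, Subgroup.commutator_eq_bot_iff_le_centralizer]
  intro l hl
  have hc : l ∈ Subgroup.center G := mem_center_of_commute_gen hD.2.2 (fun d hd => hcon d hd l hl)
  rw [Subgroup.mem_centralizer_iff]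
  intro m _
  rw [Subgroup.mem_center_iff] at hc
  exact hc m

/-- the layer commutes with the largest normal `p`-subgroup -/
theorem layer_commute_pCore [Finite G] (p : ℕ) [Fact p.Prime] {l x : G} (hl : l ∈ layer G)
    (hx : x ∈ pCore p G) : Commute l x := by
  have h1 := Cfsg.Agent.Lib.Helper22.layer_le_centralizer_fitting G hl
  rw [Subgroup.mem_centralizer_iff] at h1
  exact (h1 x (Cfsg.Agent.Lib.Helper21.bl_pCore_le_fitting p hx)).symm

/-- a nontrivial layer forces `O_2(G)` to be central -/
theorem pCore_two_central_of_layer [Finite G] (hD : IsThreeTranspositionClass D) (hD2 : ∃ a ∈ D, ∃ b ∈ D, a ≠ b)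
    (hE : layer G ≠ ⊥) : pCore 2 G ≤ Subgroup.center G := by
  haveI : Fact (Nat.Prime 2) := ⟨Nat.prime_two⟩
  by_contra h2
  have hT := hD.1
  have hconj := class_conj hD
  have hgen := hD.2.2
  have hON : (pCore 2 G).Normal := Cfsg.Agent.Lib.Helper84.pCore_normal 2 G
  have hEn : (layer G).Normal := Cfsg.Agent.Lib.Helper22.layer_normal G
  obtain ⟨d, hd, l0, hl0, hdl0⟩ := exists_not_commute_layer hD hE
  -- an element x of O_2 not commuting with d
  obtain ⟨x1, hx1, hxc⟩ := SetLike.not_le_iff_exists.mp h2
  have : ∃ d1 ∈ D, ¬ Commute d1 x1 := by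
    by_contra hcon
    push Not at hcon
    exact hxc (mem_center_of_commute_gen hgen hcon)
  obtain ⟨d1, hd1, hdx1⟩ := this
  obtain ⟨g, hg⟩ := class_trans hD hd1 hd
  obtain ⟨x, hx, hdx⟩ : ∃ x ∈ pCore 2 G, ¬ Commute d x := by
    refine ⟨g * x1 * g⁻¹, hON.conj_mem x1 hx1 g, ?_⟩
    intro hc
    apply hdx1
    rw [← hg] at hc
    exact (Commute.conj_iff g).mp hc
  have hune : x * d * x⁻¹ ≠ d := by
    intro h
    apply hdx
    show d * x = x * d
    calc d * x = (x * d * x⁻¹) * x := by rw [h]
      _ = x * d := by group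
  have hv := (Cfsg.Agent.S5349.result hD hD2 hd).2
  have hvmem : x * d * x⁻¹ ∈ {v : G | ∃ g ∈ pCore 2 G, v = g * d * g⁻¹} := ⟨x, hx, rfl⟩
  rw [← hv] at hvmem
  obtain ⟨huD, huC⟩ := hvmem
  set u := x * d * x⁻¹ with hu
  have hcdu : Commute d u := ((huC d hd).mpr (Commute.refl d)).symm
  -- c = d u is in O_2
  have hcO : d * u ∈ pCore 2 G := by
    have h1 : d * x * d⁻¹ ∈ pCore 2 G := hON.conj_mem x hx d
    have : d * u = (d * x * d⁻¹) * x⁻¹ := by
      rw [hu, tt_inv hT hd]; group
    rw [this]
    exact Subgroup.mul_mem _ h1 (Subgroup.inv_mem _ hx)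
  have hc2 : (d * u) * (d * u) = 1 := by
    calc (d * u) * (d * u) = d * (u * d) * u := by group
      _ = d * (d * u) * u := by rw [hcdu.eq]
      _ = (d * d) * (u * u) := by group
      _ = 1 := by rw [tt_sq hT hd, tt_sq hT huD, one_mul]
  -- d commutes with all its conjugates under the layer
  have hcomm : ∀ l ∈ layer G, Commute d (l * d * l⁻¹) := by
    intro l hl
    by_contra hnc
    have hfD : l * d * l⁻¹ ∈ D := hconj l d hd
    have hnc' : ¬ Commute u (l * d * l⁻¹) := fun h => hnc ((huC _ hfD).mp h)
    have h3d := tt_cube_of_ncomm hT hd hfD hnc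
    have h3u := tt_cube_of_ncomm hT huD hfD hnc'
    have hcl : Commute l (d * u) := layer_commute_pCore 2 hl hcO
    have hcd : Commute (d * u) d := (Commute.refl d).mul_left hcdu.symm
    have hcf : Commute (d * u) (l * d * l⁻¹) := by
      have h1 : Commute (l * (d * u) * l⁻¹) (l * d * l⁻¹) := (Commute.conj_iff l).mpr hcd
      have h2 : l * (d * u) * l⁻¹ = d * u := by
        rw [hcl.eq, mul_assoc, mul_inv_cancel, mul_one]
      rwa [h2] at h1
    -- u f = c (d f)
    have huf : u * (l * d * l⁻¹) = (d * u) * (d * (l * d * l⁻¹)) := by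
      calc u * (l * d * l⁻¹) = (d * d) * u * (l * d * l⁻¹) := by rw [tt_sq hT hd, one_mul]
        _ = d * (d * u) * (l * d * l⁻¹) := by group
        _ = (d * u) * d * (l * d * l⁻¹) := by rw [hcd.eq]
        _ = (d * u) * (d * (l * d * l⁻¹)) := by group
    have hcc : Commute (d * u) (d * (l * d * l⁻¹)) := hcd.mul_right hcf
    have h3 : (d * u) ^ 3 = 1 := by
      have := hcc.mul_pow 3
      rw [← huf, h3u, h3d, mul_one] at this
      exact this.symm
    have h1 : d * u = 1 := by
      have : (d * u) ^ 3 = (d * u) ^ 2 * (d * u) := pow_succ _ 2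
      rw [h3, pow_two, hc2, one_mul] at this
      exact this.symm
    apply hune
    have : u = d⁻¹ := eq_inv_of_mul_eq_one_right h1
    rw [this, tt_inv hT hd]
  -- apply the centralizing lemma
  have hcent : ∀ n ∈ layerComm d, Commute d n := by
    intro n hn
    have hle : layerComm d ≤ Subgroup.centralizer ({d} : Set G) := by
      unfold layerComm
      rw [Subgroup.closure_le]
      rintro t ⟨l, hl, rfl⟩
      rw [SetLike.mem_coe, Subgroup.mem_centralizer_iff]
      intro z hz
      rw [Set.mem_singleton_iff] at hz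
      subst hz
      have h1 := hcomm l hl
      have h2 : z * l * z⁻¹ * l⁻¹ = z * (l * z * l⁻¹) := by
        rw [tt_inv hT hd]; group
      rw [h2]
      exact ((Commute.refl z).mul_right h1).eq
    have := hle hn
    rw [Subgroup.mem_centralizer_iff] at this
    exact this d rfl
  have := layer_centralized (tt_sq hT hd) (layerComm d) (layerComm_le d) (layerComm_norm d)
    (fun l hl => Subgroup.subset_closure ⟨l, hl, rfl⟩) (Or.inl hcent)
  exact hdl0 (this l0 hl0)

end Cfsg.Agent.Lib.Helper46
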