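import Cfsg.Agent.Lib.Helper46.TTF3

set_option autoImplicit false
set_option linter.all false

namespace Cfsg.Agent.Lib.Helper46

open Cfsg
open scoped commutatorElement

universe u

variable {G : Type u} [Group G] {D : Set G}

/-- a nontrivial layer forces `O_3(G)` to be central -/
theorem pCore_three_central_of_layer [Finite G] (hD : IsThreeTranspositionClass D)
    (hE : layer G ≠ ⊥) : pCore 3 G ≤ Subgroup.center G := by
  haveI : Fact (Nat.Prime 3) := ⟨by norm_num⟩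
  by_contra h3
  have hT := hD.1
  have hconj := class_conj hD
  have hgen := hD.2.2
  have hON : (pCore 3 G).Normal := Cfsg.Agent.Lib.Helper84.pCore_normal 3 G
  have hEn : (layer G).Normal := Cfsg.Agent.Lib.Helper22.layer_normal G
  obtain ⟨d, hd, l0, hl0, hdl0⟩ := exists_not_commute_layer hD hE
  obtain ⟨x1, hx1, hxc⟩ := SetLike.not_le_iff_exists.mp h3
  have : ∃ d1 ∈ D, ¬ Commute d1 x1 := by
    by_contra hcon
    push Not at hcon
    exact hxc (mem_center_of_commute_gen hgen hcon)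
  obtain ⟨d1, hd1, hdx1⟩ := this
  obtain ⟨g, hg⟩ := class_trans hD hd1 hd
  obtain ⟨x, hx, hdx⟩ : ∃ x ∈ pCore 3 G, ¬ Commute d x := by
    refine ⟨g * x1 * g⁻¹, hON.conj_mem x1 hx1 g, ?_⟩
    intro hc
    apply hdx1
    rw [← hg] at hc
    exact (Commute.conj_iff g).mp hc
  have hune : x * d * x⁻¹ ≠ d := by
    intro h
    apply hdx
    show d * x = x * d
    calc d * x = (x * d * x⁻¹) * x := by rw [h]
      _ = x * d := by group
  have hw := (pCore_coset_iff_orbit hT hconj (w := x * d * x⁻¹) hd).mpr ⟨x, hx, rfl⟩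
  have hth : Th D d (x * d * x⁻¹) := (th_iff_pCore hT hconj hd hw.1).mpr hw.2
  obtain ⟨u, hu⟩ : ∃ u, u = x * d * x⁻¹ := ⟨_, rfl⟩
  rw [← hu] at hune hth
  have huD : u ∈ D := by rw [hu]; exact hw.1
  have hncdu : ¬ Commute d u := th_ncomm hth huD hune.symm
  -- all products d * d^l have order dividing 3
  have hcube : ∀ l ∈ layer G, (d * (l * d * l⁻¹)) ^ 3 = 1 := by
    intro l hl
    have hfD : l * d * l⁻¹ ∈ D := hconj l d hd
    by_cases hfd : l * d * l⁻¹ = d
    · rw [hfd, tt_sq hT hd, one_pow]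
    by_cases hc : Commute d (l * d * l⁻¹)
    · exfalso
      have h1 := (hth _ hfD).mp ⟨hfd, hc⟩
      have htE : d * (l * d * l⁻¹) ∈ layer G := by
        have : d * (l * d * l⁻¹) = (d * l * d⁻¹) * l⁻¹ := by rw [tt_inv hT hd]; group
        rw [this]
        exact Subgroup.mul_mem _ (hEn.conj_mem l hl d) (Subgroup.inv_mem _ hl)
      have hct : Commute (d * (l * d * l⁻¹)) x := layer_commute_pCore 3 htE hx
      have hcl : Commute l x := layer_commute_pCore 3 hl hx
      have hxt : x * (d * (l * d * l⁻¹)) * x⁻¹ = d * (l * d * l⁻¹) := by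
        rw [← hct.eq, mul_assoc, mul_inv_cancel, mul_one]
      have hx2 : x * (d * (l * d * l⁻¹)) * x⁻¹ = u * (l * u * l⁻¹) := by
        have e1 : x * (d * (l * d * l⁻¹)) * x⁻¹ = (x * d * x⁻¹) * ((x * l) * d * (x * l)⁻¹) := by group
        rw [e1, ← hcl.eq, hu]; group
      have e3 : l * u * l⁻¹ = u * (d * (l * d * l⁻¹)) := by
        rw [← hxt, hx2, ← mul_assoc, tt_sq hT huD, one_mul]
      have hsq : (l * u * l⁻¹) * (l * u * l⁻¹) = 1 := tt_sq hT (hconj l u huD)
      rw [e3] at hsq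
      have hcf : Commute (u * d) (l * d * l⁻¹) := (h1.2).mul_left hc
      have hsq2 : (u * d) * (u * d) = 1 := by
        have e4 : u * (d * (l * d * l⁻¹)) * (u * (d * (l * d * l⁻¹)))
            = (u * d) * ((l * d * l⁻¹) * (u * d)) * (l * d * l⁻¹) := by group
        rw [e4, ← hcf.eq] at hsq
        have e5 : (u * d) * ((u * d) * (l * d * l⁻¹)) * (l * d * l⁻¹)
            = (u * d) * (u * d) * ((l * d * l⁻¹) * (l * d * l⁻¹)) := by group
        rw [e5, tt_sq hT hfD, mul_one] at hsq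
        exact hsq
      exact hncdu (tt_commute_of_sq hT huD hd hsq2).symm
    · exact tt_cube_of_ncomm hT hd hfD hc
  -- the set of conjugates of d under the layer
  let S : Set G := {s | ∃ l ∈ layer G, s = l * d * l⁻¹}
  have hSD : S ⊆ D := by
    rintro s ⟨l, hl, rfl⟩
    exact hconj l d hd
  have hSc : ∀ a ∈ S, ∀ b ∈ S, b * a * b⁻¹ ∈ S := by
    rintro a ⟨l, hl, rfl⟩ b ⟨m, hm, rfl⟩
    refine ⟨m * (d * (m⁻¹ * l) * d⁻¹), ?_, by group⟩
    exact Subgroup.mul_mem _ hm (hEn.conj_mem _ (Subgroup.mul_mem _ (Subgroup.inv_mem _ hm) hl) d)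
  have hSw : ∀ a ∈ S, ∀ b ∈ S, Commute a b → a = b := by
    rintro a ⟨l, hl, rfl⟩ b ⟨m, hm, rfl⟩ hc
    have h3 : ((l * d * l⁻¹) * (m * d * m⁻¹)) ^ 3 = 1 := by
      have e1 : (l * d * l⁻¹) * (m * d * m⁻¹) = l * (d * ((l⁻¹ * m) * d * (l⁻¹ * m)⁻¹)) * l⁻¹ := by group
      rw [e1, conj_pow, hcube _ (Subgroup.mul_mem _ (Subgroup.inv_mem _ hl) hm)]
      group
    have haD : l * d * l⁻¹ ∈ D := hconj l d hd
    have hbD : m * d * m⁻¹ ∈ D := hconj m d hd
    have h2 : ((l * d * l⁻¹) * (m * d * m⁻¹)) ^ 2 = 1 := by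
      rw [pow_two]
      calc (l * d * l⁻¹) * (m * d * m⁻¹) * ((l * d * l⁻¹) * (m * d * m⁻¹))
          = (l * d * l⁻¹) * ((m * d * m⁻¹) * (l * d * l⁻¹)) * (m * d * m⁻¹) := by group
        _ = (l * d * l⁻¹) * ((l * d * l⁻¹) * (m * d * m⁻¹)) * (m * d * m⁻¹) := by rw [hc.eq]
        _ = ((l * d * l⁻¹) * (l * d * l⁻¹)) * ((m * d * m⁻¹) * (m * d * m⁻¹)) := by group
        _ = 1 := by rw [tt_sq hT haD, tt_sq hT hbD, one_mul]
    have h1 : (l * d * l⁻¹) * (m * d * m⁻¹) = 1 := by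
      have : ((l * d * l⁻¹) * (m * d * m⁻¹)) ^ 3
          = ((l * d * l⁻¹) * (m * d * m⁻¹)) ^ 2 * ((l * d * l⁻¹) * (m * d * m⁻¹)) := pow_succ _ 2
      rw [h3, h2, one_mul] at this
      exact this.symm
    have : l * d * l⁻¹ = (m * d * m⁻¹)⁻¹ := eq_inv_of_mul_eq_one_left h1
    rw [this, tt_inv hT hbD]
  have hN3 := width_one_subset hT S hSD hSc hSw
  have hle : layerComm d ≤ Subgroup.closure {t : G | ∃ a ∈ S, ∃ b ∈ S, t = a * b} := by
    unfold layerComm
    rw [Subgroup.closure_le]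
    rintro t ⟨l, hl, rfl⟩
    apply Subgroup.subset_closure
    refine ⟨d, ⟨1, Subgroup.one_mem _, by simp⟩, l * d * l⁻¹, ⟨l, hl, rfl⟩, ?_⟩
    rw [tt_inv hT hd]; group
  have hNp : IsPGroup 3 (layerComm d) := hN3.to_le hle
  have hsolv : Group.IsSolvable (layerComm d) := by
    have := hNp.isNilpotent
    infer_instance
  have := layer_centralized (tt_sq hT hd) (layerComm d) (layerComm_le d) (layerComm_norm d)
    (fun l hl => Subgroup.subset_closure ⟨l, hl, rfl⟩) (Or.inr hsolv)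
  exact hdl0 (this l0 hl0)

/-- the trichotomy for the generalized Fitting subgroup of a group generated by a class of 3-transpositions -/
theorem fstar_trichotomy [Finite G] (hD : IsThreeTranspositionClass D) (hD2 : ∃ a ∈ D, ∃ b ∈ D, a ≠ b) :
    (∀ p : ℕ, p.Prime → 3 < p → pCore p G ≤ Subgroup.center G) ∧
    ((¬ pCore 2 G ≤ Subgroup.center G ∧ pCore 3 G ≤ Subgroup.center G ∧ layer G = ⊥) ∨
     (pCore 2 G ≤ Subgroup.center G ∧ ¬ pCore 3 G ≤ Subgroup.center G ∧ layer G = ⊥) ∨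
     (pCore 2 G ≤ Subgroup.center G ∧ pCore 3 G ≤ Subgroup.center G ∧ layer G ≠ ⊥)) := by
  refine ⟨fun p hp h3 => pCore_le_center_of_gt_three hD hp h3, ?_⟩
  by_cases h2 : pCore 2 G ≤ Subgroup.center G
  · by_cases h3 : pCore 3 G ≤ Subgroup.center G
    · exact Or.inr (Or.inr ⟨h2, h3, layer_ne_bot_of_central hD hD2 h2 h3⟩)
    · refine Or.inr (Or.inl ⟨h2, h3, ?_⟩)
      by_contra hE
      exact h3 (pCore_three_central_of_layer hD hE)
  · by_cases h3 : pCore 3 G ≤ Subgroup.center G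
    · refine Or.inl ⟨h2, h3, ?_⟩
      by_contra hE
      exact h2 (pCore_two_central_of_layer hD hD2 hE)
    · exact absurd (not_both_noncentral hD hD2 h2 h3) id

end Cfsg.Agent.Lib.Helper46
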