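import Cfsg.Agent.Lib.Helper46.TTF4

set_option autoImplicit false
set_option linter.all false

namespace Cfsg.Agent.Lib.Helper46

open Cfsg
open scoped commutatorElement

universe u

/-- commuting involutions: the square of the product is trivial iff they commute -/
theorem commute_of_sq_mul {X : Type u} [Group X] {a b : X} (ha : a * a = 1) (hb : b * b = 1)
    (h : (a * b) ^ 2 = 1) : Commute a b := by
  show a * b = b * a
  have h1 : a * b * (a * b) = 1 := by rw [← pow_two]; exact h
  have h2 : a * b = (a * b)⁻¹ := eq_inv_of_mul_eq_one_left h1
  rw [h2, mul_inv_rev, inv_eq_of_mul_eq_one_right ha, inv_eq_of_mul_eq_one_right hb]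

/-- the braid relation -/
theorem braid_of_cube {X : Type u} [Group X] {a u : X} (ha : a * a = 1) (hu : u * u = 1)
    (h : (u * a) ^ 3 = 1) : a * u * a = u * a * u := by
  have hai : a⁻¹ = a := inv_eq_of_mul_eq_one_right ha
  have hui : u⁻¹ = u := inv_eq_of_mul_eq_one_right hu
  have h1 : (u * a * u) * (a * u * a) = 1 := by
    rw [← h, pow_succ, pow_two]; group
  have h2 : a * u * a = (u * a * u)⁻¹ := eq_inv_of_mul_eq_one_right h1
  rw [h2, mul_inv_rev, mul_inv_rev, hui, hai, mul_assoc]

/-- a finite nonabelian simple group has an element whose square and cube are both nontrivial -/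
theorem exists_order_gt_three {X : Type u} [Group X] [Finite X] [IsSimpleGroup X]
    (hnc : ¬ ∀ a b : X, a * b = b * a) : ∃ x : X, x ^ 2 ≠ 1 ∧ x ^ 3 ≠ 1 := by
  haveI : Fact (Nat.Prime 3) := ⟨by norm_num⟩
  by_contra hcon
  push Not at hcon
  have hord : ∀ x : X, x ^ 2 = 1 ∨ x ^ 3 = 1 := fun x => by
    by_cases h : x ^ 2 = 1
    · exact Or.inl h
    · exact Or.inr (hcon x h)
  have hns : ¬ IsSolvable X := fun h => hnc (IsSimpleGroup.comm_iff_isSolvable.mpr h)
  have hcentral : ∀ z : X, z ≠ 1 → z ∈ Subgroup.center X → False := by
    intro z hz1 hz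
    rcases (inferInstance : (Subgroup.center X).Normal).eq_bot_or_eq_top with h | h
    · rw [h, Subgroup.mem_bot] at hz; exact hz1 hz
    · apply hnc
      intro a b
      have ha : a ∈ Subgroup.center X := by rw [h]; trivial
      rw [Subgroup.mem_center_iff] at ha
      exact (ha b).symm
  by_cases hinv : ∃ t : X, t ≠ 1 ∧ t * t = 1
  · obtain ⟨t, ht1, ht2⟩ := hinv
    obtain ⟨C, hCdef⟩ : ∃ C : Set X, C = {x | ∃ g : X, x = g * t * g⁻¹} := ⟨_, rfl⟩
    have htC : t ∈ C := by rw [hCdef]; exact ⟨1, by group⟩
    have hsq : ∀ x ∈ C, x * x = 1 := by
      intro x hx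
      rw [hCdef] at hx
      obtain ⟨g, rfl⟩ := hx
      have : g * t * g⁻¹ * (g * t * g⁻¹) = g * (t * t) * g⁻¹ := by group
      rw [this, ht2]; group
    have hne1 : ∀ x ∈ C, x ≠ 1 := by
      intro x hx h1
      rw [hCdef] at hx
      obtain ⟨g, rfl⟩ := hx
      apply ht1
      have : t = g⁻¹ * (g * t * g⁻¹) * g := by group
      rw [this, h1]; group
    have hconj : ∀ g : X, ∀ x ∈ C, g * x * g⁻¹ ∈ C := by
      intro g x hx
      rw [hCdef] at hx ⊢
      obtain ⟨k, rfl⟩ := hx
      exact ⟨g * k, by group⟩
    have hgen : Subgroup.closure C = ⊤ := by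
      have hn : (Subgroup.closure C).Normal := by
        constructor
        intro n hn g
        induction hn using Subgroup.closure_induction with
        | mem y hy => exact Subgroup.subset_closure (hconj g y hy)
        | one => simp
        | mul a b _ _ iha ihb =>
          have : g * (a * b) * g⁻¹ = (g * a * g⁻¹) * (g * b * g⁻¹) := by group
          rw [this]; exact mul_mem iha ihb
        | inv a _ iha =>
          have : g * a⁻¹ * g⁻¹ = (g * a * g⁻¹)⁻¹ := by group
          rw [this]; exact inv_mem iha
      rcases hn.eq_bot_or_eq_top with h | h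
      · exfalso
        have : t ∈ Subgroup.closure C := Subgroup.subset_closure htC
        rw [h, Subgroup.mem_bot] at this
        exact ht1 this
      · exact h
    have hT : IsThreeTranspositionSet C := by
      refine ⟨?_, ?_⟩
      · intro x hx
        apply orderOf_eq_prime
        · rw [pow_two]; exact hsq x hx
        · exact hne1 x hx
      · intro x _ y _
        exact hord (x * y)
    have hC : IsThreeTranspositionGroup C := ⟨hT, hconj, hgen⟩
    by_cases hw : ∀ x ∈ C, ∀ y ∈ C, Commute x y → x = y
    · have key : ∀ a ∈ C, ∀ b ∈ C, a * b ∈ pCore 3 X := fun a ha b hb => mul_mem_pCore_three hC hw ha hb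
      rcases (Cfsg.Agent.Lib.Helper84.pCore_normal 3 X).eq_bot_or_eq_top with h | h
      · apply hcentral t ht1
        apply mem_center_of_commute_gen hgen
        intro d hd
        have h1 := key d hd t htC
        rw [h, Subgroup.mem_bot] at h1
        have h2 : d = t := by
          have : d = t⁻¹ := eq_inv_of_mul_eq_one_left h1
          rw [this, inv_eq_of_mul_eq_one_right ht2]
        rw [h2]
      · have hp := Cfsg.Agent.Lib.Helper84.pCore_isPGroup 3 X
        have htm : t ∈ pCore 3 X := by rw [h]; trivial
        obtain ⟨k, hk⟩ := hp ⟨t, htm⟩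
        have hk' : t ^ (3 ^ k) = 1 := by
          have := congrArg Subtype.val hk
          simpa using this
        have h1 : orderOf t ∣ 3 ^ k := orderOf_dvd_of_pow_eq_one hk'
        have h2 : orderOf t = 2 := hT.1 t htC
        rw [h2] at h1
        have := (Nat.Prime.dvd_of_dvd_pow Nat.prime_two h1)
        omega
    · push Not at hw
      obtain ⟨a, ha, s, hs, hcomm, hne⟩ := hw
      have haa := hsq a ha
      have hss := hsq s hs
      obtain ⟨u, hu, hnu⟩ : ∃ u ∈ C, ¬ Commute u a := by
        by_contra hcon2
        push Not at hcon2
        exact hcentral a (hne1 a ha) (mem_center_of_commute_gen hgen hcon2)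
      have huu := hsq u hu
      have hua3 : (u * a) ^ 3 = 1 := by
        rcases hord (u * a) with h | h
        · exact absurd (commute_of_sq_mul huu haa h) hnu
        · exact h
      have hua2 : (u * a) ^ 2 ≠ 1 := fun h => hnu (commute_of_sq_mul huu haa h)
      by_cases hus : Commute u s
      · have hc : Commute (u * a) s := Commute.mul_left hus hcomm
        have hs2 : s ^ 2 = 1 := by rw [pow_two]; exact hss
        have hs3 : s ^ 3 = s := by rw [pow_succ, hs2, one_mul]
        rcases hord (u * a * s) with h | h
        · rw [hc.mul_pow, hs2, mul_one] at h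
          exact hua2 h
        · rw [hc.mul_pow, hs3, hua3, one_mul] at h
          exact hne1 s hs h
      · have hus3 : (u * s) ^ 3 = 1 := by
          rcases hord (u * s) with h | h
          · exact absurd (commute_of_sq_mul huu hss h) hus
          · exact h
        have hai : a⁻¹ = a := inv_eq_of_mul_eq_one_right haa
        have hsi : s⁻¹ = s := inv_eq_of_mul_eq_one_right hss
        have hui : u⁻¹ = u := inv_eq_of_mul_eq_one_right huu
        have braid1 : a * u * a = u * a * u := braid_of_cube haa huu hua3
        have braid2 : s * u * s = u * s * u := braid_of_cube hss huu hus3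
        have hsa : s * a = a * s := hcomm.eq.symm
        have hy2 : (a * u * s) * (a * u * s) = u * (a * s) * u := by
          calc a * u * s * (a * u * s) = a * u * (s * a) * u * s := by group
            _ = a * u * (a * s) * u * s := by rw [hsa]
            _ = (a * u * a) * (s * u * s) := by group
            _ = (u * a * u) * (u * s * u) := by rw [braid1, braid2]
            _ = u * a * (u * u) * s * u := by group
            _ = u * (a * s) * u := by rw [huu]; group
        have hy4 : (a * u * s) * (a * u * s) * ((a * u * s) * (a * u * s)) = 1 := by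
          rw [hy2]
          calc u * (a * s) * u * (u * (a * s) * u) = u * (a * s) * (u * u) * (a * s) * u := by group
            _ = u * a * (s * a) * s * u := by rw [huu]; group
            _ = u * (a * a) * (s * s) * u := by rw [hsa]; group
            _ = 1 := by rw [haa, hss, mul_one, mul_one, huu]
        rcases hord (a * u * s) with h | h
        · rw [pow_two, hy2] at h
          apply hne
          have h1 : a * s = u⁻¹ * (u * (a * s) * u) * u⁻¹ := by group
          rw [h, hui, mul_one, huu] at h1
          have : a = s⁻¹ := eq_inv_of_mul_eq_one_left h1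
          rw [this, hsi]
        · have h1 : a * u * s = 1 := by
            have e : a * u * s = ((a * u * s) * (a * u * s) * ((a * u * s) * (a * u * s))) * ((a * u * s) ^ 3)⁻¹ := by
              rw [pow_succ, pow_two]; group
            rw [e, hy4, h, inv_one, mul_one]
          apply hnu
          have h2 : u = a⁻¹ * (a * u * s) * s⁻¹ := by group
          rw [h1, hai, hsi, mul_one] at h2
          show u * a = a * u
          rw [h2, mul_assoc, hsa]
  · -- no involutions: a 3-group
    push Not at hinv
    have hp : IsPGroup 3 X := by
      intro x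
      refine ⟨1, ?_⟩
      rw [pow_one]
      rcases hord x with h | h
      · by_contra h3
        have hx1 : x ≠ 1 := by
          intro h1; rw [h1] at h3; simp at h3
        apply hinv x hx1
        rw [← pow_two]; exact h
      · exact h
    apply hns
    haveI : Group.IsNilpotent X := hp.isNilpotent
    exact IsNilpotent.to_isSolvable

end Cfsg.Agent.Lib.Helper46
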