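import Cfsg.Agent.Lib.Helper46.TTF5

set_option autoImplicit false
set_option linter.all false

namespace Cfsg.Agent.Lib.Helper46

open Cfsg
open scoped commutatorElement

universe u

variable {G : Type u} [Group G] {D : Set G}

/-- relative width one: a set of involutions closed under conjugation by its members, all of whose pairwise products
have order dividing three; the pairwise products lie in a common 3-subgroup -/
theorem exists_isPGroup_three_of_cube [Finite G] (D' : Set G) (hord : ∀ x ∈ D', orderOf x = 2)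
    (hconj : ∀ x ∈ D', ∀ y ∈ D', y * x * y⁻¹ ∈ D') (hcube : ∀ x ∈ D', ∀ y ∈ D', (x * y) ^ 3 = 1) :
    ∃ P : Subgroup G, IsPGroup 3 P ∧ ∀ a ∈ D', ∀ b ∈ D', a * b ∈ P := by
  haveI : Fact (Nat.Prime 3) := ⟨by norm_num⟩
  have hsq : ∀ x ∈ D', x * x = 1 := by
    intro x hx
    rw [← pow_two, ← hord x hx, pow_orderOf_eq_one]
  have hinv : ∀ x ∈ D', x⁻¹ = x := fun x hx => inv_eq_of_mul_eq_one_right (hsq x hx)
  have hconjcl : ∀ z ∈ Subgroup.closure D', ∀ x ∈ D', z * x * z⁻¹ ∈ D' := by
    intro z hz
    induction hz using Subgroup.closure_induction with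
    | mem y hy => exact fun x hx => hconj x hx y hy
    | one => intro x hx; simpa using hx
    | mul a b _ _ iha ihb =>
      intro x hx
      have : a * b * x * (a * b)⁻¹ = a * (b * x * b⁻¹) * a⁻¹ := by group
      rw [this]
      exact iha _ (ihb x hx)
    | inv a _ iha =>
      intro x hx
      -- conjugation by a is a bijection of the finite set D'
      have hfin : D'.Finite := Set.toFinite D'
      have hinj : Set.InjOn (fun x => a * x * a⁻¹) D' := by
        intro p _ q _ hpq
        simpa using hpq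
      have hmaps : Set.MapsTo (fun x => a * x * a⁻¹) D' D' := fun p hp => iha p hp
      have hsurj : Set.SurjOn (fun x => a * x * a⁻¹) D' D' :=
        ((Set.Finite.injOn_iff_bijOn_of_mapsTo hfin hmaps).mp hinj).surjOn
      obtain ⟨y, hy, hyx⟩ := hsurj hx
      have : a⁻¹ * x * a⁻¹⁻¹ = y := by
        rw [← hyx]; group
      rw [this]; exact hy
  let D'' : Set (Subgroup.closure D') := {x | (x : G) ∈ D'}
  have hT : IsThreeTranspositionSet D'' := by
    refine ⟨fun x hx => ?_, fun x hx y hy => Or.inr ?_⟩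
    · rw [← hord x.1 hx]; exact (Subgroup.orderOf_coe x).symm
    · apply Subtype.ext
      have := hcube x.1 hx y.1 hy
      simpa using this
  have hconj'' : ∀ g : Subgroup.closure D', ∀ d ∈ D'', g * d * g⁻¹ ∈ D'' := by
    intro g d hd
    show ((g * d * g⁻¹ : Subgroup.closure D') : G) ∈ D'
    have := hconjcl g.1 g.2 d.1 hd
    simpa using this
  have hgen : Subgroup.closure D'' = ⊤ := Subgroup.closure_closure_coe_preimage
  have hC : IsThreeTranspositionGroup D'' := ⟨hT, hconj'', hgen⟩
  have hw : ∀ x ∈ D'', ∀ y ∈ D'', Commute x y → x = y := by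
    intro x hx y hy hc
    have h3 : (x * y) ^ 3 = 1 := by
      apply Subtype.ext
      have := hcube x.1 hx y.1 hy
      simpa using this
    have hx2 : x ^ 2 = 1 := by
      apply Subtype.ext
      have := hsq x.1 hx
      rw [← pow_two] at this
      simpa using this
    have hy2 : y ^ 2 = 1 := by
      apply Subtype.ext
      have := hsq y.1 hy
      rw [← pow_two] at this
      simpa using this
    have h2 : (x * y) ^ 2 = 1 := by rw [hc.mul_pow, hx2, hy2, one_mul]
    have h1 : x * y = 1 := by
      have h4 := h3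
      rw [pow_succ, h2, one_mul] at h4
      exact h4
    have : x = y⁻¹ := eq_inv_of_mul_eq_one_left h1
    rw [this]
    apply inv_eq_of_mul_eq_one_right
    rw [← pow_two]; exact hy2
  refine ⟨(pCore 3 (Subgroup.closure D')).map (Subgroup.closure D').subtype, ?_, ?_⟩
  · exact (Cfsg.Agent.Lib.Helper84.pCore_isPGroup 3 _).map _
  · intro a ha b hb
    have ha' : a ∈ Subgroup.closure D' := Subgroup.subset_closure ha
    have hb' : b ∈ Subgroup.closure D' := Subgroup.subset_closure hb
    have := mul_mem_pCore_three hC hw (a := ⟨a, ha'⟩) (b := ⟨b, hb'⟩) ha hb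
    exact Subgroup.mem_map.mpr ⟨_, this, rfl⟩

/-- the subgroup generated by the commutators `[d, l]` with `l` in `L` -/
def commL (d : G) (L : Subgroup G) : Subgroup G :=
  Subgroup.closure {t : G | ∃ l ∈ L, t = d * l * d⁻¹ * l⁻¹}

theorem commL_le {d : G} {L : Subgroup G} (hdL : ∀ l ∈ L, d * l * d⁻¹ ∈ L) : commL d L ≤ L := by
  unfold commL
  rw [Subgroup.closure_le]
  rintro t ⟨l, hl, rfl⟩
  exact Subgroup.mul_mem _ (hdL l hl) (Subgroup.inv_mem _ hl)

theorem commL_norm (d : G) (L : Subgroup G) : L ≤ Subgroup.normalizer (commL d L : Set G) := by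
  have hstep : ∀ m ∈ L, ∀ h ∈ commL d L, m * h * m⁻¹ ∈ commL d L := by
    intro m hm h hh
    unfold commL at hh ⊢
    induction hh using Subgroup.closure_induction with
    | mem x hx =>
      obtain ⟨l, hl, rfl⟩ := hx
      have : m * (d * l * d⁻¹ * l⁻¹) * m⁻¹ = (d * m * d⁻¹ * m⁻¹)⁻¹ * (d * (m * l) * d⁻¹ * (m * l)⁻¹) := by
        group
      rw [this]
      apply Subgroup.mul_mem
      · exact Subgroup.inv_mem _ (Subgroup.subset_closure ⟨m, hm, rfl⟩)
      · exact Subgroup.subset_closure ⟨m * l, Subgroup.mul_mem _ hm hl, rfl⟩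
    | one => simp
    | mul x y _ _ ihx ihy =>
      have : m * (x * y) * m⁻¹ = (m * x * m⁻¹) * (m * y * m⁻¹) := by group
      rw [this]; exact mul_mem ihx ihy
    | inv x _ ih =>
      have : m * x⁻¹ * m⁻¹ = (m * x * m⁻¹)⁻¹ := by group
      rw [this]; exact inv_mem ih
  intro m hm
  rw [Subgroup.mem_normalizer_iff]
  intro h
  constructor
  · exact hstep m hm h
  · intro hh
    have := hstep m⁻¹ (Subgroup.inv_mem _ hm) _ hh
    rw [inv_inv] at this
    have h2 : m⁻¹ * (m * h * m⁻¹) * m = h := by group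
    rwa [h2] at this

/-- an involution normalizing but not centralizing a component `L`: then `[d, L] = L` -/
theorem le_commL [Finite G] {d : G} (hd2 : d * d = 1) {L : Subgroup G} (hL : IsComponent L)
    (hdL : ∀ l ∈ L, d * l * d⁻¹ ∈ L) (hnc : ∃ l ∈ L, ¬ Commute d l) : L ≤ commL d L := by
  have hdinv : d⁻¹ = d := inv_eq_of_mul_eq_one_right hd2
  have hNL : commL d L ≤ L := commL_le hdL
  have hNsub : (commL d L).IsSubnormal := by
    apply Subgroup.IsSubnormal.step (commL d L) L hNL hL.1
    rw [Subgroup.normal_subgroupOf_iff_le_normalizer hNL]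
    exact commL_norm d L
  have hzp : ∀ z ∈ Subgroup.zpowers d, z = 1 ∨ z = d := by
    intro z hz
    obtain ⟨k, rfl⟩ := Subgroup.mem_zpowers_iff.mp hz
    have hd2' : d ^ (2 : ℤ) = 1 := by rw [zpow_ofNat, pow_two]; exact hd2
    rcases Int.emod_two_eq_zero_or_one k with h | h
    · left
      rw [← Int.mul_ediv_add_emod k 2, h, add_zero, zpow_mul, hd2', one_zpow]
    · right
      rw [← Int.mul_ediv_add_emod k 2, h, zpow_add, zpow_mul, hd2', one_zpow, one_mul, zpow_one]
  rcases Cfsg.Agent.Lib.Helper91.component_le_or_commutator_eq_bot hL hNsub with h | hLN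
  · exact h
  · exfalso
    have hcomm_le : ⁅L, Subgroup.zpowers d⁆ ≤ commL d L := by
      rw [Subgroup.commutator_le]
      intro l hl z hz
      rcases hzp z hz with rfl | rfl
      · simp
      · have : z * l * z⁻¹ * l⁻¹ ∈ commL z L := Subgroup.subset_closure ⟨l, hl, rfl⟩
        have h2 : ⁅l, z⁆ = (z * l * z⁻¹ * l⁻¹)⁻¹ := by
          rw [commutatorElement_def]; group
        rw [h2]
        exact Subgroup.inv_mem _ this
    have h1 : ⁅⁅L, Subgroup.zpowers d⁆, L⁆ = ⊥ := by
      rw [eq_bot_iff, ← hLN, Subgroup.commutator_comm L (commL d L)]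
      exact Subgroup.commutator_mono hcomm_le le_rfl
    have h2 : ⁅⁅Subgroup.zpowers d, L⁆, L⁆ = ⊥ := by
      rw [Subgroup.commutator_comm (Subgroup.zpowers d) L]; exact h1
    have h3 := Subgroup.commutator_commutator_eq_bot_of_rotate h1 h2
    rw [Cfsg.Agent.Lib.Helper22.component_perfect hL] at h3
    obtain ⟨l, hl, hnl⟩ := hnc
    apply hnl
    rw [Subgroup.commutator_eq_bot_iff_le_centralizer] at h3
    have := h3 hl
    rw [Subgroup.mem_centralizer_iff] at this
    exact this d (Subgroup.mem_zpowers d)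

end Cfsg.Agent.Lib.Helper46
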