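import Cfsg.Agent.Lib.Helper46.TTF6

set_option autoImplicit false
set_option linter.all false

namespace Cfsg.Agent.Lib.Helper46

open Cfsg
open scoped commutatorElement

universe u

variable {G : Type u} [Group G] {D : Set G}

/-- the central quotient of a quasisimple group is not commutative -/
theorem quasisimple_quotient_not_comm {L : Type u} [Group L] (hL : IsQuasisimple L) :
    ¬ ∀ a b : L ⧸ Subgroup.center L, a * b = b * a := by
  intro hc
  haveI : IsSimpleGroup (L ⧸ Subgroup.center L) := hL.2
  haveI h1 : Group.IsSolvable (L ⧸ Subgroup.center L) := IsSimpleGroup.comm_iff_isSolvable.mp hc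
  apply Cfsg.Agent.Lib.Helper91.not_isSolvable_of_isQuasisimple hL
  haveI h2 : Group.IsSolvable (Subgroup.center L) := Group.isSolvable_of_comm (fun a b => by
    apply Subtype.ext
    have := a.2
    rw [Subgroup.mem_center_iff] at this
    exact (this b.1).symm)
  apply solvable_of_ker_le_range (Subgroup.center L).subtype (QuotientGroup.mk' (Subgroup.center L))
  rw [QuotientGroup.ker_mk', Subgroup.range_subtype]

/-- members of a class of 3-transpositions normalize every component -/
theorem class_normalizes_component [Finite G] (hD : IsThreeTranspositionClass D) {L : Subgroup G}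
    (hL : IsComponent L) {d : G} (hd : d ∈ D) : L.map (MulAut.conj d).toMonoidHom = L := by
  by_contra hne
  have hT := hD.1
  obtain ⟨L', hL'def⟩ : ∃ L' : Subgroup G, L' = L.map (MulAut.conj d).toMonoidHom := ⟨_, rfl⟩
  have hL' : IsComponent L' := by
    rw [hL'def]; exact Cfsg.Agent.Lib.Helper22.isComponent_map_equiv (MulAut.conj d) hL
  have hcomm : ⁅L, L'⁆ = ⊥ := Cfsg.Agent.Lib.Helper22.components_commute hL hL' (by
    rw [hL'def]; exact Ne.symm hne)
  rw [Subgroup.commutator_eq_bot_iff_le_centralizer] at hcomm
  have hcm : ∀ l ∈ L, ∀ m ∈ L', m * l = l * m := by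
    intro l hl m hm
    have := hcomm hl
    rw [Subgroup.mem_centralizer_iff] at this
    exact this m hm
  have hdi : d⁻¹ = d := tt_inv hT hd
  have hkey : ∀ l : L, l ^ 2 ∈ Subgroup.center L ∨ l ^ 3 ∈ Subgroup.center L := by
    intro l
    have he : (l : G) * d * (l : G)⁻¹ ∈ D := class_conj hD l d hd
    have hm : d * (l : G) * d⁻¹ ∈ L' := by
      rw [hL'def]
      exact Subgroup.mem_map.mpr ⟨l, l.2, by simp⟩
    have hc : Commute (d * (l : G) * d⁻¹) ((l : G)⁻¹) := by
      show _ = _
      exact hcm _ (Subgroup.inv_mem _ l.2) _ hm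
    have heq : d * ((l : G) * d * (l : G)⁻¹) = (d * (l : G) * d⁻¹) * (l : G)⁻¹ := by
      rw [hdi]; group
    have hstep : ∀ k : ℕ, (d * ((l : G) * d * (l : G)⁻¹)) ^ k = 1 → l ^ k ∈ Subgroup.center L := by
      intro k hk
      rw [heq, hc.mul_pow, conj_pow, inv_pow] at hk
      have h1 : d * (l : G) ^ k * d⁻¹ = (l : G) ^ k := by
        have := eq_inv_of_mul_eq_one_left hk
        rw [inv_inv] at this
        exact this
      have h2 : (l : G) ^ k ∈ L' := by
        rw [← h1, hL'def]
        exact Subgroup.mem_map.mpr ⟨(l : G) ^ k, Subgroup.pow_mem _ l.2 k, by simp⟩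
      rw [Subgroup.mem_center_iff]
      intro g
      apply Subtype.ext
      have := hcm g g.2 _ h2
      simpa using this.symm
    rcases hT.2 d hd _ he with h | h
    · exact Or.inl (hstep 2 h)
    · exact Or.inr (hstep 3 h)
  haveI : IsSimpleGroup (L ⧸ Subgroup.center L) := hL.2.2
  obtain ⟨x, hx2, hx3⟩ := exists_order_gt_three (quasisimple_quotient_not_comm hL.2)
  obtain ⟨l, rfl⟩ := QuotientGroup.mk_surjective x
  rcases hkey l with h | h
  · apply hx2
    rw [← QuotientGroup.mk_pow, QuotientGroup.eq_one_iff]; exact h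
  · apply hx3
    rw [← QuotientGroup.mk_pow, QuotientGroup.eq_one_iff]; exact h

theorem class_conj_mem_component [Finite G] (hD : IsThreeTranspositionClass D) {L : Subgroup G}
    (hL : IsComponent L) {d : G} (hd : d ∈ D) : ∀ l ∈ L, d * l * d⁻¹ ∈ L := by
  intro l hl
  have h := class_normalizes_component hD hL hd
  rw [← h]
  exact Subgroup.mem_map.mpr ⟨l, hl, by simp⟩

/-- components are normal -/
theorem component_normal [Finite G] (hD : IsThreeTranspositionClass D) {L : Subgroup G}
    (hL : IsComponent L) : L.Normal := by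
  have hT := hD.1
  rw [← Subgroup.normalizer_eq_top_iff, eq_top_iff, ← hD.2.2, Subgroup.closure_le]
  intro d hd
  show d ∈ Subgroup.normalizer (L : Set G)
  rw [Subgroup.mem_normalizer_iff]
  intro h
  constructor
  · exact class_conj_mem_component hD hL hd h
  · intro hh
    have := class_conj_mem_component hD hL hd _ hh
    have e : d * (d * h * d⁻¹) * d⁻¹ = (d * d) * h * (d * d)⁻¹ := by group
    rw [e, tt_sq hT hd] at this
    simpa using this

/-- no member of the class centralizes a component -/
theorem component_not_centralized [Finite G] (hD : IsThreeTranspositionClass D) {L : Subgroup G}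
    (hL : IsComponent L) {d : G} (hd : d ∈ D) : ∃ l ∈ L, ¬ Commute d l := by
  by_contra hcon
  push Not at hcon
  have hLn : L.Normal := component_normal hD hL
  have hcen : L ≤ Subgroup.center G := by
    intro l hl
    apply mem_center_of_commute_gen hD.2.2
    intro e he
    obtain ⟨g, rfl⟩ := class_trans hD hd he
    have h1 : g⁻¹ * l * g ∈ L := by
      have := hLn.conj_mem l hl g⁻¹
      simpa using this
    have h2 := hcon _ h1
    show g * d * g⁻¹ * l = l * (g * d * g⁻¹)
    have h3 : d * (g⁻¹ * l * g) = (g⁻¹ * l * g) * d := h2.eq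
    calc g * d * g⁻¹ * l = g * (d * (g⁻¹ * l * g)) * g⁻¹ := by group
      _ = g * ((g⁻¹ * l * g) * d) * g⁻¹ := by rw [h3]
      _ = l * (g * d * g⁻¹) := by group
  have hab : ⁅L, L⁆ = ⊥ := by
    rw [Subgroup.commutator_eq_bot_iff_le_centralizer]
    intro a ha
    rw [Subgroup.mem_centralizer_iff]
    intro b hb
    have := hcen ha
    rw [Subgroup.mem_center_iff] at this
    exact this b
  rw [Cfsg.Agent.Lib.Helper22.component_perfect hL] at hab
  exact Cfsg.Agent.Lib.Helper22.component_ne_bot hL hab

end Cfsg.Agent.Lib.Helper46
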