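import Cfsg.Agent.Lib.Helper46.TTF7

set_option autoImplicit false
set_option linter.all false

namespace Cfsg.Agent.Lib.Helper46

open Cfsg
open scoped commutatorElement

universe u

variable {G : Type u} [Group G] {D : Set G}

/-- a normal component is not solvable -/
theorem component_not_le_solvable {L N : Subgroup G} (hL : IsComponent L) (hLN : L ≤ N)
    (hN : Group.IsSolvable N) : False := by
  apply Cfsg.Agent.Lib.Helper91.not_isSolvable_of_isQuasisimple hL.2
  exact Group.isSolvable_of_isSolvable_injective (f := Subgroup.inclusion hLN)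
    (Subgroup.inclusion_injective hLN)

/-- the commutators `[d, l]` all of order dividing two: impossible -/
theorem component_comm_sq [Finite G] (hD : IsThreeTranspositionClass D) {L : Subgroup G}
    (hL : IsComponent L) {d : G} (hd : d ∈ D)
    (hsq : ∀ l ∈ L, (d * l * d⁻¹ * l⁻¹) ^ 2 = 1) : False := by
  have hT := hD.1
  have hdi : d⁻¹ = d := tt_inv hT hd
  have hdd : d * d = 1 := tt_sq hT hd
  have hdL := class_conj_mem_component hD hL hd
  have hnc := component_not_centralized hD hL hd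
  have hle := le_commL hdd hL hdL hnc
  obtain ⟨l, hl, hnl⟩ := hnc
  apply hnl
  have hcen : commL d L ≤ Subgroup.centralizer {d} := by
    unfold commL
    rw [Subgroup.closure_le]
    rintro t ⟨m, hm, rfl⟩
    rw [SetLike.mem_coe, Subgroup.mem_centralizer_iff]
    intro z hz
    rw [Set.mem_singleton_iff] at hz
    subst hz
    have he : m * z * m⁻¹ ∈ D := class_conj hD m z hd
    have hee : (m * z * m⁻¹) * (m * z * m⁻¹) = 1 := tt_sq hT he
    have heq : z * m * z⁻¹ * m⁻¹ = z * (m * z * m⁻¹) := by rw [hdi]; group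
    have h2 := hsq m hm
    rw [heq] at h2 ⊢
    have hc : Commute z (m * z * m⁻¹) := commute_of_sq_mul hdd hee h2
    exact ((Commute.refl z).mul_right hc).eq
  have := hcen (hle hl)
  rw [Subgroup.mem_centralizer_iff] at this
  exact (this d rfl)

/-- the commutators `[d, l]` all of order dividing three: impossible -/
theorem component_comm_cube [Finite G] (hD : IsThreeTranspositionClass D) {L : Subgroup G}
    (hL : IsComponent L) {d : G} (hd : d ∈ D)
    (hcube : ∀ l ∈ L, (d * l * d⁻¹ * l⁻¹) ^ 3 = 1) : False := by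
  haveI : Fact (Nat.Prime 3) := ⟨by norm_num⟩
  have hT := hD.1
  have hdi : d⁻¹ = d := tt_inv hT hd
  have hdd : d * d = 1 := tt_sq hT hd
  have hdL := class_conj_mem_component hD hL hd
  have hnc := component_not_centralized hD hL hd
  have hle := le_commL hdd hL hdL hnc
  obtain ⟨D', hD'⟩ : ∃ D' : Set G, D' = {e | ∃ l ∈ L, e = l * d * l⁻¹} := ⟨_, rfl⟩
  have hsub : D' ⊆ D := by
    rw [hD']
    rintro e ⟨l, hl, rfl⟩
    exact class_conj hD l d hd
  obtain ⟨P, hP, hPmem⟩ := exists_isPGroup_three_of_cube D' (fun x hx => hT.1 x (hsub hx)) (by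
      intro x hx y hy
      rw [hD'] at hx hy ⊢
      obtain ⟨l, hl, rfl⟩ := hx
      obtain ⟨m, hm, rfl⟩ := hy
      refine ⟨m * (d * (m⁻¹ * l) * d⁻¹), ?_, by group⟩
      exact Subgroup.mul_mem _ hm (hdL _ (Subgroup.mul_mem _ (Subgroup.inv_mem _ hm) hl))) (by
      intro x hx y hy
      rw [hD'] at hx hy
      obtain ⟨l, hl, rfl⟩ := hx
      obtain ⟨m, hm, rfl⟩ := hy
      have e : l * d * l⁻¹ * (m * d * m⁻¹) = l * (d * (l⁻¹ * m) * d⁻¹ * (l⁻¹ * m)⁻¹) * l⁻¹ := by
        rw [hdi]; group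
      rw [e, conj_pow, hcube _ (Subgroup.mul_mem _ (Subgroup.inv_mem _ hl) hm)]
      group)
  have hdD' : d ∈ D' := by rw [hD']; exact ⟨1, Subgroup.one_mem _, by group⟩
  have hNP : commL d L ≤ P := by
    unfold commL
    rw [Subgroup.closure_le]
    rintro t ⟨m, hm, rfl⟩
    have heq : d * m * d⁻¹ * m⁻¹ = d * (m * d * m⁻¹) := by rw [hdi]; group
    rw [heq]
    apply hPmem d hdD'
    rw [hD']; exact ⟨m, hm, rfl⟩
  have hLP : L ≤ P := hle.trans hNP
  apply component_not_le_solvable hL hLP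
  haveI : Group.IsNilpotent P := hP.isNilpotent
  exact IsNilpotent.to_isSolvable

/-- the component is unique -/
theorem component_unique [Finite G] (hD : IsThreeTranspositionClass D) {L K : Subgroup G}
    (hL : IsComponent L) (hK : IsComponent K) : L = K := by
  by_contra hne
  have hT := hD.1
  obtain ⟨d, hd⟩ : ∃ d, d ∈ D := by
    obtain ⟨_, ⟨d, hd, _⟩, _⟩ := hD
    exact ⟨d, hd⟩
  have hdi : d⁻¹ = d := tt_inv hT hd
  have hdd : d * d = 1 := tt_sq hT hd
  have hcomm : ⁅L, K⁆ = ⊥ := Cfsg.Agent.Lib.Helper22.components_commute hL hK hne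
  rw [Subgroup.commutator_eq_bot_iff_le_centralizer] at hcomm
  have hcm : ∀ l ∈ L, ∀ k ∈ K, k * l = l * k := by
    intro l hl k hk
    have := hcomm hl
    rw [Subgroup.mem_centralizer_iff] at this
    exact this k hk
  have hdL := class_conj_mem_component hD hL hd
  have hdK := class_conj_mem_component hD hK hd
  have hq : ∀ g : G, (d * g * d⁻¹ * g⁻¹) ^ 2 = 1 ∨ (d * g * d⁻¹ * g⁻¹) ^ 3 = 1 := by
    intro g
    have heq : d * g * d⁻¹ * g⁻¹ = d * (g * d * g⁻¹) := by rw [hdi]; group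
    rw [heq]
    exact hT.2 d hd _ (class_conj hD g d hd)
  have hxL : ∀ l ∈ L, d * l * d⁻¹ * l⁻¹ ∈ L := fun l hl =>
    Subgroup.mul_mem _ (hdL l hl) (Subgroup.inv_mem _ hl)
  have hxK : ∀ k ∈ K, d * k * d⁻¹ * k⁻¹ ∈ K := fun k hk =>
    Subgroup.mul_mem _ (hdK k hk) (Subgroup.inv_mem _ hk)
  have hprod : ∀ l ∈ L, ∀ k ∈ K, d * (l * k) * d⁻¹ * (l * k)⁻¹
      = (d * l * d⁻¹ * l⁻¹) * (d * k * d⁻¹ * k⁻¹) := by
    intro l hl k hk
    have h1 : (d * k * d⁻¹ * k⁻¹) * l⁻¹ = l⁻¹ * (d * k * d⁻¹ * k⁻¹) :=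
      hcm _ (Subgroup.inv_mem _ hl) _ (hxK k hk)
    calc d * (l * k) * d⁻¹ * (l * k)⁻¹ = (d * l * d⁻¹) * ((d * k * d⁻¹ * k⁻¹) * l⁻¹) := by group
      _ = (d * l * d⁻¹) * (l⁻¹ * (d * k * d⁻¹ * k⁻¹)) := by rw [h1]
      _ = _ := by group
  have hcxy : ∀ l ∈ L, ∀ k ∈ K, Commute (d * l * d⁻¹ * l⁻¹) (d * k * d⁻¹ * k⁻¹) := by
    intro l hl k hk
    exact (hcm _ (hxL l hl) _ (hxK k hk)).symm
  obtain ⟨k, hk, hnk⟩ := component_not_centralized hD hK hd
  obtain ⟨y, hydef⟩ : ∃ y : G, y = d * k * d⁻¹ * k⁻¹ := ⟨_, rfl⟩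
  have hy1 : y ≠ 1 := by
    intro h1
    apply hnk
    show d * k = k * d
    have : d * k = (d * k * d⁻¹ * k⁻¹) * k * d := by group
    rw [this, ← hydef, h1, one_mul]
  have hyq : y ^ 2 = 1 ∨ y ^ 3 = 1 := by rw [hydef]; exact hq k
  have hdich : (∀ l ∈ L, (d * l * d⁻¹ * l⁻¹) ^ 2 = 1) ∨ (∀ l ∈ L, (d * l * d⁻¹ * l⁻¹) ^ 3 = 1) := by
    by_contra hcon
    push Not at hcon
    obtain ⟨⟨l₁, hl₁, h1⟩, ⟨l₂, hl₂, h2⟩⟩ := hcon
    rcases hyq with hy2 | hy3
    · -- y has order two; use the element of order three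
      have hx3 : (d * l₁ * d⁻¹ * l₁⁻¹) ^ 3 = 1 := by
        rcases hq l₁ with h | h
        · exact absurd h h1
        · exact h
      have hc := hcxy l₁ hl₁ k hk
      rw [← hydef] at hc
      have hp := hq (l₁ * k)
      rw [hprod l₁ hl₁ k hk, ← hydef, hc.mul_pow, hc.mul_pow, hy2, mul_one, hx3, one_mul] at hp
      rcases hp with h | h
      · exact h1 h
      · apply hy1
        rw [pow_succ, hy2, one_mul] at h
        exact h
    · have hx2 : (d * l₂ * d⁻¹ * l₂⁻¹) ^ 2 = 1 := by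
        rcases hq l₂ with h | h
        · exact h
        · exact absurd h h2
      have hc := hcxy l₂ hl₂ k hk
      rw [← hydef] at hc
      have hp := hq (l₂ * k)
      rw [hprod l₂ hl₂ k hk, ← hydef, hc.mul_pow, hc.mul_pow, hy3, mul_one, hx2, one_mul] at hp
      rcases hp with h | h
      · apply hy1
        have h3 := hy3
        rw [pow_succ, h, one_mul] at h3
        exact h3
      · exact h2 h
  rcases hdich with h | h
  · exact component_comm_sq hD hL hd h
  · exact component_comm_cube hD hL hd h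

end Cfsg.Agent.Lib.Helper46
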