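import Cfsg.Agent.Lib.Helper46.TTF8

set_option autoImplicit false
set_option linter.all false

namespace Cfsg.Agent.Lib.Helper46

open Cfsg
open scoped commutatorElement

universe u

variable {G : Type u} [Group G] {D : Set G}

theorem exists_component_of_layer_ne_bot (hE : layer G ≠ ⊥) : ∃ L : Subgroup G, IsComponent L := by
  by_contra h
  push Not at h
  apply hE
  unfold layer
  rw [eq_bot_iff]
  apply sSup_le
  intro K hK
  exact absurd hK (h K)

theorem layer_eq_component [Finite G] (hD : IsThreeTranspositionClass D) {L : Subgroup G}
    (hL : IsComponent L) : layer G = L := by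
  unfold layer
  apply le_antisymm
  · apply sSup_le
    intro K hK
    rw [component_unique hD hK hL]
  · exact le_sSup hL

theorem fitting_eq_center [Finite G] (hD : IsThreeTranspositionClass D)
    (h2 : pCore 2 G ≤ Subgroup.center G) (h3 : pCore 3 G ≤ Subgroup.center G) :
    fittingSubgroup G = Subgroup.center G := by
  apply le_antisymm
  · rw [Cfsg.Agent.Lib.Helper22.fittingSubgroup_eq_iSup_pCore]
    apply iSup_le
    intro p
    by_cases hp2 : (p : ℕ) = 2
    · rw [hp2]; exact h2
    by_cases hp3 : (p : ℕ) = 3
    · rw [hp3]; exact h3
    · apply pCore_le_center_of_gt_three hD p.2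
      have := p.2.two_le
      omega
  · apply Cfsg.Agent.Lib.Helper22.le_fittingSubgroup inferInstance
    exact Cfsg.Agent.Lib.Helper22.isNilpotent_of_isMulCommutative _

/-- the members of `D` in a coset of the component form a block: two members whose commutator lies in `L`
are congruent modulo `L` -/
theorem coset_block [Finite G] (hD : IsThreeTranspositionClass D) {L : Subgroup G}
    (hL : IsComponent L) {a b : G} (ha : a ∈ D) (hb : b ∈ D) (hab : a * b * a⁻¹ * b⁻¹ ∈ L) :
    a⁻¹ * b ∈ L := by
  have hT := hD.1
  have hLn : L.Normal := component_normal hD hL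
  have hai : a⁻¹ = a := tt_inv hT ha
  have hbi : b⁻¹ = b := tt_inv hT hb
  have haa : a * a = 1 := tt_sq hT ha
  have hbb : b * b = 1 := tt_sq hT hb
  have hab2 : (a * b) ^ 2 ∈ L := by
    have : (a * b) ^ 2 = a * b * a⁻¹ * b⁻¹ := by rw [hai, hbi, pow_two]; group
    rw [this]; exact hab
  rw [hai]
  rcases hT.2 a ha b hb with h | h
  · -- commuting
    have hc : Commute a b := commute_of_sq_mul haa hbb h
    by_contra hnot
    -- `b` commutes with every member of `D` congruent to `a`
    have hblock : ∀ y ∈ D, a * y ∈ L → Commute b y := by
      intro y hy hay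
      by_contra hnc
      have hyy : y * y = 1 := tt_sq hT hy
      have hyi : y⁻¹ = y := tt_inv hT hy
      have hby3 : (y * b) ^ 3 = 1 := by
        rcases hT.2 y hy b hb with h' | h'
        · exact absurd (commute_of_sq_mul hyy hbb h').symm hnc
        · exact h'
      have hbraid : b * y * b = y * b * y := braid_of_cube hbb hyy hby3
      have hy' : a * (b * y * b) ∈ L := by
        have h1 : a * (b * y * b) = b * (a * y) * b⁻¹ := by
          rw [hbi]
          have : a * b = b * a := hc.eq
          calc a * (b * y * b) = (a * b) * y * b := by group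
            _ = (b * a) * y * b := by rw [this]
            _ = b * (a * y) * b := by group
        rw [h1]
        exact hLn.conj_mem _ hay b
      apply hnot
      have hb_eq : b = y * (b * y * b) * y := by
        rw [hbraid]
        calc b = (y * y) * b * (y * y) := by rw [hyy]; group
          _ = y * (y * b * y) * y := by group
      have : a * b = (a * y) * ((a * (b * y * b))⁻¹ * (a * y)) := by
        have h1 : (a * (b * y * b))⁻¹ = (b * y * b) * a := by
          rw [mul_inv_rev, hai]
          have : (b * y * b)⁻¹ = b * y * b := by
            rw [mul_inv_rev, mul_inv_rev, hbi, hyi]; group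
          rw [this]
        rw [h1]
        calc a * b = a * (y * (b * y * b) * y) := by rw [← hb_eq]
          _ = a * y * ((b * y * b) * (a * a) * y) := by rw [haa]; group
          _ = a * y * ((b * y * b) * a * (a * y)) := by group
      rw [this]
      exact Subgroup.mul_mem _ hay (Subgroup.mul_mem _ (Subgroup.inv_mem _ hy') hay)
    -- hence `b` centralizes `[a, L] = L`
    have haL := class_conj_mem_component hD hL ha
    have hnca := component_not_centralized hD hL ha
    have hle := le_commL haa hL haL hnca
    have hcen : commL a L ≤ Subgroup.centralizer {b} := by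
      unfold commL
      rw [Subgroup.closure_le]
      rintro t ⟨m, hm, rfl⟩
      rw [SetLike.mem_coe, Subgroup.mem_centralizer_iff]
      intro z hz
      rw [Set.mem_singleton_iff] at hz
      subst hz
      have he : m * a * m⁻¹ ∈ D := class_conj hD m a ha
      have heq : a * m * a⁻¹ * m⁻¹ = a * (m * a * m⁻¹) := by rw [hai]; group
      have hmem : a * (m * a * m⁻¹) ∈ L := by
        rw [← heq]
        exact Subgroup.mul_mem _ (haL m hm) (Subgroup.inv_mem _ hm)
      have h1 : Commute z (m * a * m⁻¹) := hblock _ he hmem
      rw [heq]
      exact (hc.symm.mul_right h1).eq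
    obtain ⟨l, hl, hnl⟩ := component_not_centralized hD hL hb
    apply hnl
    have := hcen (hle hl)
    rw [Subgroup.mem_centralizer_iff] at this
    exact this b rfl
  · have : a * b = ((a * b) ^ 2)⁻¹ := by
      apply eq_inv_of_mul_eq_one_left
      rw [← pow_succ']; exact h
    rw [this]
    exact Subgroup.inv_mem _ hab2

end Cfsg.Agent.Lib.Helper46
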