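import Cfsg.Agent.Lib.Helper46.TTQ2

set_option autoImplicit false
set_option linter.all false

namespace Cfsg.Agent.Lib.Helper46

open Cfsg
open scoped commutatorElement

universe u

variable {G : Type u} [Group G] {D : Set G}

/-- a block whose kernel contains a subgroup `L` with `D * D ⊆ L` is all of `D` -/
theorem block_eq_of_le_kernel (hD : IsThreeTranspositionClass D) {L : Subgroup G}
    (hmulL : ∀ x ∈ D, ∀ y ∈ D, x * y ∈ L) {B : Set G} (hBD : B ⊆ D)
    (hblk : ∀ g : G, cj g B = B ∨ Disjoint (cj g B) B) (hLK : L ≤ blockKernel B)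
    {a : G} (ha : a ∈ B) : B = D := by
  have haD := hBD ha
  have hstabD : ∀ d ∈ D, cj d B = B := by
    intro d hd
    have h1 : d * a ∈ blockKernel B := hLK (hmulL d hd a haD)
    have h2 := blockKernel_fix h1
    have h3 : cj a B = B := by
      have h5 : a * a * a⁻¹ ∈ cj a B := conj_mem_cj ha
      have e5 : a * a * a⁻¹ = a := by group
      rw [e5] at h5
      have := block_eq_of_mem hblk (g := a) (h := 1) h5 (by rw [cj_one]; exact ha)
      rwa [cj_one] at this
    rw [cj_mul, h3] at h2
    exact h2
  have hstab : ∀ g : G, cj g B = B := by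
    intro g
    have hg : g ∈ Subgroup.closure D := by rw [hD.2.2]; trivial
    induction hg using Subgroup.closure_induction with
    | mem y hy => exact hstabD y hy
    | one => exact cj_one B
    | mul x y _ _ ihx ihy => rw [cj_mul, ihy, ihx]
    | inv x _ ih =>
      conv_lhs => rw [← ih]
      exact cj_inv_cj x B
  apply Set.Subset.antisymm hBD
  intro x hx
  obtain ⟨g, rfl⟩ := class_trans hD haD hx
  rw [← hstab g]
  exact conj_mem_cj ha

/-- products of two members of the class lie in the commutator subgroup -/
theorem class_mul_mem_commutator (hD : IsThreeTranspositionClass D) {x y : G} (hx : x ∈ D) (hy : y ∈ D) :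
    x * y ∈ commutator G := by
  have hT := hD.1
  obtain ⟨g, rfl⟩ := class_trans hD hx hy
  have e : x * (g * x * g⁻¹) = ⁅x⁻¹, g⁆ := by
    rw [commutatorElement_def, inv_inv, tt_inv hT hx]; group
  rw [e, commutator_def]
  exact Subgroup.commutator_mem_commutator (Subgroup.mem_top _) (Subgroup.mem_top _)

/-- a simple commutator subgroup forces primitivity -/
theorem primitive_of_simple_commutator (hD : IsThreeTranspositionClass D)
    (hD2 : ∃ a ∈ D, ∃ b ∈ D, a ≠ b) (hS : IsSimpleGroup (commutator G)) : IsPrimitiveUnderConj D := by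
  have hT := hD.1
  refine ⟨fun a ha b hb => class_trans hD ha hb, hD2, ?_⟩
  intro B hBD hblk
  by_cases hs : B.Subsingleton
  · exact Or.inl hs
  · right
    rw [Set.not_subsingleton_iff] at hs
    obtain ⟨a, ha, b, hb, hne⟩ := hs
    have hxK : a * b ∈ blockKernel B := mul_mem_blockKernel hD hBD hblk ha hb
    have hxC : a * b ∈ commutator G := class_mul_mem_commutator hD (hBD ha) (hBD hb)
    have hx1 : a * b ≠ 1 := by
      intro h1
      apply hne
      have : a = b⁻¹ := eq_inv_of_mul_eq_one_left h1
      rw [this, tt_inv hT (hBD hb)]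
    haveI := blockKernel_normal B
    have hn : ((blockKernel B).subgroupOf (commutator G)).Normal := inferInstance
    have hLK : commutator G ≤ blockKernel B := by
      rcases hS.eq_bot_or_eq_top_of_normal _ hn with h | h
      · exfalso
        have hm : (⟨a * b, hxC⟩ : commutator G) ∈ (blockKernel B).subgroupOf (commutator G) :=
          Subgroup.mem_subgroupOf.mpr hxK
        rw [h, Subgroup.mem_bot] at hm
        exact hx1 (congrArg Subtype.val hm)
      · exact Subgroup.subgroupOf_eq_top.mp h
    exact block_eq_of_le_kernel hD (fun x hx y hy => class_mul_mem_commutator hD hx hy) hBD hblk hLK ha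

/-- connected commuting graph with central `O_2`, `O_3`: primitive -/
theorem primitive_of_connected [Finite G] (hD : IsThreeTranspositionClass D)
    (hD2 : ∃ a ∈ D, ∃ b ∈ D, a ≠ b) (h2 : pCore 2 G ≤ Subgroup.center G)
    (h3 : pCore 3 G ≤ Subgroup.center G) (hconn : (commutingGraph D).Connected) :
    IsPrimitiveUnderConj D := by
  have hE := layer_ne_bot_of_central hD hD2 h2 h3
  obtain ⟨L, hL⟩ := exists_component_of_layer_ne_bot hE
  haveI hLn : L.Normal := component_normal hD hL
  have hidx : L.index ≤ 2 := index_le_two_of_coset hD (coset_of_connected hD hL hconn)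
  refine ⟨fun a ha b hb => class_trans hD ha hb, hD2, ?_⟩
  intro B hBD hblk
  by_cases hs : B.Subsingleton
  · exact Or.inl hs
  · right
    rw [Set.not_subsingleton_iff] at hs
    obtain ⟨a, ha, b, hb, hne⟩ := hs
    exact block_eq_of_index_le_two hD hD2 (fitting_eq_center hD h2 h3) hL hidx hBD hblk ha hb hne

/-- a group with at most two elements is commutative -/
theorem mul_comm_of_card_le_two {Q : Type u} [Group Q] [Finite Q] (h : Nat.card Q ≤ 2) (x y : Q) :
    x * y = y * x := by
  by_cases hx : x = 1
  · rw [hx]; simp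
  by_cases hy : y = 1
  · rw [hy]; simp
  by_cases hxy : x = y
  · rw [hxy]
  exfalso
  have h3 : ({1, x, y} : Set Q).ncard = 3 :=
    Set.ncard_eq_three.mpr ⟨1, x, y, fun h => hx h.symm, fun h => hy h.symm, hxy, rfl⟩
  have h4 : ({1, x, y} : Set Q).ncard ≤ Nat.card Q := Set.ncard_le_card _
  omega

/-- primitivity, trivial centre, width at least two: the commutator subgroup is simple -/
theorem simple_commutator_of_primitive [Finite G] (hD : IsThreeTranspositionClass D)
    (hZ : Subgroup.center G = ⊥) (hw : ∃ a ∈ D, ∃ b ∈ D, a ≠ b ∧ Commute a b)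
    (hP : IsPrimitiveUnderConj D) : IsSimpleGroup (commutator G) := by
  have hD2 := hP.2.1
  have hO2 := pCore_two_eq_bot_of_primitive hD hZ hP
  have hO3 := pCore_three_eq_bot_of_primitive hD hZ hw hP
  have hconn := connected_of_primitive hD hw hP
  have h2 : pCore 2 G ≤ Subgroup.center G := by rw [hO2]; exact bot_le
  have h3 : pCore 3 G ≤ Subgroup.center G := by rw [hO3]; exact bot_le
  have hE := layer_ne_bot_of_central hD hD2 h2 h3
  obtain ⟨L, hL⟩ := exists_component_of_layer_ne_bot hE
  haveI hLn : L.Normal := component_normal hD hL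
  have hidx : L.index ≤ 2 := index_le_two_of_coset hD (coset_of_connected hD hL hconn)
  have hF := fitting_eq_center hD h2 h3
  -- the commutator subgroup is `L`
  have hGL : commutator G = L := by
    apply le_antisymm
    · rw [commutator_def, Subgroup.commutator_le]
      intro g _ h _
      rw [← QuotientGroup.eq_one_iff (N := L)]
      have e : ((⁅g, h⁆ : G) : G ⧸ L) = ⁅(g : G ⧸ L), (h : G ⧸ L)⁆ :=
        map_commutatorElement (QuotientGroup.mk' L) g h
      rw [e, commutatorElement_eq_one_iff_mul_comm]
      apply mul_comm_of_card_le_two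
      rw [← Subgroup.index_eq_card]; exact hidx
    · rw [commutator_def, ← Cfsg.Agent.Lib.Helper22.component_perfect hL]
      exact Subgroup.commutator_mono le_top le_top
  rw [hGL]
  have hcen : Subgroup.center L = ⊥ := by
    rw [eq_bot_iff]
    intro z hz
    rw [Subgroup.mem_bot]
    apply Subtype.ext
    have h1 : (z : G) ∈ L ⊓ Subgroup.centralizer (L : Set G) := by
      refine Subgroup.mem_inf.mpr ⟨z.2, ?_⟩
      rw [Subgroup.mem_centralizer_iff]
      intro l hl
      rw [Subgroup.mem_center_iff] at hz
      exact congrArg Subtype.val (hz ⟨l, hl⟩)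
    have h4 := inf_centralizer_le_fitting L h1
    rw [hF, hZ, Subgroup.mem_bot] at h4
    exact h4
  haveI hnt : Nontrivial L := Cfsg.Agent.Lib.Helper91.nontrivial_of_isQuasisimple hL.2
  refine { toNontrivial := hnt, eq_bot_or_eq_top_of_normal := ?_ }
  intro N hN
  rcases Cfsg.Agent.Lib.Helper91.normal_eq_top_or_le_center_of_isQuasisimple hL.2 N with h | h
  · exact Or.inr h
  · left
    rw [hcen] at h
    exact le_bot_iff.mp h

end Cfsg.Agent.Lib.Helper46
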