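import Cfsg.Agent.Lib.Helper46.R3k
import Cfsg.Agent.Lib.Helper46.TTQ3

set_option autoImplicit false
set_option linter.all false

namespace Cfsg.Agent.Lib.Helper46

open Cfsg

universe u

variable {G : Type u} [Group G] {D : Set G}

/-- a primitive 3-transposition group in the strong sense is generated by a class -/
theorem class_of_group (hD : IsThreeTranspositionGroup D) (hP : IsPrimitiveUnderConj D) :
    IsThreeTranspositionClass D := by
  obtain ⟨a, ha, _, _, _⟩ := hP.2.1
  refine ⟨hD.1, ⟨a, ha, ?_⟩, hD.2.2⟩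
  ext x
  constructor
  · intro hx
    show IsConj a x
    exact isConj_iff.mpr (hP.1 a ha x hx)
  · intro hx
    have hx' : IsConj a x := hx
    obtain ⟨g, rfl⟩ := isConj_iff.mp hx'
    exact hD.2.1 g a ha

/-- with at least two members, no member of the class is central -/
theorem not_mem_center_of_two (hD : IsThreeTranspositionClass D) (hD2 : ∃ a ∈ D, ∃ b ∈ D, a ≠ b)
    {d : G} (hd : d ∈ D) : d ∉ Subgroup.center G := by
  intro hcen
  rw [Subgroup.mem_center_iff] at hcen
  obtain ⟨a, ha, b, hb, hne⟩ := hD2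
  obtain ⟨g1, hg1⟩ := class_trans hD hd ha
  obtain ⟨g2, hg2⟩ := class_trans hD hd hb
  apply hne
  rw [← hg1, ← hg2, hcen g1, hcen g2]
  group

/-- primitivity: the largest normal 2-subgroup is central -/
theorem pCore_two_le_center_of_primitive [Finite G] (hD : IsThreeTranspositionClass D)
    (hP : IsPrimitiveUnderConj D) : pCore 2 G ≤ Subgroup.center G := by
  have hT := hD.1
  have hD2 := hP.2.1
  haveI hN : (pCore 2 G).Normal := Cfsg.Agent.Lib.Helper84.pCore_normal 2 G
  intro g hg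
  apply mem_center_of_commute_gen hD.2.2
  intro d hd
  obtain ⟨h1, h2⟩ := Cfsg.Agent.S5349.result hD hD2 hd
  have hdB : d ∈ {v : G | v ∈ D ∧ d⁻¹ * v ∈ pCore 2 G} := ⟨hd, by simp [Subgroup.one_mem]⟩
  rcases hP.2.2 {v : G | v ∈ D ∧ d⁻¹ * v ∈ pCore 2 G} (fun v hv => hv.1)
    (fun g => coset_block_dichotomy (class_conj hD) (pCore 2 G) d g) with hs | hs
  · have hgd : g * d * g⁻¹ ∈ {v : G | v ∈ D ∧ d⁻¹ * v ∈ pCore 2 G} := by
      rw [← h1, h2]
      exact ⟨g, hg, rfl⟩
    have := hs hgd hdB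
    show d * g = g * d
    calc d * g = (g * d * g⁻¹) * g := by rw [this]
      _ = g * d := by group
  · exfalso
    have hall : ∀ v ∈ D, Commute v d := by
      intro v hv
      have : v ∈ {v : G | v ∈ D ∧ ∀ e ∈ D, Commute v e ↔ Commute d e} := by
        rw [h1, hs]; exact hv
      exact (this.2 d hd).mpr (Commute.refl d)
    exact not_mem_center_of_two hD hD2 hd (mem_center_of_commute_gen hD.2.2 hall)

/-- primitivity and width at least two: the largest normal 3-subgroup is central -/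
theorem pCore_three_le_center_of_primitive [Finite G] (hD : IsThreeTranspositionClass D)
    (hw : ∃ a ∈ D, ∃ b ∈ D, a ≠ b ∧ Commute a b)
    (hP : IsPrimitiveUnderConj D) : pCore 3 G ≤ Subgroup.center G := by
  haveI : Fact (Nat.Prime 3) := ⟨by norm_num⟩
  have hT := hD.1
  have hD2 := hP.2.1
  haveI hN : (pCore 3 G).Normal := Cfsg.Agent.Lib.Helper84.pCore_normal 3 G
  have hOp := Cfsg.Agent.Lib.Helper84.pCore_isPGroup 3 G
  intro g hg
  apply mem_center_of_commute_gen hD.2.2
  intro d hd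
  obtain ⟨h1, h2⟩ := Cfsg.Agent.S5350.result hD hD2 hd
  have hdB : d ∈ {v : G | v ∈ D ∧ d⁻¹ * v ∈ pCore 3 G} := ⟨hd, by simp [Subgroup.one_mem]⟩
  rcases hP.2.2 {v : G | v ∈ D ∧ d⁻¹ * v ∈ pCore 3 G} (fun v hv => hv.1)
    (fun g => coset_block_dichotomy (class_conj hD) (pCore 3 G) d g) with hs | hs
  · have hgd : g * d * g⁻¹ ∈ {v : G | v ∈ D ∧ d⁻¹ * v ∈ pCore 3 G} := by
      rw [← h1, h2]
      exact ⟨g, hg, rfl⟩
    have := hs hgd hdB
    show d * g = g * d
    calc d * g = (g * d * g⁻¹) * g := by rw [this]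
      _ = g * d := by group
  · exfalso
    obtain ⟨a, ha, b, hb, hne, hc⟩ := hw
    have haB : a ∈ {v : G | v ∈ D ∧ d⁻¹ * v ∈ pCore 3 G} := by rw [hs]; exact ha
    have hbB : b ∈ {v : G | v ∈ D ∧ d⁻¹ * v ∈ pCore 3 G} := by rw [hs]; exact hb
    have hab : a⁻¹ * b ∈ pCore 3 G := by
      have e : a⁻¹ * b = (d⁻¹ * a)⁻¹ * (d⁻¹ * b) := by group
      rw [e]
      exact Subgroup.mul_mem _ (Subgroup.inv_mem _ haB.2) hbB.2
    have h2' : (a⁻¹ * b) ^ 2 = 1 := by
      rw [tt_inv hT ha, hc.mul_pow, pow_two, pow_two, tt_sq hT ha, tt_sq hT hb, one_mul]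
    have h3 := eq_one_of_sq_of_isPGroup3 hOp hab h2'
    apply hne
    have : a⁻¹ = b⁻¹ := eq_inv_of_mul_eq_one_left h3
    exact inv_injective this

/-- the structure of a primitive 3-transposition group of width at least two -/
theorem primitive_structure [Finite G] (hD : IsThreeTranspositionClass D)
    (hw : ∃ a ∈ D, ∃ b ∈ D, a ≠ b ∧ Commute a b) (hP : IsPrimitiveUnderConj D) :
    ∃ L : Subgroup G, L.Normal ∧ IsQuasisimple L ∧ L.index ≤ 2 ∧
      generalizedFittingSubgroup G = L ⊔ Subgroup.center G := by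
  have hD2 := hP.2.1
  have h2 := pCore_two_le_center_of_primitive hD hP
  have h3 := pCore_three_le_center_of_primitive hD hw hP
  have hE := layer_ne_bot_of_central hD hD2 h2 h3
  obtain ⟨L, hL⟩ := exists_component_of_layer_ne_bot hE
  haveI hLn : L.Normal := component_normal hD hL
  refine ⟨L, hLn, hL.2, ?_, ?_⟩
  · exact index_le_two_of_coset hD (coset_of_connected hD hL (connected_of_primitive hD hw hP))
  · unfold generalizedFittingSubgroup
    rw [layer_eq_component hD hL, fitting_eq_center hD h2 h3]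

end Cfsg.Agent.Lib.Helper46
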