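import Cfsg.Agent.Lib.Helper46.TTM1

set_option autoImplicit false
set_option linter.all false

namespace Cfsg.Agent.Lib.Helper46

open Cfsg

universe u

variable {G : Type u} [Group G] {D : Set G}

theorem cj_inter (g : G) (A B : Set G) : cj g (A ∩ B) = cj g A ∩ cj g B := by
  ext x
  simp only [mem_cj, Set.mem_inter_iff]

/-- any two non-commuting pairs are conjugate -/
theorem pair_trans [Finite G] (hD : IsThreeTranspositionClass D) (hP : IsPrimitiveUnderConj D)
    (hw : ∃ a ∈ D, ∃ b ∈ D, a ≠ b ∧ Commute a b) {p q p' q' : G} (hp : p ∈ D) (hq : q ∈ D)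
    (hp' : p' ∈ D) (hq' : q' ∈ D) (h : ¬ Commute p q) (h' : ¬ Commute p' q') :
    ∃ g : G, g * p * g⁻¹ = p' ∧ g * q * g⁻¹ = q' := by
  obtain ⟨g, hg⟩ := class_trans hD hp hp'
  have hgq : g * q * g⁻¹ ∈ D := class_conj hD g q hq
  have hn : ¬ Commute p' (g * q * g⁻¹) := by
    rw [← hg]
    intro hc
    exact h ((Commute.conj_iff g).mp hc)
  obtain ⟨k, hk, hkq⟩ := transA hD hP hw hp' hgq hq' hn h'
  refine ⟨k * g, ?_, ?_⟩
  · calc k * g * p * (k * g)⁻¹ = k * (g * p * g⁻¹) * k⁻¹ := by group
      _ = p' := by rw [hg]; exact conj_fix hk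
  · calc k * g * q * (k * g)⁻¹ = k * (g * q * g⁻¹) * k⁻¹ := by group
      _ = q' := hkq

/-- the number of common commuting partners of a non-commuting pair is constant -/
theorem cSet_inter_ncard [Finite G] (hD : IsThreeTranspositionClass D) (hP : IsPrimitiveUnderConj D)
    (hw : ∃ a ∈ D, ∃ b ∈ D, a ≠ b ∧ Commute a b) {p q p' q' : G} (hp : p ∈ D) (hq : q ∈ D)
    (hp' : p' ∈ D) (hq' : q' ∈ D) (h : ¬ Commute p q) (h' : ¬ Commute p' q') :
    (cSet D p ∩ cSet D q).ncard = (cSet D p' ∩ cSet D q').ncard := by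
  obtain ⟨g, hg1, hg2⟩ := pair_trans hD hP hw hp hq hp' hq' h h'
  rw [← hg1, ← hg2, cSet_conj hD g p hp, cSet_conj hD g q hq, ← cj_inter, ncard_cj]

/-- the commuting partners of a member do not generate the group -/
theorem cSet_closure_ne_top (hD : IsThreeTranspositionClass D) (hD2 : ∃ a ∈ D, ∃ b ∈ D, a ≠ b)
    {d : G} (hd : d ∈ D) : Subgroup.closure (cSet D d) ≠ ⊤ := by
  intro htop
  apply not_mem_center_of_two hD hD2 hd
  apply mem_center_of_commute_gen htop
  intro y hy
  exact hy.2.symm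

/-- a set stable under conjugation by the generators is stable under conjugation -/
theorem invariant_of_gen (hD : IsThreeTranspositionClass D) (B : Set G)
    (h : ∀ y ∈ D, ∀ x ∈ B, y * x * y⁻¹ ∈ B) : ∀ g : G, ∀ x ∈ B, g * x * g⁻¹ ∈ B := by
  have hT := hD.1
  have key : ∀ g : G, (∀ x ∈ B, g * x * g⁻¹ ∈ B) ∧ (∀ x ∈ B, g⁻¹ * x * g ∈ B) := by
    intro g
    have hg : g ∈ Subgroup.closure D := by rw [hD.2.2]; trivial
    induction hg using Subgroup.closure_induction with
    | mem y hy =>
      refine ⟨h y hy, ?_⟩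
      intro x hx
      have := h y hy x hx
      rw [tt_inv hT hy] at this ⊢
      exact this
    | one =>
      refine ⟨?_, ?_⟩
      · intro x hx; simpa using hx
      · intro x hx; simpa using hx
    | mul a b _ _ iha ihb =>
      refine ⟨?_, ?_⟩
      · intro x hx
        have := iha.1 _ (ihb.1 x hx)
        have e : a * b * x * (a * b)⁻¹ = a * (b * x * b⁻¹) * a⁻¹ := by group
        rw [e]; exact this
      · intro x hx
        have := ihb.2 _ (iha.2 x hx)
        have e : (a * b)⁻¹ * x * (a * b) = b⁻¹ * (a⁻¹ * x * a) * b := by group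
        rw [e]; exact this
    | inv a _ iha =>
      refine ⟨?_, ?_⟩
      · intro x hx
        have := iha.2 x hx
        rw [inv_inv]; exact this
      · intro x hx
        have := iha.1 x hx
        rw [inv_inv]; exact this
  exact fun g => (key g).1

end Cfsg.Agent.Lib.Helper46
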