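import Cfsg.Agent.Lib.Helper46.TTM2

set_option autoImplicit false
set_option linter.all false

namespace Cfsg.Agent.Lib.Helper46

open Cfsg

universe u

variable {G : Type u} [Group G] {D : Set G}

/-- Fischer: the subgroup generated by the commuting partners of a member is a maximal `D`-subgroup -/
theorem max_dsubgroup [Finite G] (hD : IsThreeTranspositionClass D) (hP : IsPrimitiveUnderConj D)
    (hw : ∃ a ∈ D, ∃ b ∈ D, a ≠ b ∧ Commute a b) {d : G} (hd : d ∈ D) (H : Subgroup G)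
    (hH : IsDSubgroup D H) (hMH : Subgroup.closure (cSet D d) ≤ H) :
    H = Subgroup.closure (cSet D d) ∨ H = ⊤ := by
  by_cases hHM : H ≤ Subgroup.closure (cSet D d)
  · left; exact le_antisymm hHM hMH
  right
  have hT := hD.1
  have hconj := class_conj hD
  have hD2 := hP.2.1
  -- a member of `H` not commuting with `d`
  have hex : ∃ e, e ∈ D ∧ e ∈ H ∧ ¬ Commute d e := by
    by_contra hcon
    push Not at hcon
    apply hHM
    calc H = Subgroup.closure {d : G | d ∈ D ∧ d ∈ H} := hH.symm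
      _ ≤ Subgroup.closure (cSet D d) := by
        rw [Subgroup.closure_le]
        intro y hy
        exact Subgroup.subset_closure ⟨hy.1, hcon y hy.1 hy.2⟩
  obtain ⟨e, heD, heH, hde⟩ := hex
  have hdH : d ∈ H := hMH (Subgroup.subset_closure ⟨hd, Commute.refl d⟩)
  -- the class of `d` in `H`
  obtain ⟨S, hS⟩ : ∃ S : Set G, S = {s | ∃ h ∈ H, h * d * h⁻¹ = s} := ⟨_, rfl⟩
  have hSD : ∀ s ∈ S, s ∈ D := by
    rw [hS]; rintro s ⟨h, _, rfl⟩; exact hconj h d hd
  have hSH : ∀ s ∈ S, s ∈ H := by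
    rw [hS]; rintro s ⟨h, hh, rfl⟩; exact H.mul_mem (H.mul_mem hh hdH) (H.inv_mem hh)
  have hdS : d ∈ S := by rw [hS]; exact ⟨1, H.one_mem, by simp⟩
  have hSconj : ∀ h ∈ H, ∀ s ∈ S, h * s * h⁻¹ ∈ S := by
    rw [hS]; rintro h hh s ⟨k, hk, rfl⟩
    exact ⟨h * k, H.mul_mem hh hk, by group⟩
  -- the commuting partners of members of `S` lie in `H`
  have hCS : ∀ s ∈ S, ∀ y ∈ D, Commute s y → y ∈ H := by
    rw [hS]
    rintro s ⟨h, hh, rfl⟩ y hy hc
    have hy' : y ∈ cSet D (h * d * h⁻¹) := ⟨hy, hc⟩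
    rw [cSet_conj hD h d hd, mem_cj] at hy'
    have h1 : h⁻¹ * y * h ∈ H := hMH (Subgroup.subset_closure hy')
    have e : y = h * (h⁻¹ * y * h) * h⁻¹ := by group
    rw [e]; exact H.mul_mem (H.mul_mem hh h1) (H.inv_mem hh)
  -- members of `H` not commuting with a member of `S` are in `S`
  have hb : ∀ p ∈ D, p ∈ H → ∀ s ∈ S, ¬ Commute s p → p ∈ S := by
    intro p hpD hpH s hs hn
    have hsD := hSD s hs
    have hbr := tt_braid hT hsD hpD hn
    have hss := tt_sq hT hsD
    have : (s * p) * s * (s * p)⁻¹ = p := by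
      rw [mul_inv_rev, tt_inv hT hpD, tt_inv hT hsD]
      calc s * p * s * (p * s) = s * (p * s * p) * s := by group
        _ = s * (s * p * s) * s := by rw [hbr]
        _ = (s * s) * p * (s * s) := by group
        _ = p := by rw [hss, one_mul, mul_one]
    rw [← this]
    exact hSconj (s * p) (H.mul_mem (hSH s hs) hpH) s hs
  have heS : e ∈ S := hb e heD heH d hdS hde
  by_contra hne
  have hf : ∃ f, f ∈ D ∧ f ∉ H := by
    by_contra hcon
    push Not at hcon
    apply hne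
    rw [eq_top_iff, ← hD.2.2, Subgroup.closure_le]
    exact hcon
  -- the remaining members of `H`
  obtain ⟨P, hP'⟩ : ∃ P : Set G, P = {p | p ∈ D ∧ p ∈ H ∧ p ∉ S} := ⟨_, rfl⟩
  have hkey : ∀ f ∈ D, f ∉ H → ∀ s ∈ S, cSet D s ∩ cSet D f = P ∩ cSet D f := by
    intro f hfD hfH s hs
    ext y
    constructor
    · rintro ⟨⟨hyD, hsy⟩, hyf⟩
      refine ⟨?_, hyf⟩
      rw [hP']
      refine ⟨hyD, hCS s hs y hyD hsy, ?_⟩
      intro hyS
      exact hfH (hCS y hyS f hfD hyf.2.symm)
    · rintro ⟨hyP, hyf⟩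
      rw [hP'] at hyP
      refine ⟨⟨hyP.1, ?_⟩, hyf⟩
      by_contra hn
      exact hyP.2.2 (hb y hyP.1 hyP.2.1 s hs hn)
  have hPsub : P ⊆ cSet D d ∩ cSet D e := by
    intro p hp
    rw [hP'] at hp
    refine ⟨⟨hp.1, ?_⟩, ⟨hp.1, ?_⟩⟩
    · by_contra hn; exact hp.2.2 (hb p hp.1 hp.2.1 d hdS hn)
    · by_contra hn; exact hp.2.2 (hb p hp.1 hp.2.1 e heS hn)
  -- counting: `P` commutes with every member outside `H`
  have hPf : ∀ f' ∈ D, f' ∉ H → P ⊆ cSet D f' := by
    intro f' hf'D hf'H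
    have hdf' : ¬ Commute d f' := fun hc => hf'H (hCS d hdS f' hf'D hc)
    have h1 : (cSet D d ∩ cSet D e).ncard = (cSet D d ∩ cSet D f').ncard :=
      cSet_inter_ncard hD hP hw hd heD hd hf'D hde hdf'
    rw [hkey f' hf'D hf'H d hdS] at h1
    have h2 : P ∩ cSet D f' = P := by
      apply Set.eq_of_subset_of_ncard_le Set.inter_subset_left _ (Set.toFinite _)
      rw [← h1]
      exact Set.ncard_le_ncard hPsub (Set.toFinite _)
    rw [← h2]; exact Set.inter_subset_right
  obtain ⟨f, hfD, hfH⟩ := hf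
  have hdf : ¬ Commute d f := fun hc => hfH (hCS d hdS f hfD hc)
  by_cases hPne : P.Nonempty
  · -- the complement of `P` in `D` is stable under conjugation, so it is all of `D`
    have hPc : ∀ p ∈ P, ∀ x ∈ D, x ∉ P → Commute p x := by
      intro p hp x hx hxP
      by_cases hxH : x ∈ H
      · have hxS : x ∈ S := by
          by_contra hn
          exact hxP (by rw [hP']; exact ⟨hx, hxH, hn⟩)
        by_contra hn
        have hp' := hp
        rw [hP'] at hp'
        exact hp'.2.2 (hb p hp'.1 hp'.2.1 x hxS (fun hc => hn hc.symm))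
      · exact ((hPf x hx hxH hp).2).symm
    have hPD : P ⊆ D := by rw [hP']; exact fun p hp => hp.1
    have hstab : ∀ y ∈ D, ∀ x ∈ {x | x ∈ D ∧ x ∉ P}, y * x * y⁻¹ ∈ {x | x ∈ D ∧ x ∉ P} := by
      rintro y hy x ⟨hx, hxP⟩
      refine ⟨hconj y x hx, ?_⟩
      by_cases hyP : y ∈ P
      · rw [conj_fix (hPc y hyP x hx hxP)]
        exact hxP
      · intro hz
        have hc := hPc _ hz y hy hyP
        apply hxP
        have e : x = y⁻¹ * (y * x * y⁻¹) * y := by group
        rw [e, conj_fix' hc.symm]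
        exact hz
    have hinv := invariant_of_gen hD _ hstab
    obtain ⟨p, hp⟩ := hPne
    obtain ⟨g, hg⟩ := class_trans hD hd (hPD hp)
    have hdP : d ∉ P := by
      rw [hP']; intro h; exact h.2.2 hdS
    have := hinv g d ⟨hd, hdP⟩
    rw [hg] at this
    exact this.2 hp
  · -- no common commuting partners: against the triviality of tau
    rw [Set.not_nonempty_iff_eq_empty] at hPne
    have hw' := hw
    obtain ⟨a, ha, b, hb', hab, hcab⟩ := hw'
    obtain ⟨x, hx1, hx2⟩ := exists_cSet_diff hD hP ha hb' hab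
    have hax : ¬ Commute a x := fun hc => hx2 ⟨hx1.1, hc⟩
    have h1 : (cSet D a ∩ cSet D x).ncard = (cSet D d ∩ cSet D f).ncard :=
      cSet_inter_ncard hD hP hw ha hx1.1 hd hfD hax hdf
    rw [hkey f hfD hfH d hdS, hPne, Set.empty_inter, Set.ncard_empty,
      Set.ncard_eq_zero (Set.toFinite _)] at h1
    have hbm : b ∈ cSet D a ∩ cSet D x := ⟨⟨hb', hcab⟩, ⟨hb', hx1.2.symm⟩⟩
    rw [h1] at hbm
    exact hbm

end Cfsg.Agent.Lib.Helper46
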