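import Cfsg.Agent.Lib.Helper46.TTF9

set_option autoImplicit false
set_option linter.all false

namespace Cfsg.Agent.Lib.Helper46

open Cfsg

universe u

variable {G : Type u} [Group G] {D : Set G}

/-- the conjugate of a set -/
def cj (g : G) (B : Set G) : Set G := (fun x => g * x * g⁻¹) '' B

theorem cj_def (g : G) (B : Set G) : (fun x => g * x * g⁻¹) '' B = cj g B := rfl

theorem mem_cj {g x : G} {B : Set G} : x ∈ cj g B ↔ g⁻¹ * x * g ∈ B := by
  unfold cj
  constructor
  · rintro ⟨y, hy, rfl⟩
    have : g⁻¹ * (g * y * g⁻¹) * g = y := by group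
    rw [this]; exact hy
  · intro h
    exact ⟨g⁻¹ * x * g, h, by group⟩

theorem cj_one (B : Set G) : cj 1 B = B := by
  ext x; rw [mem_cj]; simp

theorem cj_mul (g h : G) (B : Set G) : cj (g * h) B = cj g (cj h B) := by
  ext x
  rw [mem_cj, mem_cj, mem_cj]
  have : (g * h)⁻¹ * x * (g * h) = h⁻¹ * (g⁻¹ * x * g) * h := by group
  rw [this]

theorem cj_inv_cj (g : G) (B : Set G) : cj g⁻¹ (cj g B) = B := by
  rw [← cj_mul, inv_mul_cancel, cj_one]

theorem cj_cj_inv (g : G) (B : Set G) : cj g (cj g⁻¹ B) = B := by
  rw [← cj_mul, mul_inv_cancel, cj_one]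

theorem conj_mem_cj {g x : G} {B : Set G} (hx : x ∈ B) : g * x * g⁻¹ ∈ cj g B := ⟨x, hx, rfl⟩

theorem cj_disjoint {g : G} {A B : Set G} (h : Disjoint A B) : Disjoint (cj g A) (cj g B) := by
  unfold cj
  rw [Set.disjoint_image_iff]
  · exact h
  · intro x y hxy
    simpa using hxy

/-- two conjugates of a block are equal or disjoint -/
theorem block_dichotomy {B : Set G} (hblk : ∀ g : G, cj g B = B ∨ Disjoint (cj g B) B) (g h : G) :
    cj g B = cj h B ∨ Disjoint (cj g B) (cj h B) := by
  rcases hblk (h⁻¹ * g) with h1 | h1
  · left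
    have := congrArg (cj h) h1
    rw [← cj_mul] at this
    rw [← this]; congr 1; group
  · right
    have := cj_disjoint (g := h) h1
    rw [← cj_mul] at this
    have e : h * (h⁻¹ * g) = g := by group
    rw [e] at this
    exact this

theorem block_eq_of_mem {B : Set G} (hblk : ∀ g : G, cj g B = B ∨ Disjoint (cj g B) B) {g h x : G}
    (hg : x ∈ cj g B) (hh : x ∈ cj h B) : cj g B = cj h B := by
  rcases block_dichotomy hblk g h with h1 | h1
  · exact h1
  · exact absurd hh (Set.disjoint_left.mp h1 hg)

/-- the kernel of the action on the conjugates of `B` -/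
def blockKernel (B : Set G) : Subgroup G where
  carrier := {k | ∀ h : G, cj k (cj h B) = cj h B}
  one_mem' := fun h => cj_one _
  mul_mem' := by
    intro a b ha hb h
    rw [cj_mul, hb h, ha h]
  inv_mem' := by
    intro a ha h
    have := ha h
    conv_lhs => rw [← this]
    exact cj_inv_cj _ _

theorem mem_blockKernel {B : Set G} {k : G} : k ∈ blockKernel B ↔ ∀ h : G, cj k (cj h B) = cj h B :=
  Iff.rfl

theorem blockKernel_normal (B : Set G) : (blockKernel B).Normal := by
  constructor
  intro k hk n h
  rw [mem_blockKernel] at hk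
  rw [cj_mul, cj_mul, ← cj_mul n⁻¹ h, hk, ← cj_mul]
  congr 1; group

theorem blockKernel_fix {B : Set G} {k : G} (hk : k ∈ blockKernel B) : cj k B = B := by
  have := hk 1
  rwa [cj_one] at this

/-- an element of `D` stabilizing a block and not commuting with one of its members lies in the block -/
theorem mem_block_of_not_commute (hD : IsThreeTranspositionClass D) {B : Set G} (hBD : B ⊆ D)
    (hblk : ∀ g : G, cj g B = B ∨ Disjoint (cj g B) B) {h c b' : G} (hc : c ∈ D)
    (hfix : cj c (cj h B) = cj h B) (hb' : b' ∈ cj h B) (hnc : ¬ Commute c b') : c ∈ cj h B := by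
  have hT := hD.1
  have hb'D : b' ∈ D := by
    rw [mem_cj] at hb'
    have := class_conj hD h _ (hBD hb')
    have e : h * (h⁻¹ * b' * h) * h⁻¹ = b' := by group
    rwa [e] at this
  have hcc := tt_sq hT hc
  have hbb := tt_sq hT hb'D
  have hci := tt_inv hT hc
  have hbi := tt_inv hT hb'D
  have h3 : (b' * c) ^ 3 = 1 := by
    rcases hT.2 b' hb'D c hc with h' | h'
    · exact absurd (commute_of_sq_mul hbb hcc h').symm hnc
    · exact h'
  have hbraid : c * b' * c = b' * c * b' := braid_of_cube hcc hbb h3
  have h1 : c * b' * c⁻¹ ∈ cj h B := by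
    rw [← hfix]; exact conj_mem_cj hb'
  rw [hci, hbraid] at h1
  -- `b'` stabilizes the block
  have h2 : cj b' (cj h B) = cj h B := by
    rw [← cj_mul]
    apply block_eq_of_mem hblk (x := b')
    · rw [cj_mul]
      have h5 : b' * b' * b'⁻¹ ∈ cj b' (cj h B) := conj_mem_cj hb'
      have e5 : b' * b' * b'⁻¹ = b' := by group
      rwa [e5] at h5
    · exact hb'
  rw [← h2, mem_cj] at h1
  have e : b'⁻¹ * (b' * c * b') * b' = c := by
    rw [hbi]
    calc b' * (b' * c * b') * b' = (b' * b') * c * (b' * b') := by group
      _ = c := by rw [hbb]; group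
  rwa [e] at h1

/-- the product of two members of a block fixes every conjugate of the block -/
theorem mul_mem_blockKernel (hD : IsThreeTranspositionClass D) {B : Set G} (hBD : B ⊆ D)
    (hblk : ∀ g : G, cj g B = B ∨ Disjoint (cj g B) B) {a b : G} (ha : a ∈ B) (hb : b ∈ B) :
    a * b ∈ blockKernel B := by
  have hT := hD.1
  have haD := hBD ha
  have hbD := hBD hb
  have haa := tt_sq hT haD
  have hbb := tt_sq hT hbD
  have hai := tt_inv hT haD
  have hbi := tt_inv hT hbD
  -- members of `B` stabilize `B`
  have hstab : ∀ x ∈ B, cj x B = B := by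
    intro x hx
    have h1 : x ∈ cj x B := by
      have h5 : x * x * x⁻¹ ∈ cj x B := conj_mem_cj hx
      have e5 : x * x * x⁻¹ = x := by group
      rwa [e5] at h5
    have := block_eq_of_mem hblk (g := x) (h := 1) h1 (by rw [cj_one]; exact hx)
    rwa [cj_one] at this
  rw [mem_blockKernel]
  intro h
  by_cases haB' : a ∈ cj h B
  · -- the block is `B` itself
    have hB' : cj h B = B := by
      have := block_eq_of_mem hblk (g := h) (h := 1) haB' (by rw [cj_one]; exact ha)
      rwa [cj_one] at this
    rw [hB', cj_mul, hstab b hb, hstab a ha]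
  · -- pick a member of the block
    have hne : (cj h B).Nonempty := ⟨h * a * h⁻¹, conj_mem_cj ha⟩
    obtain ⟨c, hcB'⟩ := hne
    have hcD : c ∈ D := by
      rw [mem_cj] at hcB'
      have := class_conj hD h _ (hBD hcB')
      have e : h * (h⁻¹ * c * h) * h⁻¹ = c := by group
      rwa [e] at this
    have hcc := tt_sq hT hcD
    have hci := tt_inv hT hcD
    have hcnB : c ∉ B := by
      intro hcB
      apply haB'
      have := block_eq_of_mem hblk (g := h) (h := 1) hcB' (by rw [cj_one]; exact hcB)
      rw [this, cj_one]; exact ha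
    -- if `c` commutes with one of `a`, `b` it commutes with both
    have hboth : ∀ x ∈ B, ∀ y ∈ B, Commute c x → Commute c y := by
      intro x hx y hy hcx
      by_contra hncy
      apply hcnB
      have hfix : cj c (cj 1 B) = cj 1 B := by
        rw [cj_one]
        have h1 : x ∈ cj c B := by
          have : x = c * x * c⁻¹ := by
            rw [hcx.eq]; group
          rw [this]; exact conj_mem_cj hx
        have := block_eq_of_mem hblk (g := c) (h := 1) h1 (by rw [cj_one]; exact hx)
        rwa [cj_one] at this
      have := mem_block_of_not_commute hD hBD hblk (h := 1) hcD hfix (by rw [cj_one]; exact hy) hncy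
      rwa [cj_one] at this
    by_cases hca : Commute c a
    · have hcb : Commute c b := hboth a ha b hb hca
      have hfa : cj a (cj h B) = cj h B := by
        rw [← cj_mul]
        apply block_eq_of_mem hblk (x := c)
        · rw [cj_mul]
          have : c = a * c * a⁻¹ := by rw [← hca.eq]; group
          rw [this]; exact conj_mem_cj hcB'
        · exact hcB'
      have hfb : cj b (cj h B) = cj h B := by
        rw [← cj_mul]
        apply block_eq_of_mem hblk (x := c)
        · rw [cj_mul]
          have : c = b * c * b⁻¹ := by rw [← hcb.eq]; group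
          rw [this]; exact conj_mem_cj hcB'
        · exact hcB'
      rw [cj_mul, hfb, hfa]
    · have hcb : ¬ Commute c b := fun hcb => hca (hboth b hb a ha hcb)
      -- both `a` and `b` move the block to the conjugate of `B` by `c`
      have hmove : ∀ x ∈ B, ¬ Commute c x → cj x (cj h B) = cj c B := by
        intro x hx hncx
        have hxD := hBD hx
        have hxx := tt_sq hT hxD
        have hxi := tt_inv hT hxD
        have h3 : (c * x) ^ 3 = 1 := by
          rcases hT.2 c hcD x hxD with h' | h'
          · exact absurd (commute_of_sq_mul hcc hxx h') hncx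
          · exact h'
        have hbraid : x * c * x = c * x * c := braid_of_cube hxx hcc h3
        rw [← cj_mul]
        apply block_eq_of_mem hblk (x := x * c * x⁻¹)
        · rw [cj_mul]; exact conj_mem_cj hcB'
        · rw [hxi, hbraid]
          have : c * x * c = c * x * c⁻¹ := by rw [hci]
          rw [this]; exact conj_mem_cj hx
      rw [cj_mul, hmove b hb hcb, ← hmove a ha hca, ← cj_mul, haa, cj_one]

end Cfsg.Agent.Lib.Helper46
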