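import Cfsg.Agent.Lib.Helper46.TTP1

set_option autoImplicit false
set_option linter.all false

namespace Cfsg.Agent.Lib.Helper46

open Cfsg
open scoped commutatorElement

universe u

variable {G : Type u} [Group G] {D : Set G}

/-- two distinct members of the class cannot differ by a central element -/
theorem central_mul_absurd (hD : IsThreeTranspositionClass D) (hD2 : ∃ a ∈ D, ∃ b ∈ D, a ≠ b)
    {a b : G} (ha : a ∈ D) (hb : b ∈ D) (hne : a ≠ b) (hz : a * b ∈ Subgroup.center G) : False := by
  have hT := hD.1
  have haa := tt_sq hT ha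
  have hbb := tt_sq hT hb
  have hai := tt_inv hT ha
  have hbi := tt_inv hT hb
  obtain ⟨z, hzdef⟩ : ∃ z : G, z = a * b := ⟨_, rfl⟩
  rw [← hzdef] at hz
  rw [Subgroup.mem_center_iff] at hz
  have hz1 : z ≠ 1 := by
    intro h1
    apply hne
    rw [h1] at hzdef
    have : a = b⁻¹ := eq_inv_of_mul_eq_one_left hzdef.symm
    rw [this, hbi]
  have hbz : b = a * z := by rw [hzdef, ← mul_assoc, haa, one_mul]
  -- z is an involution
  have hzz : z * z = 1 := by
    have h1 : a * z * a⁻¹ = z := by rw [hz a]; group
    have h2 : a * z * a⁻¹ = z⁻¹ := by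
      rw [hzdef, hai, mul_inv_rev, hai, hbi]
      calc a * (a * b) * a = (a * a) * b * a := by group
        _ = b * a := by rw [haa, one_mul]
    rw [h1] at h2
    calc z * z = z * z⁻¹ := by rw [← h2]
      _ = 1 := mul_inv_cancel z
  -- `a` commutes with every member of `D`
  have hall : ∀ c ∈ D, Commute c a := by
    intro c hc
    by_contra hnc
    have hcc := tt_sq hT hc
    have h3 : (c * a) ^ 3 = 1 := by
      rcases hT.2 c hc a ha with h | h
      · exact absurd (commute_of_sq_mul hcc haa h) hnc
      · exact h
    have h2 : (c * a) ^ 2 ≠ 1 := fun h => hnc (commute_of_sq_mul hcc haa h)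
    have hcz : Commute (c * a) z := hz (c * a)
    have e : c * b = (c * a) * z := by rw [hbz, mul_assoc]
    have hz2 : z ^ 2 = 1 := by rw [pow_two]; exact hzz
    have hz3 : z ^ 3 = z := by rw [pow_succ, hz2, one_mul]
    rcases hT.2 c hc b hb with h | h
    · rw [e, hcz.mul_pow, hz2, mul_one] at h
      exact h2 h
    · rw [e, hcz.mul_pow, h3, hz3, one_mul] at h
      exact hz1 h
  have hcen : a ∈ Subgroup.center G := mem_center_of_commute_gen hD.2.2 hall
  obtain ⟨g, hg⟩ := class_trans hD ha hb
  apply hne
  rw [← hg]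
  rw [Subgroup.mem_center_iff] at hcen
  rw [hcen g]; group

/-- the centre of a normal subgroup lies in the Fitting subgroup -/
theorem inf_centralizer_le_fitting (L : Subgroup G) [L.Normal] :
    L ⊓ Subgroup.centralizer (L : Set G) ≤ fittingSubgroup G := by
  apply Cfsg.Agent.Lib.Helper22.le_fittingSubgroup inferInstance
  haveI : IsMulCommutative ↥(L ⊓ Subgroup.centralizer (L : Set G)) := by
    refine ⟨⟨fun x y => ?_⟩⟩
    apply Subtype.ext
    have hx : (x : G) ∈ Subgroup.centralizer (L : Set G) := (Subgroup.mem_inf.mp x.2).2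
    have hy : (y : G) ∈ L := (Subgroup.mem_inf.mp y.2).1
    rw [Subgroup.mem_centralizer_iff] at hx
    exact (hx y.1 hy).symm
  exact Cfsg.Agent.Lib.Helper22.isNilpotent_of_isMulCommutative _

/-- a normal subgroup meeting a normal component in a non-central element contains it -/
theorem component_le_normal_of_mem [Finite G] {L K : Subgroup G} [L.Normal] (hL : IsComponent L)
    (hK : K.Normal) (hF : fittingSubgroup G = Subgroup.center G) {x : G} (hxL : x ∈ L) (hxK : x ∈ K)
    (hxc : x ∉ Subgroup.center G) : L ≤ K := by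
  rcases Cfsg.Agent.Lib.Helper91.component_le_or_commutator_eq_bot hL hK.isSubnormal with h | h
  · exact h
  · exfalso
    apply hxc
    rw [← hF]
    apply inf_centralizer_le_fitting L
    refine ⟨hxL, ?_⟩
    rw [Subgroup.commutator_comm, Subgroup.commutator_eq_bot_iff_le_centralizer] at h
    exact h hxK

/-- the block theorem: index at most two gives primitivity -/
theorem block_eq_of_index_le_two [Finite G] (hD : IsThreeTranspositionClass D)
    (hD2 : ∃ a ∈ D, ∃ b ∈ D, a ≠ b) (hF : fittingSubgroup G = Subgroup.center G)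
    {L : Subgroup G} [L.Normal] (hL : IsComponent L) (hidx : L.index ≤ 2)
    {B : Set G} (hBD : B ⊆ D) (hblk : ∀ g : G, cj g B = B ∨ Disjoint (cj g B) B)
    {a b : G} (ha : a ∈ B) (hb : b ∈ B) (hne : a ≠ b) : B = D := by
  have hT := hD.1
  have haD := hBD ha
  have hbD := hBD hb
  have hLn : L.Normal := inferInstance
  -- members of `D` lie in `L` or outside it together
  have hDL : ∀ x ∈ D, ∀ y ∈ D, x ∈ L → y ∈ L := by
    intro x hx y hy hxL
    obtain ⟨g, rfl⟩ := class_trans hD hx hy
    exact hLn.conj_mem x hxL g
  have hi0 : L.index ≠ 0 := Subgroup.index_ne_zero_of_finite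
  have hmulL : ∀ x ∈ D, ∀ y ∈ D, x * y ∈ L := by
    intro x hx y hy
    by_cases hxL : x ∈ L
    · exact Subgroup.mul_mem _ hxL (hDL x hx y hy hxL)
    · have hyL : y ∉ L := fun h => hxL (hDL y hy x hx h)
      have h2 : L.index = 2 := by
        have h1 : L.index ≠ 1 := by
          intro h1
          rw [Subgroup.index_eq_one] at h1
          apply hxL; rw [h1]; trivial
        omega
      rw [Subgroup.mul_mem_iff_of_index_two h2]
      exact ⟨fun h => absurd h hxL, fun h => absurd h hyL⟩
  have habL : a * b ∈ L := hmulL a haD b hbD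
  have habK : a * b ∈ blockKernel B := mul_mem_blockKernel hD hBD hblk ha hb
  have habc : a * b ∉ Subgroup.center G := fun h => central_mul_absurd hD hD2 haD hbD hne h
  have hLK : L ≤ blockKernel B :=
    component_le_normal_of_mem hL (blockKernel_normal B) hF habL habK habc
  -- every member of `D` stabilizes `B`
  have hstabD : ∀ d ∈ D, cj d B = B := by
    intro d hd
    have h1 : d * a ∈ blockKernel B := hLK (hmulL d hd a haD)
    have h2 := blockKernel_fix h1
    have h3 : cj a B = B := by
      have h5 : a * a * a⁻¹ ∈ cj a B := conj_mem_cj ha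
      have e5 : a * a * a⁻¹ = a := by group
      rw [e5] at h5
      have := block_eq_of_mem hblk (g := a) (h := 1) h5 (by rw [cj_one]; exact ha)
      rwa [cj_one] at this
    rw [cj_mul, h3] at h2
    exact h2
  have hstab : ∀ g : G, cj g B = B := by
    intro g
    have hg : g ∈ Subgroup.closure D := by rw [hD.2.2]; trivial
    induction hg using Subgroup.closure_induction with
    | mem y hy => exact hstabD y hy
    | one => exact cj_one B
    | mul x y _ _ ihx ihy => rw [cj_mul, ihy, ihx]
    | inv x _ ih =>
      conv_lhs => rw [← ih]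
      exact cj_inv_cj x B
  apply Set.Subset.antisymm hBD
  intro x hx
  obtain ⟨g, rfl⟩ := class_trans hD haD hx
  rw [← hstab g]
  exact conj_mem_cj ha

end Cfsg.Agent.Lib.Helper46
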