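import Cfsg.Agent.Lib.Helper46.TTP2

set_option autoImplicit false
set_option linter.all false

namespace Cfsg.Agent.Lib.Helper46

open Cfsg

universe u

variable {G : Type u} [Group G] {D : Set G}

/-- commuting members are congruent modulo the component -/
theorem commute_coset [Finite G] (hD : IsThreeTranspositionClass D) {L : Subgroup G}
    (hL : IsComponent L) {a b : G} (ha : a ∈ D) (hb : b ∈ D) (hc : Commute a b) : a⁻¹ * b ∈ L := by
  apply coset_block hD hL ha hb
  have : a * b * a⁻¹ * b⁻¹ = 1 := by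
    rw [hc.eq]; group
  rw [this]; exact Subgroup.one_mem _

/-- if the commuting graph is connected all of `D` lies in one coset of the component -/
theorem coset_of_connected [Finite G] (hD : IsThreeTranspositionClass D) {L : Subgroup G}
    (hL : IsComponent L) (hconn : (commutingGraph D).Connected) :
    ∀ a ∈ D, ∀ b ∈ D, a⁻¹ * b ∈ L := by
  have key : ∀ u v : D, (commutingGraph D).Reachable u v → (u : G)⁻¹ * (v : G) ∈ L := by
    intro u v huv
    obtain ⟨p⟩ := huv
    induction p with
    | nil => simp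
    | cons hadj p ih =>
      rename_i x y z
      have h1 : (x : G)⁻¹ * (y : G) ∈ L := by
        unfold commutingGraph at hadj
        rw [SimpleGraph.fromRel_adj] at hadj
        rcases hadj.2 with h | h
        · exact commute_coset hD hL x.2 y.2 h
        · exact commute_coset hD hL x.2 y.2 h.symm
      have e : (x : G)⁻¹ * (z : G) = ((x : G)⁻¹ * (y : G)) * ((y : G)⁻¹ * (z : G)) := by group
      rw [e]
      exact Subgroup.mul_mem _ h1 ih
  intro a ha b hb
  exact key ⟨a, ha⟩ ⟨b, hb⟩ (hconn.preconnected _ _)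

/-- all of `D` in one coset of a normal subgroup: index at most two -/
theorem index_le_two_of_coset [Finite G] (hD : IsThreeTranspositionClass D) {L : Subgroup G}
    [hLn : L.Normal] (hco : ∀ a ∈ D, ∀ b ∈ D, a⁻¹ * b ∈ L) : L.index ≤ 2 := by
  have hT := hD.1
  obtain ⟨a₀, ha₀⟩ : ∃ d, d ∈ D := by
    obtain ⟨_, ⟨d, hd, _⟩, _⟩ := hD
    exact ⟨d, hd⟩
  have hai := tt_inv hT ha₀
  have hall : ∀ g : G, g ∈ L ∨ a₀⁻¹ * g ∈ L := by
    intro g
    have hg : g ∈ Subgroup.closure D := by rw [hD.2.2]; trivial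
    induction hg using Subgroup.closure_induction with
    | mem y hy => exact Or.inr (hco a₀ ha₀ y hy)
    | one => exact Or.inl (Subgroup.one_mem _)
    | mul x y _ _ ihx ihy =>
      rcases ihx with hx | hx <;> rcases ihy with hy | hy
      · exact Or.inl (Subgroup.mul_mem _ hx hy)
      · right
        have e : a₀⁻¹ * (x * y) = (a₀⁻¹ * x * a₀⁻¹⁻¹) * (a₀⁻¹ * y) := by group
        rw [e]
        exact Subgroup.mul_mem _ (hLn.conj_mem x hx a₀⁻¹) hy
      · right
        rw [← mul_assoc]
        exact Subgroup.mul_mem _ hx hy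
      · left
        have e : x * y = (a₀ * (a₀⁻¹ * x) * a₀⁻¹) * (a₀ * a₀) * (a₀⁻¹ * y) := by group
        rw [e, tt_sq hT ha₀, mul_one]
        exact Subgroup.mul_mem _ (hLn.conj_mem _ hx a₀) hy
    | inv x _ ih =>
      rcases ih with hx | hx
      · exact Or.inl (Subgroup.inv_mem _ hx)
      · right
        have e : a₀⁻¹ * x⁻¹ = a₀⁻¹ * (a₀⁻¹ * x)⁻¹ * a₀⁻¹ := by group
        rw [e]
        nth_rewrite 3 [hai]
        have := hLn.conj_mem _ (Subgroup.inv_mem _ hx) a₀⁻¹
        rw [inv_inv] at this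
        exact this
  rw [Subgroup.index_eq_card]
  have hsub : (Set.univ : Set (G ⧸ L)) ⊆ {(1 : G ⧸ L), ((a₀ : G) : G ⧸ L)} := by
    intro q _
    obtain ⟨g, rfl⟩ := QuotientGroup.mk_surjective q
    rcases hall g with h | h
    · left
      exact (QuotientGroup.eq_one_iff g).mpr h
    · right
      rw [Set.mem_singleton_iff]
      exact (QuotientGroup.eq.mpr h).symm
  calc Nat.card (G ⧸ L) = (Set.univ : Set (G ⧸ L)).ncard := (Set.ncard_univ _).symm
    _ ≤ ({(1 : G ⧸ L), ((a₀ : G) : G ⧸ L)} : Set (G ⧸ L)).ncard :=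
        Set.ncard_le_ncard hsub (Set.toFinite _)
    _ ≤ 2 := by
        calc _ ≤ ({((a₀ : G) : G ⧸ L)} : Set (G ⧸ L)).ncard + 1 := Set.ncard_insert_le _ _
          _ = 2 := by rw [Set.ncard_singleton]

end Cfsg.Agent.Lib.Helper46
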