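import Cfsg.Agent.Lib.Helper46.Theta3

set_option autoImplicit false
set_option linter.all false

namespace Cfsg.Agent.Lib.Helper46

open Cfsg TCa

variable {G : Type*} [Group G] {D : Set G}

/-- an element of a 3-group whose square is trivial is trivial -/
theorem eq_one_of_sq_of_isPGroup3 {O : Subgroup G} (hO : IsPGroup 3 O) {x : G} (hx : x ∈ O) (h2 : x ^ 2 = 1) :
    x = 1 := by
  obtain ⟨k, hk⟩ := hO ⟨x, hx⟩
  have hk' : x ^ (3 ^ k) = 1 := by
    have := congrArg Subtype.val hk
    simpa using this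
  have h1 : orderOf x ∣ 3 ^ k := orderOf_dvd_of_pow_eq_one hk'
  have h2' : orderOf x ∣ 2 := orderOf_dvd_of_pow_eq_one h2
  have h3 : orderOf x ∣ Nat.gcd (3 ^ k) 2 := Nat.dvd_gcd h1 h2'
  have h4 : Nat.gcd (3 ^ k) 2 = 1 := by
    apply Nat.Coprime.pow_left
    norm_num
  rw [h4, Nat.dvd_one, orderOf_eq_one_iff] at h3
  exact h3

section F

variable [Finite G] (hT : IsThreeTranspositionSet D)

include hT in
theorem comm_mul_not_mem {d y : G} (hd : d ∈ D) (hy : y ∈ D) (hyd : y ≠ d) (hc : Commute d y) :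
    d * y ∉ pCore 3 G := by
  haveI : Fact (Nat.Prime 3) := ⟨by norm_num⟩
  intro hmem
  have h2 : (d * y) ^ 2 = 1 := by
    rw [pow_two]
    calc (d * y) * (d * y) = d * (y * d) * y := by group
      _ = d * (d * y) * y := by rw [hc.eq]
      _ = (d * d) * (y * y) := by group
      _ = 1 := by rw [tt_sq hT hd, tt_sq hT hy, one_mul]
  have h1 := eq_one_of_sq_of_isPGroup3 (Cfsg.Agent.Lib.Helper84.pCore_isPGroup 3 G) hmem h2
  apply hyd
  have : y = d⁻¹ := eq_inv_of_mul_eq_one_right h1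
  rw [this, tt_inv hT hd]

include hT in
theorem sym_step {d w y : G} (hd : d ∈ D) (hw : w ∈ D) (hy : y ∈ D) (hO : d * w ∈ pCore 3 G)
    (hyd : y ≠ d) (hc : Commute d y) : y ≠ w ∧ Commute w y := by
  haveI : Fact (Nat.Prime 3) := ⟨by norm_num⟩
  haveI hON : (pCore 3 G).Normal := Cfsg.Agent.Lib.Helper84.pCore_normal 3 G
  have hnot := comm_mul_not_mem hT hd hy hyd hc
  constructor
  · intro h
    apply hnot
    rw [h]; exact hO
  · rcases hT.2 w hw y hy with h | h
    · exact tt_commute_of_sq hT hw hy (by rw [← pow_two]; exact h)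
    · exfalso
      apply hnot
      rw [← QuotientGroup.eq_one_iff]
      have e1 : ((d * w : G) : G ⧸ pCore 3 G) = 1 := (QuotientGroup.eq_one_iff _).mpr hO
      have e2 : ((w : G) : G ⧸ pCore 3 G) = ((d : G) : G ⧸ pCore 3 G) := by
        rw [QuotientGroup.mk_mul] at e1
        have : ((w : G) : G ⧸ pCore 3 G) = ((d : G) : G ⧸ pCore 3 G)⁻¹ := eq_inv_of_mul_eq_one_right e1
        rw [this, ← QuotientGroup.mk_inv, tt_inv hT hd]
      have e3 : ((d * y : G) : G ⧸ pCore 3 G) ^ 3 = 1 := by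
        rw [QuotientGroup.mk_mul, ← e2, ← QuotientGroup.mk_mul, ← QuotientGroup.mk_pow, h]
        rfl
      have e4 : ((d * y : G) : G ⧸ pCore 3 G) ^ 2 = 1 := by
        rw [← QuotientGroup.mk_pow]
        have h2 : (d * y) ^ 2 = 1 := by
          rw [pow_two]
          calc (d * y) * (d * y) = d * (y * d) * y := by group
            _ = d * (d * y) * y := by rw [hc.eq]
            _ = (d * d) * (y * y) := by group
            _ = 1 := by rw [tt_sq hT hd, tt_sq hT hy, one_mul]
        rw [h2]; rfl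
      have : ((d * y : G) : G ⧸ pCore 3 G) ^ 3 = ((d * y : G) : G ⧸ pCore 3 G) ^ 2 * ((d * y : G) : G ⧸ pCore 3 G) :=
        pow_succ _ 2
      rw [e3, e4, one_mul] at this
      exact this.symm

variable (hconj : ∀ g : G, ∀ d ∈ D, g * d * g⁻¹ ∈ D)

include hT hconj in
/-- members with the same commuting partners are exactly those congruent modulo the largest normal 3-subgroup -/
theorem th_iff_pCore {d w : G} (hd : d ∈ D) (hw : w ∈ D) : Th D d w ↔ d⁻¹ * w ∈ pCore 3 G := by
  rw [tt_inv hT hd]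
  constructor
  · intro h
    exact th_mul_mem_pCore hT hconj hd hw h
  · intro hO z hz
    have hO' : w * d ∈ pCore 3 G := by
      have := Subgroup.inv_mem _ hO
      rwa [mul_inv_rev, tt_inv hT hd, tt_inv hT hw] at this
    constructor
    · rintro ⟨h1, h2⟩
      exact sym_step hT hd hw hz hO h1 h2
    · rintro ⟨h1, h2⟩
      exact sym_step hT hw hd hz hO' h1 h2

include hT hconj in
/-- members congruent to `d` modulo the largest normal 3-subgroup are its conjugates under that subgroup -/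
theorem pCore_coset_iff_orbit {d w : G} (hd : d ∈ D) :
    (w ∈ D ∧ d⁻¹ * w ∈ pCore 3 G) ↔ ∃ g ∈ pCore 3 G, w = g * d * g⁻¹ := by
  haveI : Fact (Nat.Prime 3) := ⟨by norm_num⟩
  haveI hON : (pCore 3 G).Normal := Cfsg.Agent.Lib.Helper84.pCore_normal 3 G
  have hOp := Cfsg.Agent.Lib.Helper84.pCore_isPGroup 3 G
  constructor
  · rintro ⟨hw, hO⟩
    rw [tt_inv hT hd] at hO
    obtain ⟨o, ho⟩ : ∃ o, o = d * w := ⟨_, rfl⟩
    rw [← ho] at hO
    -- d inverts o
    have hdo : d * o * d = o⁻¹ := by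
      rw [ho, mul_inv_rev, tt_inv hT hd, tt_inv hT hw, ← mul_assoc, tt_sq hT hd, one_mul]
    have hdpow : ∀ n : ℕ, d * o ^ n * d = (o ^ n)⁻¹ := by
      intro n
      induction n with
      | zero => simp [tt_sq hT hd]
      | succ n ih =>
        calc d * o ^ (n + 1) * d = d * (o ^ n * o) * d := by rw [pow_succ]
          _ = (d * o ^ n * d) * (d * o * d) := by
            have : (d * o ^ n * d) * (d * o * d) = d * o ^ n * (d * d) * o * d := by group
            rw [this, tt_sq hT hd]; group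
          _ = (o ^ n)⁻¹ * o⁻¹ := by rw [ih, hdo]
          _ = (o ^ (n + 1))⁻¹ := by
            rw [pow_succ', mul_inv_rev]
    -- odd order
    obtain ⟨k, hk⟩ := hOp ⟨o, hO⟩
    have hk' : o ^ (3 ^ k) = 1 := by
      have := congrArg Subtype.val hk
      simpa using this
    have hodd : Odd (3 ^ k) := Odd.pow (by decide)
    obtain ⟨m, hm⟩ := hodd
    set s := o ^ (m + 1) with hs
    have hss : s * s = o := by
      rw [hs, ← pow_add]
      have : m + 1 + (m + 1) = 3 ^ k + 1 := by omega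
      rw [this, pow_succ, hk', one_mul]
    have hsO : s ∈ pCore 3 G := Subgroup.pow_mem _ hO _
    refine ⟨s⁻¹, Subgroup.inv_mem _ hsO, ?_⟩
    rw [inv_inv]
    have hds : d * s * d = s⁻¹ := hdpow (m + 1)
    have hw' : w = d * o := by rw [ho, ← mul_assoc, tt_sq hT hd, one_mul]
    rw [hw', ← hss]
    have : s⁻¹ * d * s = d * (d * s * d)⁻¹ * s := by
      rw [mul_inv_rev, mul_inv_rev, tt_inv hT hd]
      have : d * (d * (s⁻¹ * d)) * s = (d * d) * s⁻¹ * d * s := by group
      rw [this, tt_sq hT hd, one_mul]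
    rw [this, hds, inv_inv]; group
  · rintro ⟨g, hg, rfl⟩
    refine ⟨hconj g d hd, ?_⟩
    have h1 : d⁻¹ * g * d⁻¹⁻¹ ∈ pCore 3 G := hON.conj_mem g hg d⁻¹
    have : d⁻¹ * (g * d * g⁻¹) = (d⁻¹ * g * d⁻¹⁻¹) * g⁻¹ := by group
    rw [this]
    exact Subgroup.mul_mem _ h1 (Subgroup.inv_mem _ hg)

end F

end Cfsg.Agent.Lib.Helper46
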