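import Cfsg.Agent.Lib.Helper46.TTP3
import Cfsg.Agent.S5350

set_option autoImplicit false
set_option linter.all false

namespace Cfsg.Agent.Lib.Helper46

open Cfsg

universe u

variable {G : Type u} [Group G] {D : Set G}

/-- the members of `D` in a coset of a normal subgroup form a block -/
theorem coset_block_dichotomy (hconj : ∀ g : G, ∀ x ∈ D, g * x * g⁻¹ ∈ D) (N : Subgroup G)
    [hN : N.Normal] (d : G) (g : G) :
    cj g {v | v ∈ D ∧ d⁻¹ * v ∈ N} = {v | v ∈ D ∧ d⁻¹ * v ∈ N} ∨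
      Disjoint (cj g {v | v ∈ D ∧ d⁻¹ * v ∈ N}) {v | v ∈ D ∧ d⁻¹ * v ∈ N} := by
  by_cases h : ∃ x, x ∈ cj g {v | v ∈ D ∧ d⁻¹ * v ∈ N} ∧ x ∈ {v | v ∈ D ∧ d⁻¹ * v ∈ N}
  · left
    obtain ⟨x, hx1, hx2⟩ := h
    rw [mem_cj] at hx1
    obtain ⟨hx1D, hx1N⟩ := hx1
    obtain ⟨hx2D, hx2N⟩ := hx2
    ext y
    rw [mem_cj]
    constructor
    · rintro ⟨hyD, hyN⟩
      refine ⟨?_, ?_⟩
      · have := hconj g _ hyD
        have e : g * (g⁻¹ * y * g) * g⁻¹ = y := by group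
        rwa [e] at this
      · have e : d⁻¹ * y = (d⁻¹ * x) * (g * ((d⁻¹ * (g⁻¹ * x * g))⁻¹ * (d⁻¹ * (g⁻¹ * y * g))) * g⁻¹) := by
          group
        rw [e]
        exact Subgroup.mul_mem _ hx2N (hN.conj_mem _
          (Subgroup.mul_mem _ (Subgroup.inv_mem _ hx1N) hyN) g)
    · rintro ⟨hyD, hyN⟩
      refine ⟨?_, ?_⟩
      · have := hconj g⁻¹ _ hyD
        rwa [inv_inv] at this
      · have e : d⁻¹ * (g⁻¹ * y * g) = (d⁻¹ * (g⁻¹ * x * g)) * (g⁻¹ * ((d⁻¹ * x)⁻¹ * (d⁻¹ * y)) * g⁻¹⁻¹) := by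
          group
        rw [e]
        exact Subgroup.mul_mem _ hx1N (hN.conj_mem _
          (Subgroup.mul_mem _ (Subgroup.inv_mem _ hx2N) hyN) g⁻¹)
  · right
    rw [Set.disjoint_left]
    intro x hx1 hx2
    exact h ⟨x, hx1, hx2⟩

/-- primitivity and trivial centre: the largest normal 2-subgroup is trivial -/
theorem pCore_two_eq_bot_of_primitive [Finite G] (hD : IsThreeTranspositionClass D)
    (hZ : Subgroup.center G = ⊥) (hP : IsPrimitiveUnderConj D) : pCore 2 G = ⊥ := by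
  have hT := hD.1
  have hD2 := hP.2.1
  haveI hN : (pCore 2 G).Normal := Cfsg.Agent.Lib.Helper84.pCore_normal 2 G
  rw [eq_bot_iff, ← hZ]
  intro g hg
  apply mem_center_of_commute_gen hD.2.2
  intro d hd
  obtain ⟨h1, h2⟩ := Cfsg.Agent.S5349.result hD hD2 hd
  have hdB : d ∈ {v : G | v ∈ D ∧ d⁻¹ * v ∈ pCore 2 G} := ⟨hd, by simp [Subgroup.one_mem]⟩
  rcases hP.2.2 {v : G | v ∈ D ∧ d⁻¹ * v ∈ pCore 2 G} (fun v hv => hv.1)
    (fun g => coset_block_dichotomy (class_conj hD) (pCore 2 G) d g) with hs | hs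
  · have hgd : g * d * g⁻¹ ∈ {v : G | v ∈ D ∧ d⁻¹ * v ∈ pCore 2 G} := by
      rw [← h1, h2]
      exact ⟨g, hg, rfl⟩
    have := hs hgd hdB
    show d * g = g * d
    calc d * g = (g * d * g⁻¹) * g := by rw [this]
      _ = g * d := by group
  · exfalso
    have hall : ∀ v ∈ D, Commute v d := by
      intro v hv
      have : v ∈ {v : G | v ∈ D ∧ ∀ e ∈ D, Commute v e ↔ Commute d e} := by
        rw [h1, hs]; exact hv
      exact (this.2 d hd).mpr (Commute.refl d)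
    have hcen := mem_center_of_commute_gen hD.2.2 hall
    rw [hZ, Subgroup.mem_bot] at hcen
    exact tt_ne_one hT hd hcen

/-- primitivity, trivial centre and width at least two: the largest normal 3-subgroup is trivial -/
theorem pCore_three_eq_bot_of_primitive [Finite G] (hD : IsThreeTranspositionClass D)
    (hZ : Subgroup.center G = ⊥) (hw : ∃ a ∈ D, ∃ b ∈ D, a ≠ b ∧ Commute a b)
    (hP : IsPrimitiveUnderConj D) : pCore 3 G = ⊥ := by
  haveI : Fact (Nat.Prime 3) := ⟨by norm_num⟩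
  have hT := hD.1
  have hD2 := hP.2.1
  haveI hN : (pCore 3 G).Normal := Cfsg.Agent.Lib.Helper84.pCore_normal 3 G
  have hOp := Cfsg.Agent.Lib.Helper84.pCore_isPGroup 3 G
  rw [eq_bot_iff, ← hZ]
  intro g hg
  apply mem_center_of_commute_gen hD.2.2
  intro d hd
  obtain ⟨h1, h2⟩ := Cfsg.Agent.S5350.result hD hD2 hd
  have hdB : d ∈ {v : G | v ∈ D ∧ d⁻¹ * v ∈ pCore 3 G} := ⟨hd, by simp [Subgroup.one_mem]⟩
  rcases hP.2.2 {v : G | v ∈ D ∧ d⁻¹ * v ∈ pCore 3 G} (fun v hv => hv.1)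
    (fun g => coset_block_dichotomy (class_conj hD) (pCore 3 G) d g) with hs | hs
  · have hgd : g * d * g⁻¹ ∈ {v : G | v ∈ D ∧ d⁻¹ * v ∈ pCore 3 G} := by
      rw [← h1, h2]
      exact ⟨g, hg, rfl⟩
    have := hs hgd hdB
    show d * g = g * d
    calc d * g = (g * d * g⁻¹) * g := by rw [this]
      _ = g * d := by group
  · exfalso
    obtain ⟨a, ha, b, hb, hne, hc⟩ := hw
    have haB : a ∈ {v : G | v ∈ D ∧ d⁻¹ * v ∈ pCore 3 G} := by rw [hs]; exact ha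
    have hbB : b ∈ {v : G | v ∈ D ∧ d⁻¹ * v ∈ pCore 3 G} := by rw [hs]; exact hb
    have hab : a⁻¹ * b ∈ pCore 3 G := by
      have e : a⁻¹ * b = (d⁻¹ * a)⁻¹ * (d⁻¹ * b) := by group
      rw [e]
      exact Subgroup.mul_mem _ (Subgroup.inv_mem _ haB.2) hbB.2
    have h2' : (a⁻¹ * b) ^ 2 = 1 := by
      rw [tt_inv hT ha, hc.mul_pow, pow_two, pow_two, tt_sq hT ha, tt_sq hT hb, one_mul]
    have h3 := eq_one_of_sq_of_isPGroup3 hOp hab h2'
    apply hne
    have : a⁻¹ = b⁻¹ := eq_inv_of_mul_eq_one_left h3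
    exact inv_injective this

end Cfsg.Agent.Lib.Helper46
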