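import Cfsg.Agent.Lib.Helper46.TTQ1

set_option autoImplicit false
set_option linter.all false

namespace Cfsg.Agent.Lib.Helper46

open Cfsg

universe u

variable {G : Type u} [Group G] {D : Set G}

/-- conjugation as a homomorphism of the commuting graph -/
def conjHom (hconj : ∀ g : G, ∀ x ∈ D, g * x * g⁻¹ ∈ D) (g : G) :
    commutingGraph D →g commutingGraph D where
  toFun := fun x => ⟨g * x.1 * g⁻¹, hconj g x.1 x.2⟩
  map_rel' := by
    intro x y hxy
    unfold commutingGraph at hxy ⊢
    rw [SimpleGraph.fromRel_adj] at hxy ⊢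
    obtain ⟨hne, hc⟩ := hxy
    have hc' : Commute (x : G) (y : G) := by
      rcases hc with h | h
      · exact h
      · exact h.symm
    refine ⟨?_, Or.inl ?_⟩
    · intro h
      apply hne
      apply Subtype.ext
      have := congrArg Subtype.val h
      simpa using this
    · show g * x.1 * g⁻¹ * (g * y.1 * g⁻¹) = g * y.1 * g⁻¹ * (g * x.1 * g⁻¹)
      have h1 : (x : G) * (y : G) = (y : G) * (x : G) := hc'.eq
      calc g * x.1 * g⁻¹ * (g * y.1 * g⁻¹) = g * (x.1 * y.1) * g⁻¹ := by group
        _ = g * (y.1 * x.1) * g⁻¹ := by rw [h1]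
        _ = _ := by group

/-- primitivity and width at least two: the commuting graph is connected -/
theorem connected_of_primitive (hD : IsThreeTranspositionClass D)
    (hw : ∃ a ∈ D, ∃ b ∈ D, a ≠ b ∧ Commute a b) (hP : IsPrimitiveUnderConj D) :
    (commutingGraph D).Connected := by
  have hconj := class_conj hD
  obtain ⟨a, ha, b, hb, hne, hc⟩ := hw
  obtain ⟨B, hB⟩ : ∃ B : Set G, B = {x | ∃ hx : x ∈ D, (commutingGraph D).Reachable ⟨a, ha⟩ ⟨x, hx⟩} :=
    ⟨_, rfl⟩
  have haB : a ∈ B := by rw [hB]; exact ⟨ha, SimpleGraph.Reachable.refl _⟩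
  have hbB : b ∈ B := by
    rw [hB]
    refine ⟨hb, SimpleGraph.Adj.reachable ?_⟩
    unfold commutingGraph
    rw [SimpleGraph.fromRel_adj]
    refine ⟨?_, Or.inl hc⟩
    intro h
    exact hne (congrArg Subtype.val h)
  have hBD : B ⊆ D := by
    rw [hB]
    rintro x ⟨hx, _⟩
    exact hx
  have hblk : ∀ g : G, cj g B = B ∨ Disjoint (cj g B) B := by
    intro g
    by_cases h : ∃ x, x ∈ cj g B ∧ x ∈ B
    · left
      obtain ⟨x, hx1, hx2⟩ := h
      rw [mem_cj, hB] at hx1
      rw [hB] at hx2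
      obtain ⟨hx1D, hx1R⟩ := hx1
      obtain ⟨hx2D, hx2R⟩ := hx2
      -- `a` is joined to its conjugate by `g`
      have h1 := hx1R.map (conjHom hconj g)
      have e1 : (conjHom hconj g) ⟨g⁻¹ * x * g, hx1D⟩ = ⟨x, hx2D⟩ := by
        apply Subtype.ext
        show g * (g⁻¹ * x * g) * g⁻¹ = x
        group
      rw [e1] at h1
      have hag : (commutingGraph D).Reachable ⟨a, ha⟩ ((conjHom hconj g) ⟨a, ha⟩) :=
        hx2R.trans h1.symm
      ext y
      rw [mem_cj, hB]
      constructor
      · rintro ⟨hyD, hyR⟩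
        have hyD' : y ∈ D := by
          have := hconj g _ hyD
          have e : g * (g⁻¹ * y * g) * g⁻¹ = y := by group
          rwa [e] at this
        refine ⟨hyD', ?_⟩
        have h2 := hyR.map (conjHom hconj g)
        have e2 : (conjHom hconj g) ⟨g⁻¹ * y * g, hyD⟩ = ⟨y, hyD'⟩ := by
          apply Subtype.ext
          show g * (g⁻¹ * y * g) * g⁻¹ = y
          group
        rw [e2] at h2
        exact hag.trans h2
      · rintro ⟨hyD, hyR⟩
        have hyD' : g⁻¹ * y * g ∈ D := by
          have := hconj g⁻¹ _ hyD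
          rwa [inv_inv] at this
        refine ⟨hyD', ?_⟩
        have h2 := (hag.symm.trans hyR).map (conjHom hconj g⁻¹)
        have e2 : (conjHom hconj g⁻¹) ((conjHom hconj g) ⟨a, ha⟩) = ⟨a, ha⟩ := by
          apply Subtype.ext
          show g⁻¹ * (g * a * g⁻¹) * g⁻¹⁻¹ = a
          group
        have e3 : (conjHom hconj g⁻¹) ⟨y, hyD⟩ = ⟨g⁻¹ * y * g, hyD'⟩ := by
          apply Subtype.ext
          show g⁻¹ * y * g⁻¹⁻¹ = g⁻¹ * y * g
          rw [inv_inv]
        rw [e2, e3] at h2
        exact h2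
    · right
      rw [Set.disjoint_left]
      intro x hx1 hx2
      exact h ⟨x, hx1, hx2⟩
  rcases hP.2.2 B hBD hblk with hs | hs
  · exact absurd (hs haB hbB) hne
  · rw [SimpleGraph.connected_iff]
    refine ⟨?_, ⟨⟨a, ha⟩⟩⟩
    have hall : ∀ u : D, (commutingGraph D).Reachable ⟨a, ha⟩ u := by
      intro u
      have : (u : G) ∈ B := by rw [hs]; exact u.2
      rw [hB] at this
      obtain ⟨_, hr⟩ := this
      exact hr
    intro u v
    exact (hall u).symm.trans (hall v)

end Cfsg.Agent.Lib.Helper46
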