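import Cfsg.Agent.Lib.Helper46.Width1
import Cfsg.Agent.Lib.Helper46.TCc
import Cfsg.Agent.Lib.Helper46.M4Chk
import Cfsg.Agent.Lib.Helper46.P3Chk

set_option autoImplicit false
set_option linter.all false

namespace Cfsg.Agent.Lib.Helper46

open Cfsg TCa

variable {G : Type*} [Group G] {D : Set G}

/-- `a` and `b` have the same commuting partners in `D` (other than themselves) -/
def Th (D : Set G) (a b : G) : Prop :=
  ∀ z ∈ D, (z ≠ a ∧ Commute a z) ↔ (z ≠ b ∧ Commute b z)

theorem th_refl (a : G) : Th D a a := fun _ _ => Iff.rfl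

theorem th_symm {a b : G} (h : Th D a b) : Th D b a := fun z hz => (h z hz).symm

theorem th_trans {a b c : G} (h1 : Th D a b) (h2 : Th D b c) : Th D a c :=
  fun z hz => (h1 z hz).trans (h2 z hz)

theorem conj_ne_comm (g a z : G) :
    (z ≠ g * a * g⁻¹ ∧ Commute (g * a * g⁻¹) z) ↔ (g⁻¹ * z * g ≠ a ∧ Commute a (g⁻¹ * z * g)) := by
  have e1 : z = g * a * g⁻¹ ↔ g⁻¹ * z * g = a := by
    constructor
    · intro h; rw [h]; group
    · intro h; rw [← h]; group
  have e2 : Commute (g * a * g⁻¹) z ↔ Commute a (g⁻¹ * z * g) := by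
    have hz : z = g * (g⁻¹ * z * g) * g⁻¹ := by group
    constructor
    · intro hc
      rw [hz] at hc
      exact (Commute.conj_iff g).mp hc
    · intro hc
      rw [hz]
      exact (Commute.conj_iff g).mpr hc
  rw [ne_eq, ne_eq, e1, e2]

theorem th_conj (hconj : ∀ g : G, ∀ d ∈ D, g * d * g⁻¹ ∈ D) {a b : G} (h : Th D a b) (g : G) :
    Th D (g * a * g⁻¹) (g * b * g⁻¹) := by
  intro z hz
  rw [conj_ne_comm, conj_ne_comm]
  apply h
  have := hconj g⁻¹ z hz
  rwa [inv_inv] at this

theorem th_ncomm {a b : G} (h : Th D a b) (hb : b ∈ D) (hne : a ≠ b) : ¬ Commute a b := by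
  intro hc
  have := (h b hb).mp ⟨hne.symm, hc⟩
  exact this.1 rfl

theorem th_comm_iff {a b z : G} (h : Th D a b) (hz : z ∈ D) (hza : z ≠ a) (hzb : z ≠ b) :
    Commute a z ↔ Commute b z := by
  constructor
  · intro hc; exact ((h z hz).mp ⟨hza, hc⟩).2
  · intro hc; exact ((h z hz).mpr ⟨hzb, hc⟩).2

section TT

variable (hT : IsThreeTranspositionSet D) (hconj : ∀ g : G, ∀ d ∈ D, g * d * g⁻¹ ∈ D)

include hT in
theorem tt_cube_of_ncomm {x y : G} (hx : x ∈ D) (hy : y ∈ D) (h : ¬ Commute x y) : (x * y) ^ 3 = 1 := by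
  rcases hT.2 x hx y hy with h2 | h3
  · exfalso
    apply h
    show x * y = y * x
    have h1 : x * y * (x * y) = 1 := by rw [← pow_two]; exact h2
    have h2 : x * y = (x * y)⁻¹ := eq_inv_of_mul_eq_one_left h1
    rw [h2, mul_inv_rev, tt_inv hT hx, tt_inv hT hy]
  · exact h3

include hT in
theorem tt_commute_of_sq {x y : G} (hx : x ∈ D) (hy : y ∈ D) (h : (x * y) * (x * y) = 1) : Commute x y := by
  show x * y = y * x
  have h2 : x * y = (x * y)⁻¹ := eq_inv_of_mul_eq_one_left h
  rw [h2, mul_inv_rev, tt_inv hT hx, tt_inv hT hy]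

include hT hconj in
theorem tt_conj_mem {x y : G} (hx : x ∈ D) (hy : y ∈ D) : y * x * y ∈ D := by
  have := hconj y x hx
  rwa [tt_inv hT hy] at this

include hT hconj in
/-- conjugating a member of a class by another member of the class stays in the class -/
theorem th_conj_self {a b : G} (h : Th D a b) (hb : b ∈ D) : Th D (b * a * b) a := by
  have h1 := th_conj hconj h b
  rw [tt_inv hT hb] at h1
  have h2 : b * b * b = b := by rw [tt_sq hT hb, one_mul]
  rw [h2] at h1
  exact th_trans h1 (th_symm h)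

include hT hconj in
/-- relator 7: `u` does not commute with `v e v` -/
theorem rel7 {u v e : G} (hu : u ∈ D) (hv : v ∈ D) (he : e ∈ D) (hth : Th D u v)
    (hne : ¬ Th D e u) (hcev : ¬ Commute e v) : ¬ Commute u (v * e * v) := by
  intro hc
  have hz : v * e * v ∈ D := tt_conj_mem hT hconj he hv
  have hzu : v * e * v ≠ u := by
    intro h
    apply hne
    have : e = v * u * v := by
      rw [← h]
      calc e = (v * v) * e * (v * v) := by rw [tt_sq hT hv, one_mul, mul_one]
        _ = v * (v * e * v) * v := by group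
    rw [this]
    exact th_conj_self hT hconj hth hv
  have hzv : v * e * v ≠ v := by
    intro h
    apply hcev
    have : e = v := by
      calc e = (v * v) * e * (v * v) := by rw [tt_sq hT hv, one_mul, mul_one]
        _ = v * (v * e * v) * v := by group
        _ = v := by rw [h, tt_sq hT hv, one_mul]
    rw [this]
  have h2 := (th_comm_iff hth hz hzu hzv).mp hc
  apply hcev
  have h3 : Commute (v * v * v) (v * e * v) := by
    rw [tt_sq hT hv, one_mul]; exact h2
  have h4 : v * v * v = v * v * v⁻¹ := by rw [tt_inv hT hv]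
  have h5 : v * e * v = v * e * v⁻¹ := by rw [tt_inv hT hv]
  rw [h4, h5] at h3
  exact ((Commute.conj_iff v).mp h3).symm

include hT in
/-- in `S₄`: `y u e u y` commutes with `u` -/
theorem s4_comm {e u y : G} (he : e ∈ D) (hu : u ∈ D) (hy : y ∈ D) (hey : Commute e y)
    (huy : (u * y) ^ 3 = 1) : Commute u (y * u * e * u * y) := by
  have hbr : u * y * u = y * u * y := by
    have h := huy
    rw [pow_succ, pow_two] at h
    have h1 : (u * y * u) * (y * u * y) = 1 := by
      calc (u * y * u) * (y * u * y) = u * y * (u * y) * (u * y) := by group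
        _ = 1 := h
    rw [mul_eq_one_iff_eq_inv.mp h1, mul_inv_rev, mul_inv_rev, tt_inv hT hu, tt_inv hT hy, mul_assoc]
  have hyey : y * e * y = e := by
    rw [← hey.eq, mul_assoc, tt_sq hT hy, mul_one]
  have hz : u * (y * u * e * u * y) * u = y * u * e * u * y := by
    calc u * (y * u * e * u * y) * u = (u * y * u) * e * (u * y * u) := by group
      _ = (y * u * y) * e * (y * u * y) := by rw [hbr]
      _ = y * u * (y * e * y) * u * y := by group
      _ = y * u * e * u * y := by rw [hyey]
  show u * (y * u * e * u * y) = (y * u * e * u * y) * u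
  calc u * (y * u * e * u * y) = u * (y * u * e * u * y) * (u * u) := by rw [tt_sq hT hu, mul_one]
    _ = (u * (y * u * e * u * y) * u) * u := by group
    _ = (y * u * e * u * y) * u := by rw [hz]

include hT hconj in
/-- relator 9: `v` commutes with `y u e u y` -/
theorem rel9 {u v e y : G} (hu : u ∈ D) (hv : v ∈ D) (he : e ∈ D) (hy : y ∈ D) (hth : Th D u v)
    (huv : ¬ Commute u v) (hey : Commute e y) (hney : e ≠ y) (huy : ¬ Commute u y) :
    Commute v (y * u * e * u * y) := by
  have hzD : y * u * e * u * y ∈ D := by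
    have := hconj (y * u) e he
    rw [mul_inv_rev, tt_inv hT hu, tt_inv hT hy] at this
    have h2 : y * u * e * (u * y) = y * u * e * u * y := by group
    rwa [h2] at this
  have hcube := tt_cube_of_ncomm hT hu hy huy
  have hcu : Commute u (y * u * e * u * y) := s4_comm hT he hu hy hey hcube
  have hbr : u * y * u = y * u * y := by
    have h := hcube
    rw [pow_succ, pow_two] at h
    have h1 : (u * y * u) * (y * u * y) = 1 := by
      calc (u * y * u) * (y * u * y) = u * y * (u * y) * (u * y) := by group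
        _ = 1 := h
    rw [mul_eq_one_iff_eq_inv.mp h1, mul_inv_rev, mul_inv_rev, tt_inv hT hu, tt_inv hT hy, mul_assoc]
  have hzu : y * u * e * u * y ≠ u := by
    intro h
    apply hney
    have h1 : e = u⁻¹ * y⁻¹ * (y * u * e * u * y) * y⁻¹ * u⁻¹ := by group
    rw [h, tt_inv hT hu, tt_inv hT hy] at h1
    rw [h1]
    calc u * y * u * y * u = (u * y * u) * (y * u) := by group
      _ = (y * u * y) * (y * u) := by rw [hbr]
      _ = y * u * (y * y) * u := by group
      _ = y := by rw [tt_sq hT hy, mul_one, mul_assoc, tt_sq hT hu, mul_one]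
  have hzv : y * u * e * u * y ≠ v := by
    intro h
    apply huv
    rw [← h]; exact hcu
  exact (th_comm_iff hth hzD hzu hzv).mp hcu

end TT

def gam4 (e u v y : G) : Nat → G :=
  fun i => if i = 0 then e else if i = 1 then u else if i = 2 then v else y

theorem gam4_0 (e u v y : G) : gam4 e u v y 0 = e := rfl
theorem gam4_1 (e u v y : G) : gam4 e u v y 1 = u := rfl
theorem gam4_2 (e u v y : G) : gam4 e u v y 2 = v := rfl
theorem gam4_3 (e u v y : G) : gam4 e u v y 3 = y := rfl

def gam3 (e u v : G) : Nat → G :=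
  fun i => if i = 0 then e else if i = 1 then u else v

theorem gam3_0 (e u v : G) : gam3 e u v 0 = e := rfl
theorem gam3_1 (e u v : G) : gam3 e u v 1 = u := rfl
theorem gam3_2 (e u v : G) : gam3 e u v 2 = v := rfl

section Steps

variable (hT : IsThreeTranspositionSet D) (hconj : ∀ g : G, ∀ d ∈ D, g * d * g⁻¹ ∈ D)

include hT hconj in
theorem m_step {u v e y : G} (hu : u ∈ D) (hv : v ∈ D) (he : e ∈ D) (hy : y ∈ D)
    (huv : u ≠ v) (hth : Th D u v) (hne : ¬ Th D e u) (hey : Commute e y) (hney : e ≠ y)
    (hceu : ¬ Commute e u) (hcyu : ¬ Commute y u) : Commute e (u * v * y * v * u) := by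
  have hncuv : ¬ Commute u v := th_ncomm hth hv huv
  have heu : e ≠ u := fun h => hceu (h ▸ Commute.refl _)
  have hev : e ≠ v := fun h => hne (h ▸ th_symm hth)
  have hcev : ¬ Commute e v := fun hc =>
    hceu ((th_comm_iff hth he heu hev).mpr hc.symm).symm
  have hny : ¬ Th D y u := by
    intro h
    have := (th_comm_iff h he hney heu).mp hey.symm
    exact hceu this.symm
  have hyu : y ≠ u := fun h => hcyu (h ▸ Commute.refl _)
  have hyv : y ≠ v := fun h => hny (h ▸ th_symm hth)
  have hcyv : ¬ Commute y v := fun hc =>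
    hcyu ((th_comm_iff hth hy hyu hyv).mpr hc.symm).symm
  have p1 : (e * y) * (e * y) = 1 := by
    calc (e * y) * (e * y) = e * (y * e) * y := by group
      _ = e * (e * y) * y := by rw [hey.eq]
      _ = (e * e) * (y * y) := by group
      _ = 1 := by rw [tt_sq hT he, tt_sq hT hy, one_mul]
  have p2 := tt_cube_of_ncomm hT he hu hceu
  have p3 := tt_cube_of_ncomm hT hu hy (fun h => hcyu h.symm)
  have p4 := tt_cube_of_ncomm hT he hv hcev
  have p5 := tt_cube_of_ncomm hT hv hy (fun h => hcyv h.symm)
  have p6 := tt_cube_of_ncomm hT hu hv hncuv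
  have p7 := tt_cube_of_ncomm hT hu (tt_conj_mem hT hconj he hv) (rel7 hT hconj hu hv he hth hne hcev)
  have p8 := tt_cube_of_ncomm hT hu (tt_conj_mem hT hconj hy hv) (rel7 hT hconj hu hv hy hth hny hcyv)
  have c9 := rel9 hT hconj hu hv he hy hth hncuv hey hney (fun h => hcyu h.symm)
  have c10 := rel9 hT hconj hv hu he hy (th_symm hth) (fun h => hncuv h.symm) hey hney
    (fun h => hcyv h.symm)
  have hz9 : y * u * e * u * y ∈ D := by
    have := hconj (y * u) e he
    rw [mul_inv_rev, tt_inv hT hu, tt_inv hT hy] at this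
    have h2 : y * u * e * (u * y) = y * u * e * u * y := by group
    rwa [h2] at this
  have hz10 : y * v * e * v * y ∈ D := by
    have := hconj (y * v) e he
    rw [mul_inv_rev, tt_inv hT hv, tt_inv hT hy] at this
    have h2 : y * v * e * (v * y) = y * v * e * v * y := by group
    rwa [h2] at this
  have p9 : (y * u * e * u * y * v) * (y * u * e * u * y * v) = 1 := by
    calc (y * u * e * u * y * v) * (y * u * e * u * y * v)
        = (y * u * e * u * y) * (v * (y * u * e * u * y)) * v := by group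
      _ = (y * u * e * u * y) * ((y * u * e * u * y) * v) * v := by rw [c9.eq]
      _ = ((y * u * e * u * y) * (y * u * e * u * y)) * (v * v) := by group
      _ = 1 := by rw [tt_sq hT hz9, tt_sq hT hv, one_mul]
  have p10 : (y * v * e * v * y * u) * (y * v * e * v * y * u) = 1 := by
    calc (y * v * e * v * y * u) * (y * v * e * v * y * u)
        = (y * v * e * v * y) * (u * (y * v * e * v * y)) * u := by group
      _ = (y * v * e * v * y) * ((y * v * e * v * y) * u) * u := by rw [c10.eq]
      _ = ((y * v * e * v * y) * (y * v * e * v * y)) * (u * u) := by group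
      _ = 1 := by rw [tt_sq hT hz10, tt_sq hT hu, one_mul]
  have hinv : ∀ g, g < M4Data.cert.k → gam4 e u v y g * gam4 e u v y g = 1 := by
    intro g hg
    have hg' : g < 4 := hg
    interval_cases g
    · exact tt_sq hT he
    · exact tt_sq hT hu
    · exact tt_sq hT hv
    · exact tt_sq hT hy
  have hrels : ∀ w ∈ M4Data.cert.rels, evw (gam4 e u v y) w = 1 := by
    intro w hw
    have hl : M4Data.cert.rels = [[0, 3, 0, 3], [0, 1, 0, 1, 0, 1], [1, 3, 1, 3, 1, 3],
      [0, 2, 0, 2, 0, 2], [2, 3, 2, 3, 2, 3], [1, 2, 1, 2, 1, 2],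
      [1, 2, 0, 2, 1, 2, 0, 2, 1, 2, 0, 2], [1, 2, 3, 2, 1, 2, 3, 2, 1, 2, 3, 2],
      [3, 1, 0, 1, 3, 2, 3, 1, 0, 1, 3, 2], [3, 2, 0, 2, 3, 1, 3, 2, 0, 2, 3, 1]] := rfl
    rw [hl] at hw
    simp only [List.mem_cons, List.not_mem_nil, or_false] at hw
    rcases hw with rfl | rfl | rfl | rfl | rfl | rfl | rfl | rfl | rfl | rfl
    · simp only [evw, gam4_0, gam4_1, gam4_2, gam4_3, mul_one]
      simp only [mul_assoc] at p1 ⊢; exact p1
    · simp only [evw, gam4_0, gam4_1, gam4_2, gam4_3, mul_one]
      simp only [pow_succ, pow_zero, one_mul, mul_assoc] at p2 ⊢; exact p2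
    · simp only [evw, gam4_0, gam4_1, gam4_2, gam4_3, mul_one]
      simp only [pow_succ, pow_zero, one_mul, mul_assoc] at p3 ⊢; exact p3
    · simp only [evw, gam4_0, gam4_1, gam4_2, gam4_3, mul_one]
      simp only [pow_succ, pow_zero, one_mul, mul_assoc] at p4 ⊢; exact p4
    · simp only [evw, gam4_0, gam4_1, gam4_2, gam4_3, mul_one]
      simp only [pow_succ, pow_zero, one_mul, mul_assoc] at p5 ⊢; exact p5
    · simp only [evw, gam4_0, gam4_1, gam4_2, gam4_3, mul_one]
      simp only [pow_succ, pow_zero, one_mul, mul_assoc] at p6 ⊢; exact p6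
    · simp only [evw, gam4_0, gam4_1, gam4_2, gam4_3, mul_one]
      simp only [pow_succ, pow_zero, one_mul, mul_assoc] at p7 ⊢; exact p7
    · simp only [evw, gam4_0, gam4_1, gam4_2, gam4_3, mul_one]
      simp only [pow_succ, pow_zero, one_mul, mul_assoc] at p8 ⊢; exact p8
    · simp only [evw, gam4_0, gam4_1, gam4_2, gam4_3, mul_one]
      simp only [mul_assoc] at p9 ⊢; exact p9
    · simp only [evw, gam4_0, gam4_1, gam4_2, gam4_3, mul_one]
      simp only [mul_assoc] at p10 ⊢; exact p10
  have hword := word_eq_one M4Data.cert (gam4 e u v y) hinv hrels rfl M4Data.edges_ok _ M4Data.walk_0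
  simp only [evw, gam4_0, gam4_1, gam4_2, gam4_3, mul_one] at hword
  have hzD : u * v * y * v * u ∈ D := by
    have := hconj (u * v) y hy
    rw [mul_inv_rev, tt_inv hT hu, tt_inv hT hv] at this
    have h2 : u * v * y * (v * u) = u * v * y * v * u := by group
    rwa [h2] at this
  have hsq : (u * v * y * v * u * e) * (u * v * y * v * u * e) = 1 := by
    simp only [mul_assoc] at hword ⊢; exact hword
  exact (tt_commute_of_sq hT hzD he hsq).symm

include hT hconj in
theorem p_step {u v e : G} (hu : u ∈ D) (hv : v ∈ D) (he : e ∈ D)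
    (huv : u ≠ v) (hth : Th D u v) (hne : ¬ Th D e u) (hceu : ¬ Commute e u) :
    (e * (v * u * e * u * v)) ^ 3 = 1 := by
  have hncuv : ¬ Commute u v := th_ncomm hth hv huv
  have heu : e ≠ u := fun h => hceu (h ▸ Commute.refl _)
  have hev : e ≠ v := fun h => hne (h ▸ th_symm hth)
  have hcev : ¬ Commute e v := fun hc =>
    hceu ((th_comm_iff hth he heu hev).mpr hc.symm).symm
  have p1 := tt_cube_of_ncomm hT hu hv hncuv
  have p2 := tt_cube_of_ncomm hT he hu hceu
  have p3 := tt_cube_of_ncomm hT he hv hcev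
  have p4 := tt_cube_of_ncomm hT hu (tt_conj_mem hT hconj he hv) (rel7 hT hconj hu hv he hth hne hcev)
  have hinv : ∀ g, g < P3Data.cert.k → gam3 e u v g * gam3 e u v g = 1 := by
    intro g hg
    have hg' : g < 3 := hg
    interval_cases g
    · exact tt_sq hT he
    · exact tt_sq hT hu
    · exact tt_sq hT hv
  have hrels : ∀ w ∈ P3Data.cert.rels, evw (gam3 e u v) w = 1 := by
    intro w hw
    have hl : P3Data.cert.rels = [[1, 2, 1, 2, 1, 2], [0, 1, 0, 1, 0, 1], [0, 2, 0, 2, 0, 2],
      [1, 2, 0, 2, 1, 2, 0, 2, 1, 2, 0, 2]] := rfl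
    rw [hl] at hw
    simp only [List.mem_cons, List.not_mem_nil, or_false] at hw
    rcases hw with rfl | rfl | rfl | rfl
    · simp only [evw, gam3_0, gam3_1, gam3_2, mul_one]
      simp only [pow_succ, pow_zero, one_mul, mul_assoc] at p1 ⊢; exact p1
    · simp only [evw, gam3_0, gam3_1, gam3_2, mul_one]
      simp only [pow_succ, pow_zero, one_mul, mul_assoc] at p2 ⊢; exact p2
    · simp only [evw, gam3_0, gam3_1, gam3_2, mul_one]
      simp only [pow_succ, pow_zero, one_mul, mul_assoc] at p3 ⊢; exact p3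
    · simp only [evw, gam3_0, gam3_1, gam3_2, mul_one]
      simp only [pow_succ, pow_zero, one_mul, mul_assoc] at p4 ⊢; exact p4
  have hword := word_eq_one P3Data.cert (gam3 e u v) hinv hrels rfl P3Data.edges_ok _ P3Data.walk_0
  simp only [evw, gam3_0, gam3_1, gam3_2, mul_one] at hword
  simp only [pow_succ, pow_zero, one_mul, mul_assoc] at hword ⊢
  exact hword

end Steps

end Cfsg.Agent.Lib.Helper46
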