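import Cfsg.Agent.Lib.Helper46.Theta1

set_option autoImplicit false
set_option linter.all false

namespace Cfsg.Agent.Lib.Helper46

open Cfsg TCa

variable {G : Type*} [Group G] {D : Set G}

/-- a finite family of pairwise normalizing `p`-subgroups generates a `p`-group -/
theorem isPGroup_iSup' {ι : Type*} [Finite ι] {p : ℕ} (A : ι → Subgroup G) (hA : ∀ i, IsPGroup p (A i))
    (hN : ∀ i j, A i ≤ Subgroup.normalizer (A j : Set G)) : IsPGroup p (⨆ i, A i : Subgroup G) := by
  classical
  have := Fintype.ofFinite ι
  have key : ∀ s : Finset ι, IsPGroup p (⨆ i ∈ s, A i : Subgroup G) := by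
    intro s
    induction s using Finset.induction_on with
    | empty =>
      have : (⨆ i ∈ (∅ : Finset ι), A i : Subgroup G) = ⊥ := by simp
      rw [this]
      exact IsPGroup.of_bot
    | insert a s _ ih =>
      rw [Finset.iSup_insert]
      apply IsPGroup.to_sup_of_normal_right' (hA a) ih
      have h1 : A a ≤ ⨅ i, Subgroup.normalizer ((⨆ (_ : i ∈ s), A i : Subgroup G) : Set G) :=
        le_iInf fun i => (le_iInf fun _ => hN a i).trans (Subgroup.iInf_normalizer_le_normalizer_iSup _)
      exact h1.trans (Subgroup.iInf_normalizer_le_normalizer_iSup _)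
  have h2 : (⨆ i, A i : Subgroup G) = ⨆ i ∈ (Finset.univ : Finset ι), A i := by simp
  rw [h2]
  exact key Finset.univ

/-- the closure of a conjugation invariant set is normal -/
theorem closure_normal' {T : Set G} (hT : ∀ g : G, ∀ t ∈ T, g * t * g⁻¹ ∈ T) : (Subgroup.closure T).Normal := by
  constructor
  intro n hn g
  induction hn using Subgroup.closure_induction with
  | mem x hx => exact Subgroup.subset_closure (hT g x hx)
  | one => simp
  | mul x y _ _ ihx ihy =>
    have : g * (x * y) * g⁻¹ = (g * x * g⁻¹) * (g * y * g⁻¹) := by group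
    rw [this]; exact mul_mem ihx ihy
  | inv x _ ih =>
    have : g * x⁻¹ * g⁻¹ = (g * x * g⁻¹)⁻¹ := by group
    rw [this]; exact inv_mem ih

section K

variable (hT : IsThreeTranspositionSet D) (hconj : ∀ g : G, ∀ d ∈ D, g * d * g⁻¹ ∈ D)

include hT hconj in
/-- the commuting partners of `e` are permuted by `u * v` -/
theorem dn_inv {u v e y : G} (hu : u ∈ D) (hv : v ∈ D) (he : e ∈ D) (hy : y ∈ D)
    (huv : u ≠ v) (hth : Th D u v) (hne : ¬ Th D e u) (hceu : ¬ Commute e u)
    (hye : y ≠ e) (hcey : Commute e y) :
    (u * v) * y * (u * v)⁻¹ ≠ e ∧ Commute e ((u * v) * y * (u * v)⁻¹) := by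
  have hz : (u * v) * y * (u * v)⁻¹ = u * v * y * v * u := by
    rw [mul_inv_rev, tt_inv hT hu, tt_inv hT hv]; group
  rw [hz]
  have heu : e ≠ u := fun h => hceu (h ▸ Commute.refl _)
  have hev : e ≠ v := fun h => hne (h ▸ th_symm hth)
  have hcev : ¬ Commute e v := fun hc =>
    hceu ((th_comm_iff hth he heu hev).mpr hc.symm).symm
  have hyu : y ≠ u := fun h => hceu (h ▸ hcey)
  have hyv : y ≠ v := fun h => hcev (h ▸ hcey)
  by_cases hcyu : Commute y u
  · have hcyv : Commute v y := (th_comm_iff hth hy hyu hyv).mp hcyu.symm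
    have : u * v * y * v * u = y := by
      calc u * v * y * v * u = u * (v * y) * v * u := by group
        _ = u * (y * v) * v * u := by rw [hcyv.eq]
        _ = (u * y) * (v * v) * u := by group
        _ = (y * u) * u := by rw [tt_sq hT hv, mul_one, hcyu.eq]
        _ = y := by rw [mul_assoc, tt_sq hT hu, mul_one]
    rw [this]
    exact ⟨hye, hcey⟩
  · have hc := m_step hT hconj hu hv he hy huv hth hne hcey hye.symm hceu hcyu
    refine ⟨?_, hc⟩
    intro hze
    have h1 : y = v⁻¹ * u⁻¹ * (u * v * y * v * u) * u⁻¹ * v⁻¹ := by group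
    rw [hze, tt_inv hT hu, tt_inv hT hv] at h1
    have h3 := p_step hT hconj hu hv he huv hth hne hceu
    rw [← h1] at h3
    have h2 : (e * y) ^ 2 = 1 := by
      rw [pow_two]
      calc (e * y) * (e * y) = e * (y * e) * y := by group
        _ = e * (e * y) * y := by rw [hcey.eq]
        _ = (e * e) * (y * y) := by group
        _ = 1 := by rw [tt_sq hT he, tt_sq hT hy, one_mul]
    have h4 : e * y = 1 := by
      have : (e * y) ^ 3 = (e * y) ^ 2 * (e * y) := pow_succ _ 2
      rw [h3, h2, one_mul] at this
      exact this.symm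
    apply hye
    have : y = e⁻¹ := (eq_inv_of_mul_eq_one_right h4)
    rw [this, tt_inv hT he]

include hT hconj in
/-- key lemma: the product of two equivalent members fixes every class -/
theorem th_conj_mul {u v e : G} (hu : u ∈ D) (hv : v ∈ D) (he : e ∈ D)
    (huv : u ≠ v) (hth : Th D u v) : Th D ((u * v) * e * (u * v)⁻¹) e := by
  have hz : (u * v) * e * (u * v)⁻¹ = u * (v * e * v) * u := by
    rw [mul_inv_rev, tt_inv hT hu, tt_inv hT hv]; group
  by_cases hne : Th D e u
  · rw [hz]
    have h1 : Th D (v * e * v) e := th_conj_self hT hconj (th_trans hne hth) hv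
    have h2 : Th D (v * e * v) u := th_trans h1 hne
    have h3 : Th D (u * (v * e * v) * u) (v * e * v) := th_conj_self hT hconj h2 hu
    exact th_trans h3 h1
  · by_cases hceu : Commute e u
    · have heu : e ≠ u := fun h => hne (h ▸ th_refl _)
      have hev : e ≠ v := fun h => hne (h ▸ th_symm hth)
      have hcev : Commute v e := (th_comm_iff hth he heu hev).mp hceu.symm
      have : u * (v * e * v) * u = e := by
        calc u * (v * e * v) * u = u * ((v * e) * v) * u := by group
          _ = u * ((e * v) * v) * u := by rw [hcev.eq]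
          _ = (u * e) * (v * v) * u := by group
          _ = (e * u) * u := by rw [tt_sq hT hv, mul_one, hceu.eq]
          _ = e := by rw [mul_assoc, tt_sq hT hu, mul_one]
      rw [hz, this]
      exact th_refl _
    · have heu : e ≠ u := fun h => hceu (h ▸ Commute.refl _)
      have hev : e ≠ v := fun h => hne (h ▸ th_symm hth)
      have hcev : ¬ Commute e v := fun hc =>
        hceu ((th_comm_iff hth he heu hev).mpr hc.symm).symm
      have hnev : ¬ Th D e v := fun h => hne (th_trans h (th_symm hth))
      intro z hzD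
      rw [conj_ne_comm]
      have hz'D : (u * v)⁻¹ * z * (u * v) ∈ D := by
        have := hconj (u * v)⁻¹ z hzD
        rwa [inv_inv] at this
      constructor
      · rintro ⟨h1, h2⟩
        have := dn_inv hT hconj hu hv he hz'D huv hth hne hceu h1 h2
        have hzz : u * v * ((u * v)⁻¹ * z * (u * v)) * (u * v)⁻¹ = z := by group
        rwa [hzz] at this
      · rintro ⟨h1, h2⟩
        have := dn_inv hT hconj hv hu he hzD huv.symm (th_symm hth) hnev hcev h1 h2
        have hzz : v * u * z * (v * u)⁻¹ = (u * v)⁻¹ * z * (u * v) := by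
          rw [mul_inv_rev, mul_inv_rev, tt_inv hT hu, tt_inv hT hv]
        rwa [hzz] at this

end K

end Cfsg.Agent.Lib.Helper46
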