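import Cfsg.Agent.Lib.Helper46.Theta2

set_option autoImplicit false
set_option linter.all false

namespace Cfsg.Agent.Lib.Helper46

open Cfsg TCa

variable {G : Type*} [Group G] {D : Set G}

/-- a subset of a set of 3-transpositions, closed under conjugation by its members and with no two different commuting
members, has all products of pairs generating a 3-group -/
theorem width_one_subset [Finite G] (hT : IsThreeTranspositionSet D) (W : Set G) (hWD : W ⊆ D)
    (hWc : ∀ a ∈ W, ∀ b ∈ W, b * a * b⁻¹ ∈ W) (hWw : ∀ a ∈ W, ∀ b ∈ W, Commute a b → a = b) :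
    IsPGroup 3 (Subgroup.closure {t : G | ∃ a ∈ W, ∃ b ∈ W, t = a * b}) := by
  haveI : Fact (Nat.Prime 3) := ⟨by norm_num⟩
  -- conjugation by the closure preserves W
  have hcl : ∀ g ∈ Subgroup.closure W, (∀ a ∈ W, g * a * g⁻¹ ∈ W) ∧ (∀ a ∈ W, g⁻¹ * a * g ∈ W) := by
    intro g hg
    induction hg using Subgroup.closure_induction with
    | mem b hb =>
      refine ⟨fun a ha => hWc a ha b hb, fun a ha => ?_⟩
      have := hWc a ha b hb
      rw [tt_inv hT (hWD hb)] at this ⊢
      exact this
    | one => constructor <;> intro a ha <;> simpa using ha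
    | mul x y _ _ ihx ihy =>
      constructor
      · intro a ha
        have : x * y * a * (x * y)⁻¹ = x * (y * a * y⁻¹) * x⁻¹ := by group
        rw [this]
        exact ihx.1 _ (ihy.1 a ha)
      · intro a ha
        have : (x * y)⁻¹ * a * (x * y) = y⁻¹ * (x⁻¹ * a * x) * y := by group
        rw [this]
        exact ihy.2 _ (ihx.2 a ha)
    | inv x _ ih =>
      constructor
      · intro a ha
        rw [inv_inv]
        exact ih.2 a ha
      · intro a ha
        rw [inv_inv]
        exact ih.1 a ha
  let D' : Set (Subgroup.closure W) := (Subgroup.closure W).subtype ⁻¹' W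
  have hD' : IsThreeTranspositionGroup D' := by
    refine ⟨⟨?_, ?_⟩, ?_, ?_⟩
    · intro h hh
      rw [← Subgroup.orderOf_coe]
      exact hT.1 _ (hWD hh)
    · intro a ha b hb
      rcases hT.2 _ (hWD ha) _ (hWD hb) with h | h
      · left
        apply Subtype.ext
        simpa using h
      · right
        apply Subtype.ext
        simpa using h
    · intro g h hh
      show ((g * h * g⁻¹ : Subgroup.closure W) : G) ∈ W
      simpa using (hcl g.1 g.2).1 _ hh
    · exact Subgroup.closure_closure_coe_preimage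
  have hw' : ∀ x ∈ D', ∀ y ∈ D', Commute x y → x = y := by
    intro x hx y hy hc
    apply Subtype.ext
    apply hWw _ hx _ hy
    have := congrArg Subtype.val hc.eq
    show (x : G) * (y : G) = (y : G) * (x : G)
    exact this
  have hP : IsPGroup 3 ((pCore 3 (Subgroup.closure W)).map (Subgroup.closure W).subtype) :=
    (Cfsg.Agent.Lib.Helper84.pCore_isPGroup 3 _).map _
  apply hP.to_le
  rw [Subgroup.closure_le]
  rintro t ⟨a, ha, b, hb, rfl⟩
  have ha' : (⟨a, Subgroup.subset_closure ha⟩ : Subgroup.closure W) ∈ D' := ha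
  have hb' : (⟨b, Subgroup.subset_closure hb⟩ : Subgroup.closure W) ∈ D' := hb
  exact ⟨_, mul_mem_pCore_three hD' hw' ha' hb', rfl⟩

/-- generators: products of two equivalent members -/
def thGens (D : Set G) : Set G := {t | ∃ a ∈ D, ∃ b ∈ D, Th D a b ∧ t = a * b}

/-- the class of `d` -/
def thClass (D : Set G) (d : G) : Set G := {a | a ∈ D ∧ Th D a d}

/-- products of pairs in the class of `d` -/
def thPairs (D : Set G) (d : G) : Set G := {t | ∃ a ∈ thClass D d, ∃ b ∈ thClass D d, t = a * b}

/-- the subgroup generated by the products of pairs in the class of `d` -/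
def thSub (D : Set G) (d : G) : Subgroup G := Subgroup.closure (thPairs D d)

section N

variable [Finite G] (hT : IsThreeTranspositionSet D) (hconj : ∀ g : G, ∀ d ∈ D, g * d * g⁻¹ ∈ D)

include hT hconj in
theorem thSub_isPGroup (d : G) : IsPGroup 3 (thSub D d) := by
  apply width_one_subset hT (thClass D d) (fun a ha => ha.1)
  · intro a ha b hb
    refine ⟨hconj b a ha.1, ?_⟩
    rw [tt_inv hT hb.1]
    exact th_trans (th_conj_self hT hconj (th_trans ha.2 (th_symm hb.2)) hb.1) ha.2
  · intro a ha b hb hc
    by_contra hne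
    exact th_ncomm (th_trans ha.2 (th_symm hb.2)) hb.1 hne hc

include hT hconj in
theorem thPairs_conj (i j : G) (t : G) (ht : t ∈ thPairs D i) (h : G) (hh : h ∈ thSub D j) :
    t * h * t⁻¹ ∈ thSub D j := by
  obtain ⟨a, ha, b, hb, rfl⟩ := ht
  by_cases hab : a = b
  · subst hab
    rw [tt_sq hT ha.1]
    simpa using hh
  · have hthab : Th D a b := th_trans ha.2 (th_symm hb.2)
    unfold thSub at hh ⊢
    induction hh using Subgroup.closure_induction with
    | mem x hx =>
      obtain ⟨a', ha', b', hb', rfl⟩ := hx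
      have : a * b * (a' * b') * (a * b)⁻¹ = (a * b * a' * (a * b)⁻¹) * (a * b * b' * (a * b)⁻¹) := by group
      rw [this]
      apply Subgroup.subset_closure
      refine ⟨_, ⟨hconj _ _ ha'.1, ?_⟩, _, ⟨hconj _ _ hb'.1, ?_⟩, rfl⟩
      · exact th_trans (th_conj_mul hT hconj ha.1 hb.1 ha'.1 hab hthab) ha'.2
      · exact th_trans (th_conj_mul hT hconj ha.1 hb.1 hb'.1 hab hthab) hb'.2
    | one => simp
    | mul x y _ _ ihx ihy =>
      have : a * b * (x * y) * (a * b)⁻¹ = (a * b * x * (a * b)⁻¹) * (a * b * y * (a * b)⁻¹) := by group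
      rw [this]; exact mul_mem ihx ihy
    | inv x _ ih =>
      have : a * b * x⁻¹ * (a * b)⁻¹ = (a * b * x * (a * b)⁻¹)⁻¹ := by group
      rw [this]; exact inv_mem ih

include hT hconj in
theorem thSub_le_normalizer (i j : G) : thSub D i ≤ Subgroup.normalizer (thSub D j : Set G) := by
  show Subgroup.closure (thPairs D i) ≤ _
  rw [Subgroup.closure_le]
  intro t ht
  have htinv : t⁻¹ ∈ thPairs D i := by
    obtain ⟨a, ha, b, hb, rfl⟩ := ht
    exact ⟨b, hb, a, ha, by rw [mul_inv_rev, tt_inv hT ha.1, tt_inv hT hb.1]⟩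
  rw [SetLike.mem_coe, Subgroup.mem_normalizer_iff]
  intro h
  constructor
  · exact thPairs_conj hT hconj i j t ht h
  · intro hh
    have := thPairs_conj hT hconj i j t⁻¹ htinv _ hh
    rw [inv_inv] at this
    have h2 : t⁻¹ * (t * h * t⁻¹) * t = h := by group
    rwa [h2] at this

include hT hconj in
theorem thGens_isPGroup : IsPGroup 3 (Subgroup.closure (thGens D)) := by
  have hsup := isPGroup_iSup' (fun d : D => thSub D (d : G)) (fun d => thSub_isPGroup hT hconj d)
    (fun i j => thSub_le_normalizer hT hconj i j)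
  apply hsup.to_le
  rw [Subgroup.closure_le]
  rintro t ⟨a, ha, b, hb, hth, rfl⟩
  have : a * b ∈ thSub D a := by
    apply Subgroup.subset_closure
    exact ⟨a, ⟨ha, th_refl _⟩, b, ⟨hb, th_symm hth⟩, rfl⟩
  exact Subgroup.mem_iSup_of_mem (⟨a, ha⟩ : D) this

include hT hconj in
theorem thGens_le_pCore : Subgroup.closure (thGens D) ≤ pCore 3 G := by
  apply Cfsg.Agent.Lib.Helper84.le_pCore _ (thGens_isPGroup hT hconj)
  apply closure_normal'
  rintro g t ⟨a, ha, b, hb, hth, rfl⟩
  refine ⟨g * a * g⁻¹, hconj g a ha, g * b * g⁻¹, hconj g b hb, th_conj hconj hth g, by group⟩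

include hT hconj in
/-- equivalent members differ by an element of the largest normal 3-subgroup -/
theorem th_mul_mem_pCore {a b : G} (ha : a ∈ D) (hb : b ∈ D) (h : Th D a b) : a * b ∈ pCore 3 G :=
  thGens_le_pCore hT hconj (Subgroup.subset_closure ⟨a, ha, b, hb, h, rfl⟩)

end N

end Cfsg.Agent.Lib.Helper46
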