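import Cfsg.Agent.Lib.Helper46.OrbitProd
import Cfsg.Agent.Lib.Helper46.Subnormal

set_option autoImplicit false

namespace Cfsg.Agent.Lib.Helper46

variable {Γ : Type*} [Group Γ]

@[reducible] def commGroupOf (U : Subgroup Γ) (hab : ∀ a ∈ U, ∀ b ∈ U, a * b = b * a) : CommGroup ↥U :=
  { (inferInstance : Group ↥U) with mul_comm := fun a b => Subtype.ext (hab a a.2 b b.2) }

@[reducible] def conjMDMA (U N : Subgroup Γ) (h : N ≤ Subgroup.normalizer (U : Set Γ)) :
    MulDistribMulAction ↥N ↥U where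
  smul n u := ⟨(n : Γ) * u * (n : Γ)⁻¹, conj_mem_of_le_normalizer h n.2 u.2⟩
  one_smul u := by
    apply Subtype.ext
    show ((1 : ↥N) : Γ) * u * ((1 : ↥N) : Γ)⁻¹ = u
    simp
  mul_smul a b u := by
    apply Subtype.ext
    show ((a * b : ↥N) : Γ) * u * ((a * b : ↥N) : Γ)⁻¹ = (a : Γ) * ((b : Γ) * u * (b : Γ)⁻¹) * (a : Γ)⁻¹
    simp only [Subgroup.coe_mul]
    group
  smul_mul n u v := by
    apply Subtype.ext
    show (n : Γ) * ((u * v : ↥U) : Γ) * (n : Γ)⁻¹ = ((n : Γ) * u * (n : Γ)⁻¹) * ((n : Γ) * v * (n : Γ)⁻¹)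
    simp only [Subgroup.coe_mul]
    group
  smul_one n := by
    apply Subtype.ext
    show (n : Γ) * ((1 : ↥U) : Γ) * (n : Γ)⁻¹ = ((1 : ↥U) : Γ)
    simp

/-- The trace (orbit product) lemma: for an abelian subgroup `U` normalized by `N`, a subgroup `P ≤ N` of index
prime to `p` and `u ∈ U` centralized by `P`, there is an `N`-fixed `τ ∈ U` and `k` prime to `p` such that
`τ ≡ u ^ k` modulo the commutators `[n, u]`, with an equivariance property. -/
theorem exists_trace [Finite Γ] {p : ℕ} (U N P : Subgroup Γ) (hab : ∀ a ∈ U, ∀ b ∈ U, a * b = b * a)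
    (hNU : N ≤ Subgroup.normalizer (U : Set Γ)) (hPN : P ≤ N) (hrel : (P.relIndex N).Coprime p)
    (u : Γ) (hu : u ∈ U) (hPu : ∀ x ∈ P, x * u * x⁻¹ = u) :
    ∃ τ ∈ U, ∃ k : ℕ, k.Coprime p ∧ (∀ n ∈ N, n * τ * n⁻¹ = τ) ∧
      (∀ U' : Subgroup Γ, (∀ n ∈ N, n * u * n⁻¹ * u⁻¹ ∈ U') → τ * (u ^ k)⁻¹ ∈ U') ∧
      (∀ t c : Γ, t ∈ Subgroup.normalizer (N : Set Γ) → t ∈ Subgroup.normalizer (U : Set Γ) → c ∈ U →
        (∀ n ∈ N, n * c * n⁻¹ = c) → t * u * t⁻¹ = u * c → t * τ * t⁻¹ = τ * c ^ k) := by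
  let _ := commGroupOf U hab
  let _ := conjMDMA U N hNU
  let _ := Fintype.ofFinite ↥N
  set uu : ↥U := ⟨u, hu⟩ with huu
  have hsmul : ∀ (n : ↥N) (a : ↥U), ((n • a : ↥U) : Γ) = (n : Γ) * a * (n : Γ)⁻¹ := fun _ _ => rfl
  refine ⟨(orbProd ↥N uu : ↥U), (orbProd ↥N uu).2, (orbFin ↥N uu).card, ?_, ?_, ?_, ?_⟩
  · -- coprimality
    have hdvd : (orbFin ↥N uu).card ∣ (P.subgroupOf N).index := by
      apply card_orbFin_dvd
      intro x hx
      apply Subtype.ext
      rw [hsmul]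
      exact hPu _ (Subgroup.mem_subgroupOf.mp hx)
    exact Nat.Coprime.coprime_dvd_left hdvd hrel
  · intro n hn
    have := smul_orbProd (⟨n, hn⟩ : ↥N) uu
    exact congrArg Subtype.val this
  · intro U' hU'
    have h1 := orbProd_eq (N := ↥N) uu
    have h2 : (∏ w ∈ orbFin ↥N uu, w * uu⁻¹ : ↥U) ∈ U'.subgroupOf U := by
      apply Subgroup.prod_mem
      intro w hw
      obtain ⟨n, rfl⟩ := mem_orbFin.mp hw
      rw [Subgroup.mem_subgroupOf]
      show ((n • uu : ↥U) : Γ) * ((uu⁻¹ : ↥U) : Γ) ∈ U'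
      rw [hsmul]
      exact hU' _ n.2
    rw [Subgroup.mem_subgroupOf] at h2
    have h3 : ((orbProd ↥N uu : ↥U) : Γ) =
        ((∏ w ∈ orbFin ↥N uu, w * uu⁻¹ : ↥U) : Γ) * u ^ (orbFin ↥N uu).card := by
      have := congrArg Subtype.val h1
      simpa using this
    rw [h3]
    simpa using h2
  · intro t c ht htU hc hNc htu
    -- θ = conjugation by t on U, φ = conjugation by t on N
    let θ : ↥U →* ↥U :=
      { toFun := fun a => ⟨t * a * t⁻¹, (Subgroup.mem_normalizer_iff.mp htU a).mp a.2⟩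
        map_one' := by apply Subtype.ext; simp
        map_mul' := by
          intro a b; apply Subtype.ext
          show t * ((a * b : ↥U) : Γ) * t⁻¹ = (t * a * t⁻¹) * (t * b * t⁻¹)
          simp only [Subgroup.coe_mul]; group }
    let φ : ↥N → ↥N := fun n => ⟨t * n * t⁻¹, (Subgroup.mem_normalizer_iff.mp ht n).mp n.2⟩
    have hθinj : Function.Injective θ := by
      intro a b hab'
      have := congrArg Subtype.val hab'
      apply Subtype.ext
      have h' : t * (a : Γ) * t⁻¹ = t * (b : Γ) * t⁻¹ := this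
      exact mul_left_cancel (mul_right_cancel h')
    have hφsurj : Function.Surjective φ := by
      intro n
      have hmem : t⁻¹ * (n : Γ) * t ∈ N := by
        have := (Subgroup.mem_normalizer_iff.mp ht (t⁻¹ * (n : Γ) * t)).mpr
          (by simp [mul_assoc])
        exact this
      refine ⟨⟨t⁻¹ * n * t, hmem⟩, ?_⟩
      apply Subtype.ext
      show t * (t⁻¹ * (n : Γ) * t) * t⁻¹ = n
      group
    have hcompat : ∀ (n : ↥N) (a : ↥U), θ (n • a) = φ n • θ a := by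
      intro n a
      apply Subtype.ext
      show t * ((n : Γ) * a * (n : Γ)⁻¹) * t⁻¹ = (t * n * t⁻¹) * (t * a * t⁻¹) * (t * n * t⁻¹)⁻¹
      group
    have h1 := orbProd_map θ hθinj φ hφsurj hcompat uu
    have hcc : ∀ n : ↥N, n • (⟨c, hc⟩ : ↥U) = ⟨c, hc⟩ := by
      intro n; apply Subtype.ext; exact hNc _ n.2
    have hθu : θ uu = uu * ⟨c, hc⟩ := by
      apply Subtype.ext; exact htu
    rw [hθu, orbProd_mul_fixed uu _ hcc] at h1
    have h2 := congrArg Subtype.val h1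
    have h3 : ((θ (orbProd ↥N uu) : ↥U) : Γ) = t * ((orbProd ↥N uu : ↥U) : Γ) * t⁻¹ := rfl
    rw [h3] at h2
    rw [h2]
    simp

end Cfsg.Agent.Lib.Helper46
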