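import Mathlib
import Cfsg.Prelude.Def_Classical
import Cfsg.Prelude.Def_LieClassical
import Cfsg.Agent.Lib.Helper14.TuDefs
import Cfsg.Agent.Lib.Helper2.BGPoly
import Cfsg.Agent.Lib.Helper69.TuFIX
import Cfsg.Agent.Lib.Helper69.TuTI
import Cfsg.Agent.Lib.Helper55.TuPEEL
import Cfsg.Agent.Lib.Helper76.TuIRR
import Cfsg.Agent.Lib.Helper53.TuB
import Cfsg.Agent.Lib.Helper53.TuA

/-!
# Tu hive (S5953, owner helper14), leaf TU-PIG `exists_isotropic_block` (helper46)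
-/

set_option autoImplicit false

namespace Cfsg.Agent.Lib.Helper14.Tu

open Cfsg.Agent.Lib.Helper40.Herm Cfsg.Agent.Lib.Helper2.BG Polynomial Module

section pig
variable {F : Type*} [Field F] [Fintype F] {q : ℕ} {hF : Fintype.card F = q ^ 2}
  {V : Type*} [AddCommGroup V] [Module F V] [FiniteDimensional F V]
  {H : V →ₗ[F] V →ₛₗ[tauHom hF] F} {g : Module.End F V} {N : ℕ}

omit [Fintype F] [FiniteDimensional F V] in
theorem pig_aeval_of_dvd {P Q : F[X]} (h : P ∣ Q) (v : V) (hv : aeval g P v = 0) :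
    aeval g Q v = 0 := by
  obtain ⟨c, rfl⟩ := h
  rw [mul_comm, map_mul, Module.End.mul_apply, hv, map_zero]

omit [Fintype F] in
theorem pig_card_le {r b : ℕ} (hr : r.Prime) (L : Finset F[X])
    (hL : ∀ P ∈ L, P.Monic ∧ Irreducible P ∧ P ∣ cyclotomic r F)
    (hdeg : ∀ P ∈ L, P.natDegree = b) : L.card * b ≤ r - 1 := by
  have hdvd : (∏ P ∈ L, P) ∣ cyclotomic r F := by
    refine Finset.prod_dvd_of_coprime ?_ (fun P hP => (hL P hP).2.2)
    intro P hP Q hQ hPQ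
    show IsCoprime P Q
    rw [(hL P hP).2.1.coprime_iff_not_dvd]
    intro hd
    apply hPQ
    have hass : Associated P Q := (hL P hP).2.1.associated_of_dvd (hL Q hQ).2.1 hd
    exact eq_of_monic_of_associated (hL P hP).1 (hL Q hQ).1 hass
  have h1 := natDegree_le_of_dvd hdvd (cyclotomic_ne_zero r F)
  rw [natDegree_prod_of_monic _ _ (fun P hP => (hL P hP).1), natDegree_cyclotomic,
    Nat.totient_prime hr, Finset.sum_congr rfl hdeg, Finset.sum_const, smul_eq_mul] at h1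
  exact h1

theorem pig_orderOf_sq {r : ℕ} (q : ℕ) :
    orderOf (((q ^ 2 : ℕ) : ZMod r)) = bOf (orderOf (q : ZMod r)) := by
  rw [Nat.cast_pow, orderOf_pow' _ (two_ne_zero), bOf]
  split_ifs with h
  · rw [Nat.gcd_comm, Nat.gcd_eq_left h.two_dvd]
  · have : Nat.gcd (orderOf (q : ZMod r)) 2 = 1 := by
      rw [Nat.gcd_comm]
      exact Nat.coprime_two_left.mpr (Nat.not_even_iff_odd.mp h)
    rw [this, Nat.div_one]

omit [FiniteDimensional F V] in
theorem pig_natDegree {r : ℕ} (hc : Ctx hF H g r) (hr : r.Prime) {P : F[X]} (hP : Irreducible P)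
    (hPd : P ∣ cyclotomic r F) : P.natDegree = bOf (orderOf (q : ZMod r)) := by
  obtain ⟨p, hp⟩ := CharP.exists F
  have := hp
  have : Fact p.Prime := ⟨CharP.char_is_prime F p⟩
  have : Fact r.Prime := ⟨hr⟩
  have hrp : r ≠ p := by
    rintro rfl
    exact hc.ne (CharP.cast_eq_zero F r)
  have h := allIrrDeg_cyclotomic (F := F) (p := p) (r := r) hrp P hP hPd
  rw [hF, pig_orderOf_sq] at h
  exact h

theorem pig_main {r : ℕ} (hc : Ctx hF H g r) (hr : r.Prime) (Z : Submodule F V) :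
    ∀ (k : ℕ) (M : Submodule F V) (L : Finset F[X]), finrank F ↥M = k → M ≤ Z → Inv g M →
      HNondegOn H M → (∀ v ∈ M, g v = v → v = 0) →
      (∀ P ∈ L, P.Monic ∧ Irreducible P ∧ P ∣ cyclotomic r F ∧
        ∃ Y : Submodule F V, Y ≤ Z ∧ Inv g Y ∧ HNondegOn H Y ∧ Y ≠ ⊥ ∧
          (∀ Y' : Submodule F V, Y' ≤ Y → Inv g Y' → Y' = ⊥ ∨ Y' = Y) ∧
          (∀ v ∈ Y, aeval g P v = 0) ∧ (∀ u ∈ Y, ∀ v ∈ M, H u v = 0)) →
      (r - 1) / bOf (orderOf (q : ZMod r)) * bOf (orderOf (q : ZMod r)) <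
        L.card * bOf (orderOf (q : ZMod r)) + finrank F ↥M →
      ∃ Y : Submodule F V, Y ≤ Z ∧ Inv g Y ∧ HIsotropic H Y ∧
        finrank F ↥Y = bOf (orderOf (q : ZMod r)) := by
  obtain ⟨b, hb⟩ : ∃ b, b = bOf (orderOf (q : ZMod r)) := ⟨_, rfl⟩
  rw [← hb]
  classical
  intro k
  induction k using Nat.strong_induction_on with
  | _ k ih =>
    intro M L hk hMZ hMi hM hMfix hL hcnt
    have hcard : L.card * b ≤ r - 1 :=
      pig_card_le hr L (fun P hP => ⟨(hL P hP).1, (hL P hP).2.1, (hL P hP).2.2.1⟩)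
        (fun P hP => by rw [hb]; exact pig_natDegree hc hr (hL P hP).2.1 (hL P hP).2.2.1)
    have hMpos : 0 < finrank F ↥M := by
      rcases Nat.eq_zero_or_pos b with hb0 | hb0
      · rw [hb0] at hcnt; simpa using hcnt
      · have h1 : L.card ≤ (r - 1) / b := (Nat.le_div_iff_mul_le hb0).mpr hcard
        have h2 := Nat.mul_le_mul_right b h1
        omega
    have hM0 : M ≠ ⊥ := by
      intro h; rw [h, finrank_bot] at hMpos; exact lt_irrefl _ hMpos
    obtain ⟨Y, hYM, hYi, hY0, hYmin, hYb, P, hP, hPd, hPY⟩ := exists_minimal hc hr hMi hM0 hMfix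
    rw [← hb] at hYb
    have hperpi : Inv g (hperp H Y) := hperp_invt hc.inv hc.pos hc.pow Y hYi
    rcases hYmin (Y ⊓ hperp H Y) inf_le_left (hYi.inf hperpi) with h0 | h1
    · -- nondegenerate
      have hYnd : HNondegOn H Y := by
        intro x hx hxy
        have : x ∈ Y ⊓ hperp H Y := Submodule.mem_inf.mpr ⟨hx, mem_hperp.mpr hxy⟩
        rw [h0] at this
        exact (Submodule.mem_bot F).mp this
      have hP0 : P ≠ 0 := hP.ne_zero
      obtain ⟨P', hP'⟩ : ∃ P' : F[X], P' = P * C (P.leadingCoeff)⁻¹ := ⟨_, rfl⟩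
      have hP'm : P'.Monic := by rw [hP']; exact monic_mul_leadingCoeff_inv hP0
      have hass : Associated P' P := by
        rw [hP']
        exact associated_mul_unit_left P _
          (isUnit_C.mpr (isUnit_iff_ne_zero.mpr (inv_ne_zero (leadingCoeff_ne_zero.mpr hP0))))
      have hP'irr : Irreducible P' := hass.symm.irreducible hP
      have hP'd : P' ∣ cyclotomic r F := hass.dvd.trans hPd
      have hP'Y : ∀ v ∈ Y, aeval g P' v = 0 :=
        fun v hv => pig_aeval_of_dvd hass.symm.dvd v (hPY v hv)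
      by_cases hmem : P' ∈ L
      · obtain ⟨_, _, _, Y₂, hY₂Z, hY₂i, hY₂nd, hY₂0, hY₂min, hY₂P, hY₂orth⟩ := hL P' hmem
        obtain ⟨W, hW, hWi, hWiso, hWfr⟩ :=
          exists_isotropic_of_pair hc hYi hY₂i hYnd hY₂nd hY0 hY₂0 hYmin hY₂min
            (fun u hu v hv => herm_swap hc.herm (hY₂orth v hv u (hYM hu))) P' hP'irr hP'Y hY₂P
        exact ⟨W, hW.trans (sup_le (hYM.trans hMZ) hY₂Z), hWi, hWiso, hWfr.trans hYb⟩
      · obtain ⟨hM'i, hM'nd, hdisj, hsup, hfr⟩ := split hc hMi hM hYi hYM hYnd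
        have hbpos : 0 < b := by
          rw [← hYb]; exact Submodule.one_le_finrank_iff.mpr hY0
        refine ih (finrank F ↥(M ⊓ hperp H Y)) (by omega) (M ⊓ hperp H Y) (insert P' L) rfl
          (inf_le_left.trans hMZ) hM'i hM'nd (fun v hv => hMfix v hv.1) ?_ ?_
        · intro Q hQ
          rcases Finset.mem_insert.mp hQ with hQP | hQL
          · rw [hQP]
            exact ⟨hP'm, hP'irr, hP'd, Y, hYM.trans hMZ, hYi, hYnd, hY0, hYmin, hP'Y,
              fun u hu v hv => herm_swap hc.herm (hv.2 u hu)⟩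
          · obtain ⟨a1, a2, a3, Y₂, b1, b2, b3, b4, b5, b6, b7⟩ := hL Q hQL
            exact ⟨a1, a2, a3, Y₂, b1, b2, b3, b4, b5, b6, fun u hu v hv => b7 u hu v hv.1⟩
        · rw [Finset.card_insert_of_notMem hmem, add_mul, one_mul]
          omega
    · -- isotropic
      refine ⟨Y, hYM.trans hMZ, hYi, ?_, hYb⟩
      intro x hx y hy
      have : x ∈ Y ⊓ hperp H Y := by rw [h1]; exact hx
      exact (Submodule.mem_inf.mp this).2 y hy

theorem pig_decomp (hc : Ctx hF H g N) {Z : Submodule F V} (hZi : Inv g Z) (hZ : HNondegOn H Z) :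
    ∃ Z₀ Z₁ : Submodule F V, Z₀ ≤ Z ∧ Z₁ ≤ Z ∧ (∀ v ∈ Z₀, g v = v) ∧ HNondegOn H Z₀ ∧ Inv g Z₁ ∧
      HNondegOn H Z₁ ∧ (∀ v ∈ Z₁, g v = v → v = 0) ∧
      finrank F ↥Z₁ + finrank F ↥Z₀ = finrank F ↥Z := by
  have hZ₀ := nondeg_eigen hc hZi hZ 1 (by rw [map_one, mul_one])
  have hker : ∀ v, v ∈ LinearMap.ker (g - (1 : F) • (1 : Module.End F V)) ↔ g v = v := by
    intro v
    rw [LinearMap.mem_ker, LinearMap.sub_apply, LinearMap.smul_apply, Module.End.one_apply,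
      one_smul, sub_eq_zero]
  have hZ₀i : Inv g (Z ⊓ LinearMap.ker (g - (1 : F) • (1 : Module.End F V))) := by
    intro v hv
    rw [(hker v).mp hv.2]; exact hv
  obtain ⟨hMi, hMnd, hdisj, hsup, hfr⟩ := split hc hZi hZ hZ₀i inf_le_left hZ₀
  refine ⟨_, _, inf_le_left, inf_le_left, fun v hv => (hker v).mp hv.2, hZ₀, hMi, hMnd, ?_, hfr⟩
  intro v hv hgv
  have h1 : v ∈ Z ⊓ LinearMap.ker (g - (1 : F) • (1 : Module.End F V)) :=
    ⟨hv.1, (hker v).mpr hgv⟩
  exact (Submodule.disjoint_def.mp hdisj) v h1 hv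

theorem exists_isotropic_block {r : ℕ} (hc : Ctx hF H g r) (hr : r.Prime) (hr2 : r ≠ 2)
    (hi : orderOf (q : ZMod r) % 4 = 2) {Z : Submodule F V} (hZi : Inv g Z) (hZ : HNondegOn H Z)
    (hbig : ((r - 1) / bOf (orderOf (q : ZMod r)) + 2) * bOf (orderOf (q : ZMod r)) ≤ finrank F ↥Z) :
    ∃ Y : Submodule F V, Y ≤ Z ∧ Inv g Y ∧ HIsotropic H Y ∧
      finrank F ↥Y = bOf (orderOf (q : ZMod r)) := by
  obtain ⟨Z₀, Z₁, hZ₀Z, hZ₁Z, hZ₀fix, hZ₀nd, hZ₁i, hZ₁nd, hZ₁fix, hfr⟩ := pig_decomp hc hZi hZ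
  by_cases hcase : 2 * bOf (orderOf (q : ZMod r)) ≤ finrank F ↥Z₀
  · obtain ⟨W, hWZ, hW, hWfr⟩ := exists_isotropic hc.herm hZ₀nd _ hcase
    refine ⟨W, hWZ.trans hZ₀Z, ?_, hW, hWfr⟩
    intro v hv
    rw [hZ₀fix v (hWZ hv)]; exact hv
  · refine pig_main hc hr Z _ Z₁ ∅ rfl hZ₁Z hZ₁i hZ₁nd hZ₁fix (by simp) ?_
    rw [Finset.card_empty, zero_mul, zero_add]
    rw [add_mul] at hbig
    omega

end pig

end Cfsg.Agent.Lib.Helper14.Tu
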