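import Mathlib
import Cfsg.Prelude.Def_Classical
import Cfsg.Prelude.Def_LieClassical
import Cfsg.Agent.Lib.Helper14.TuDefs
import Cfsg.Agent.Lib.Helper46.TuPIG

/-!
# Tu hive (S5953, owner helper14), leaf TU-GA `exists_isotropic_inv` (helper46)
-/

set_option autoImplicit false

namespace Cfsg.Agent.Lib.Helper14.Tu

open Cfsg.Agent.Lib.Helper40.Herm Cfsg.Agent.Lib.Helper2.BG Polynomial Module

section ga
variable {F : Type*} [Field F] [Fintype F] {q : ℕ} {hF : Fintype.card F = q ^ 2}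
  {V : Type*} [AddCommGroup V] [Module F V] [FiniteDimensional F V]
  {H : V →ₗ[F] V →ₛₗ[tauHom hF] F} {g : Module.End F V} {N : ℕ}

theorem ga_bc (i : ℕ) : (i % 4 = 2 ∧ cOf i = bOf i) ∨ (i % 4 ≠ 2 ∧ cOf i = 2 * bOf i) := by
  unfold cOf bOf
  rcases Nat.even_or_odd i with he | ho
  · rw [if_pos he]
    obtain ⟨k, rfl⟩ := he
    by_cases h0 : (k + k) % 4 = 0
    · right; rw [if_pos h0]; constructor <;> omega
    · have h2 : (k + k) % 4 = 2 := by omega
      left; rw [if_neg h0, if_pos h2]; exact ⟨h2, rfl⟩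
  · rw [if_neg (Nat.not_even_iff_odd.mpr ho)]
    obtain ⟨k, rfl⟩ := ho
    right
    rw [if_neg (by omega), if_neg (by omega)]
    constructor <;> omega

omit [FiniteDimensional F V] in
theorem ga_bOf_pos {r : ℕ} (hc : Ctx hF H g r) (hr : r.Prime) :
    0 < bOf (orderOf (q : ZMod r)) := by
  have : Fact r.Prime := ⟨hr⟩
  obtain ⟨p, hp⟩ := CharP.exists F
  have := hp
  obtain ⟨n, hpp, hcard⟩ := FiniteField.card F p
  have hrq : ¬ r ∣ q := by
    intro hd
    have h1 : r ∣ p ^ (n : ℕ) := by rw [← hcard, hF]; exact dvd_pow hd two_ne_zero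
    have h2 : r = p := (Nat.prime_dvd_prime_iff_eq hr hpp).mp (hr.dvd_of_dvd_pow h1)
    apply hc.ne
    rw [h2]; exact CharP.cast_eq_zero F p
  have hq0 : (q : ZMod r) ≠ 0 := by
    rwa [Ne, ZMod.natCast_eq_zero_iff]
  have hi : 0 < orderOf (q : ZMod r) := by
    have := orderOf_pos (Units.mk0 _ hq0)
    rwa [← orderOf_units, Units.val_mk0] at this
  unfold bOf
  split_ifs with he
  · obtain ⟨k, hk⟩ := he; omega
  · exact hi

omit [Fintype F] [FiniteDimensional F V] in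
theorem ga_isotropic_sup {τ : F →+* F} {H : V →ₗ[F] V →ₛₗ[τ] F} (hH : IsHermitian H)
    {Y W : Submodule F V} (hY : HIsotropic H Y)
    (hW : HIsotropic H W) (horth : ∀ y ∈ Y, ∀ z ∈ W, H y z = 0) : HIsotropic H (Y ⊔ W) := by
  intro x hx y hy
  obtain ⟨a, ha, b, hb, rfl⟩ := Submodule.mem_sup.mp hx
  obtain ⟨c, hc, d, hd, rfl⟩ := Submodule.mem_sup.mp hy
  simp only [map_add, LinearMap.add_apply]
  rw [hY a ha c hc, horth a ha d hd, herm_swap hH (horth c hc b hb), hW b hb d hd]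
  simp

theorem ga_dvd_moved {r : ℕ} (hc : Ctx hF H g r) (hr : r.Prime) (hr2 : r ≠ 2) :
    ∀ (k : ℕ) (M : Submodule F V), finrank F ↥M = k → Inv g M → HNondegOn H M →
      (∀ v ∈ M, g v = v → v = 0) → cOf (orderOf (q : ZMod r)) ∣ finrank F ↥M := by
  rcases ga_bc (orderOf (q : ZMod r)) with ⟨h4, hcb⟩ | ⟨h4, hcb⟩
  · intro k M _ hMi _ hMfix
    rw [hcb]; exact dvd_finrank_moved hc hr hMi hMfix
  · rw [hcb]
    intro k
    induction k using Nat.strong_induction_on with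
    | _ k ih =>
      intro M hk hMi hM hMfix
      by_cases hM0 : M = ⊥
      · rw [hM0, finrank_bot]; exact dvd_zero _
      obtain ⟨Y, hYM, hYi, hY0, hYmin, hYb, -⟩ := exists_minimal hc hr hMi hM0 hMfix
      have hYiso : HIsotropic H Y :=
        isotropic_of_minimal hc hr hr2 h4 hYi (fun v hv => hMfix v (hYM hv)) hYmin
      obtain ⟨M', hM'i, hM'M, hM'nd, -, -, hfr⟩ := peel hc hMi hM hYi hYM hYiso
      have hYpos : 0 < finrank F ↥Y := Submodule.one_le_finrank_iff.mpr hY0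
      have := ih (finrank F ↥M') (by omega) M' rfl hM'i hM'nd (fun v hv => hMfix v (hM'M hv))
      rw [← hfr, hYb]
      exact dvd_add this (dvd_refl _)

theorem ga_main {r : ℕ} (hc : Ctx hF H g r) (hr : r.Prime) (hr2 : r ≠ 2) :
    ∀ (m : ℕ) (Z : Submodule F V), Inv g Z → HNondegOn H Z → 2 * m ≤ finrank F ↥Z →
      2 * (m % bOf (orderOf (q : ZMod r))) ≤ finrank F ↥Z % cOf (orderOf (q : ZMod r)) →
      (orderOf (q : ZMod r) % 4 ≠ 2 ∨
        (r - 1) / bOf (orderOf (q : ZMod r)) + 2 * (m / bOf (orderOf (q : ZMod r))) ≤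
          finrank F ↥Z / bOf (orderOf (q : ZMod r))) →
      ∃ W : Submodule F V, W ≤ Z ∧ Inv g W ∧ HIsotropic H W ∧ finrank F ↥W = m := by
  have hbpos := ga_bOf_pos hc hr
  have hbc := ga_bc (orderOf (q : ZMod r))
  have hdvdm := ga_dvd_moved hc hr hr2
  obtain ⟨b, hb⟩ : ∃ b, b = bOf (orderOf (q : ZMod r)) := ⟨_, rfl⟩
  obtain ⟨c, hc'⟩ : ∃ c, c = cOf (orderOf (q : ZMod r)) := ⟨_, rfl⟩
  rw [← hb] at hbpos hbc
  rw [← hc'] at hbc hdvdm
  rw [← hb, ← hc']
  intro m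
  induction m using Nat.strong_induction_on with
  | _ m ih =>
    intro Z hZi hZ hm hk hs
    obtain ⟨Z₀, Z₁, hZ₀Z, hZ₁Z, hZ₀fix, hZ₀nd, hZ₁i, hZ₁nd, hZ₁fix, hfr⟩ := pig_decomp hc hZi hZ
    have hcdvd : c ∣ finrank F ↥Z₁ := hdvdm _ Z₁ rfl hZ₁i hZ₁nd hZ₁fix
    have hZ₀i : ∀ W : Submodule F V, W ≤ Z₀ → Inv g W := fun W hW v hv => by
      rw [hZ₀fix v (hW hv)]; exact hv
    rcases Nat.lt_or_ge m b with hmb | hmb
    · -- small case: everything inside the fixed space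
      rw [Nat.mod_eq_of_lt hmb] at hk
      have h1 : finrank F ↥Z % c = finrank F ↥Z₀ % c := by
        obtain ⟨t, ht⟩ := hcdvd
        rw [← hfr, ht, Nat.mul_add_mod]
      have h2 : 2 * m ≤ finrank F ↥Z₀ := by
        rw [h1] at hk; exact hk.trans (Nat.mod_le _ _)
      obtain ⟨W, hWZ₀, hW, hWfr⟩ := exists_isotropic hc.herm hZ₀nd m h2
      exact ⟨W, hWZ₀.trans hZ₀Z, hZ₀i W hWZ₀, hW, hWfr⟩
    · -- big case: peel a totally isotropic invariant `b`-space
      have hY : ∃ Y : Submodule F V, Y ≤ Z ∧ Inv g Y ∧ HIsotropic H Y ∧ finrank F ↥Y = b := by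
        by_cases h4 : orderOf (q : ZMod r) % 4 = 2
        · rw [hb]
          apply exists_isotropic_block hc hr hr2 h4 hZi hZ
          rw [← hb]
          rcases hs with hs | hs
          · exact absurd h4 hs
          · have h1 : 1 ≤ m / b := (Nat.one_le_div_iff hbpos).mpr hmb
            have h2 : (r - 1) / b + 2 ≤ finrank F ↥Z / b := by omega
            exact (Nat.mul_le_mul_right b h2).trans (Nat.div_mul_le_self _ _)
        · by_cases h2b : 2 * b ≤ finrank F ↥Z₀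
          · obtain ⟨W, hWZ₀, hW, hWfr⟩ := exists_isotropic hc.herm hZ₀nd b h2b
            exact ⟨W, hWZ₀.trans hZ₀Z, hZ₀i W hWZ₀, hW, hWfr⟩
          · have hZ₁0 : Z₁ ≠ ⊥ := by
              intro h
              subst h
              rw [finrank_bot] at hfr
              omega
            obtain ⟨Y, hYZ₁, hYi, hY0, hYmin, hYb, -⟩ := exists_minimal hc hr hZ₁i hZ₁0 hZ₁fix
            exact ⟨Y, hYZ₁.trans hZ₁Z, hYi,
              isotropic_of_minimal hc hr hr2 h4 hYi (fun v hv => hZ₁fix v (hYZ₁ hv)) hYmin,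
              by rw [hb]; exact hYb⟩
      obtain ⟨Y, hYZ, hYi, hYiso, hYb⟩ := hY
      obtain ⟨Z', hZ'i, hZ'Z, hZ'nd, horth, hdisj, hfr'⟩ := peel hc hZi hZ hYi hYZ hYiso
      rw [hYb] at hfr'
      have hc2b : c ∣ 2 * b := by
        rcases hbc with ⟨_, h⟩ | ⟨_, h⟩
        · rw [h]; exact dvd_mul_left _ _
        · rw [h]
      obtain ⟨m', hm'⟩ : ∃ m', m = m' + b := ⟨m - b, by omega⟩
      have hk' : 2 * (m' % b) ≤ finrank F ↥Z' % c := by
        have e1 : m % b = m' % b := by rw [hm', Nat.add_mod_right]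
        have e2 : finrank F ↥Z % c = finrank F ↥Z' % c := by
          obtain ⟨t, ht⟩ := hc2b
          rw [← hfr', ht, Nat.add_mul_mod_self_left]
        rw [← e1, ← e2]; exact hk
      have hs' : orderOf (q : ZMod r) % 4 ≠ 2 ∨
          (r - 1) / b + 2 * (m' / b) ≤ finrank F ↥Z' / b := by
        rcases hs with hs | hs
        · exact Or.inl hs
        · right
          have e1 : m / b = m' / b + 1 := by rw [hm', Nat.add_div_right _ hbpos]
          have e2 : finrank F ↥Z / b = finrank F ↥Z' / b + 2 := by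
            rw [← hfr', mul_comm 2 b, Nat.add_mul_div_left _ _ hbpos]
          omega
      obtain ⟨W', hW'Z', hW'i, hW'iso, hW'fr⟩ :=
        ih m' (by omega) Z' hZ'i hZ'nd (by omega) hk' hs'
      refine ⟨Y ⊔ W', sup_le hYZ (hW'Z'.trans hZ'Z), hYi.sup hW'i,
        ga_isotropic_sup hc.herm hYiso hW'iso (fun y hy z hz => horth y hy z (hW'Z' hz)), ?_⟩
      rw [finrank_sup_of_disjoint' Y W' (hdisj.mono_right hW'Z'), hYb, hW'fr, hm', add_comm]

theorem exists_isotropic_inv {r : ℕ} (hc : Ctx hF H g r) (hr : r.Prime) (hr2 : r ≠ 2) (i b c : ℕ)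
    (hi : i = orderOf (q : ZMod r)) (hb : b = bOf i) (hc' : c = cOf i) {Z : Submodule F V}
    (hZi : Inv g Z) (hZ : HNondegOn H Z) (m : ℕ) (hm : 2 * m ≤ finrank F ↥Z)
    (hk : 2 * (m % b) ≤ finrank F ↥Z % c)
    (hs : i % 4 ≠ 2 ∨ (r - 1) / b + 2 * (m / b) ≤ finrank F ↥Z / b) :
    ∃ W : Submodule F V, W ≤ Z ∧ Inv g W ∧ HIsotropic H W ∧ finrank F ↥W = m := by
  subst hi; subst hb; subst hc'
  exact ga_main hc hr hr2 m Z hZi hZ hm hk hs

end ga

end Cfsg.Agent.Lib.Helper14.Tu
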