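import Mathlib

set_option autoImplicit false

namespace Cfsg.Agent.Lib.Helper46.Tutte

open Subgroup

variable {G : Type*} [Group G]

/-! ### general index two facts -/

theorem index_subgroupOf_eq_two {K H : Subgroup G} (hKH : K ≤ H) (hK : Nat.card K ≠ 0)
    (hc : Nat.card H = 2 * Nat.card K) : (K.subgroupOf H).index = 2 := by
  have h1 := Subgroup.card_mul_index (K.subgroupOf H)
  have h2 : Nat.card (K.subgroupOf H) = Nat.card K :=
    Nat.card_congr (Subgroup.subgroupOfEquivOfLe hKH).toEquiv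
  rw [h2, hc] at h1
  have h3 : Nat.card K * (K.subgroupOf H).index = Nat.card K * 2 := by rw [h1]; ring
  exact Nat.eq_of_mul_eq_mul_left (Nat.pos_of_ne_zero hK) h3

theorem conj_mem_of_card {K H : Subgroup G} (hKH : K ≤ H) (hK : Nat.card K ≠ 0)
    (hc : Nat.card H = 2 * Nat.card K) {g u : G} (hg : g ∈ H) (hu : u ∈ K) :
    g * u * g⁻¹ ∈ K := by
  have hN : (K.subgroupOf H).Normal :=
    Subgroup.normal_of_index_eq_two (index_subgroupOf_eq_two hKH hK hc)
  have := hN.conj_mem ⟨u, hKH hu⟩ (by simpa [Subgroup.mem_subgroupOf] using hu) ⟨g, hg⟩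
  simpa [Subgroup.mem_subgroupOf] using this

theorem mul_inv_mem_of_card {K H : Subgroup G} (hKH : K ≤ H) (hK : Nat.card K ≠ 0)
    (hc : Nat.card H = 2 * Nat.card K) {g u : G} (hg : g ∈ H) (hgK : g ∉ K)
    (hu : u ∈ H) (huK : u ∉ K) : u * g⁻¹ ∈ K ∧ g⁻¹ * u ∈ K := by
  have hi := index_subgroupOf_eq_two hKH hK hc
  have e1 := Subgroup.mul_mem_iff_of_index_two hi (a := (⟨u, hu⟩ : H)) (b := (⟨g, hg⟩ : H)⁻¹)
  have e2 := Subgroup.mul_mem_iff_of_index_two hi (a := (⟨g, hg⟩ : H)⁻¹) (b := (⟨u, hu⟩ : H))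
  simp only [Subgroup.mem_subgroupOf, Subgroup.coe_mul, Subgroup.coe_inv, inv_mem_iff] at e1 e2
  exact ⟨e1.mpr (iff_of_false huK hgK), e2.mpr (iff_of_false hgK huK)⟩

/-! ### the shifted elements and interval subgroups -/

/-- the shifted elements -/
def xs (h y : G) (i : ℤ) : G := h ^ i * y * (h ^ i)⁻¹

/-- interval subgroups: generated by `xs i` for `a ≤ i < a + n` -/
def X (h y : G) (a : ℤ) (n : ℕ) : Subgroup G :=
  Subgroup.closure ((xs h y) '' Set.Ico a (a + n))

variable (h y : G)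

theorem xs_shift (k i : ℤ) : h ^ k * xs h y i * (h ^ k)⁻¹ = xs h y (i + k) := by
  unfold xs
  rw [add_comm i k, zpow_add]; group

theorem xs_mem {a : ℤ} {n : ℕ} {i : ℤ} (h1 : a ≤ i) (h2 : i < a + n) :
    xs h y i ∈ X h y a n :=
  Subgroup.subset_closure ⟨i, ⟨h1, h2⟩, rfl⟩

theorem X_mono {a a' : ℤ} {n n' : ℕ} (h1 : a' ≤ a) (h2 : a + n ≤ a' + n') :
    X h y a n ≤ X h y a' n' := by
  apply Subgroup.closure_mono
  apply Set.image_mono
  intro i hi; exact ⟨h1.trans hi.1, lt_of_lt_of_le hi.2 h2⟩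

theorem X_zero (a : ℤ) : X h y a 0 = ⊥ := by
  unfold X; simp

theorem X_le_iff {a : ℤ} {n : ℕ} {K : Subgroup G} :
    X h y a n ≤ K ↔ ∀ i, a ≤ i → i < a + n → xs h y i ∈ K := by
  unfold X
  rw [Subgroup.closure_le]
  constructor
  · intro hh i h1 h2; exact hh ⟨i, ⟨h1, h2⟩, rfl⟩
  · rintro hh _ ⟨i, hi, rfl⟩; exact hh i hi.1 hi.2

theorem X_shift (k a : ℤ) (n : ℕ) :
    (X h y a n).map (MulAut.conj (h ^ k)).toMonoidHom = X h y (a + k) n := by
  unfold X
  rw [MonoidHom.map_closure]
  congr 1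
  ext u
  constructor
  · rintro ⟨_, ⟨i, hi, rfl⟩, rfl⟩
    refine ⟨i + k, ⟨by linarith [hi.1], by linarith [hi.2]⟩, ?_⟩
    simp only [MulEquiv.coe_toMonoidHom, MulAut.conj_apply, xs_shift]
  · rintro ⟨i, hi, rfl⟩
    refine ⟨xs h y (i - k), ⟨i - k, ⟨by linarith [hi.1], by linarith [hi.2]⟩, rfl⟩, ?_⟩
    simp only [MulEquiv.coe_toMonoidHom, MulAut.conj_apply, xs_shift]
    congr 1; ring

theorem mem_X_shift {k a : ℤ} {n : ℕ} {u : G} (hu : u ∈ X h y a n) :
    h ^ k * u * (h ^ k)⁻¹ ∈ X h y (a + k) n := by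
  rw [← X_shift]
  exact ⟨u, hu, rfl⟩

variable {t : ℕ}

section card
variable (hcard : ∀ n, n < t → Nat.card (X h y 0 n) = 2 ^ n)
include hcard

theorem card_X (a : ℤ) {n : ℕ} (hn : n < t) : Nat.card (X h y a n) = 2 ^ n := by
  have := X_shift h y a 0 n
  rw [zero_add] at this
  rw [← this, Subgroup.card_map_of_injective (MulEquiv.injective _)]
  exact hcard n hn

theorem card_X_ne (a : ℤ) {n : ℕ} (hn : n < t) : Nat.card (X h y a n) ≠ 0 := by
  rw [card_X h y hcard a hn]; positivity

theorem card_X_succ (a a' : ℤ) {n : ℕ} (hn : n + 1 < t) :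
    Nat.card (X h y a (n + 1)) = 2 * Nat.card (X h y a' n) := by
  rw [card_X h y hcard a hn, card_X h y hcard a' (by omega), pow_succ]; ring

theorem xs_notMem_left (a : ℤ) {n : ℕ} (hn : n + 1 < t) : xs h y (a + n) ∉ X h y a n := by
  intro hmem
  have hle : X h y a (n + 1) ≤ X h y a n := by
    rw [X_le_iff]
    intro i h1 h2
    by_cases hi : i = a + n
    · rw [hi]; exact hmem
    · exact xs_mem h y h1 (by push_cast at h2; omega)
  have hfin : Finite (X h y a n) := Nat.finite_of_card_ne_zero (card_X_ne h y hcard a (by omega))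
  have := Nat.card_le_card_of_injective _ (Subgroup.inclusion_injective hle)
  rw [card_X h y hcard a hn, card_X h y hcard a (by omega : n < t), pow_succ] at this
  have : 0 < 2 ^ n := by positivity
  omega

theorem xs_notMem_right (a : ℤ) {n : ℕ} (hn : n + 1 < t) : xs h y a ∉ X h y (a + 1) n := by
  intro hmem
  have hle : X h y a (n + 1) ≤ X h y (a + 1) n := by
    rw [X_le_iff]
    intro i h1 h2
    by_cases hi : i = a
    · rw [hi]; exact hmem
    · exact xs_mem h y (by omega) (by push_cast at h2; omega)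
  have hfin : Finite (X h y (a + 1) n) :=
    Nat.finite_of_card_ne_zero (card_X_ne h y hcard (a + 1) (by omega))
  have := Nat.card_le_card_of_injective _ (Subgroup.inclusion_injective hle)
  rw [card_X h y hcard a hn, card_X h y hcard (a + 1) (by omega : n < t), pow_succ] at this
  have : 0 < 2 ^ n := by positivity
  omega

/-- `xs (a+n)` normalizes `X a n` -/
theorem norm_right (a : ℤ) {n : ℕ} (hn : n + 1 < t) {u : G} (hu : u ∈ X h y a n) :
    xs h y (a + n) * u * (xs h y (a + n))⁻¹ ∈ X h y a n :=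
  conj_mem_of_card (X_mono h y le_rfl (by push_cast; omega)) (card_X_ne h y hcard a (by omega))
    (card_X_succ h y hcard a a hn) (xs_mem h y (by omega) (by push_cast; omega)) hu

/-- `xs a` normalizes `X (a+1) n` -/
theorem norm_left (a : ℤ) {n : ℕ} (hn : n + 1 < t) {u : G} (hu : u ∈ X h y (a + 1) n) :
    xs h y a * u * (xs h y a)⁻¹ ∈ X h y (a + 1) n :=
  conj_mem_of_card (X_mono h y (by omega) (by push_cast; omega))
    (card_X_ne h y hcard (a + 1) (by omega))
    (card_X_succ h y hcard a (a + 1) hn) (xs_mem h y le_rfl (by push_cast; omega)) hu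

theorem decomp_right (a : ℤ) {n : ℕ} (hn : n + 1 < t) {u : G} (hu : u ∈ X h y a (n + 1)) :
    u ∈ X h y a n ∨ ∃ u' ∈ X h y a n, u = u' * xs h y (a + n) := by
  by_cases huK : u ∈ X h y a n
  · exact Or.inl huK
  · right
    have := (mul_inv_mem_of_card (X_mono h y le_rfl (by push_cast; omega))
      (card_X_ne h y hcard a (by omega))
      (card_X_succ h y hcard a a hn) (xs_mem h y (by omega) (by push_cast; omega))
      (xs_notMem_left h y hcard a hn) hu huK).1
    exact ⟨_, this, by group⟩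

theorem decomp_left (a : ℤ) {n : ℕ} (hn : n + 1 < t) {u : G} (hu : u ∈ X h y a (n + 1)) :
    u ∈ X h y (a + 1) n ∨ ∃ u' ∈ X h y (a + 1) n, u = xs h y a * u' := by
  by_cases huK : u ∈ X h y (a + 1) n
  · exact Or.inl huK
  · right
    have := (mul_inv_mem_of_card (X_mono h y (by omega) (by push_cast; omega))
      (card_X_ne h y hcard (a + 1) (by omega))
      (card_X_succ h y hcard a (a + 1) hn) (xs_mem h y le_rfl (by push_cast; omega))
      (xs_notMem_right h y hcard a hn) hu huK).2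
    exact ⟨_, this, by group⟩

theorem xs_ne_one (ht : 1 < t) (i : ℤ) : xs h y i ≠ 1 := by
  intro h1
  have := xs_notMem_left h y hcard i (n := 0) (by omega)
  apply this
  simp only [Nat.cast_zero, add_zero, h1]
  exact one_mem _

theorem xs_sq (ht : 1 < t) (i : ℤ) : xs h y i * xs h y i = 1 := by
  have hc := card_X h y hcard i ht
  have hX : X h y i 1 = Subgroup.zpowers (xs h y i) := by
    unfold X
    have : (xs h y) '' Set.Ico i (i + (1 : ℕ)) = {xs h y i} := by
      ext u; constructor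
      · rintro ⟨j, hj, rfl⟩
        have : j = i := by have := hj.1; have := hj.2; push_cast at *; omega
        rw [this]; rfl
      · rintro rfl; exact ⟨i, ⟨le_rfl, by push_cast; omega⟩, rfl⟩
    rw [this, Subgroup.zpowers_eq_closure]
  rw [hX, Nat.card_zpowers] at hc
  have := pow_orderOf_eq_one (xs h y i)
  rw [hc] at this
  simpa [pow_succ] using this

theorem xs_inv (ht : 1 < t) (i : ℤ) : (xs h y i)⁻¹ = xs h y i :=
  inv_eq_of_mul_eq_one_right (xs_sq h y hcard ht i)

/-- adjacent intervals meet trivially -/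
theorem disj (a : ℤ) (n : ℕ) : ∀ m : ℕ, n + m < t → ∀ u, u ∈ X h y a n → u ∈ X h y (a + n) m → u = 1 := by
  intro m
  induction m with
  | zero =>
    intro _ u _ hu2
    rw [X_zero] at hu2
    exact Subgroup.mem_bot.mp hu2
  | succ m ih =>
    intro hnm u hu1 hu2
    rcases decomp_right h y hcard (a + n) (by omega : m + 1 < t) hu2 with h3 | ⟨u', hu', rfl⟩
    · exact ih (by omega) u hu1 h3
    · exfalso
      have h4 : xs h y (a + n + m) ∈ X h y a (n + m) := by
        have h5 : u'⁻¹ * (u' * xs h y (a + n + m)) ∈ X h y a (n + m) :=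
          mul_mem (inv_mem (X_mono h y (by omega) (by push_cast; omega) hu'))
            (X_mono h y le_rfl (by push_cast; omega) hu1)
        simpa using h5
      have := xs_notMem_left h y hcard a (n := n + m) (by omega)
      apply this
      push_cast
      rw [← add_assoc]; exact h4

/-- commutator lemma: `x_a x_b x_a x_b ∈ X (a+1) n` where `b = a + n + 1` -/
theorem comm_mem (ht : 1 < t) (a : ℤ) {n : ℕ} (hn : n + 2 < t) :
    xs h y a * xs h y (a + n + 1) * xs h y a * xs h y (a + n + 1) ∈ X h y (a + 1) n := by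
  obtain ⟨xa, hxa⟩ : ∃ xa, xa = xs h y a := ⟨_, rfl⟩
  obtain ⟨xb, hxb⟩ : ∃ xb, xb = xs h y (a + n + 1) := ⟨_, rfl⟩
  rw [← hxa, ← hxb]
  have ia : xa⁻¹ = xa := by rw [hxa]; exact xs_inv h y hcard ht a
  have ib : xb⁻¹ = xb := by rw [hxb]; exact xs_inv h y hcard ht _
  -- c ∈ X a (n+1)
  have h1 : xa * xb * xa * xb ∈ X h y a (n + 1) := by
    have h2 : xb * xa * xb⁻¹ ∈ X h y a (n + 1) := by
      have := norm_right h y hcard a (n := n + 1) (by omega)
        (xs_mem h y le_rfl (by push_cast; omega) : xs h y a ∈ X h y a (n + 1))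
      have e : xs h y (a + ((n + 1 : ℕ) : ℤ)) = xb := by rw [hxb]; congr 1; push_cast; ring
      rwa [e, ← hxa] at this
    have h3 : xa ∈ X h y a (n + 1) := by rw [hxa]; exact xs_mem h y le_rfl (by push_cast; omega)
    have : xa * xb * xa * xb = xa * (xb * xa * xb⁻¹) := by
      rw [ib]; group
    rw [this]; exact mul_mem h3 h2
  -- c ∈ X (a+1) (n+1)
  have h2 : xa * xb * xa * xb ∈ X h y (a + 1) (n + 1) := by
    have h4 : xb ∈ X h y (a + 1) (n + 1) := by
      rw [hxb]; exact xs_mem h y (by omega) (by push_cast; omega)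
    have h3 := norm_left h y hcard a (n := n + 1) (by omega) h4
    rw [← hxa] at h3
    have : xa * xb * xa * xb = (xa * xb * xa⁻¹) * xb := by
      rw [ia]
    rw [this]; exact mul_mem h3 h4
  rcases decomp_left h y hcard a (by omega : n + 1 < t) h1 with h3 | ⟨u', hu', he⟩
  · exact h3
  · exfalso
    rw [← hxa] at he
    have h5 : xa ∈ X h y (a + 1) (n + 1) := by
      have : xa = (xa * xb * xa * xb) * u'⁻¹ := by rw [he]; group
      rw [this]
      exact mul_mem h2 (inv_mem (X_mono h y le_rfl (by push_cast; omega) hu'))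
    rw [hxa] at h5
    exact xs_notMem_right h y hcard a (n := n + 1) (by omega) h5

theorem comm_mem' (ht : 1 < t) (a : ℤ) {n : ℕ} (hn : n + 2 < t) :
    xs h y (a + n + 1) * xs h y a * xs h y (a + n + 1) * xs h y a ∈ X h y (a + 1) n := by
  have := inv_mem (comm_mem h y hcard ht a hn)
  simpa [mul_inv_rev, xs_inv h y hcard ht, mul_assoc] using this

end card

end Cfsg.Agent.Lib.Helper46.Tutte
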