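import Cfsg.Agent.Lib.Helper46.Tutte1

set_option autoImplicit false

namespace Cfsg.Agent.Lib.Helper46.Tutte

open Subgroup

variable {G : Type*} [Group G] (h y : G) {t : ℕ}

theorem commute_conj {a b : G} (c : G) (hab : Commute a b) :
    Commute (c * a * c⁻¹) (c * b * c⁻¹) := by
  show c * a * c⁻¹ * (c * b * c⁻¹) = c * b * c⁻¹ * (c * a * c⁻¹)
  have e : a * b = b * a := hab
  calc c * a * c⁻¹ * (c * b * c⁻¹) = c * (a * b) * c⁻¹ := by group
    _ = c * (b * a) * c⁻¹ := by rw [e]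
    _ = _ := by group

section lam
variable (lam : ℕ) (hcomm0 : ∀ k : ℕ, k < lam → Commute (xs h y 0) (xs h y k))
include hcomm0

theorem comm_of_lt (i j : ℤ) (hij : |i - j| < (lam : ℤ)) : Commute (xs h y i) (xs h y j) := by
  rw [abs_lt] at hij
  rcases le_total i j with hle | hle
  · obtain ⟨k, hk⟩ := Int.eq_ofNat_of_zero_le (by omega : 0 ≤ j - i)
    have hk' : k < lam := by omega
    have := commute_conj (h ^ i) (hcomm0 k hk')
    rw [xs_shift, xs_shift] at this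
    have e : (k : ℤ) + i = j := by omega
    rwa [zero_add, e] at this
  · obtain ⟨k, hk⟩ := Int.eq_ofNat_of_zero_le (by omega : 0 ≤ i - j)
    have hk' : k < lam := by omega
    have := commute_conj (h ^ j) (hcomm0 k hk')
    rw [xs_shift, xs_shift] at this
    have e : (k : ℤ) + j = i := by omega
    rw [zero_add, e] at this
    exact this.symm

theorem comm_X (j a : ℤ) (n : ℕ) (H : ∀ i, a ≤ i → i < a + n → |j - i| < (lam : ℤ)) :
    ∀ u ∈ X h y a n, Commute (xs h y j) u := by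
  have : X h y a n ≤ Subgroup.centralizer {xs h y j} := by
    rw [X_le_iff]
    intro i h1 h2
    rw [Subgroup.mem_centralizer_iff]
    intro g hg
    rw [Set.mem_singleton_iff] at hg
    rw [hg]
    exact comm_of_lt h y lam hcomm0 j i (H i h1 h2)
  intro u hu
  have := this hu
  rw [Subgroup.mem_centralizer_iff] at this
  exact this _ rfl

end lam

section lam2
variable (lam : ℕ) (hnc0 : ¬ Commute (xs h y 0) (xs h y lam))
include hnc0

theorem not_comm (i : ℤ) : ¬ Commute (xs h y i) (xs h y (i + lam)) := by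
  intro hc
  apply hnc0
  have := commute_conj (h ^ (-i)) hc
  rw [xs_shift, xs_shift] at this
  have e1 : i + -i = 0 := by ring
  have e2 : i + (lam : ℤ) + -i = lam := by ring
  rwa [e1, e2] at this

end lam2

section main
variable (hcard : ∀ n, n < t → Nat.card (X h y 0 n) = 2 ^ n)
variable (lam : ℕ) (hcomm0 : ∀ k : ℕ, k < lam → Commute (xs h y 0) (xs h y k))
  (hnc0 : ¬ Commute (xs h y 0) (xs h y lam))
include hcard hcomm0 hnc0

omit hnc0 in
/-- Step B -/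
theorem stepB (ht1 : 1 < t) (hlt : lam < t) (hl1 : 1 ≤ lam) (htop : X h y 0 (t + 1) = ⊤)
    (hcore : ∀ N : Subgroup G, N.Normal → N ≤ X h y 0 t → N = ⊥) : 2 * lam ≤ t + 1 := by
  by_contra hcon
  push Not at hcon
  obtain ⟨c, hc⟩ : ∃ c, c = xs h y ((lam : ℤ) - 1) := ⟨_, rfl⟩
  have hcen : c ∈ Subgroup.center G := by
    rw [Subgroup.mem_center_iff]
    intro g
    have hg : g ∈ X h y 0 (t + 1) := by rw [htop]; trivial
    have := comm_X h y lam hcomm0 ((lam : ℤ) - 1) 0 (t + 1) (by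
      intro i h1 h2
      rw [abs_lt]; push_cast at h2; constructor <;> omega) g hg
    rw [← hc] at this
    exact this.symm
  have hN : (Subgroup.zpowers c).Normal := by
    constructor
    intro n hn g
    have : g * n * g⁻¹ = n := by
      have h2 : n ∈ Subgroup.center G := (Subgroup.zpowers_le.2 hcen) hn
      rw [Subgroup.mem_center_iff] at h2
      rw [h2 g]; group
    rw [this]; exact hn
  have hle : Subgroup.zpowers c ≤ X h y 0 t := by
    rw [Subgroup.zpowers_le, hc]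
    exact xs_mem h y (by omega) (by omega)
  have := hcore _ hN hle
  have h1 : c = 1 := by
    have : c ∈ (⊥ : Subgroup G) := by rw [← this]; exact Subgroup.mem_zpowers c
    exact Subgroup.mem_bot.mp this
  exact xs_ne_one h y hcard ht1 _ (hc ▸ h1)

/-- the commutator `w` -/
def wc (h y : G) (lam : ℕ) : G := xs h y 0 * xs h y lam * xs h y 0 * xs h y lam

omit hcomm0 in
theorem wc_ne_one (ht1 : 1 < t) : wc h y lam ≠ 1 := by
  intro h1
  apply hnc0
  unfold wc at h1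
  show xs h y 0 * xs h y lam = xs h y lam * xs h y 0
  have i0 := xs_inv h y hcard ht1 0
  have il := xs_inv h y hcard ht1 lam
  calc xs h y 0 * xs h y lam = (xs h y 0 * xs h y lam * xs h y 0 * xs h y lam) * (xs h y lam)⁻¹ * (xs h y 0)⁻¹ := by group
    _ = xs h y lam * xs h y 0 := by rw [h1, il, i0]; group

omit hcomm0 hnc0 in
theorem wc_mem (ht1 : 1 < t) (hl1 : 1 ≤ lam) (hl : lam + 2 ≤ t) : wc h y lam ∈ X h y 1 (lam - 1) := by
  have := comm_mem h y hcard ht1 0 (n := lam - 1) (by omega)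
  have e : (0 : ℤ) + ((lam - 1 : ℕ) : ℤ) + 1 = lam := by
    have : ((lam - 1 : ℕ) : ℤ) = (lam : ℤ) - 1 := by omega
    rw [this]; ring
  rw [e, zero_add] at this
  exact this

/-- Step D -/
theorem stepD (ht1 : 1 < t) (j : ℕ) (hj1 : 1 ≤ j) (hj2 : j < lam) (hjt : lam + j + 2 ≤ t) :
    Commute (xs h y ((lam : ℤ) + j)) (wc h y lam) := by
  obtain ⟨x0, hx0⟩ : ∃ x0, x0 = xs h y 0 := ⟨_, rfl⟩
  obtain ⟨xl, hxl⟩ : ∃ xl, xl = xs h y lam := ⟨_, rfl⟩
  obtain ⟨xb, hxb⟩ : ∃ xb, xb = xs h y ((lam : ℤ) + j) := ⟨_, rfl⟩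
  have i0 : x0⁻¹ = x0 := by rw [hx0]; exact xs_inv h y hcard ht1 0
  have il : xl⁻¹ = xl := by rw [hxl]; exact xs_inv h y hcard ht1 _
  have ib : xb⁻¹ = xb := by rw [hxb]; exact xs_inv h y hcard ht1 _
  -- c' = x0 xb x0 xb ∈ X 1 (lam + j - 1)
  have hc : x0 * xb * x0 * xb ∈ X h y 1 (lam + j - 1) := by
    have := comm_mem h y hcard ht1 0 (n := lam + j - 1) (by omega)
    have e : (0 : ℤ) + ((lam + j - 1 : ℕ) : ℤ) + 1 = (lam : ℤ) + j := by
      have : ((lam + j - 1 : ℕ) : ℤ) = (lam : ℤ) + j - 1 := by omega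
      rw [this]; ring
    rw [e, zero_add, ← hx0, ← hxb] at this
    exact this
  obtain ⟨c, hcdef⟩ : ∃ c, c = x0 * xb * x0 * xb := ⟨_, rfl⟩
  rw [← hcdef] at hc
  have hcl : Commute xl c := by
    rw [hxl]
    apply comm_X h y lam hcomm0 lam 1 (lam + j - 1) _ c hc
    intro i h1 h2
    rw [abs_lt]
    have : ((lam + j - 1 : ℕ) : ℤ) = (lam : ℤ) + j - 1 := by omega
    rw [this] at h2
    constructor <;> omega
  have hbl : Commute xb xl := by
    rw [hxb, hxl]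
    apply comm_of_lt h y lam hcomm0
    rw [abs_lt]; constructor <;> omega
  -- xb x0 xb⁻¹ = x0 c
  have e1 : xb * x0 * xb⁻¹ = x0 * c := by
    rw [hcdef]
    calc xb * x0 * xb⁻¹ = x0 * (x0⁻¹ * xb * x0 * xb⁻¹) := by group
      _ = x0 * (x0 * xb * x0 * xb) := by rw [i0, ib]
  have hcl' : c * xl = xl * c := hcl.symm
  have hbl' : xb * xl = xl * xb := hbl
  have e5 : xb * xl * xb⁻¹ = xl := by rw [hbl']; group
  rw [← hxb]
  show xb * wc h y lam = wc h y lam * xb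
  unfold wc
  rw [← hx0, ← hxl]
  have key : xb * (x0 * xl * x0⁻¹ * xl⁻¹) * xb⁻¹ = x0 * xl * x0⁻¹ * xl⁻¹ := by
    calc xb * (x0 * xl * x0⁻¹ * xl⁻¹) * xb⁻¹
        = (xb * x0 * xb⁻¹) * (xb * xl * xb⁻¹) * (xb * x0 * xb⁻¹)⁻¹ * (xb * xl * xb⁻¹)⁻¹ := by group
      _ = (x0 * c) * xl * (x0 * c)⁻¹ * xl⁻¹ := by rw [e1, e5]
      _ = x0 * (c * xl) * c⁻¹ * x0⁻¹ * xl⁻¹ := by group
      _ = x0 * xl * x0⁻¹ * xl⁻¹ := by rw [hcl']; group
  rw [i0, il] at key
  calc xb * (x0 * xl * x0 * xl) = (xb * (x0 * xl * x0 * xl) * xb⁻¹) * xb := by group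
    _ = x0 * xl * x0 * xl * xb := by rw [key]

/-- Step D, mirrored -/
theorem stepD' (ht1 : 1 < t) (j : ℕ) (hj1 : 1 ≤ j) (hj2 : j < lam) (hjt : lam + j + 2 ≤ t) :
    Commute (xs h y (-(j : ℤ))) (wc h y lam) := by
  obtain ⟨x0, hx0⟩ : ∃ x0, x0 = xs h y 0 := ⟨_, rfl⟩
  obtain ⟨xl, hxl⟩ : ∃ xl, xl = xs h y lam := ⟨_, rfl⟩
  obtain ⟨xm, hxm⟩ : ∃ xm, xm = xs h y (-(j : ℤ)) := ⟨_, rfl⟩
  have i0 : x0⁻¹ = x0 := by rw [hx0]; exact xs_inv h y hcard ht1 0
  have il : xl⁻¹ = xl := by rw [hxl]; exact xs_inv h y hcard ht1 _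
  have im : xm⁻¹ = xm := by rw [hxm]; exact xs_inv h y hcard ht1 _
  have hc : xl * xm * xl * xm ∈ X h y (-(j : ℤ) + 1) (lam + j - 1) := by
    have := comm_mem' h y hcard ht1 (-(j : ℤ)) (n := lam + j - 1) (by omega)
    have e : -(j : ℤ) + ((lam + j - 1 : ℕ) : ℤ) + 1 = (lam : ℤ) := by
      have : ((lam + j - 1 : ℕ) : ℤ) = (lam : ℤ) + j - 1 := by omega
      rw [this]; ring
    rw [e, ← hxl, ← hxm] at this
    exact this
  obtain ⟨c, hcdef⟩ : ∃ c, c = xl * xm * xl * xm := ⟨_, rfl⟩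
  rw [← hcdef] at hc
  have hc0 : Commute x0 c := by
    rw [hx0]
    apply comm_X h y lam hcomm0 0 (-(j : ℤ) + 1) (lam + j - 1) _ c hc
    intro i h1 h2
    rw [abs_lt]
    have : ((lam + j - 1 : ℕ) : ℤ) = (lam : ℤ) + j - 1 := by omega
    rw [this] at h2
    constructor <;> omega
  have hm0 : Commute xm x0 := by
    rw [hxm, hx0]
    apply comm_of_lt h y lam hcomm0
    rw [abs_lt]; constructor <;> omega
  have e1 : xm * xl * xm⁻¹ = xl * c := by
    rw [hcdef]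
    calc xm * xl * xm⁻¹ = xl * (xl⁻¹ * xm * xl * xm⁻¹) := by group
      _ = xl * (xl * xm * xl * xm) := by rw [il, im]
  have hc0' : c * x0⁻¹ = x0⁻¹ * c := by
    have e : x0 * c = c * x0 := hc0
    calc c * x0⁻¹ = x0⁻¹ * (x0 * c) * x0⁻¹ := by group
      _ = x0⁻¹ * c := by rw [e]; group
  have hm0' : xm * x0 = x0 * xm := hm0
  have e5 : xm * x0 * xm⁻¹ = x0 := by rw [hm0']; group
  rw [← hxm]
  show xm * wc h y lam = wc h y lam * xm
  unfold wc
  rw [← hx0, ← hxl]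
  have key : xm * (x0 * xl * x0⁻¹ * xl⁻¹) * xm⁻¹ = x0 * xl * x0⁻¹ * xl⁻¹ := by
    calc xm * (x0 * xl * x0⁻¹ * xl⁻¹) * xm⁻¹
        = (xm * x0 * xm⁻¹) * (xm * xl * xm⁻¹) * (xm * x0 * xm⁻¹)⁻¹ * (xm * xl * xm⁻¹)⁻¹ := by group
      _ = x0 * (xl * c) * x0⁻¹ * (xl * c)⁻¹ := by rw [e1, e5]
      _ = x0 * xl * (c * x0⁻¹) * c⁻¹ * xl⁻¹ := by group
      _ = x0 * xl * x0⁻¹ * xl⁻¹ := by rw [hc0']; group
  rw [i0, il] at key
  calc xm * (x0 * xl * x0 * xl) = (xm * (x0 * xl * x0 * xl) * xm⁻¹) * xm := by group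
    _ = x0 * xl * x0 * xl * xm := by rw [key]

omit hcomm0 hnc0 in
/-- left decomposition of an element of `X μ d` -/
theorem exists_left (w : G) (hw : w ≠ 1) : ∀ d : ℕ, ∀ μ : ℕ, d < t → μ + d = lam → w ∈ X h y μ d →
    ∃ μ' : ℕ, μ ≤ μ' ∧ μ' < lam ∧ ∃ w' ∈ X h y ((μ' : ℤ) + 1) (lam - 1 - μ'), w = xs h y μ' * w' := by
  intro d
  induction d with
  | zero =>
    intro μ _ _ hmem
    rw [X_zero] at hmem
    exact absurd (Subgroup.mem_bot.mp hmem) hw
  | succ d ih =>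
    intro μ hdt hμ hmem
    rcases decomp_left h y hcard μ hdt hmem with h1 | ⟨u', hu', he⟩
    · obtain ⟨μ', h2, h3, h4⟩ := ih (μ + 1) (by omega) (by omega) (by exact_mod_cast h1)
      exact ⟨μ', by omega, h3, h4⟩
    · refine ⟨μ, le_rfl, by omega, u', ?_, he⟩
      have : lam - 1 - μ = d := by omega
      rw [this]; exact hu'

omit hcomm0 hnc0 in
/-- right decomposition of an element of `X 1 d` -/
theorem exists_right (w : G) (hw : w ≠ 1) : ∀ d : ℕ, d < t → w ∈ X h y 1 d →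
    ∃ ν : ℕ, 1 ≤ ν ∧ ν ≤ d ∧ ∃ w' ∈ X h y 1 (ν - 1), w = w' * xs h y ν := by
  intro d
  induction d with
  | zero =>
    intro _ hmem
    rw [X_zero] at hmem
    exact absurd (Subgroup.mem_bot.mp hmem) hw
  | succ d ih =>
    intro hdt hmem
    rcases decomp_right h y hcard 1 hdt hmem with h1 | ⟨u', hu', he⟩
    · obtain ⟨ν, h2, h3, h4⟩ := ih (by omega) h1
      exact ⟨ν, h2, by omega, h4⟩
    · refine ⟨d + 1, by omega, le_rfl, u', ?_, ?_⟩
      · simpa using hu'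
      · rw [he]; congr 2; push_cast; ring

/-- Step E, the `μ` inequality -/
theorem stepE_mu (ht1 : 1 < t) (hl1 : 1 ≤ lam) (hl : lam + 2 ≤ t) :
    ∃ μ : ℕ, 1 ≤ μ ∧ μ < lam ∧ t ≤ lam + μ + 1 ∧
      ∃ w' ∈ X h y ((μ : ℤ) + 1) (lam - 1 - μ), wc h y lam = xs h y μ * w' := by
  have hw := wc_mem h y hcard lam ht1 hl1 hl
  obtain ⟨μ, h1, h2, w', hw', he⟩ := exists_left h y hcard lam (wc h y lam)
    (wc_ne_one h y hcard lam hnc0 ht1) (lam - 1) 1 (by omega) (by omega) (by exact_mod_cast hw)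
  refine ⟨μ, h1, h2, ?_, w', hw', he⟩
  by_contra hcon
  push Not at hcon
  have hD := stepD h y hcard lam hcomm0 hnc0 ht1 μ h1 h2 (by omega)
  have hw'c : Commute (xs h y ((lam : ℤ) + μ)) w' := by
    apply comm_X h y lam hcomm0 _ _ _ _ w' hw'
    intro i h3 h4
    rw [abs_lt]
    have : ((lam - 1 - μ : ℕ) : ℤ) = (lam : ℤ) - 1 - μ := by omega
    rw [this] at h4
    constructor <;> omega
  have hx : Commute (xs h y ((lam : ℤ) + μ)) (xs h y μ) := by
    have e : xs h y μ = wc h y lam * w'⁻¹ := by rw [he]; group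
    rw [e]
    exact hD.mul_right hw'c.inv_right
  have := not_comm h y lam hnc0 (μ : ℤ)
  apply this
  rw [add_comm (μ : ℤ)]
  exact hx.symm

/-- Step E, the `ν` inequality -/
theorem stepE_nu (ht1 : 1 < t) (hl1 : 1 ≤ lam) (hl : lam + 2 ≤ t) :
    ∃ ν : ℕ, 1 ≤ ν ∧ ν < lam ∧ t + ν ≤ 2 * lam + 1 ∧
      ∃ w' ∈ X h y 1 (ν - 1), wc h y lam = w' * xs h y ν := by
  have hw := wc_mem h y hcard lam ht1 hl1 hl
  obtain ⟨ν, h1, h2, w', hw', he⟩ := exists_right h y hcard (wc h y lam)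
    (wc_ne_one h y hcard lam hnc0 ht1) (lam - 1) (by omega) hw
  refine ⟨ν, h1, by omega, ?_, w', hw', he⟩
  by_contra hcon
  push Not at hcon
  have hD := stepD' h y hcard lam hcomm0 hnc0 ht1 (lam - ν) (by omega) (by omega) (by omega)
  have hcast : ((lam - ν : ℕ) : ℤ) = (lam : ℤ) - ν := by omega
  rw [hcast] at hD
  have hw'c : Commute (xs h y (-((lam : ℤ) - ν))) w' := by
    apply comm_X h y lam hcomm0 _ _ _ _ w' hw'
    intro i h3 h4
    rw [abs_lt]
    have : ((ν - 1 : ℕ) : ℤ) = (ν : ℤ) - 1 := by omega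
    rw [this] at h4
    constructor <;> omega
  have hx : Commute (xs h y (-((lam : ℤ) - ν))) (xs h y ν) := by
    have e : xs h y ν = w'⁻¹ * wc h y lam := by rw [he]; group
    rw [e]
    exact hw'c.inv_right.mul_right hD
  have := not_comm h y lam hnc0 (-((lam : ℤ) - ν))
  apply this
  have e : -((lam : ℤ) - ν) + lam = ν := by ring
  rw [e]
  exact hx

end main

end Cfsg.Agent.Lib.Helper46.Tutte
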