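import Cfsg.Agent.Lib.Helper46.Tutte2

set_option autoImplicit false

namespace Cfsg.Agent.Lib.Helper46.Tutte

open Subgroup

variable {G : Type*} [Group G] (h y : G) {t : ℕ}

section elem
variable (lam : ℕ) (hcomm0 : ∀ k : ℕ, k < lam → Commute (xs h y 0) (xs h y k))
include hcomm0

theorem X_comm (a : ℤ) (n : ℕ) (hn : n ≤ lam) : ∀ u ∈ X h y a n, ∀ v ∈ X h y a n, Commute u v := by
  intro u hu v hv
  have : X h y a n ≤ Subgroup.centralizer {v} := by
    rw [X_le_iff]
    intro i h1 h2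
    rw [Subgroup.mem_centralizer_iff]
    intro g hg
    rw [Set.mem_singleton_iff] at hg
    rw [hg]
    have := comm_X h y lam hcomm0 i a n (by
      intro i' h3 h4; rw [abs_lt]; constructor <;> omega) v hv
    exact this.symm
  have h3 := this hu
  rw [Subgroup.mem_centralizer_iff] at h3
  exact (h3 v rfl).symm

theorem X_sq (hsq : ∀ i, xs h y i * xs h y i = 1) (a : ℤ) (n : ℕ) (hn : n ≤ lam) :
    ∀ u ∈ X h y a n, u * u = 1 := by
  intro u hu
  have key : ∀ u (hu : u ∈ Subgroup.closure ((xs h y) '' Set.Ico a (a + n))), u * u = 1 := by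
    intro u hu
    induction hu using Subgroup.closure_induction with
    | mem x hx =>
      obtain ⟨i, _, rfl⟩ := hx
      exact hsq i
    | one => simp
    | mul x z hx hz ihx ihz =>
      have hc : z * x = x * z := X_comm h y lam hcomm0 a n hn z hz x hx
      calc x * z * (x * z) = x * (z * x) * z := by group
        _ = (x * x) * (z * z) := by rw [hc]; group
        _ = 1 := by rw [ihx, ihz, one_mul]
    | inv x hx ih =>
      calc x⁻¹ * x⁻¹ = (x * x)⁻¹ := by group
        _ = 1 := by rw [ih, inv_one]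
  exact key u hu

end elem

theorem inv_of_sq {a : G} (ha : a * a = 1) : a⁻¹ = a := inv_eq_of_mul_eq_one_right ha

theorem commute_of_sq {a b : G} (ha : a * a = 1) (hb : b * b = 1) (hab : (a * b) * (a * b) = 1) :
    Commute a b := by
  show a * b = b * a
  have h1 : (a * b)⁻¹ = a * b := inv_of_sq hab
  rw [mul_inv_rev, inv_of_sq ha, inv_of_sq hb] at h1
  exact h1.symm

/-- the case `t = 7` -/
theorem kill7 (hcard : ∀ n, n < 7 → Nat.card (X h y 0 n) = 2 ^ n)
    (hcomm0 : ∀ k : ℕ, k < 4 → Commute (xs h y 0) (xs h y k))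
    (hnc0 : ¬ Commute (xs h y 0) (xs h y (4 : ℕ)))
    (hw : xs h y 0 * xs h y 4 * xs h y 0 * xs h y 4 = xs h y 2)
    (htop : X h y 0 8 = ⊤)
    (hcore : ∀ N : Subgroup G, N.Normal → N ≤ X h y 0 7 → N = ⊥) : False := by
  have C : ∀ i j : ℤ, |i - j| < 4 → Commute (xs h y i) (xs h y j) := by
    intro i j hij
    exact comm_of_lt h y 4 hcomm0 i j (by exact_mod_cast hij)
  have S : ∀ i, xs h y i * xs h y i = 1 := xs_sq h y hcard (by norm_num)
  have I : ∀ i, (xs h y i)⁻¹ = xs h y i := xs_inv h y hcard (by norm_num)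
  have NC : ∀ i : ℤ, ¬ Commute (xs h y i) (xs h y (i + 4)) := by
    intro i
    have := not_comm h y 4 hnc0 i
    exact_mod_cast this
  have R : ∀ k : ℤ, xs h y k * xs h y (k + 4) * xs h y k * xs h y (k + 4) = xs h y (k + 2) := by
    intro k
    have this : h ^ k * (xs h y 0 * xs h y 4 * xs h y 0 * xs h y 4) * (h ^ k)⁻¹ =
        h ^ k * xs h y 2 * (h ^ k)⁻¹ := by rw [hw]
    rw [xs_shift] at this
    have e : h ^ k * (xs h y 0 * xs h y 4 * xs h y 0 * xs h y 4) * (h ^ k)⁻¹ =
        (h ^ k * xs h y 0 * (h ^ k)⁻¹) * (h ^ k * xs h y 4 * (h ^ k)⁻¹) *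
        (h ^ k * xs h y 0 * (h ^ k)⁻¹) * (h ^ k * xs h y 4 * (h ^ k)⁻¹) := by group
    rw [e, xs_shift, xs_shift] at this
    have e0 : (0 : ℤ) + k = k := by ring
    have e4 : (4 : ℤ) + k = k + 4 := by ring
    have e2 : (2 : ℤ) + k = k + 2 := by ring
    rwa [e0, e4, e2] at this
  -- conjugation formula from R
  have R' : ∀ k : ℤ, xs h y k * xs h y (k + 4) * xs h y k = xs h y (k + 2) * xs h y (k + 4) := by
    intro k
    calc xs h y k * xs h y (k + 4) * xs h y k
        = (xs h y k * xs h y (k + 4) * xs h y k * xs h y (k + 4)) * (xs h y (k + 4))⁻¹ := by group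
      _ = xs h y (k + 2) * xs h y (k + 4) := by rw [R k, I]
  have R'' : ∀ k : ℤ, xs h y (k + 4) * xs h y k * xs h y (k + 4) = xs h y k * xs h y (k + 2) := by
    intro k
    calc xs h y (k + 4) * xs h y k * xs h y (k + 4)
        = (xs h y k)⁻¹ * (xs h y k * xs h y (k + 4) * xs h y k * xs h y (k + 4)) := by group
      _ = xs h y k * xs h y (k + 2) := by rw [R k, I]
  -- the element v
  obtain ⟨v, hv⟩ : ∃ v, v = xs h y 5 * xs h y 0 * xs h y 5 * xs h y 0 := ⟨_, rfl⟩
  have hv1 : v ∈ X h y 1 4 := by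
    have := comm_mem' h y hcard (by norm_num) 0 (n := 4) (by norm_num)
    have e : (0 : ℤ) + ((4 : ℕ) : ℤ) + 1 = 5 := by norm_num
    rw [e, zero_add] at this
    rw [hv]; exact this
  have hvsq : v * v = 1 := X_sq h y 4 hcomm0 S 1 4 le_rfl v hv1
  have hp : xs h y 0 * xs h y 5 * xs h y 0 = xs h y 5 * v := by
    rw [hv]
    calc xs h y 0 * xs h y 5 * xs h y 0
        = (xs h y 5 * xs h y 5) * xs h y 0 * xs h y 5 * xs h y 0 := by rw [S, one_mul]
      _ = _ := by group
  have hq : xs h y 5 * xs h y 0 * xs h y 5 = v * xs h y 0 := by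
    rw [hv]
    calc xs h y 5 * xs h y 0 * xs h y 5
        = xs h y 5 * xs h y 0 * xs h y 5 * (xs h y 0 * xs h y 0) := by rw [S, mul_one]
      _ = _ := by group
  have hc5 : Commute (xs h y 5) v := by
    apply commute_of_sq (S 5) hvsq
    rw [← hp]
    calc xs h y 0 * xs h y 5 * xs h y 0 * (xs h y 0 * xs h y 5 * xs h y 0)
        = xs h y 0 * xs h y 5 * (xs h y 0 * xs h y 0) * xs h y 5 * xs h y 0 := by group
      _ = xs h y 0 * (xs h y 5 * xs h y 5) * xs h y 0 := by rw [S]; group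
      _ = 1 := by rw [S, mul_one, S]
  have hc0 : Commute (xs h y 0) v := by
    apply Commute.symm
    apply commute_of_sq hvsq (S 0)
    rw [← hq]
    calc xs h y 5 * xs h y 0 * xs h y 5 * (xs h y 5 * xs h y 0 * xs h y 5)
        = xs h y 5 * xs h y 0 * (xs h y 5 * xs h y 5) * xs h y 0 * xs h y 5 := by group
      _ = xs h y 5 * (xs h y 0 * xs h y 0) * xs h y 5 := by rw [S]; group
      _ = 1 := by rw [S, mul_one, S]
  have hv2 : v ∈ X h y 2 3 := by
    rcases decomp_left h y hcard 1 (n := 3) (by norm_num) hv1 with h1 | ⟨u', hu', he⟩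
    · exact h1
    · exfalso
      have h5 : Commute (xs h y 5) u' := by
        apply comm_X h y 4 hcomm0 5 (1 + 1) 3 _ u' hu'
        intro i h1 h2; rw [abs_lt]; push_cast at h2 ⊢; constructor <;> omega
      have e : xs h y 1 = v * u'⁻¹ := by rw [he]; group
      have : Commute (xs h y 5) (xs h y 1) := by
        rw [e]; exact hc5.mul_right h5.inv_right
      exact NC 1 this.symm
  have hv3 : v ∈ X h y 2 2 := by
    rcases decomp_right h y hcard 2 (n := 2) (by norm_num) hv2 with h1 | ⟨u', hu', he⟩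
    · exact h1
    · exfalso
      have h5 : Commute (xs h y 0) u' := by
        apply comm_X h y 4 hcomm0 0 2 2 _ u' hu'
        intro i h1 h2; rw [abs_lt]; push_cast at h2 ⊢; constructor <;> omega
      have e : xs h y (2 + ((2 : ℕ) : ℤ)) = u'⁻¹ * v := by rw [he]; group
      have : Commute (xs h y 0) (xs h y (2 + ((2 : ℕ) : ℤ))) := by
        rw [e]; exact h5.inv_right.mul_right hc0
      exact NC 0 (by simpa using this)
  -- the normal subgroup
  have hconj : ∀ i j : ℤ, 0 ≤ i → i < 8 → 2 ≤ j → j < 6 →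
      xs h y i * xs h y j * (xs h y i)⁻¹ ∈ X h y 2 4 := by
    intro i j hi0 hi8 hj2 hj6
    by_cases hclose : |i - j| < 4
    · have hc : xs h y i * xs h y j = xs h y j * xs h y i := C i j hclose
      have : xs h y i * xs h y j * (xs h y i)⁻¹ = xs h y j := by rw [hc]; group
      rw [this]; exact xs_mem h y hj2 (by push_cast; omega)
    · rw [abs_lt] at hclose
      rw [I]
      have hcases : (i = 0 ∧ j = 4) ∨ (i = 0 ∧ j = 5) ∨ (i = 1 ∧ j = 5) ∨ (i = 6 ∧ j = 2) ∨
          (i = 7 ∧ j = 2) ∨ (i = 7 ∧ j = 3) := by omega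
      rcases hcases with ⟨rfl, rfl⟩ | ⟨rfl, rfl⟩ | ⟨rfl, rfl⟩ | ⟨rfl, rfl⟩ | ⟨rfl, rfl⟩ | ⟨rfl, rfl⟩
      · have := R' 0
        norm_num at this
        rw [this]
        exact mul_mem (xs_mem h y (by norm_num) (by norm_num)) (xs_mem h y (by norm_num) (by norm_num))
      · rw [hp]
        exact mul_mem (xs_mem h y (by norm_num) (by norm_num))
          (X_mono h y (by norm_num) (by norm_num) hv3)
      · have := R' 1
        norm_num at this
        rw [this]
        exact mul_mem (xs_mem h y (by norm_num) (by norm_num)) (xs_mem h y (by norm_num) (by norm_num))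
      · have := R'' 2
        norm_num at this
        rw [this]
        exact mul_mem (xs_mem h y (by norm_num) (by norm_num)) (xs_mem h y (by norm_num) (by norm_num))
      · -- x7 x2 x7 = h^2 (x5 x0 x5) h^-2
        have e : xs h y 7 * xs h y 2 * xs h y 7 =
            h ^ (2 : ℤ) * (xs h y 5 * xs h y 0 * xs h y 5) * (h ^ (2 : ℤ))⁻¹ := by
          have e1 : h ^ (2 : ℤ) * (xs h y 5 * xs h y 0 * xs h y 5) * (h ^ (2 : ℤ))⁻¹ =
              (h ^ (2 : ℤ) * xs h y 5 * (h ^ (2 : ℤ))⁻¹) * (h ^ (2 : ℤ) * xs h y 0 * (h ^ (2 : ℤ))⁻¹) *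
              (h ^ (2 : ℤ) * xs h y 5 * (h ^ (2 : ℤ))⁻¹) := by group
          rw [e1, xs_shift, xs_shift]
          norm_num
        rw [e, hq]
        have e2 : h ^ (2 : ℤ) * (v * xs h y 0) * (h ^ (2 : ℤ))⁻¹ =
            (h ^ (2 : ℤ) * v * (h ^ (2 : ℤ))⁻¹) * (h ^ (2 : ℤ) * xs h y 0 * (h ^ (2 : ℤ))⁻¹) := by group
        rw [e2, xs_shift]
        have hm := mem_X_shift h y (k := 2) hv3
        refine mul_mem (X_mono h y (by norm_num) (by norm_num) hm) ?_
        exact xs_mem h y (by norm_num) (by norm_num)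
      · have := R'' 3
        norm_num at this
        rw [this]
        exact mul_mem (xs_mem h y (by norm_num) (by norm_num)) (xs_mem h y (by norm_num) (by norm_num))
  have hconjN : ∀ i : ℤ, 0 ≤ i → i < 8 → ∀ u ∈ X h y 2 4, xs h y i * u * (xs h y i)⁻¹ ∈ X h y 2 4 := by
    intro i hi0 hi8
    have : X h y 2 4 ≤ (X h y 2 4).comap (MulAut.conj (xs h y i)).toMonoidHom := by
      rw [X_le_iff]
      intro j h1 h2
      rw [Subgroup.mem_comap]
      exact hconj i j hi0 hi8 h1 (by push_cast at h2; omega)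
    intro u hu
    exact this hu
  have hN : (X h y 2 4).Normal := by
    rw [← Subgroup.normalizer_eq_top_iff, eq_top_iff, ← htop, X_le_iff]
    intro i h1 h2
    rw [Subgroup.mem_normalizer_iff]
    intro u
    constructor
    · intro hu; exact hconjN i h1 (by push_cast at h2; omega) u hu
    · intro hu
      have := hconjN i h1 (by push_cast at h2; omega) _ hu
      have e : xs h y i * (xs h y i * u * (xs h y i)⁻¹) * (xs h y i)⁻¹ = u := by
        rw [I]
        calc xs h y i * (xs h y i * u * xs h y i) * xs h y i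
            = (xs h y i * xs h y i) * u * (xs h y i * xs h y i) := by group
          _ = u := by rw [S]; group
      rwa [e] at this
  have hbot := hcore _ hN (X_mono h y (by norm_num) (by norm_num))
  have : xs h y 2 ∈ (⊥ : Subgroup G) := by
    rw [← hbot]; exact xs_mem h y le_rfl (by norm_num)
  exact xs_ne_one h y hcard (by norm_num) 2 (Subgroup.mem_bot.mp this)

/-- Part II: the Tutte configuration with `t ≥ 6` is impossible. -/
theorem tutte_false (ht : 6 ≤ t)
    (hcard : ∀ n, n < t → Nat.card (X h y 0 n) = 2 ^ n)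
    (hnc : ∃ k : ℕ, 1 ≤ k ∧ k < t ∧ ¬ Commute (xs h y 0) (xs h y k))
    (htop : X h y 0 (t + 1) = ⊤)
    (hcore : ∀ N : Subgroup G, N.Normal → N ≤ X h y 0 t → N = ⊥) : False := by
  classical
  have ht1 : 1 < t := by omega
  have hex : ∃ k : ℕ, 1 ≤ k ∧ ¬ Commute (xs h y 0) (xs h y k) := by
    obtain ⟨k, h1, _, h3⟩ := hnc; exact ⟨k, h1, h3⟩
  obtain ⟨lam, hlam⟩ : ∃ lam, lam = Nat.find hex := ⟨_, rfl⟩
  have hl1 : 1 ≤ lam := by rw [hlam]; exact (Nat.find_spec hex).1
  have hnc0 : ¬ Commute (xs h y 0) (xs h y lam) := by rw [hlam]; exact (Nat.find_spec hex).2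
  have hlt : lam < t := by
    obtain ⟨k, h1, h2, h3⟩ := hnc
    rw [hlam]; exact lt_of_le_of_lt (Nat.find_min' hex ⟨h1, h3⟩) h2
  have hcomm0 : ∀ k : ℕ, k < lam → Commute (xs h y 0) (xs h y k) := by
    intro k hk
    by_cases hk0 : k = 0
    · subst hk0; exact Commute.refl _
    · by_contra hc
      rw [hlam] at hk
      exact Nat.find_min hex hk ⟨by omega, hc⟩
  have hB := stepB h y hcard lam hcomm0 ht1 hlt hl1 htop hcore
  have hl2 : lam + 2 ≤ t := by omega
  obtain ⟨μ, hμ1, hμ2, hμ3, w', hw', he⟩ := stepE_mu h y hcard lam hcomm0 hnc0 ht1 hl1 hl2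
  obtain ⟨ν, hν1, hν2, hν3, w'', hw'', he'⟩ := stepE_nu h y hcard lam hcomm0 hnc0 ht1 hl1 hl2
  have hμν : μ ≤ ν := by
    by_contra hcon
    push Not at hcon
    have h1 : wc h y lam ∈ X h y 1 ν := by
      rw [he']
      exact mul_mem (X_mono h y le_rfl (by push_cast; omega) hw'')
        (xs_mem h y (by omega) (by omega))
    have h2 : wc h y lam ∈ X h y (1 + ν) (lam - 1 - ν) := by
      rw [he]
      have hc : ((lam - 1 - ν : ℕ) : ℤ) = (lam : ℤ) - 1 - ν := by omega
      have hc' : ((lam - 1 - μ : ℕ) : ℤ) = (lam : ℤ) - 1 - μ := by omega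
      refine mul_mem (xs_mem h y (by omega) (by rw [hc]; omega))
        (X_mono h y (by omega) (by rw [hc, hc']; omega) hw')
    exact wc_ne_one h y hcard lam hnc0 ht1 (disj h y hcard 1 ν (lam - 1 - ν) (by omega) _ h1 h2)
  have h7 : t = 7 ∧ lam = 4 ∧ μ = 2 ∧ ν = 2 := by omega
  obtain ⟨rfl, rfl, rfl, rfl⟩ := h7
  -- `w = x_2`
  have hc2 : Commute (xs h y 2) w'' := by
    apply comm_X h y 4 hcomm0 2 1 (2 - 1) _ w'' hw''
    intro i h1 h2; rw [abs_lt]; norm_num at h2 ⊢; constructor <;> omega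
  have hww : w' = w'' := by
    have e1 : w' = (xs h y ((2 : ℕ) : ℤ))⁻¹ * (w'' * xs h y ((2 : ℕ) : ℤ)) := by
      rw [← he', he]; group
    have e2 : w'' * xs h y ((2 : ℕ) : ℤ) = xs h y ((2 : ℕ) : ℤ) * w'' := by
      have := hc2.eq
      exact_mod_cast this.symm
    rw [e1, e2]; group
  have hw1 : w'' = 1 := by
    apply disj h y hcard 1 1 2 (by norm_num) w''
    · simpa using hw''
    · rw [← hww]
      exact X_mono h y (by norm_num) (by norm_num) hw'
  have hw : xs h y 0 * xs h y 4 * xs h y 0 * xs h y 4 = xs h y 2 := by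
    have := he'
    rw [hw1, one_mul] at this
    unfold wc at this
    exact_mod_cast this
  exact kill7 h y hcard hcomm0 hnc0 hw htop hcore

end Cfsg.Agent.Lib.Helper46.Tutte
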