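import Cfsg.Agent.Lib.Helper46.Tutte3

set_option autoImplicit false

namespace Cfsg.Agent.Lib.Helper46.Tutte

open Subgroup

variable {G : Type*} [Group G]

theorem fin3_pigeon (a b c d : Fin 3) (h1 : a ≠ b) (h2 : a ≠ c) (h3 : b ≠ c) (h4 : d ≠ a)
    (h5 : d ≠ b) : d = c := by
  rw [Ne, Fin.ext_iff] at h1 h2 h3 h4 h5
  rw [Fin.ext_iff]
  omega

/-- two elements of `D` moving the coset `xD` move it to the same coset -/
theorem two_coset_base (A D : Subgroup G) (hDA : D ≤ A) (hidx : D.relIndex A = 3) (x : G) (hxA : x ∈ A)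
    (hxD : x ∉ D) (u v : G) (hu : u ∈ D) (hv : v ∈ D) (hu' : x⁻¹ * u * x ∉ D) (hv' : x⁻¹ * v * x ∉ D) :
    x⁻¹ * (u⁻¹ * v) * x ∈ D := by
  have hcard3 : Nat.card (A ⧸ D.subgroupOf A) = 3 := by
    rw [← Subgroup.index_eq_card]; exact hidx
  haveI : Finite (A ⧸ D.subgroupOf A) := Nat.finite_of_card_ne_zero (by rw [hcard3]; norm_num)
  have e : (A ⧸ D.subgroupOf A) ≃ Fin 3 := Finite.equivFinOfCardEq hcard3
  let xa : A := ⟨x, hxA⟩
  let ua : A := ⟨u, hDA hu⟩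
  let va : A := ⟨v, hDA hv⟩
  have key : ∀ a b : A, (QuotientGroup.mk a : A ⧸ D.subgroupOf A) = QuotientGroup.mk b ↔
      (a : G)⁻¹ * (b : G) ∈ D := by
    intro a b
    rw [QuotientGroup.eq, Subgroup.mem_subgroupOf]
    simp
  have h01 : (QuotientGroup.mk (1 : A) : A ⧸ D.subgroupOf A) ≠ QuotientGroup.mk xa := by
    rw [Ne, key]; simpa [xa] using hxD
  have h02 : (QuotientGroup.mk (1 : A) : A ⧸ D.subgroupOf A) ≠ QuotientGroup.mk (ua * xa) := by
    rw [Ne, key]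
    intro hh
    apply hxD
    have : x = u⁻¹ * ((1 : G)⁻¹ * (u * x)) := by group
    rw [this]; exact mul_mem (inv_mem hu) (by simpa [ua, xa] using hh)
  have h12 : (QuotientGroup.mk xa : A ⧸ D.subgroupOf A) ≠ QuotientGroup.mk (ua * xa) := by
    rw [Ne, key]
    intro hh
    apply hu'
    simpa [ua, xa, mul_assoc] using hh
  have h30 : (QuotientGroup.mk (va * xa) : A ⧸ D.subgroupOf A) ≠ QuotientGroup.mk (1 : A) := by
    rw [Ne, eq_comm, key]
    intro hh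
    apply hxD
    have : x = v⁻¹ * ((1 : G)⁻¹ * (v * x)) := by group
    rw [this]; exact mul_mem (inv_mem hv) (by simpa [va, xa] using hh)
  have h31 : (QuotientGroup.mk (va * xa) : A ⧸ D.subgroupOf A) ≠ QuotientGroup.mk xa := by
    rw [Ne, eq_comm, key]
    intro hh
    apply hv'
    simpa [va, xa, mul_assoc] using hh
  have := fin3_pigeon (e (QuotientGroup.mk (1 : A))) (e (QuotientGroup.mk xa))
    (e (QuotientGroup.mk (ua * xa))) (e (QuotientGroup.mk (va * xa)))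
    (fun hh => h01 (e.injective hh)) (fun hh => h02 (e.injective hh))
    (fun hh => h12 (e.injective hh)) (fun hh => h30 (e.injective hh))
    (fun hh => h31 (e.injective hh))
  have h23 := e.injective this
  rw [key] at h23
  have : x⁻¹ * (u⁻¹ * v) * x = (((va * xa : A) : G)⁻¹ * ((ua * xa : A) : G))⁻¹ := by
    simp only [Subgroup.coe_mul, va, ua, xa]; group
  rw [this]; exact inv_mem h23

section chain
variable (D : Subgroup G) (h : G)

/-- the conjugates `h^k D h^-k` -/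
def Dk (k : ℤ) : Subgroup G := D.map (MulAut.conj (h ^ k)).toMonoidHom

theorem mem_Dk {k : ℤ} {u : G} : u ∈ Dk D h k ↔ (h ^ k)⁻¹ * u * h ^ k ∈ D := by
  unfold Dk
  rw [Subgroup.mem_map_equiv, MulAut.conj_symm_apply]

theorem mem_Dk_zero {u : G} : u ∈ Dk D h 0 ↔ u ∈ D := by
  rw [mem_Dk]; simp

theorem mem_Dk_conj {k j : ℤ} {u : G} :
    h ^ j * u * (h ^ j)⁻¹ ∈ Dk D h (k + j) ↔ u ∈ Dk D h k := by
  rw [mem_Dk, mem_Dk, zpow_add]
  have : (h ^ k * h ^ j)⁻¹ * (h ^ j * u * (h ^ j)⁻¹) * (h ^ k * h ^ j) = (h ^ k)⁻¹ * u * h ^ k := by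
    have hc : h ^ k * h ^ j = h ^ j * h ^ k := (Commute.zpow_zpow_self h k j).eq
    rw [hc]; group
  rw [this]

/-- arc stabilizers -/
def Sint (a : ℤ) (s : ℕ) : Subgroup G := ⨅ k : ℕ, ⨅ _ : k < s, Dk D h (a + k)

theorem mem_Sint {a : ℤ} {s : ℕ} {u : G} :
    u ∈ Sint D h a s ↔ ∀ k : ℕ, k < s → u ∈ Dk D h (a + k) := by
  unfold Sint; simp [Subgroup.mem_iInf]

theorem mem_Sint_conj {a j : ℤ} {s : ℕ} {u : G} :
    h ^ j * u * (h ^ j)⁻¹ ∈ Sint D h (a + j) s ↔ u ∈ Sint D h a s := by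
  rw [mem_Sint, mem_Sint]
  constructor
  · intro hh k hk
    have := hh k hk
    rw [show a + j + (k : ℤ) = (a + k) + j by ring, mem_Dk_conj] at this
    exact this
  · intro hh k hk
    rw [show a + j + (k : ℤ) = (a + k) + j by ring, mem_Dk_conj]
    exact hh k hk

theorem Sint_anti {a a' : ℤ} {s s' : ℕ} (h1 : a ≤ a') (h2 : a' + s' ≤ a + s) :
    Sint D h a s ≤ Sint D h a' s' := by
  intro u hu
  rw [mem_Sint] at hu ⊢
  intro k hk
  obtain ⟨k', hk'⟩ := Int.eq_ofNat_of_zero_le (by omega : 0 ≤ a' + k - a)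
  have := hu k' (by omega)
  have e : a + (k' : ℤ) = a' + k := by omega
  rwa [e] at this

theorem mem_Sint_succ {a : ℤ} {s : ℕ} {u : G} :
    u ∈ Sint D h a (s + 1) ↔ u ∈ Sint D h a s ∧ u ∈ Dk D h (a + s) := by
  rw [mem_Sint, mem_Sint]
  constructor
  · intro hh
    exact ⟨fun k hk => hh k (by omega), hh s (by omega)⟩
  · rintro ⟨h1, h2⟩ k hk
    by_cases hks : k = s
    · rw [hks]; exact h2
    · exact h1 k (by omega)

end chain

section setup
variable (A D : Subgroup G) (g x : G)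
variable (hDA : D ≤ A) (hidx : D.relIndex A = 3) (hg : ∀ d, d ∈ D ↔ g * d * g⁻¹ ∈ D)
  (hxA : x ∈ A) (hx : ∃ d ∈ D, x⁻¹ * d * x ∉ D)

include hx in
theorem x_notMem : x ∉ D := by
  intro hxD
  obtain ⟨d, hd, hd'⟩ := hx
  exact hd' (mul_mem (mul_mem (inv_mem hxD) hd) hxD)

include hg in
theorem g_inv_conj {d : G} : g⁻¹ * d * g ∈ D ↔ d ∈ D := by
  rw [hg (g⁻¹ * d * g)]
  have : g * (g⁻¹ * d * g) * g⁻¹ = d := by group
  rw [this]

theorem mem_Dk_one {u : G} : u ∈ Dk D (g * x) 1 ↔ x⁻¹ * (g⁻¹ * u * g) * x ∈ D := by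
  rw [mem_Dk, zpow_one]
  have : (g * x)⁻¹ * u * (g * x) = x⁻¹ * (g⁻¹ * u * g) * x := by group
  rw [this]

include hDA hidx hg hxA hx in
theorem two_coset1 (u v : G) (hu : u ∈ D) (hv : v ∈ D) (hu' : u ∉ Dk D (g * x) 1)
    (hv' : v ∉ Dk D (g * x) 1) : u⁻¹ * v ∈ Dk D (g * x) 1 := by
  rw [mem_Dk_one D g x] at hu' hv' ⊢
  have := two_coset_base A D hDA hidx x hxA (x_notMem D x hx) (g⁻¹ * u * g) (g⁻¹ * v * g)
    ((g_inv_conj D g hg).2 hu) ((g_inv_conj D g hg).2 hv) hu' hv'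
  have e : g⁻¹ * (u⁻¹ * v) * g = (g⁻¹ * u * g)⁻¹ * (g⁻¹ * v * g) := by group
  rw [e]; exact this

include hDA hidx hg hxA hx in
theorem two_coset (k : ℤ) (u v : G) (hu : u ∈ Dk D (g * x) k) (hv : v ∈ Dk D (g * x) k)
    (hu' : u ∉ Dk D (g * x) (k + 1)) (hv' : v ∉ Dk D (g * x) (k + 1)) :
    u⁻¹ * v ∈ Dk D (g * x) (k + 1) := by
  have e0 : k + -k = 0 := by ring
  have e1 : k + 1 + -k = 1 := by ring
  have hu0 : (g * x) ^ (-k) * u * ((g * x) ^ (-k))⁻¹ ∈ D := by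
    rw [← mem_Dk_zero D (g * x), ← e0, mem_Dk_conj]; exact hu
  have hv0 : (g * x) ^ (-k) * v * ((g * x) ^ (-k))⁻¹ ∈ D := by
    rw [← mem_Dk_zero D (g * x), ← e0, mem_Dk_conj]; exact hv
  have hu1 : (g * x) ^ (-k) * u * ((g * x) ^ (-k))⁻¹ ∉ Dk D (g * x) 1 := by
    rw [← e1, mem_Dk_conj]; exact hu'
  have hv1 : (g * x) ^ (-k) * v * ((g * x) ^ (-k))⁻¹ ∉ Dk D (g * x) 1 := by
    rw [← e1, mem_Dk_conj]; exact hv'
  have := two_coset1 A D g x hDA hidx hg hxA hx _ _ hu0 hv0 hu1 hv1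
  have e : ((g * x) ^ (-k) * u * ((g * x) ^ (-k))⁻¹)⁻¹ * ((g * x) ^ (-k) * v * ((g * x) ^ (-k))⁻¹)
      = (g * x) ^ (-k) * (u⁻¹ * v) * ((g * x) ^ (-k))⁻¹ := by group
  rw [e, ← e1, mem_Dk_conj] at this
  exact this

include hDA hidx hg hxA hx in
theorem chain_two (s : ℕ) (hs : 1 ≤ s) (u v : G) (hu : u ∈ Sint D (g * x) 0 s)
    (hv : v ∈ Sint D (g * x) 0 s) (hu' : u ∉ Dk D (g * x) s) (hv' : v ∉ Dk D (g * x) s) :
    u⁻¹ * v ∈ Sint D (g * x) 0 (s + 1) := by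
  rw [mem_Sint_succ]
  refine ⟨mul_mem (inv_mem hu) hv, ?_⟩
  rw [mem_Sint] at hu hv
  have h1 := hu (s - 1) (by omega)
  have h2 := hv (s - 1) (by omega)
  have e : (0 : ℤ) + ((s - 1 : ℕ) : ℤ) = (s : ℤ) - 1 := by omega
  rw [e] at h1 h2
  have := two_coset A D g x hDA hidx hg hxA hx ((s : ℤ) - 1) u v h1 h2
    (by rw [sub_add_cancel]; exact hu') (by rw [sub_add_cancel]; exact hv')
  rw [sub_add_cancel] at this
  rw [zero_add]; exact this

include hDA hidx hg hxA hx in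
/-- generation step -/
theorem gen_step (s : ℕ) (y : G) (hs : 2 ≤ s) (hy : y ∈ Sint D (g * x) 0 (s - 1))
    (hy' : y ∉ Dk D (g * x) ((s : ℤ) - 1)) (K : Subgroup G) (hK : Sint D (g * x) 0 s ≤ K) :
    ∀ m : ℕ, m + 1 ≤ s →
      (∀ i : ℕ, i < m → (g * x) ^ (-(i : ℤ)) * y * ((g * x) ^ (-(i : ℤ)))⁻¹ ∈ K) →
      Sint D (g * x) 0 (s - m) ≤ K := by
  intro m
  induction m with
  | zero => intro _ _; exact hK
  | succ m ih =>
    intro hm hY
    have ih' := ih (by omega) (fun i hi => hY i (by omega))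
    intro u hu
    obtain ⟨r, hr⟩ : ∃ r, r = s - (m + 1) := ⟨_, rfl⟩
    have hr1 : 1 ≤ r := by omega
    have hsm : s - m = r + 1 := by omega
    rw [← hr] at hu
    rw [hsm] at ih'
    by_cases hur : u ∈ Dk D (g * x) r
    · apply ih'
      rw [mem_Sint_succ]; exact ⟨hu, by rw [zero_add]; exact hur⟩
    · have hYm := hY m (by omega)
      obtain ⟨Ym, hYmdef⟩ : ∃ Ym, Ym = (g * x) ^ (-(m : ℤ)) * y * ((g * x) ^ (-(m : ℤ)))⁻¹ :=
        ⟨_, rfl⟩
      rw [← hYmdef] at hYm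
      have h1 : Ym ∈ Sint D (g * x) 0 r := by
        have : Ym ∈ Sint D (g * x) (0 + -(m : ℤ)) (s - 1) := by
          rw [hYmdef, mem_Sint_conj]; exact hy
        refine Sint_anti D (g * x) (by omega) ?_ this
        have : ((s - 1 : ℕ) : ℤ) = (s : ℤ) - 1 := by omega
        rw [this]; omega
      have h2 : Ym ∉ Dk D (g * x) r := by
        have e : (r : ℤ) = ((s : ℤ) - 1) + -(m : ℤ) := by omega
        rw [e, hYmdef, mem_Dk_conj]; exact hy'
      have := chain_two A D g x hDA hidx hg hxA hx r hr1 Ym u h1 hu h2 hur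
      have h3 := ih' this
      have e : u = Ym * (Ym⁻¹ * u) := by group
      rw [e]; exact mul_mem hYm h3

include hDA hg hxA in
theorem Dk_neg_one_le : Dk D (g * x) (-1) ≤ A := by
  intro u hu
  rw [mem_Dk] at hu
  have e : u = x⁻¹ * (g⁻¹ * (((g * x) ^ (-1 : ℤ))⁻¹ * u * (g * x) ^ (-1 : ℤ)) * g) * x := by
    simp only [zpow_neg, zpow_one, inv_inv]; group
  rw [e]
  exact mul_mem (mul_mem (inv_mem hxA) (hDA ((g_inv_conj D g hg).2 hu))) hxA

include hDA hidx in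
theorem max_sub (K : Subgroup G) (hDK : D ≤ K) (a : G) (haK : a ∈ K) (haA : a ∈ A) (haD : a ∉ D) :
    A ≤ K := by
  have h1 := Subgroup.relIndex_mul_relIndex D (K ⊓ A) A (le_inf hDK hDA) inf_le_right
  rw [hidx] at h1
  have h3 : Nat.Prime 3 := by norm_num
  have h4 : D.relIndex (K ⊓ A) ∣ 3 := Dvd.intro _ h1
  rcases (Nat.dvd_prime h3).1 h4 with h5 | h5
  · exfalso
    rw [Subgroup.relIndex_eq_one] at h5
    exact haD (h5 ⟨haK, haA⟩)
  · rw [h5] at h1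
    have h6 : (K ⊓ A).relIndex A = 1 := by omega
    rw [Subgroup.relIndex_eq_one] at h6
    exact fun u hu => (h6 hu).1

end setup

end Cfsg.Agent.Lib.Helper46.Tutte
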