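import Cfsg.Agent.Lib.Helper46.Tutte5

set_option autoImplicit false

namespace Cfsg.Agent.Lib.Helper46.Tutte

open Subgroup

variable {G : Type*} [Group G]

section setup
variable [Finite G] (A D : Subgroup G) (g x : G)
variable (hDA : D ≤ A) (hidx : D.relIndex A = 3) (hg : ∀ d, d ∈ D ↔ g * d * g⁻¹ ∈ D)
  (hxA : x ∈ A) (hx : ∃ d ∈ D, x⁻¹ * d * x ∉ D)

include hDA hidx hg hxA hx in
theorem card_chain (r : ℕ) (hr : 1 ≤ r) (hns : ¬ Sint D (g * x) 0 r ≤ Dk D (g * x) r) :
    Nat.card (Sint D (g * x) 0 r) = 2 * Nat.card (Sint D (g * x) 0 (r + 1)) := by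
  rw [SetLike.not_le_iff_exists] at hns
  obtain ⟨y, hy, hy'⟩ := hns
  have hle : Sint D (g * x) 0 (r + 1) ≤ Sint D (g * x) 0 r :=
    Sint_anti D (g * x) le_rfl (by push_cast; omega)
  have hidx2 : ((Sint D (g * x) 0 (r + 1)).subgroupOf (Sint D (g * x) 0 r)).index = 2 := by
    rw [Subgroup.index_eq_two_iff]
    refine ⟨⟨y⁻¹, inv_mem hy⟩, ?_⟩
    intro b
    simp only [Subgroup.mem_subgroupOf, Subgroup.coe_mul]
    by_cases hb : (b : G) ∈ Dk D (g * x) r
    · right
      have hb1 : (b : G) ∈ Sint D (g * x) 0 (r + 1) := by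
        rw [mem_Sint_succ, zero_add]; exact ⟨b.2, hb⟩
      refine ⟨hb1, ?_⟩
      intro hh
      have : y⁻¹ ∈ Sint D (g * x) 0 (r + 1) := by
        have e : y⁻¹ = (b : G)⁻¹ * ((b : G) * y⁻¹) := by group
        rw [e]; exact mul_mem (inv_mem hb1) hh
      rw [mem_Sint_succ, zero_add] at this
      exact hy' (by simpa using inv_mem this.2)
    · left
      have h1 : (b : G)⁻¹ ∉ Dk D (g * x) r := fun hh => hb (by simpa using inv_mem hh)
      have h2 : y⁻¹ ∉ Dk D (g * x) r := fun hh => hy' (by simpa using inv_mem hh)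
      have := chain_two A D g x hDA hidx hg hxA hx r hr (b : G)⁻¹ y⁻¹ (inv_mem b.2) (inv_mem hy)
        h1 h2
      rw [inv_inv] at this
      refine ⟨this, ?_⟩
      intro hh
      rw [mem_Sint_succ, zero_add] at hh
      exact hb hh.2
  have h1 := Subgroup.card_mul_index ((Sint D (g * x) 0 (r + 1)).subgroupOf (Sint D (g * x) 0 r))
  have h2 : Nat.card ((Sint D (g * x) 0 (r + 1)).subgroupOf (Sint D (g * x) 0 r)) =
      Nat.card (Sint D (g * x) 0 (r + 1)) :=
    Nat.card_congr (Subgroup.subgroupOfEquivOfLe hle).toEquiv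
  rw [h2, hidx2] at h1
  omega

variable (hgen : A ⊔ A.map (MulAut.conj g).toMonoidHom = ⊤)
  (hcore : ∀ N : Subgroup G, N.Normal → N ≤ A → N = ⊥)

include hDA hidx hg hxA hx hgen hcore in
/-- Part I: the Tutte data. -/
theorem exists_data : ∃ t : ℕ, 1 ≤ t ∧ Nat.card D = 2 ^ (t - 1) ∧ (2 ≤ t → ∃ y : G,
    (∀ m : ℕ, m < t → Nat.card (X (g * x) y 0 m) = 2 ^ m) ∧ X (g * x) y (1 - (t : ℤ)) t = A) := by
  classical
  have hex := exists_stab D g x
  obtain ⟨t, ht⟩ : ∃ t, t = Nat.find hex := ⟨_, rfl⟩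
  have ht1 : 1 ≤ t := by rw [ht]; exact (Nat.find_spec hex).1
  have hstab : Sint D (g * x) 0 t ≤ Dk D (g * x) t := by rw [ht]; exact (Nat.find_spec hex).2
  have hmin : ∀ r : ℕ, 1 ≤ r → r < t → ¬ Sint D (g * x) 0 r ≤ Dk D (g * x) r := by
    intro r hr1 hr2 hh
    rw [ht] at hr2
    exact Nat.find_min hex hr2 ⟨hr1, hh⟩
  have hbot := stab_bot A D g x hDA hidx hg hxA hx hgen hcore t ht1 hstab hmin
  -- cards of the chain
  have hcards : ∀ m : ℕ, m + 1 ≤ t → Nat.card (Sint D (g * x) 0 (t - m)) = 2 ^ m := by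
    intro m
    induction m with
    | zero => intro _; rw [Nat.sub_zero, hbot]; simp
    | succ m ih =>
      intro hm
      have := card_chain A D g x hDA hidx hg hxA hx (t - (m + 1)) (by omega)
        (hmin _ (by omega) (by omega))
      rw [this, show t - (m + 1) + 1 = t - m by omega, ih (by omega), pow_succ]; ring
  refine ⟨t, ht1, ?_, ?_⟩
  · have := hcards (t - 1) (by omega)
    rw [show t - (t - 1) = 1 by omega, Sint_one_eq] at this
    exact this
  intro ht2
  -- the element y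
  have hns := hmin (t - 1) (by omega) (by omega)
  rw [SetLike.not_le_iff_exists] at hns
  obtain ⟨y, hy, hy'⟩ := hns
  have hcast : ((t - 1 : ℕ) : ℤ) = (t : ℤ) - 1 := by omega
  rw [hcast] at hy'
  have hY : ∀ i : ℕ, xs (g * x) y (-(i : ℤ)) = (g * x) ^ (-(i : ℤ)) * y * ((g * x) ^ (-(i : ℤ)))⁻¹ :=
    fun i => rfl
  -- generators lie in the right stabilizers
  have hYmem : ∀ i m : ℕ, i < m → m + 1 ≤ t → xs (g * x) y (-(i : ℤ)) ∈ Sint D (g * x) 0 (t - m) := by
    intro i m him hm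
    have : xs (g * x) y (-(i : ℤ)) ∈ Sint D (g * x) (0 + -(i : ℤ)) (t - 1) := by
      rw [hY, mem_Sint_conj]; exact hy
    refine Sint_anti D (g * x) (by omega) ?_ this
    have e1 : ((t - 1 : ℕ) : ℤ) = (t : ℤ) - 1 := hcast
    have e2 : ((t - m : ℕ) : ℤ) = (t : ℤ) - m := by omega
    rw [e1, e2]; omega
  have hGEN : ∀ m : ℕ, m + 1 ≤ t → X (g * x) y (1 - (m : ℤ)) m = Sint D (g * x) 0 (t - m) := by
    intro m hm
    apply le_antisymm
    · rw [X_le_iff]
      intro i h1 h2
      obtain ⟨i', hi'⟩ := Int.eq_ofNat_of_zero_le (by omega : 0 ≤ -i)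
      have : i = -(i' : ℤ) := by omega
      rw [this]
      exact hYmem i' m (by omega) hm
    · apply gen_step A D g x hDA hidx hg hxA hx t y ht2 hy hy' _ (by rw [hbot]; exact bot_le) m hm
      intro i hi
      rw [← hY]
      exact xs_mem (g * x) y (by omega) (by omega)
  refine ⟨y, ?_, ?_⟩
  · intro m hm
    rw [card_X_eq (g * x) y 0 (1 - (m : ℤ)) m, hGEN m (by omega), hcards m (by omega)]
  · -- X (1-t) t = A
    have hlast1 : xs (g * x) y (-((t - 1 : ℕ) : ℤ)) ∈ A := by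
      apply Dk_neg_one_le A D g x hDA hg hxA
      rw [mem_Sint] at hy
      have := hy (t - 2) (by omega)
      have c2 : ((t - 2 : ℕ) : ℤ) = (t : ℤ) - 2 := by omega
      rw [c2] at this
      have e : (-1 : ℤ) = (0 + ((t : ℤ) - 2)) + -((t - 1 : ℕ) : ℤ) := by rw [hcast]; ring
      rw [hY, e, mem_Dk_conj]; exact this
    have hlast2 : xs (g * x) y (-((t - 1 : ℕ) : ℤ)) ∉ D := by
      rw [← mem_Dk_zero D (g * x)]
      have e : (0 : ℤ) = ((t : ℤ) - 1) + -((t - 1 : ℕ) : ℤ) := by rw [hcast]; ring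
      rw [hY, e, mem_Dk_conj]; exact hy'
    apply le_antisymm
    · rw [X_le_iff]
      intro i h1 h2
      obtain ⟨i', hi'⟩ := Int.eq_ofNat_of_zero_le (by omega : 0 ≤ -i)
      have hi : i = -(i' : ℤ) := by omega
      rw [hi]
      by_cases hlast : i' = t - 1
      · rw [hlast]; exact hlast1
      · have := hYmem i' (t - 1) (by omega) (by omega)
        rw [show t - (t - 1) = 1 by omega, Sint_one_eq] at this
        exact hDA this
    · have hDX : D ≤ X (g * x) y (1 - (t : ℤ)) t := by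
        have := hGEN (t - 1) (by omega)
        rw [show t - (t - 1) = 1 by omega, Sint_one_eq] at this
        rw [← this]
        exact X_mono (g * x) y (by rw [hcast]; omega) (by rw [hcast]; omega)
      exact max_sub A D hDA hidx _ hDX _
        (xs_mem (g * x) y (by rw [hcast]; omega) (by rw [hcast]; omega)) hlast1 hlast2

end setup

end Cfsg.Agent.Lib.Helper46.Tutte
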