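import Cfsg.Agent.Lib.Helper46.Tutte6

set_option autoImplicit false

namespace Cfsg.Agent.Lib.Helper46.Tutte

open Subgroup

variable {G : Type*} [Group G]

/-- The Sims--Tutte bound in group form: `D` of index `3` in `A`, normalized by `g`, with
`⟨A, gAg⁻¹⟩ = G` and `A` core-free. Then `|D| = 2^k` with `k ≤ 4`. -/
theorem sims_core [Finite G] (A D : Subgroup G) (g : G) (hDA : D ≤ A) (hidx : D.relIndex A = 3)
    (hg : ∀ d, d ∈ D ↔ g * d * g⁻¹ ∈ D)
    (hgen : A ⊔ A.map (MulAut.conj g).toMonoidHom = ⊤)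
    (hcore : ∀ N : Subgroup G, N.Normal → N ≤ A → N = ⊥) :
    ∃ k : ℕ, k ≤ 4 ∧ Nat.card D = 2 ^ k := by
  by_cases hnorm : ∀ x ∈ A, ∀ d ∈ D, x⁻¹ * d * x ∈ D
  · -- D is normal in G
    have hAN : A ≤ Subgroup.normalizer (D : Set G) := by
      intro a ha
      apply mem_normalizer_of_conj_le
      intro u hu
      have := hnorm a⁻¹ (inv_mem ha) u hu
      simpa using this
    have hgN : g ∈ Subgroup.normalizer (D : Set G) := by
      rw [Subgroup.mem_normalizer_iff]; exact hg
    have hAgN : A.map (MulAut.conj g).toMonoidHom ≤ Subgroup.normalizer (D : Set G) := by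
      rintro _ ⟨a, ha, rfl⟩
      simp only [MulEquiv.coe_toMonoidHom, MulAut.conj_apply]
      exact mul_mem (mul_mem hgN (hAN ha)) (inv_mem hgN)
    have htop : Subgroup.normalizer (D : Set G) = ⊤ := by
      rw [eq_top_iff, ← hgen]; exact sup_le hAN hAgN
    have hDn : D.Normal := by rw [← Subgroup.normalizer_eq_top_iff]; exact htop
    have := hcore D hDn hDA
    exact ⟨0, by norm_num, by rw [this]; simp⟩
  · push Not at hnorm
    obtain ⟨x, hxA, d, hd, hd'⟩ := hnorm
    have hx : ∃ d ∈ D, x⁻¹ * d * x ∉ D := ⟨d, hd, hd'⟩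
    obtain ⟨t, ht1, hcD, hdata⟩ := exists_data A D g x hDA hidx hg hxA hx hgen hcore
    by_cases ht5 : t ≤ 5
    · exact ⟨t - 1, by omega, hcD⟩
    · exfalso
      obtain ⟨y, hcardX, hXA⟩ := hdata (by omega)
      obtain ⟨y', hy'⟩ : ∃ y', y' = xs (g * x) y (1 - (t : ℤ)) := ⟨_, rfl⟩
      have hX' : ∀ (a : ℤ) (n : ℕ), X (g * x) y' a n = X (g * x) y (a + (1 - (t : ℤ))) n := by
        intro a n; rw [hy', X_xs]
      have hcard' : ∀ n, n < t → Nat.card (X (g * x) y' 0 n) = 2 ^ n := by
        intro n hn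
        rw [hX', card_X_eq (g * x) y _ 0 n]; exact hcardX n hn
      have hXA' : X (g * x) y' 0 t = A := by rw [hX', zero_add]; exact hXA
      have hnc : ∃ k : ℕ, 1 ≤ k ∧ k < t ∧ ¬ Commute (xs (g * x) y' 0) (xs (g * x) y' k) := by
        by_contra hcon
        push Not at hcon
        have hcomm0 : ∀ k : ℕ, k < t → Commute (xs (g * x) y' 0) (xs (g * x) y' k) := by
          intro k hk
          by_cases hk0 : k = 0
          · subst hk0; exact Commute.refl _
          · exact hcon k (by omega) hk
        have hc := X_comm (g * x) y' t hcomm0 0 t le_rfl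
        rw [hXA'] at hc
        have hcomm : x * d = d * x := hc x hxA d (hDA hd)
        apply hd'
        have : x⁻¹ * d * x = d := by
          calc x⁻¹ * d * x = x⁻¹ * (d * x) := by group
            _ = x⁻¹ * (x * d) := by rw [hcomm]
            _ = d := by group
        rw [this]; exact hd
      have htop : X (g * x) y' 0 (t + 1) = ⊤ := by
        rw [eq_top_iff, ← hgen]
        apply sup_le
        · rw [← hXA']; exact X_mono (g * x) y' le_rfl (by push_cast; omega)
        · rintro _ ⟨a, ha, rfl⟩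
          have e : (MulAut.conj g).toMonoidHom a =
              (g * x) ^ (1 : ℤ) * (x⁻¹ * a * x) * ((g * x) ^ (1 : ℤ))⁻¹ := by
            simp only [MulEquiv.coe_toMonoidHom, MulAut.conj_apply, zpow_one]; group
          rw [e]
          have hm : x⁻¹ * a * x ∈ X (g * x) y' 0 t := by
            rw [hXA']; exact mul_mem (mul_mem (inv_mem hxA) ha) hxA
          exact X_mono (g * x) y' (by omega) (by push_cast; omega) (mem_X_shift (g * x) y' hm)
      have hcore' : ∀ N : Subgroup G, N.Normal → N ≤ X (g * x) y' 0 t → N = ⊥ := by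
        intro N hN hle; rw [hXA'] at hle; exact hcore N hN hle
      exact tutte_false (g * x) y' (by omega) hcard' hnc htop hcore'

end Cfsg.Agent.Lib.Helper46.Tutte
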