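import Cfsg.Agent.Lib.Helper46.Tutte7

set_option autoImplicit false

namespace Cfsg.Agent.Lib.Helper46.Tutte

open Subgroup MulAction

theorem perm3 : ∀ σ : Equiv.Perm (Fin 3), ∀ i j : Fin 3, σ i = i → σ (σ j) = j := by decide

variable {G : Type*} [Group G] {Ω : Type*} [MulAction G Ω]

/-- an element of the stabilizer of `p` fixing `q`, whose orbit under the stabilizer of `p` has
three points, acts on this orbit as an involution. -/
theorem sq_fix (p q : Ω) (h3 : Nat.card (orbit (stabilizer G p) q) = 3) (d : G)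
    (hdp : d ∈ stabilizer G p) (hdq : d • q = q) (c : Ω) (hc : c ∈ orbit (stabilizer G p) q) :
    d • d • c = c := by
  haveI : Finite (orbit (stabilizer G p) q) := Nat.finite_of_card_ne_zero (by rw [h3]; norm_num)
  have e : orbit (stabilizer G p) q ≃ Fin 3 := Finite.equivFinOfCardEq h3
  let d' : stabilizer G p := ⟨d, hdp⟩
  let q' : orbit (stabilizer G p) q := ⟨q, mem_orbit_self q⟩
  let c' : orbit (stabilizer G p) q := ⟨c, hc⟩
  have hq' : d' • q' = q' := by
    apply Subtype.ext
    show d • q = q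
    exact hdq
  have := perm3 (e.permCongr (MulAction.toPerm d')) (e q') (e c') (by
    rw [Equiv.permCongr_apply, Equiv.symm_apply_apply, MulAction.toPerm_apply, hq'])
  rw [Equiv.permCongr_apply, Equiv.permCongr_apply, Equiv.symm_apply_apply, Equiv.symm_apply_apply,
    MulAction.toPerm_apply, MulAction.toPerm_apply] at this
  have h2 := e.injective this
  have h4 := congrArg Subtype.val h2
  exact h4

theorem odd_fix (p q : Ω) (h3 : Nat.card (orbit (stabilizer G p) q) = 3) (d : G)
    (hdp : d ∈ stabilizer G p) (hdq : d • q = q) (hodd : Odd (orderOf d)) (c : Ω)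
    (hc : c ∈ orbit (stabilizer G p) q) : d • c = c := by
  have h1 : (d ^ 2) • c = c := by
    rw [pow_two, mul_smul]; exact sq_fix p q h3 d hdp hdq c hc
  obtain ⟨m, hm⟩ := hodd
  have h2 : d = (d ^ 2) ^ (m + 1) := by
    rw [← pow_mul, show 2 * (m + 1) = orderOf d + 1 by omega, pow_succ, pow_orderOf_eq_one, one_mul]
  have h3' : ∀ n : ℕ, ((d ^ 2) ^ n) • c = c := by
    intro n
    induction n with
    | zero => simp
    | succ n ih => rw [pow_succ, mul_smul, h1, ih]
  rw [h2]; exact h3' _

/-- conjugation by the stabilizer of `p` preserves odd order elements of `D` -/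
theorem odd_conj (p q : Ω) (h3 : Nat.card (orbit (stabilizer G p) q) = 3) (d : G)
    (hdp : d ∈ stabilizer G p) (hdq : d ∈ stabilizer G q) (hodd : Odd (orderOf d)) (a' : G)
    (ha' : a' ∈ stabilizer G p) :
    a' * d * a'⁻¹ ∈ stabilizer G p ⊓ stabilizer G q := by
  refine Subgroup.mem_inf.2 ⟨mul_mem (mul_mem ha' hdp) (inv_mem ha'), ?_⟩
  rw [mem_stabilizer_iff, mul_smul, mul_smul]
  have hc : a'⁻¹ • q ∈ orbit (stabilizer G p) q :=
    ⟨⟨a'⁻¹, inv_mem ha'⟩, rfl⟩
  rw [odd_fix p q h3 d hdp (mem_stabilizer_iff.1 hdq) hodd _ hc, smul_inv_smul]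

end Cfsg.Agent.Lib.Helper46.Tutte
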