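import Cfsg.Agent.Lib.Helper46.Tutte7

set_option autoImplicit false

/-! Generalisation of the chain argument of `Tutte4`--`Tutte6` to a subgroup `D` of `A` which is
maximal and satisfies the two-coset property (instead of index `3`). -/

namespace Cfsg.Agent.Lib.Helper46.TutteG

open Subgroup Cfsg.Agent.Lib.Helper46.Tutte

variable {G : Type*} [Group G]

section setup
variable [Finite G] (A D : Subgroup G) (g x : G)
variable (hDA : D ≤ A)
  (h2c : ∀ u v, u ∈ D → v ∈ D → x⁻¹ * u * x ∉ D → x⁻¹ * v * x ∉ D → x⁻¹ * (u⁻¹ * v) * x ∈ D)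
  (hmax : ∀ K : Subgroup G, D ≤ K → ∀ a, a ∈ K → a ∈ A → a ∉ D → A ≤ K)
  (hg : ∀ d, d ∈ D ↔ g * d * g⁻¹ ∈ D)
  (hxA : x ∈ A) (hx : ∃ d ∈ D, x⁻¹ * d * x ∉ D)
variable (hgen : A ⊔ A.map (MulAut.conj g).toMonoidHom = ⊤)
  (hcore : ∀ N : Subgroup G, N.Normal → N ≤ A → N = ⊥)

include hDA h2c hmax hg hxA hx in
theorem two_coset1 (u v : G) (hu : u ∈ D) (hv : v ∈ D) (hu' : u ∉ Dk D (g * x) 1)
    (hv' : v ∉ Dk D (g * x) 1) : u⁻¹ * v ∈ Dk D (g * x) 1 := by
  rw [mem_Dk_one D g x] at hu' hv' ⊢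
  have := h2c (g⁻¹ * u * g) (g⁻¹ * v * g)
    ((g_inv_conj D g hg).2 hu) ((g_inv_conj D g hg).2 hv) hu' hv'
  have e : g⁻¹ * (u⁻¹ * v) * g = (g⁻¹ * u * g)⁻¹ * (g⁻¹ * v * g) := by group
  rw [e]; exact this

include hDA h2c hmax hg hxA hx in
theorem two_coset (k : ℤ) (u v : G) (hu : u ∈ Dk D (g * x) k) (hv : v ∈ Dk D (g * x) k)
    (hu' : u ∉ Dk D (g * x) (k + 1)) (hv' : v ∉ Dk D (g * x) (k + 1)) :
    u⁻¹ * v ∈ Dk D (g * x) (k + 1) := by
  have e0 : k + -k = 0 := by ring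
  have e1 : k + 1 + -k = 1 := by ring
  have hu0 : (g * x) ^ (-k) * u * ((g * x) ^ (-k))⁻¹ ∈ D := by
    rw [← mem_Dk_zero D (g * x), ← e0, mem_Dk_conj]; exact hu
  have hv0 : (g * x) ^ (-k) * v * ((g * x) ^ (-k))⁻¹ ∈ D := by
    rw [← mem_Dk_zero D (g * x), ← e0, mem_Dk_conj]; exact hv
  have hu1 : (g * x) ^ (-k) * u * ((g * x) ^ (-k))⁻¹ ∉ Dk D (g * x) 1 := by
    rw [← e1, mem_Dk_conj]; exact hu'
  have hv1 : (g * x) ^ (-k) * v * ((g * x) ^ (-k))⁻¹ ∉ Dk D (g * x) 1 := by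
    rw [← e1, mem_Dk_conj]; exact hv'
  have := two_coset1 A D g x hDA h2c hmax hg hxA hx _ _ hu0 hv0 hu1 hv1
  have e : ((g * x) ^ (-k) * u * ((g * x) ^ (-k))⁻¹)⁻¹ * ((g * x) ^ (-k) * v * ((g * x) ^ (-k))⁻¹)
      = (g * x) ^ (-k) * (u⁻¹ * v) * ((g * x) ^ (-k))⁻¹ := by group
  rw [e, ← e1, mem_Dk_conj] at this
  exact this

include hDA h2c hmax hg hxA hx in
theorem chain_two (s : ℕ) (hs : 1 ≤ s) (u v : G) (hu : u ∈ Sint D (g * x) 0 s)
    (hv : v ∈ Sint D (g * x) 0 s) (hu' : u ∉ Dk D (g * x) s) (hv' : v ∉ Dk D (g * x) s) :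
    u⁻¹ * v ∈ Sint D (g * x) 0 (s + 1) := by
  rw [mem_Sint_succ]
  refine ⟨mul_mem (inv_mem hu) hv, ?_⟩
  rw [mem_Sint] at hu hv
  have h1 := hu (s - 1) (by omega)
  have h2 := hv (s - 1) (by omega)
  have e : (0 : ℤ) + ((s - 1 : ℕ) : ℤ) = (s : ℤ) - 1 := by omega
  rw [e] at h1 h2
  have := two_coset A D g x hDA h2c hmax hg hxA hx ((s : ℤ) - 1) u v h1 h2
    (by rw [sub_add_cancel]; exact hu') (by rw [sub_add_cancel]; exact hv')
  rw [sub_add_cancel] at this
  rw [zero_add]; exact this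

include hDA h2c hmax hg hxA hx in
/-- generation step -/
theorem gen_step (s : ℕ) (y : G) (hs : 2 ≤ s) (hy : y ∈ Sint D (g * x) 0 (s - 1))
    (hy' : y ∉ Dk D (g * x) ((s : ℤ) - 1)) (K : Subgroup G) (hK : Sint D (g * x) 0 s ≤ K) :
    ∀ m : ℕ, m + 1 ≤ s →
      (∀ i : ℕ, i < m → (g * x) ^ (-(i : ℤ)) * y * ((g * x) ^ (-(i : ℤ)))⁻¹ ∈ K) →
      Sint D (g * x) 0 (s - m) ≤ K := by
  intro m
  induction m with
  | zero => intro _ _; exact hK
  | succ m ih =>
    intro hm hY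
    have ih' := ih (by omega) (fun i hi => hY i (by omega))
    intro u hu
    obtain ⟨r, hr⟩ : ∃ r, r = s - (m + 1) := ⟨_, rfl⟩
    have hr1 : 1 ≤ r := by omega
    have hsm : s - m = r + 1 := by omega
    rw [← hr] at hu
    rw [hsm] at ih'
    by_cases hur : u ∈ Dk D (g * x) r
    · apply ih'
      rw [mem_Sint_succ]; exact ⟨hu, by rw [zero_add]; exact hur⟩
    · have hYm := hY m (by omega)
      obtain ⟨Ym, hYmdef⟩ : ∃ Ym, Ym = (g * x) ^ (-(m : ℤ)) * y * ((g * x) ^ (-(m : ℤ)))⁻¹ :=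
        ⟨_, rfl⟩
      rw [← hYmdef] at hYm
      have h1 : Ym ∈ Sint D (g * x) 0 r := by
        have : Ym ∈ Sint D (g * x) (0 + -(m : ℤ)) (s - 1) := by
          rw [hYmdef, mem_Sint_conj]; exact hy
        refine Sint_anti D (g * x) (by omega) ?_ this
        have : ((s - 1 : ℕ) : ℤ) = (s : ℤ) - 1 := by omega
        rw [this]; omega
      have h2 : Ym ∉ Dk D (g * x) r := by
        have e : (r : ℤ) = ((s : ℤ) - 1) + -(m : ℤ) := by omega
        rw [e, hYmdef, mem_Dk_conj]; exact hy'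
      have := chain_two A D g x hDA h2c hmax hg hxA hx r hr1 Ym u h1 hu h2 hur
      have h3 := ih' this
      have e : u = Ym * (Ym⁻¹ * u) := by group
      rw [e]; exact mul_mem hYm h3

include hDA h2c hmax hg hxA hx hgen hcore in
/-- regularity: once the chain stabilizes, it is trivial -/
theorem stab_bot (s : ℕ) (hs1 : 1 ≤ s) (hstab : Sint D (g * x) 0 s ≤ Dk D (g * x) s)
    (hmin : ∀ r : ℕ, 1 ≤ r → r < s → ¬ Sint D (g * x) 0 r ≤ Dk D (g * x) r) :
    Sint D (g * x) 0 s = ⊥ := by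
  have hs2 : 2 ≤ s := by
    by_contra hlt
    have : s = 1 := by omega
    subst this
    exact not_stab_one D g x hg hx hstab
  -- the element y'
  have hns := hmin (s - 1) (by omega) (by omega)
  rw [SetLike.not_le_iff_exists] at hns
  obtain ⟨y, hy, hy'⟩ := hns
  have hcast : ((s - 1 : ℕ) : ℤ) = (s : ℤ) - 1 := by omega
  rw [hcast] at hy'
  obtain ⟨S, hS⟩ : ∃ S, S = Sint D (g * x) 0 s := ⟨_, rfl⟩
  obtain ⟨K, hK⟩ : ∃ K, K = Subgroup.normalizer (S : Set G) := ⟨_, rfl⟩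
  have hSK : S ≤ K := by rw [hK]; exact Subgroup.le_normalizer
  -- h ∈ K
  have hhK : g * x ∈ K := by
    have : (g * x)⁻¹ ∈ K := by
      rw [hK]
      apply mem_normalizer_of_conj_le
      intro u hu
      rw [hS] at hu ⊢
      have h1 : u ∈ Sint D (g * x) 0 (s + 1) := by
        rw [mem_Sint_succ, zero_add]; exact ⟨hu, hstab hu⟩
      have h2 : (g * x) ^ (-1 : ℤ) * u * ((g * x) ^ (-1 : ℤ))⁻¹ ∈ Sint D (g * x) (0 + -1) (s + 1) := by
        rw [mem_Sint_conj]; exact h1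
      have h3 := Sint_anti D (g * x) (a := 0 + -1) (a' := 0) (s := s + 1) (s' := s) (by omega)
        (by push_cast; omega) h2
      simpa using h3
    simpa using inv_mem this
  -- y ∈ K
  have hyK : y ∈ K := by
    rw [hK]
    apply mem_normalizer_of_conj_le
    intro u hu
    rw [hS] at hu ⊢
    have hu1 : u ∈ Sint D (g * x) 0 (s - 1) :=
      Sint_anti D (g * x) le_rfl (by rw [hcast]; omega) hu
    have hu2 : u ∈ Dk D (g * x) ((s : ℤ) - 1) := by
      rw [mem_Sint] at hu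
      have := hu (s - 1) (by omega)
      rwa [zero_add, hcast] at this
    have h1 : y⁻¹ ∉ Dk D (g * x) ((s - 1 : ℕ) : ℤ) := by
      rw [hcast]; intro hh; exact hy' (by simpa using inv_mem hh)
    have h2 : u * y⁻¹ ∉ Dk D (g * x) ((s - 1 : ℕ) : ℤ) := by
      rw [hcast]; intro hh
      apply hy'
      have : y⁻¹ = u⁻¹ * (u * y⁻¹) := by group
      have h3 : y⁻¹ ∈ Dk D (g * x) ((s : ℤ) - 1) := by
        rw [this]; exact mul_mem (inv_mem hu2) hh
      simpa using inv_mem h3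
    have := chain_two A D g x hDA h2c hmax hg hxA hx (s - 1) (by omega) y⁻¹ (u * y⁻¹)
      (inv_mem hy) (mul_mem hu1 (inv_mem hy)) h1 h2
    have e : s - 1 + 1 = s := by omega
    rw [e] at this
    have e2 : y⁻¹⁻¹ * (u * y⁻¹) = y * u * y⁻¹ := by group
    rwa [e2] at this
  have hYK : ∀ i : ℕ, (g * x) ^ (-(i : ℤ)) * y * ((g * x) ^ (-(i : ℤ)))⁻¹ ∈ K := by
    intro i
    exact mul_mem (mul_mem (zpow_mem hhK _) hyK) (inv_mem (zpow_mem hhK _))
  -- D ≤ K
  have hDK : D ≤ K := by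
    have := gen_step A D g x hDA h2c hmax hg hxA hx s y hs2 hy hy' K (by rw [← hS]; exact hSK)
      (s - 1) (by omega) (fun i _ => hYK i)
    have e : s - (s - 1) = 1 := by omega
    rw [e, Sint_one_eq] at this
    exact this
  -- the last element
  have hlast1 : (g * x) ^ (-((s - 1 : ℕ) : ℤ)) * y * ((g * x) ^ (-((s - 1 : ℕ) : ℤ)))⁻¹ ∈ A := by
    apply Dk_neg_one_le A D g x hDA hg hxA
    rw [mem_Sint] at hy
    have := hy (s - 2) (by omega)
    have c2 : ((s - 2 : ℕ) : ℤ) = (s : ℤ) - 2 := by omega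
    rw [c2] at this
    have e : (-1 : ℤ) = (0 + ((s : ℤ) - 2)) + -((s - 1 : ℕ) : ℤ) := by rw [hcast]; ring
    rw [e, mem_Dk_conj]; exact this
  have hlast2 : (g * x) ^ (-((s - 1 : ℕ) : ℤ)) * y * ((g * x) ^ (-((s - 1 : ℕ) : ℤ)))⁻¹ ∉ D := by
    rw [← mem_Dk_zero D (g * x)]
    have e : (0 : ℤ) = ((s : ℤ) - 1) + -((s - 1 : ℕ) : ℤ) := by rw [hcast]; ring
    rw [e, mem_Dk_conj]; exact hy'
  have hAK : A ≤ K := hmax K hDK _ (hYK (s - 1)) hlast1 hlast2
  have hAgK : A.map (MulAut.conj g).toMonoidHom ≤ K := by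
    rintro _ ⟨a, ha, rfl⟩
    have : (MulAut.conj g).toMonoidHom a = (g * x) * (x⁻¹ * a * x) * (g * x)⁻¹ := by
      simp only [MulEquiv.coe_toMonoidHom, MulAut.conj_apply]; group
    rw [this]
    exact mul_mem (mul_mem hhK (hAK (mul_mem (mul_mem (inv_mem hxA) ha) hxA))) (inv_mem hhK)
  have hKtop : K = ⊤ := by
    rw [eq_top_iff, ← hgen]; exact sup_le hAK hAgK
  have hSn : S.Normal := by
    rw [← Subgroup.normalizer_eq_top_iff, ← hK]; exact hKtop
  have hSA : S ≤ A := by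
    rw [hS]
    refine le_trans (Sint_anti D (g * x) (a := 0) (a' := 0) (s := s) (s' := 1) le_rfl
      (by push_cast; omega)) ?_
    rw [Sint_one_eq]; exact hDA
  rw [← hS]
  exact hcore S hSn hSA

include hDA h2c hmax hg hxA hx in
theorem card_chain (r : ℕ) (hr : 1 ≤ r) (hns : ¬ Sint D (g * x) 0 r ≤ Dk D (g * x) r) :
    Nat.card (Sint D (g * x) 0 r) = 2 * Nat.card (Sint D (g * x) 0 (r + 1)) := by
  rw [SetLike.not_le_iff_exists] at hns
  obtain ⟨y, hy, hy'⟩ := hns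
  have hle : Sint D (g * x) 0 (r + 1) ≤ Sint D (g * x) 0 r :=
    Sint_anti D (g * x) le_rfl (by push_cast; omega)
  have hidxTwo : ((Sint D (g * x) 0 (r + 1)).subgroupOf (Sint D (g * x) 0 r)).index = 2 := by
    rw [Subgroup.index_eq_two_iff]
    refine ⟨⟨y⁻¹, inv_mem hy⟩, ?_⟩
    intro b
    simp only [Subgroup.mem_subgroupOf, Subgroup.coe_mul]
    by_cases hb : (b : G) ∈ Dk D (g * x) r
    · right
      have hb1 : (b : G) ∈ Sint D (g * x) 0 (r + 1) := by
        rw [mem_Sint_succ, zero_add]; exact ⟨b.2, hb⟩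
      refine ⟨hb1, ?_⟩
      intro hh
      have : y⁻¹ ∈ Sint D (g * x) 0 (r + 1) := by
        have e : y⁻¹ = (b : G)⁻¹ * ((b : G) * y⁻¹) := by group
        rw [e]; exact mul_mem (inv_mem hb1) hh
      rw [mem_Sint_succ, zero_add] at this
      exact hy' (by simpa using inv_mem this.2)
    · left
      have h1 : (b : G)⁻¹ ∉ Dk D (g * x) r := fun hh => hb (by simpa using inv_mem hh)
      have h2 : y⁻¹ ∉ Dk D (g * x) r := fun hh => hy' (by simpa using inv_mem hh)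
      have := chain_two A D g x hDA h2c hmax hg hxA hx r hr (b : G)⁻¹ y⁻¹ (inv_mem b.2) (inv_mem hy)
        h1 h2
      rw [inv_inv] at this
      refine ⟨this, ?_⟩
      intro hh
      rw [mem_Sint_succ, zero_add] at hh
      exact hb hh.2
  have h1 := Subgroup.card_mul_index ((Sint D (g * x) 0 (r + 1)).subgroupOf (Sint D (g * x) 0 r))
  have h2 : Nat.card ((Sint D (g * x) 0 (r + 1)).subgroupOf (Sint D (g * x) 0 r)) =
      Nat.card (Sint D (g * x) 0 (r + 1)) :=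
    Nat.card_congr (Subgroup.subgroupOfEquivOfLe hle).toEquiv
  rw [h2, hidxTwo] at h1
  omega

include hDA h2c hmax hg hxA hx hgen hcore in
/-- Part I: the Tutte data. -/
theorem exists_data : ∃ t : ℕ, 1 ≤ t ∧ Nat.card D = 2 ^ (t - 1) ∧ (2 ≤ t → ∃ y : G,
    (∀ m : ℕ, m < t → Nat.card (X (g * x) y 0 m) = 2 ^ m) ∧ X (g * x) y (1 - (t : ℤ)) t = A) := by
  classical
  have hex := exists_stab D g x
  obtain ⟨t, ht⟩ : ∃ t, t = Nat.find hex := ⟨_, rfl⟩
  have ht1 : 1 ≤ t := by rw [ht]; exact (Nat.find_spec hex).1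
  have hstab : Sint D (g * x) 0 t ≤ Dk D (g * x) t := by rw [ht]; exact (Nat.find_spec hex).2
  have hmin : ∀ r : ℕ, 1 ≤ r → r < t → ¬ Sint D (g * x) 0 r ≤ Dk D (g * x) r := by
    intro r hr1 hr2 hh
    rw [ht] at hr2
    exact Nat.find_min hex hr2 ⟨hr1, hh⟩
  have hbot := stab_bot A D g x hDA h2c hmax hg hxA hx hgen hcore t ht1 hstab hmin
  -- cards of the chain
  have hcards : ∀ m : ℕ, m + 1 ≤ t → Nat.card (Sint D (g * x) 0 (t - m)) = 2 ^ m := by
    intro m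
    induction m with
    | zero => intro _; rw [Nat.sub_zero, hbot]; simp
    | succ m ih =>
      intro hm
      have := card_chain A D g x hDA h2c hmax hg hxA hx (t - (m + 1)) (by omega)
        (hmin _ (by omega) (by omega))
      rw [this, show t - (m + 1) + 1 = t - m by omega, ih (by omega), pow_succ]; ring
  refine ⟨t, ht1, ?_, ?_⟩
  · have := hcards (t - 1) (by omega)
    rw [show t - (t - 1) = 1 by omega, Sint_one_eq] at this
    exact this
  intro ht2
  -- the element y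
  have hns := hmin (t - 1) (by omega) (by omega)
  rw [SetLike.not_le_iff_exists] at hns
  obtain ⟨y, hy, hy'⟩ := hns
  have hcast : ((t - 1 : ℕ) : ℤ) = (t : ℤ) - 1 := by omega
  rw [hcast] at hy'
  have hY : ∀ i : ℕ, xs (g * x) y (-(i : ℤ)) = (g * x) ^ (-(i : ℤ)) * y * ((g * x) ^ (-(i : ℤ)))⁻¹ :=
    fun i => rfl
  -- generators lie in the right stabilizers
  have hYmem : ∀ i m : ℕ, i < m → m + 1 ≤ t → xs (g * x) y (-(i : ℤ)) ∈ Sint D (g * x) 0 (t - m) := by
    intro i m him hm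
    have : xs (g * x) y (-(i : ℤ)) ∈ Sint D (g * x) (0 + -(i : ℤ)) (t - 1) := by
      rw [hY, mem_Sint_conj]; exact hy
    refine Sint_anti D (g * x) (by omega) ?_ this
    have e1 : ((t - 1 : ℕ) : ℤ) = (t : ℤ) - 1 := hcast
    have e2 : ((t - m : ℕ) : ℤ) = (t : ℤ) - m := by omega
    rw [e1, e2]; omega
  have hGEN : ∀ m : ℕ, m + 1 ≤ t → X (g * x) y (1 - (m : ℤ)) m = Sint D (g * x) 0 (t - m) := by
    intro m hm
    apply le_antisymm
    · rw [X_le_iff]
      intro i h1 h2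
      obtain ⟨i', hi'⟩ := Int.eq_ofNat_of_zero_le (by omega : 0 ≤ -i)
      have : i = -(i' : ℤ) := by omega
      rw [this]
      exact hYmem i' m (by omega) hm
    · apply gen_step A D g x hDA h2c hmax hg hxA hx t y ht2 hy hy' _ (by rw [hbot]; exact bot_le) m hm
      intro i hi
      rw [← hY]
      exact xs_mem (g * x) y (by omega) (by omega)
  refine ⟨y, ?_, ?_⟩
  · intro m hm
    rw [card_X_eq (g * x) y 0 (1 - (m : ℤ)) m, hGEN m (by omega), hcards m (by omega)]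
  · -- X (1-t) t = A
    have hlast1 : xs (g * x) y (-((t - 1 : ℕ) : ℤ)) ∈ A := by
      apply Dk_neg_one_le A D g x hDA hg hxA
      rw [mem_Sint] at hy
      have := hy (t - 2) (by omega)
      have c2 : ((t - 2 : ℕ) : ℤ) = (t : ℤ) - 2 := by omega
      rw [c2] at this
      have e : (-1 : ℤ) = (0 + ((t : ℤ) - 2)) + -((t - 1 : ℕ) : ℤ) := by rw [hcast]; ring
      rw [hY, e, mem_Dk_conj]; exact this
    have hlast2 : xs (g * x) y (-((t - 1 : ℕ) : ℤ)) ∉ D := by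
      rw [← mem_Dk_zero D (g * x)]
      have e : (0 : ℤ) = ((t : ℤ) - 1) + -((t - 1 : ℕ) : ℤ) := by rw [hcast]; ring
      rw [hY, e, mem_Dk_conj]; exact hy'
    apply le_antisymm
    · rw [X_le_iff]
      intro i h1 h2
      obtain ⟨i', hi'⟩ := Int.eq_ofNat_of_zero_le (by omega : 0 ≤ -i)
      have hi : i = -(i' : ℤ) := by omega
      rw [hi]
      by_cases hlast : i' = t - 1
      · rw [hlast]; exact hlast1
      · have := hYmem i' (t - 1) (by omega) (by omega)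
        rw [show t - (t - 1) = 1 by omega, Sint_one_eq] at this
        exact hDA this
    · have hDX : D ≤ X (g * x) y (1 - (t : ℤ)) t := by
        have := hGEN (t - 1) (by omega)
        rw [show t - (t - 1) = 1 by omega, Sint_one_eq] at this
        rw [← this]
        exact X_mono (g * x) y (by rw [hcast]; omega) (by rw [hcast]; omega)
      exact hmax _ hDX _
        (xs_mem (g * x) y (by rw [hcast]; omega) (by rw [hcast]; omega)) hlast1 hlast2

end setup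

end Cfsg.Agent.Lib.Helper46.TutteG
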