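import Mathlib
import Cfsg.Prelude.Def_Classical
import Cfsg.Prelude.Def_LieClassical
import Cfsg.Agent.Lib.Helper65.UndDefs
import Cfsg.Agent.Lib.Helper40.HermStep
import Cfsg.Agent.Lib.Helper40.HermSigL
import Cfsg.Agent.Lib.Helper55.TuPEEL
import Cfsg.Agent.Lib.Helper76.TuIRR
import Cfsg.Agent.Lib.Helper53.TuA
import Cfsg.Agent.Lib.Helper46.TuGA

/-!
# Und hive (S5954, owner helper65), leaf UND-C3 `exists_nd_block` (helper46)
-/

set_option autoImplicit false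

namespace Cfsg.Agent.Lib.Helper65.Und

open Cfsg.Agent.Lib.Helper40.Herm Cfsg.Agent.Lib.Helper2.BG Cfsg.Agent.Lib.Helper14.Tu Polynomial Module

section arith

theorem c3_pow_eq_neg_one {r : ℕ} (hr : r.Prime) (q : ℕ) (hi : orderOf (q : ZMod r) % 4 = 2) :
    Odd (bOf (orderOf (q : ZMod r))) ∧ r ∣ q ^ bOf (orderOf (q : ZMod r)) + 1 := by
  have : Fact r.Prime := ⟨hr⟩
  obtain ⟨i, hi'⟩ : ∃ i, i = orderOf (q : ZMod r) := ⟨_, rfl⟩
  rw [← hi'] at hi ⊢
  have hev : Even i := ⟨i / 2, by omega⟩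
  have hb : bOf i = i / 2 := by unfold bOf; rw [if_pos hev]
  rw [hb]
  refine ⟨by rw [Nat.odd_iff]; omega, ?_⟩
  have h1 : ((q : ZMod r) ^ (i / 2)) * ((q : ZMod r) ^ (i / 2)) = 1 := by
    rw [← pow_add, show i / 2 + i / 2 = i by omega, hi', pow_orderOf_eq_one]
  have h2 : (q : ZMod r) ^ (i / 2) ≠ 1 := by
    apply pow_ne_one_of_lt_orderOf (by omega)
    rw [← hi']; omega
  have h3 : (q : ZMod r) ^ (i / 2) = -1 := by
    rcases mul_self_eq_one_iff.mp h1 with h | h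
    · exact absurd h h2
    · exact h
  rw [← ZMod.natCast_eq_zero_iff, Nat.cast_add, Nat.cast_pow, h3]; simp

variable {F : Type*} [Field F] [Fintype F] {q : ℕ}

theorem c3_pow_odd (hF : Fintype.card F = q ^ 2) (a : F) (j : ℕ) :
    a ^ (q ^ (2 * j + 1)) = a ^ q := by
  induction j with
  | zero => simp
  | succ j ih =>
    have : q ^ (2 * (j + 1) + 1) = q ^ (2 * j + 1) * q ^ 2 := by ring
    rw [this, pow_mul, ← hF, FiniteField.pow_card, ih]

theorem c3_dvd_hsig (hF : Fintype.card F = q ^ 2) {r : ℕ} (hr : r.Prime)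
    (hi : orderOf (q : ZMod r) % 4 = 2) {P : F[X]} (hP : Irreducible P)
    (hPd : P ∣ cyclotomic r F) : P ∣ hsig (tauHom hF) r P := by
  obtain ⟨hbodd, hrq⟩ := c3_pow_eq_neg_one hr q hi
  obtain ⟨b, hb⟩ : ∃ b, b = bOf (orderOf (q : ZMod r)) := ⟨_, rfl⟩
  rw [← hb] at hbodd hrq
  obtain ⟨p, f, hpp, hchar, hqf⟩ := a_exists_char hF
  have : Fact (Irreducible P) := ⟨hP⟩
  have := hchar
  have : Fact p.Prime := ⟨hpp⟩
  have : CharP (AdjoinRoot P) p :=
    charP_of_injective_algebraMap (algebraMap F (AdjoinRoot P)).injective p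
  have : ExpChar (AdjoinRoot P) p := ExpChar.prime hpp
  rw [← AdjoinRoot.mk_eq_zero, mk_hsig]
  have hζr : AdjoinRoot.root P ^ r = 1 := by
    have h1 : AdjoinRoot.mk P (X ^ r - 1) = 0 :=
      AdjoinRoot.mk_eq_zero.2 (hPd.trans (cyclotomic.dvd_X_pow_sub_one r F))
    rw [map_sub, map_pow, AdjoinRoot.mk_X, map_one, sub_eq_zero] at h1
    exact h1
  have hpow : AdjoinRoot.root P ^ (q ^ b) = AdjoinRoot.root P ^ (r - 1) := by
    obtain ⟨t, ht⟩ := hrq
    have hr1 := hr.one_lt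
    obtain ⟨t', rfl⟩ : ∃ t', t = t' + 1 := by
      rcases Nat.eq_zero_or_pos t with h | h
      · rw [h, mul_zero] at ht; omega
      · exact ⟨t - 1, by omega⟩
    have : q ^ b = r * t' + (r - 1) := by
      rw [mul_add, mul_one] at ht
      omega
    rw [this, pow_add, pow_mul, hζr, one_pow, one_mul]
  have hfrob : ∀ x : AdjoinRoot P, iterateFrobenius (AdjoinRoot P) p (f * b) x = x ^ (q ^ b) := by
    intro x
    rw [iterateFrobenius_def, hqf, ← pow_mul]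
  have hcomp : (iterateFrobenius (AdjoinRoot P) p (f * b)).comp (AdjoinRoot.of P) =
      (AdjoinRoot.of P).comp (tauHom hF) := by
    ext a
    rw [RingHom.comp_apply, RingHom.comp_apply, hfrob, tauHom_apply, ← map_pow]
    congr 1
    obtain ⟨j, hj⟩ := hbodd
    rw [hj]
    exact c3_pow_odd hF a j
  have h0 := AdjoinRoot.eval₂_root P
  have h1 := congrArg (iterateFrobenius (AdjoinRoot P) p (f * b)) h0
  rw [Polynomial.hom_eval₂, map_zero, hcomp, hfrob, hpow] at h1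
  exact h1

end arith

section geom
open Cfsg.Agent.Lib.Helper40.SemisimpleConj
variable {F : Type*} [Field F] [Fintype F] {q : ℕ} {hF : Fintype.card F = q ^ 2}
  {V : Type*} [AddCommGroup V] [Module F V] [FiniteDimensional F V]
  {H : V →ₗ[F] V →ₛₗ[tauHom hF] F} {g : Module.End F V} {N : ℕ}

omit [Fintype F] [FiniteDimensional F V] in
theorem c3_pow_restrict {M : Submodule F V} (hMi : ∀ v ∈ M, g v ∈ M) (n : ℕ) (w : ↥M) :
    ((((g.restrict hMi) ^ n) w : ↥M) : V) = (g ^ n) (w : V) := by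
  induction n with
  | zero => simp
  | succ n ih =>
    rw [pow_succ', pow_succ', Module.End.mul_apply, Module.End.mul_apply,
      LinearMap.coe_restrict_apply, ih]

omit [Fintype F] [FiniteDimensional F V] in
theorem c3_aeval_restrict {M : Submodule F V} (hMi : ∀ v ∈ M, g v ∈ M) (Q : F[X]) (w : ↥M) :
    ((aeval (g.restrict hMi) Q w : ↥M) : V) = aeval g Q (w : V) := by
  induction Q using Polynomial.induction_on' with
  | add p q hp hq =>
    rw [map_add, map_add, LinearMap.add_apply, LinearMap.add_apply, Submodule.coe_add, hp, hq]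
  | monomial n a =>
    rw [aeval_monomial, aeval_monomial, Module.End.mul_apply, Module.End.mul_apply,
      Module.algebraMap_end_apply, Module.algebraMap_end_apply, Submodule.coe_smul,
      c3_pow_restrict]

theorem c3_exists_nd_cyc {r : ℕ} (hc : Ctx hF H g r) {M : Submodule F V} (hMi : Inv g M)
    (hM : HNondegOn H M) {P : F[X]} (hP : Irreducible P) (hps : P ∣ hsig (tauHom hF) r P)
    (w : V) (hwM : w ∈ M) (hw0 : w ≠ 0) (hPw : aeval g P w = 0) :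
    ∃ Y : Submodule F V, Y ≤ M ∧ Inv g Y ∧ HNondegOn H Y ∧ Y ≠ ⊥ ∧
      (∀ Y' : Submodule F V, Y' ≤ Y → Inv g Y' → Y' ≠ ⊥ → Y ≤ Y') := by
  obtain ⟨HM, hHM⟩ : ∃ HM : ↥M →ₗ[F] ↥M →ₛₗ[tauHom hF] F, HM = H.domRestrict₁₂ M M := ⟨_, rfl⟩
  have hHMa : ∀ x y : ↥M, HM x y = H (x : V) (y : V) := by
    intro x y; rw [hHM]; rfl
  have hMi' : ∀ v ∈ M, g v ∈ M := hMi
  obtain ⟨gM, hgM⟩ : ∃ gM : Module.End F ↥M, gM = g.restrict hMi' := ⟨_, rfl⟩
  have hgMa : ∀ x : ↥M, ((gM x : ↥M) : V) = g (x : V) := by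
    intro x; rw [hgM]; rfl
  have h1 : IsHermitian HM := fun u v => by rw [hHMa, hHMa]; exact hc.herm _ _
  have h2 : HNondeg HM := by
    intro x hx
    have := hM (x : V) x.2 (fun y hy => by have := hx ⟨y, hy⟩; rwa [hHMa] at this)
    exact Subtype.ext this
  have h3 : HInv HM gM := fun u v => by rw [hHMa, hHMa, hgMa, hgMa]; exact hc.inv _ _
  have h4 : gM ^ r = 1 := by
    ext x
    rw [hgM, c3_pow_restrict, hc.pow]; simp
  have h5 : aeval gM P (⟨w, hwM⟩ : ↥M) = 0 := by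
    apply Subtype.ext
    rw [hgM, c3_aeval_restrict]; simpa using hPw
  have h6 : (⟨w, hwM⟩ : ↥M) ≠ 0 := by
    intro h; apply hw0; exact congrArg Subtype.val h
  obtain ⟨v, hv0, hPv, hnd⟩ := hexists_nondeg_cyc (tauHom_tauHom hF) (tauHom_ne_id hF) h1 h2 h3
    hc.pos h4 hc.ne P hP hps _ h6 h5
  refine ⟨(cyc gM v).map M.subtype, Submodule.map_subtype_le _ _, ?_, ?_, ?_, ?_⟩
  · rintro _ ⟨x, hx, rfl⟩
    exact ⟨gM x, cyc_invt gM v x hx, hgMa x⟩
  · rintro _ ⟨x, hx, rfl⟩ hxy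
    have : x = 0 := hnd x hx (fun y hy => by rw [hHMa]; exact hxy _ ⟨y, hy, rfl⟩)
    rw [this]; simp
  · intro hbot
    have : (v : V) ∈ (cyc gM v).map M.subtype :=
      ⟨v, Cfsg.Agent.Lib.Helper40.Symp.self_mem_cyc v, rfl⟩
    rw [hbot, Submodule.mem_bot] at this
    exact hv0 (Subtype.ext this)
  · intro Y' hY'Y hY'i hY'0
    obtain ⟨y, hy, hy0⟩ := Submodule.exists_mem_ne_zero_of_ne_bot hY'0
    obtain ⟨x, hx, hxy⟩ := hY'Y hy
    have hx0 : x ≠ 0 := by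
      rintro rfl
      apply hy0; rw [← hxy]; simp
    have hv_in : v ∈ cyc gM x :=
      Cfsg.Agent.Lib.Helper40.Symp.mem_cyc_of_ne_zero P hP v hPv x hx hx0
    have hR : ∀ z ∈ Y'.comap M.subtype, gM z ∈ Y'.comap M.subtype := by
      intro z hz
      rw [Submodule.mem_comap] at hz ⊢
      have h7 := hY'i _ hz
      rw [Submodule.subtype_apply] at h7 ⊢
      rw [hgMa]; exact h7
    have hle1 : cyc gM x ≤ Y'.comap M.subtype :=
      Cfsg.Agent.Lib.Helper40.Symp.cyc_le x _ hR (by rw [Submodule.mem_comap, hxy]; exact hy)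
    have hle2 : cyc gM v ≤ cyc gM x :=
      Cfsg.Agent.Lib.Helper40.Symp.cyc_le v _ (cyc_invt gM x) hv_in
    rintro _ ⟨z, hz, rfl⟩
    exact hle1 (hle2 hz)

theorem exists_nd_block {r : ℕ} (hc : Ctx hF H g r) (hr : r.Prime) (hr2 : r ≠ 2)
    {M : Submodule F V} (hMi : Inv g M) (hM : HNondegOn H M) (hM0 : M ≠ ⊥)
    (hMfix : ∀ v ∈ M, g v = v → v = 0) :
    ∃ Y : Submodule F V, Y ≤ M ∧ Inv g Y ∧ HNondegOn H Y ∧
      finrank F ↥Y = cOf (orderOf (q : ZMod r)) := by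
  obtain ⟨Y₀, hY₀M, hY₀i, hY₀0, hY₀min, hY₀b, P, hP, hPd, hPY₀⟩ :=
    exists_minimal hc hr hMi hM0 hMfix
  rcases ga_bc (orderOf (q : ZMod r)) with ⟨h4, hcb⟩ | ⟨h4, hcb⟩
  · rw [hcb]
    have hps := c3_dvd_hsig hF hr h4 hP hPd
    obtain ⟨w, hw, hw0⟩ := Submodule.exists_mem_ne_zero_of_ne_bot hY₀0
    obtain ⟨Y, hYM, hYi, hYnd, hY0, hYirr⟩ :=
      c3_exists_nd_cyc hc hMi hM hP hps w (hY₀M hw) hw0 (hPY₀ w hw)
    refine ⟨Y, hYM, hYi, hYnd, ?_⟩
    obtain ⟨Y₁, hY₁Y, hY₁i, hY₁0, -, hY₁b, -⟩ :=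
      exists_minimal hc hr hYi hY0 (fun v hv => hMfix v (hYM hv))
    have : Y = Y₁ := le_antisymm (hYirr Y₁ hY₁Y hY₁i hY₁0) hY₁Y
    rw [this]; exact hY₁b
  · rw [hcb]
    have hiso := isotropic_of_minimal hc hr hr2 h4 hY₀i (fun v hv => hMfix v (hY₀M hv)) hY₀min
    obtain ⟨Z', hZ'i, hZ'M, hZ'nd, -, -, hfr⟩ := peel hc hMi hM hY₀i hY₀M hiso
    obtain ⟨hYi, hYnd, -, -, hfr2⟩ := split hc hMi hM hZ'i hZ'M hZ'nd
    refine ⟨M ⊓ hperp H Z', inf_le_left, hYi, hYnd, ?_⟩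
    omega

end geom

end Cfsg.Agent.Lib.Helper65.Und
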