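import Cfsg.Agent.Lib.Helper46.TCa

set_option autoImplicit false
set_option maxRecDepth 100000
set_option linter.all false

namespace Cfsg.Agent.Lib.Helper46.W2Data

open Cfsg.Agent.Lib.Helper46.TCa

noncomputable def lEI : Nat := nat_lit 0xb2b50b408
noncomputable def tEI (i : Nat) : Nat := fget lEI 3 i

noncomputable def lEU : Nat := nat_lit 0x23440
noncomputable def tEU (i : Nat) : Nat := fget lEU 3 i

noncomputable def lEG : Nat := nat_lit 0x26
noncomputable def tEG (i : Nat) : Nat := fget lEG 1 i

noncomputable def lEV : Nat := nat_lit 0x2d8d1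
noncomputable def tEV (i : Nat) : Nat := fget lEV 3 i

noncomputable def lJK : Nat := nat_lit 0x800
noncomputable def tJK (i : Nat) : Nat := fget lJK 2 i

noncomputable def lJR : Nat := nat_lit 0x0
noncomputable def tJR (i : Nat) : Nat := fget lJR 1 i

noncomputable def lJC : Nat := nat_lit 0x10000
noncomputable def tJC (i : Nat) : Nat := fget lJC 3 i

noncomputable def lJT : Nat := nat_lit 0x8000
noncomputable def tJT (i : Nat) : Nat := fget lJT 3 i

noncomputable def lDE : Nat := nat_lit 0x23440
noncomputable def tDE (i : Nat) : Nat := fget lDE 3 i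

noncomputable def rels : List (List Nat) := [[0, 1, 0, 1, 0, 1]]

noncomputable def cert : Cert := ⟨2, 6, 6, 0, tEI, tEU, tEG, tEV, tJK, tJR, tJC, tJT, tDE, rels⟩

end Cfsg.Agent.Lib.Helper46.W2Data
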