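import Cfsg.Agent.Lib.Helper46.TCa

set_option autoImplicit false
set_option maxRecDepth 100000
set_option linter.all false

namespace Cfsg.Agent.Lib.Helper46.W3Data

open Cfsg.Agent.Lib.Helper46.TCa

noncomputable def lEI : Nat := nat_lit 0x3e30635ca5a5eb430e93150438c4518820
noncomputable def tEI (i : Nat) : Nat := fget lEI 5 i

noncomputable def lEU : Nat := nat_lit 0x885774564323121000
noncomputable def tEU (i : Nat) : Nat := fget lEU 4 i

noncomputable def lEG : Nat := nat_lit 0x486606624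
noncomputable def tEG (i : Nat) : Nat := fget lEG 2 i

noncomputable def lEV : Nat := nat_lit 0x888777666543322100
noncomputable def tEV (i : Nat) : Nat := fget lEV 4 i

noncomputable def lJK : Nat := nat_lit 0xa28a02205
noncomputable def tJK (i : Nat) : Nat := fget lJK 2 i

noncomputable def lJR : Nat := nat_lit 0x3e1280c0081000
noncomputable def tJR (i : Nat) : Nat := fget lJR 3 i

noncomputable def lJC : Nat := nat_lit 0x770740460003020000
noncomputable def tJC (i : Nat) : Nat := fget lJC 4 i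

noncomputable def lJT : Nat := nat_lit 0xab00600500000080200000
noncomputable def tJT (i : Nat) : Nat := fget lJT 5 i

noncomputable def lDE : Nat := nat_lit 0xf6250728c40
noncomputable def tDE (i : Nat) : Nat := fget lDE 5 i

noncomputable def rels : List (List Nat) := [[0, 0, 1, 0, 0, 0, 1, 0, 0, 0, 1, 0], [0, 0, 2, 0, 0, 0, 2, 0, 0, 0, 2, 0], [1, 1, 2, 1, 1, 1, 2, 1, 1, 1, 2, 1], [2, 0, 1, 0, 2, 0, 1, 0, 2, 0, 1, 0], [1, 0, 1, 1, 2, 1, 1, 0, 1, 1, 2, 1, 1, 0, 1, 1, 2, 1], [0, 1, 0, 2, 1, 2, 0, 1, 0, 2, 1, 2, 0, 1, 0, 2, 1, 2], [2, 1, 2, 0, 2, 0, 2, 1, 2, 0, 2, 0, 2, 1, 2, 0, 2, 0], [0, 2, 0, 1, 2, 1, 0, 2, 0, 1, 2, 1, 0, 2, 0, 1, 2, 1]]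

noncomputable def cert : Cert := ⟨3, 9, 18, 2, tEI, tEU, tEG, tEV, tJK, tJR, tJC, tJT, tDE, rels⟩

end Cfsg.Agent.Lib.Helper46.W3Data
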